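import Cfsg.Agent.H67.HN.Core
import Cfsg.Agent.H16.HN.Rep

/-!
The homomorphism from the group on `x, y, z` to HN is injective.
-/

set_option autoImplicit false

namespace Cfsg.Agent.H67.HN

open scoped commutatorElement
open Cfsg.Agent.H45 (evalW sig sig_walk walkC walkC_map evalW_cons evalW_nil)

/-- only the base point is fixed by the generators of the second level -/
noncomputable def fixUnique : Bool :=
  (List.range 100).all fun v => v == P100.lvl0.base ||
    P100.lvl1.gens.any fun w => walkC (w.map fun l => P100.cols.getD l 0) v != v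

theorem fixUnique_ok : fixUnique = true := by decide +kernel

theorem gens_fix_ok : (P100.lvl1.gens.all fun w => w.all (fun l => decide (l < 5)) &&
    walkC (w.map fun l => P100.cols.getD l 0) P100.lvl0.base == P100.lvl0.base) = true := by
  decide +kernel

theorem centralizer_trivial {p : Equiv.Perm (Fin 100)} (hp : ∀ f : F, Commute (rep100 f) p) :
    p = 1 := by
  have hg : ∀ g ∈ H94.HS.autG, Commute g p := by
    rw [← rep100_range]; rintro _ ⟨f, rfl⟩; exact hp f
  have hw : ∀ w, evalW (sig P100.tab) w ∈ H94.HS.autG := word_mem (cols := P100.cols)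
    (show Cfsg.Agent.H45.permCheck 5 100 [1, 0, 3, 2, 4] P100.cols P1408.rels = true from P100.perm_ok)
    (sig_mem_autG (by norm_num) graph0) (sig_mem_autG (by norm_num) graph2)
    (sig_mem_autG (by norm_num) graph4)
  let b : Fin 100 := ⟨P100.lvl0.base, by decide +kernel⟩
  have hb : p b = b := by
    have h := fixUnique_ok
    simp only [fixUnique, List.all_eq_true, List.mem_range, Bool.or_eq_true, beq_iff_eq,
      List.any_eq_true, bne_iff_ne] at h
    rcases h (p b : ℕ) (p b).isLt with h | ⟨w, hwm, hne⟩
    · exact Fin.ext h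
    · exfalso
      apply hne
      have hf := List.all_eq_true.mp gens_fix_ok w hwm
      simp only [Bool.and_eq_true, List.all_eq_true, decide_eq_true_eq, beq_iff_eq] at hf
      rw [walkC_map, ← sig_walk P100.tab w hf.1] 
      have hc : Commute (evalW (sig P100.tab) w)⁻¹ p := (hg _ (hw w)).inv_left
      have hfb : (evalW (sig P100.tab) w)⁻¹ b = b := by
        apply Fin.ext
        rw [sig_walk P100.tab w hf.1, ← walkC_map]
        exact hf.2
      have := congrArg (fun q : Equiv.Perm (Fin 100) => q b) hc.eq
      simp only [Equiv.Perm.mul_apply, hfb] at this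
      exact congrArg Fin.val this
  ext v
  obtain ⟨g, hgv⟩ := MulAction.exists_smul_eq H94.HS.hsE b v
  have := congrArg (fun q : Equiv.Perm (Fin 100) => q b) (hg g.1 g.2.1).eq
  simp only [Equiv.Perm.mul_apply, hb] at this
  have hgv' : g.1 b = v := hgv
  rw [hgv'] at this
  simp [← this]

set_option maxRecDepth 100000 in
open Cfsg.Agent.H16.HN in
theorem x2_image_ne : Cfsg.Agent.H16.HN.rho (nu (gx ^ 2)) ≠ 1 := by
  have hne : Nat.beq (evM [0, 0]) one133 = false := by decide +kernel
  have hw : nu (gx ^ 2) = wordHN [0, 0] := by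
    rw [map_pow, nu, lift_gx]
    simp [wordHN, evalW, fL, genHN, hn, pow_two]
  intro h
  rw [hw, ← rho_word] at h
  have key : ∀ a : ℕ, Cfsg.Agent.Compute.MatOK 12 133 5 a → S.den a = 1 →
      Nat.beq a one133 = true := fun a ha h1 =>
    (S.eqv_iff ha S.ok_one).2 (h1.trans S.den_one.symm)
  have := key _ (evM_ok [0, 0]).1 h
  rw [hne] at this
  exact Bool.noConfusion this

theorem gx2_notMem_ker : gx ^ 2 ∉ nu.ker := fun h =>
  x2_image_ne (by rw [MonoidHom.mem_ker.mp h, map_one])

theorem nu_injective : Function.Injective nu := by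
  let N := nu.ker
  have hzx : ∀ a ∈ zx, a ∈ N → a = 1 := by
    intro a ha haN
    obtain ⟨i, rfl⟩ := Subgroup.mem_zpowers_iff.mp ha
    have h2 : (gx ^ 2) ^ (2 : ℤ) = 1 := by
      rw [zpow_ofNat, ← pow_mul]; exact x4_F
    rcases Int.emod_two_eq i with h | h
    · obtain ⟨k, rfl⟩ := Int.dvd_of_emod_eq_zero h
      rw [zpow_mul, h2, one_zpow]
    · exfalso
      apply gx2_notMem_ker
      have : (gx ^ 2) ^ i = gx ^ 2 := by
        rw [← Int.emod_add_mul_ediv i 2, h, zpow_add, zpow_mul, h2, one_zpow, mul_one, zpow_one]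
      rwa [this] at haN
  have := isSimple_hsE
  have hND : ∀ a : D, (a : F) ∈ N → a ∈ rho.ker := by
    rcases (Subgroup.Normal.map (inferInstance : (N.comap D.subtype).Normal) rho
      rho_surjective).eq_bot_or_eq_top with h | h
    · intro a ha
      exact (Subgroup.map_eq_bot_iff _).mp h ha
    · exfalso
      have hsup : N.comap D.subtype ⊔ rho.ker = ⊤ := by
        rw [← Subgroup.comap_map_eq, h, Subgroup.comap_top]
      have hle : commutator D ≤ N.comap D.subtype := by
        rw [commutator_def, Subgroup.commutator_le]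
        intro a _ b _
        obtain ⟨u, hu, v, hv, rfl⟩ := Subgroup.mem_sup_of_normal_left.mp (hsup ▸ Subgroup.mem_top a)
        obtain ⟨u', hu', v', hv', rfl⟩ := Subgroup.mem_sup_of_normal_left.mp (hsup ▸ Subgroup.mem_top b)
        let q := QuotientGroup.mk' (N.comap D.subtype)
        refine (QuotientGroup.eq_one_iff _).mp ?_
        show q _ = 1
        rw [map_commutatorElement, commutatorElement_eq_one_iff_mul_comm, map_mul, map_mul,
          show q u = 1 from (QuotientGroup.eq_one_iff u).mpr hu,
          show q u' = 1 from (QuotientGroup.eq_one_iff u').mpr hu', one_mul, one_mul, ← map_mul,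
          ← map_mul, Subgroup.mem_center_iff.mp (ker_central hv) v']
      rw [perfect_D, top_le_iff] at hle
      exact gx2_notMem_ker (show c ∈ N.comap D.subtype from hle ▸ Subgroup.mem_top c)
  have hcap : ∀ a : F, a ∈ D → a ∈ N → a = 1 := fun a hD hN => by
    refine hzx a ?_ hN
    rw [← ker_rep100]
    exact MonoidHom.mem_ker.mpr (congrArg Subtype.val (MonoidHom.mem_ker.mp (hND ⟨a, hD⟩ hN)))
  rw [← MonoidHom.ker_eq_bot_iff, Subgroup.eq_bot_iff_forall]
  intro a ha
  have hcen : rep100 a = 1 := by
    refine centralizer_trivial fun f => ?_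
    have h1 : f * a * f⁻¹ * a⁻¹ = 1 := by
      refine hcap _ ?_ ?_
      · rw [← commutatorElement_def]
        exact Subgroup.commutator_mem_commutator (Subgroup.mem_top f) (Subgroup.mem_top a)
      · exact N.mul_mem ((inferInstance : N.Normal).conj_mem a ha f) (N.inv_mem ha)
    have h2 : f * a = a * f := by
      rwa [mul_inv_eq_one, mul_inv_eq_iff_eq_mul] at h1
    show rep100 f * rep100 a = rep100 a * rep100 f
    rw [← map_mul, h2, map_mul]
  exact hzx a (by rw [← ker_rep100]; exact MonoidHom.mem_ker.mpr hcen) ha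

end Cfsg.Agent.H67.HN
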