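import Cfsg.Agent.H67.HN.Sound

/-!
The coset bound of a checked derived-fact certificate.
-/

set_option autoImplicit false

namespace Cfsg.Agent.H67.HN

open Cfsg.Agent.H45 (force force_eq)

/-- the closed table: for each live node and letter, a fact and the index of the target -/
structure Fin' where
  n : ℕ
  N : ℕ
  live : Tr
  tab : Tr

/-- check one entry of the closed table; `m = i * L + l` -/
noncomputable def entryOK (C : Cert) (T : Fin') (m : ℕ) : Bool :=
  force (T.tab.get m) fun v => force (Nat.shiftRight v 16) fun f => force (Nat.land v 65535) fun j =>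
    andB (Nat.blt f T.N) (andB (Nat.blt j T.n) (force (C.fct.get f) fun F =>
      force (Nat.div m C.L) fun i => force (Nat.mod m C.L) fun l =>
        andB (Nat.beq (fl F) l) (andB (Nat.beq (fa F) (T.live.get i))
          (Nat.beq (fb F) (T.live.get j)))))

/-- check `n` entries from `c` -/
noncomputable def tabOK (C : Cert) (T : Fin') (n : ℕ) : ℕ → Bool :=
  Nat.rec (fun _ => true)
    (fun _ ih c => force c fun c' =>
      andB (entryOK C T c') (force (Nat.succ c') fun d => ih d)) n

/-- a range of entries is checked -/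
def TabRangeOK (C : Cert) (T : Fin') (a b : ℕ) : Prop :=
  ∀ i, a ≤ i → i < b → entryOK C T i = true

theorem TabRangeOK.append {C : Cert} {T : Fin'} {a b c : ℕ} (h1 : TabRangeOK C T a b)
    (h2 : TabRangeOK C T b c) : TabRangeOK C T a c :=
  fun i ha hc => (Nat.lt_or_ge i b).elim (h1 i ha) (fun h => h2 i h hc)

theorem tabOK_sound {C : Cert} {T : Fin'} : ∀ {n a b : ℕ}, tabOK C T n a = true → a + n = b →
    TabRangeOK C T a b := by
  intro n
  induction n with
  | zero => intro a b _ hb i h1 h2; omega
  | succ n ih =>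
    intro a b h hb i h1 h2
    have h' : tabOK C T (n + 1) a = force a fun c' =>
      andB (entryOK C T c') (force (Nat.succ c') fun d => tabOK C T n d) := rfl
    simp only [h', force_eq, andB_eq, Bool.and_eq_true] at h
    rcases Nat.eq_or_lt_of_le h1 with rfl | h3
    · exact h.1
    · exact ih h.2 (by omega) i h3 h2

/-- a completely checked certificate -/
structure Closed (C : Cert) (T : Fin') : Prop where
  pos : 0 < T.n
  start : T.live.get 0 = 0
  facts : RangeOK C 0 T.N
  table : TabRangeOK C T 0 (T.n * C.L)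

variable {G : Type*} [Group G] {C : Cert} {T : Fin'} {e : ℕ → G} {H K : Subgroup G}

/-- Every element of the group generated by the letters lies in one of the cosets of the table. -/
theorem Closed.cosets (hT : Closed C T) (hD : Hyp C e H)
    (hK : K ≤ Subgroup.closure {g | ∃ l < C.L, e l = g}) {g : G} (hg : g ∈ K) :
    ∃ i < T.n, g * (nodeW C e (T.live.get i))⁻¹ ∈ H := by
  have hstep : ∀ i < T.n, ∀ l < C.L, ∀ g : G, g * (nodeW C e (T.live.get i))⁻¹ ∈ H →
      ∃ j < T.n, g * e l * (nodeW C e (T.live.get j))⁻¹ ∈ H := by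
    intro i hi l hl g hgi
    have hm : i * C.L + l < T.n * C.L := by
      calc i * C.L + l < i * C.L + C.L := by omega
        _ = (i + 1) * C.L := by ring
        _ ≤ T.n * C.L := Nat.mul_le_mul_right _ hi
    have h := hT.table _ (Nat.zero_le _) hm
    have hd : Nat.div (i * C.L + l) C.L = i := by
      show (i * C.L + l) / C.L = i
      rw [Nat.mul_comm, Nat.mul_add_div (by omega), Nat.div_eq_of_lt hl, Nat.add_zero]
    have hmo : Nat.mod (i * C.L + l) C.L = l := by
      show (i * C.L + l) % C.L = l
      rw [Nat.mul_comm, Nat.mul_add_mod, Nat.mod_eq_of_lt hl]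
    simp only [entryOK, force_eq, andB_eq, Bool.and_eq_true, Nat.blt_eq, Nat.beq_eq, hd, hmo] at h
    obtain ⟨hf, hj, hlF, haF, hbF⟩ := h
    have hR := rel_of_checked hD hT.facts _ hf
    unfold Rel at hR
    rw [hlF, haF, hbF, letv, if_pos hl] at hR
    refine ⟨_, hj, ?_⟩
    simpa [mul_assoc] using H.mul_mem hgi hR
  have hbase : ∃ i < T.n, (1 : G) * (nodeW C e (T.live.get i))⁻¹ ∈ H :=
    ⟨0, hT.pos, by rw [hT.start, nodeW_zero]; simp⟩
  have h := hK hg
  clear hg
  induction h using Subgroup.closure_induction_right with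
  | one => exact hbase
  | mul_right g hg y hy ih =>
    obtain ⟨l, hl, rfl⟩ := hy
    obtain ⟨i, hi, hgi⟩ := ih
    exact hstep i hi l hl g hgi
  | mul_inv_cancel g hg y hy ih =>
    obtain ⟨l, hl, rfl⟩ := hy
    obtain ⟨i, hi, hgi⟩ := ih
    obtain ⟨hl', hinv⟩ := hD.inv l hl
    obtain ⟨j, hj, h⟩ := hstep i hi _ hl' g hgi
    exact ⟨j, hj, by rwa [hinv] at h⟩

/-- The bound: `|K| ≤ n |H|`. -/
theorem Closed.card_le (hT : Closed C T) (hD : Hyp C e H)
    (hK : K ≤ Subgroup.closure {g | ∃ l < C.L, e l = g}) (hHK : H ≤ K)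
    (hnode : ∀ i, nodeW C e i ∈ K) (hH : (H : Set G).Finite) :
    (K : Set G).Finite ∧ Nat.card K ≤ T.n * Nat.card H := by
  have : Finite H := hH.to_subtype
  let f : Fin T.n × H → K := fun p =>
    ⟨p.2.1 * nodeW C e (T.live.get p.1.1), K.mul_mem (hHK p.2.2) (hnode _)⟩
  have hf : Function.Surjective f := by
    rintro ⟨g, hg⟩
    obtain ⟨i, hi, h⟩ := hT.cosets hD hK hg
    exact ⟨(⟨i, hi⟩, ⟨_, h⟩), Subtype.ext (by simp [f])⟩
  have hfin : Finite K := Finite.of_surjective f hf
  refine ⟨Set.toFinite _, (Nat.card_le_card_of_surjective f hf).trans ?_⟩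
  simp

theorem nodeW_mem (hK : ∀ l < C.L, e l ∈ K) : ∀ i, nodeW C e i ∈ K := by
  intro i
  induction i using Nat.strong_induction_on with
  | _ i ih =>
    rw [nodeW]
    split
    · rename_i h
      refine K.mul_mem (ih _ h) ?_
      unfold letv
      split
      · exact hK _ ‹_›
      · exact K.one_mem
    · exact K.one_mem

end Cfsg.Agent.H67.HN
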