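import Cfsg.Agent.H45.CosetOrbit

/-!
When a checked chain accounts for the whole order, its base points determine the element.
-/

set_option autoImplicit false

namespace Cfsg.Agent.H67.HN

open Cfsg.Agent.H45

variable {L n : ℕ} {iv cols : List ℕ}

theorem chain_base (P : PT L n iv cols) : ∀ {lvs : List Lvl}, chainCheck L n cols lvs = true →
    ∀ Y : Subgroup (Equiv.Perm (Fin n)),
      (∀ lv ∈ lvs, ∀ g ∈ lv.gens, evalW (sig P) g ∈ Y) → Nat.card Y ≤ chainProd lvs →
      ∀ g ∈ Y, (∀ lv ∈ lvs, ∀ hb : lv.base < n, g ⟨lv.base, hb⟩ = ⟨lv.base, hb⟩) → g = 1 := by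
  intro lvs
  induction lvs with
  | nil =>
    intro _ Y _ hY g hg _
    have : Subsingleton Y := (Nat.card_eq_one_iff_unique.mp
      (le_antisymm hY Nat.card_pos)).1
    exact congrArg Subtype.val (Subsingleton.elim (⟨g, hg⟩ : Y) 1)
  | cons lv rest ih =>
    intro h Y hgens hcard g hg hfix
    have hlet := chainCheck_letters h
    simp only [chainCheck, Bool.and_eq_true] at h
    obtain ⟨⟨⟨-, hfx⟩, horb⟩, hrest⟩ := h
    obtain ⟨hb, hcount⟩ := orbLow_sound P (hlet lv List.mem_cons_self) horb
    let b : Fin n := ⟨lv.base, hb⟩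
    have hgs : ∀ lv' ∈ rest, ∀ w ∈ lv'.gens,
        evalW (sig P) w ∈ Y ⊓ MulAction.stabilizer _ b := by
      intro lv' hlv' w hw
      refine Subgroup.mem_inf.mpr ⟨hgens lv' (List.mem_cons_of_mem _ hlv') w hw, ?_⟩
      have h2 := (List.all_eq_true.mp ((List.all_eq_true.mp hfx) lv' hlv')) w hw
      simp only [Nat.beq_eq] at h2
      rw [MulAction.mem_stabilizer_iff, Equiv.Perm.smul_def, ← Equiv.Perm.eq_inv_iff_eq]
      apply Fin.ext
      rw [sig_walk P w (hlet lv' (List.mem_cons_of_mem _ hlv') w hw), ← walkC_map]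
      exact h2.symm
    refine ih hrest _ hgs ?_ g (Subgroup.mem_inf.mpr ⟨hg, ?_⟩)
      (fun lv' hlv' => hfix lv' (List.mem_cons_of_mem _ hlv'))
    · have hc := hcount Y fun w hw => hgens lv List.mem_cons_self w hw
      have h2 : Nat.card (MulAction.orbit Y b) * Nat.card (MulAction.stabilizer Y b) = Nat.card Y := by
        rw [← Nat.card_prod]
        exact Nat.card_congr (MulAction.orbitProdStabilizerEquivGroup Y b)
      have h3 : Nat.card (MulAction.stabilizer Y b) =
          Nat.card (Y ⊓ MulAction.stabilizer (Equiv.Perm (Fin n)) b : Subgroup _) :=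
        Nat.card_congr ⟨fun x => ⟨x.1.1, x.1.2, x.2⟩, fun x => ⟨⟨x.1, x.2.1⟩, x.2.2⟩,
          fun _ => rfl, fun _ => rfl⟩
      have h4 : lv.count * Nat.card (MulAction.stabilizer Y b) ≤ lv.count * chainProd rest := by
        calc lv.count * Nat.card (MulAction.stabilizer Y b)
            ≤ Nat.card (MulAction.orbit Y b) * Nat.card (MulAction.stabilizer Y b) :=
              Nat.mul_le_mul_right _ hc
          _ = Nat.card Y := h2
          _ ≤ lv.count * chainProd rest := hcard
      rw [← h3]
      rcases Nat.eq_zero_or_pos lv.count with h0 | h0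
      · exfalso
        have := Nat.card_pos (α := Y)
        have h5 : Nat.card Y ≤ lv.count * chainProd rest := hcard
        rw [h0, Nat.zero_mul] at h5
        omega
      · exact Nat.le_of_mul_le_mul_left h4 h0
    · exact MulAction.mem_stabilizer_iff.mpr (hfix lv List.mem_cons_self hb)

end Cfsg.Agent.H67.HN
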