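import Cfsg.Agent.H67.HN.Main
import Cfsg.Prelude.Def_SporadicB

/-!
The derived subgroup of the group on `x, y, z` is a nonsplit double cover of HS; the statement on
the subgroup `⟨x, y, z⟩` of HN follows once `nu` is injective.
-/

set_option autoImplicit false

open scoped commutatorElement

namespace Cfsg.Agent.H67.HN

open Cfsg

theorem ker_rep100 : rep100.ker = zx := by
  refine (Subgroup.eq_of_le_of_card_ge ?_ ?_).symm
  · exact Subgroup.zpowers_le.mpr rep100_x2
  · have h := rep100.ker.card_mul_index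
    rw [Subgroup.index_ker, rep100_range, H94.HS.card_autG, card_F] at h
    have hne : Nontrivial zx := ⟨⟨⟨gx ^ 2, Subgroup.mem_zpowers _⟩, 1,
      fun h => x2_ne (congrArg Subtype.val h)⟩⟩
    have h2 : 1 < Nat.card zx := Finite.one_lt_card
    omega

theorem card_zx : Nat.card zx = 2 := by
  have h := rep100.ker.card_mul_index
  rw [Subgroup.index_ker, rep100_range] at h
  rw [H94.HS.card_autG] at h
  rw [ker_rep100, card_F] at h
  generalize Nat.card zx = k at h ⊢
  omega

theorem center_D : Subgroup.center D = rho.ker := by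
  refine le_antisymm ?_ ker_central
  have := isSimple_hsE
  intro g hg
  have hc : rho g ∈ Subgroup.center H94.HS.hsE := by
    rw [Subgroup.mem_center_iff]
    intro p
    obtain ⟨d, rfl⟩ := rho_surjective p
    rw [← map_mul, ← map_mul, Subgroup.mem_center_iff.mp hg d]
  have hbot : Subgroup.center H94.HS.hsE = ⊥ := by
    rcases (inferInstance : (Subgroup.center H94.HS.hsE).Normal).eq_bot_or_eq_top with h | h
    · exact h
    · exfalso
      have h2 : commutator H94.HS.hsE = ⊥ := by
        rw [commutator_def, Subgroup.commutator_eq_bot_iff_le_centralizer]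
        intro a _ b _
        exact Subgroup.mem_center_iff.mp (h ▸ Subgroup.mem_top a) b
      rw [H94.HS.commutator_hsE] at h2
      exact bot_ne_top h2.symm
  rw [hbot, Subgroup.mem_bot] at hc
  exact MonoidHom.mem_ker.mpr hc

theorem doubleCover_D : IsNonsplitDoubleCover D Spor.HS := by
  refine ⟨by rw [center_D, card_ker], ?_, fun L hL => ?_⟩
  · obtain ⟨e⟩ := H94.HS.isoHS_hsE
    exact ⟨((QuotientGroup.quotientMulEquivOfEq center_D).trans
      (QuotientGroup.quotientKerEquivOfSurjective rho rho_surjective)).trans e⟩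
  · have hle : commutator D ≤ L := by
      rw [commutator_def, Subgroup.commutator_le]
      intro a _ b _
      obtain ⟨⟨⟨u, hu⟩, ⟨v, hv⟩⟩, huv, -⟩ := Function.Bijective.existsUnique hL a
      obtain ⟨⟨⟨u', hu'⟩, ⟨v', hv'⟩⟩, huv', -⟩ := Function.Bijective.existsUnique hL b
      simp only at huv huv'
      have he : ⁅a, b⁆ = ⁅v, v'⁆ := by
        rw [← huv, ← huv']
        simp only [commutatorElement_def, mul_inv_rev]
        have h1 := Subgroup.mem_center_iff.mp hu
        have h2 := Subgroup.mem_center_iff.mp hu'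
        calc u * v * (u' * v') * (v⁻¹ * u⁻¹) * (v'⁻¹ * u'⁻¹)
            = u * (v * u') * v' * v⁻¹ * u⁻¹ * v'⁻¹ * u'⁻¹ := by group
          _ = u * u' * (v * v' * v⁻¹) * u⁻¹ * v'⁻¹ * u'⁻¹ := by rw [h2 v]; group
          _ = u * u' * ((v * v' * v⁻¹) * u⁻¹) * v'⁻¹ * u'⁻¹ := by group
          _ = u * u' * (u⁻¹ * (v * v' * v⁻¹)) * v'⁻¹ * u'⁻¹ := by
              rw [Subgroup.mem_center_iff.mp (inv_mem hu) (v * v' * v⁻¹)]
          _ = u * u' * u⁻¹ * ((v * v' * v⁻¹ * v'⁻¹) * u'⁻¹) := by group
          _ = u * u' * u⁻¹ * (u'⁻¹ * (v * v' * v⁻¹ * v'⁻¹)) := by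
              rw [Subgroup.mem_center_iff.mp (inv_mem hu') (v * v' * v⁻¹ * v'⁻¹)]
          _ = v * v' * v⁻¹ * v'⁻¹ := by
              rw [show u * u' = u' * u from (h1 u').symm]; group
      rw [he]
      exact L.mul_mem (L.mul_mem (L.mul_mem hv hv') (L.inv_mem hv)) (L.inv_mem hv')
    rw [perfect_D, top_le_iff] at hle
    have hd := hL.disjoint
    rw [hle, disjoint_top, center_D] at hd
    have := card_ker
    rw [hd, Subgroup.card_bot] at this
    omega

/-- transport of the nonsplit double cover property -/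
theorem doubleCover_congr {H H' K : Type*} [Group H] [Group H'] [Group K] (e : H ≃* H')
    (h : IsNonsplitDoubleCover H K) : IsNonsplitDoubleCover H' K := by
  obtain ⟨hc, ⟨f⟩, hL⟩ := h
  have hmap : (Subgroup.center H).map e.toMonoidHom = Subgroup.center H' := by
    ext g
    rw [Subgroup.mem_map_equiv, Subgroup.mem_center_iff, Subgroup.mem_center_iff]
    constructor
    · intro hg a
      simpa using congrArg e (hg (e.symm a))
    · intro hg a
      simpa using congrArg e.symm (hg (e a))
  refine ⟨?_, ⟨(QuotientGroup.congr (Subgroup.center H) (Subgroup.center H') e hmap).symm.trans f⟩,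
    fun L hL' => hL (L.comap e.toMonoidHom) ?_⟩
  · rw [← hmap, Subgroup.card_map_of_injective e.injective, hc]
  · have hc' : ∀ u : Subgroup.center H, e u ∈ Subgroup.center H' := fun u => hmap ▸ ⟨u, u.2, rfl⟩
    constructor
    · rintro ⟨u, v⟩ ⟨u', v'⟩ huv
      have h2 := congrArg e huv
      simp only [map_mul] at h2
      have := hL'.1 (a₁ := (⟨e u, hc' u⟩, ⟨e v, v.2⟩)) (a₂ := (⟨e u', hc' u'⟩, ⟨e v', v'.2⟩)) h2
      exact Prod.ext (Subtype.ext (e.injective (congrArg (fun t => (t.1 : H')) this)))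
        (Subtype.ext (e.injective (congrArg (fun t => (t.2 : H')) this)))
    · intro a
      obtain ⟨⟨⟨p, hp⟩, ⟨q, hq⟩⟩, hpq⟩ := hL'.2 (e a)
      obtain ⟨u, hu, rfl⟩ := hmap ▸ hp
      refine ⟨(⟨u, hu⟩, ⟨e.symm q, by simpa using hq⟩), e.injective ?_⟩
      simpa using hpq

theorem map_closure_eq_range :
    (Subgroup.closure ({Spor.HN.x, Spor.HN.y, Spor.HN.z} : Set (FreeGroup Spor.HN.Gen))).map
      (PresentedGroup.mk (Spor.coxRelators Spor.HN.edges ∪ {r | r ∈ Spor.HN.extra})) = nu.range := by
  rw [nu_range, MonoidHom.map_closure]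
  simp [Set.image_insert_eq, hn, PresentedGroup.of]

/-- S1708 modulo the injectivity of `nu` -/
theorem core (hinj : Function.Injective nu) : ∃ K : Subgroup
    ((Subgroup.closure ({Spor.HN.x, Spor.HN.y, Spor.HN.z} : Set (FreeGroup Spor.HN.Gen))).map
      (PresentedGroup.mk (Spor.coxRelators Spor.HN.edges ∪ {r | r ∈ Spor.HN.extra}))),
    K.Normal ∧ K.index = 2 ∧ IsNonsplitDoubleCover K Spor.HS := by
  rw [map_closure_eq_range]
  let e : F ≃* nu.range := MonoidHom.ofInjective hinj
  refine ⟨D.map e.toMonoidHom, Subgroup.Normal.map inferInstance _ e.surjective, ?_, ?_⟩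
  · exact (Subgroup.index_map_equiv D e).trans index_D.1
  · exact doubleCover_congr (D.equivMapOfInjective e.toMonoidHom e.injective) doubleCover_D

end Cfsg.Agent.H67.HN
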