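import Cfsg.Agent.H45.CosetCheck

/-!
Certificates of coset enumerations as lists of derived facts.

A fact `(a, l, b)` says that `w a * e l * (w b)⁻¹` lies in the subgroup, where `w` is read off from
the node table (`l = L` stands for the empty word).  Each fact follows from a chain of earlier facts
together with a relator, a subgroup word, a cancellation or the definition of a node.
-/

set_option autoImplicit false

namespace Cfsg.Agent.H67.HN

open Cfsg.Agent.H45 (force force_eq)

/-- conjunction, as a recursor -/
noncomputable def andB (a b : Bool) : Bool := Bool.rec false b a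

theorem andB_eq (a b : Bool) : andB a b = (a && b) := by cases a <;> rfl

/-- conditional, as a recursor -/
noncomputable def ifB {α : Type} (c : Bool) (a b : α) : α := Bool.rec b a c

theorem ifB_eq {α : Type} (c : Bool) (a b : α) : ifB c a b = cond c a b := by cases c <;> rfl

/-- a trie of packed leaves -/
inductive Tr where
  | leaf (c : ℕ)
  | node (m : ℕ) (a b : Tr)

/-- the leaf of an index (the index must be evaluated) -/
noncomputable def Tr.get (t : Tr) : ℕ → ℕ :=
  Tr.rec (fun c _ => c) (fun m _ _ iha ihb i => Bool.rec (ihb i) (iha i) (Nat.blt i m)) t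

/-- equality of lists of numbers -/
noncomputable def leq (u : List ℕ) : List ℕ → Bool :=
  List.rec (fun v => List.rec true (fun _ _ _ => false) v)
    (fun a _ ih v => List.rec false (fun b v' _ => andB (Nat.beq a b) (ih v')) v) u

theorem leq_sound : ∀ (u v : List ℕ), leq u v = true → u = v := by
  intro u
  induction u with
  | nil => intro v h; cases v with
    | nil => rfl
    | cons b v => exact absurd h (by intro h'; exact Bool.noConfusion h')
  | cons a u ih =>
    intro v h
    cases v with
    | nil => exact absurd h (by intro h'; exact Bool.noConfusion h')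
    | cons b v =>
      have h' : andB (Nat.beq a b) (leq u v) = true := h
      rw [andB_eq, Bool.and_eq_true] at h'
      rw [Nat.eq_of_beq_eq_true h'.1, ih v h'.2]

/-- an element of a list of lists -/
noncomputable def nthL (W : List (List ℕ)) : ℕ → List ℕ :=
  List.rec (fun _ => []) (fun w _ ih k => Bool.rec (ih (Nat.sub k 1)) w (Nat.beq k 0)) W

theorem nthL_mem : ∀ (W : List (List ℕ)) (k : ℕ), nthL W k = [] ∨ nthL W k ∈ W := by
  intro W
  induction W with
  | nil => intro k; exact Or.inl rfl
  | cons w W ih =>
    intro k
    have h : nthL (w :: W) k = Bool.rec (nthL W (Nat.sub k 1)) w (Nat.beq k 0) := rfl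
    cases hk : Nat.beq k 0 with
    | true => rw [hk] at h; rw [h]; exact Or.inr List.mem_cons_self
    | false =>
      rw [hk] at h; rw [h]
      exact (ih _).imp id (fun h' => List.mem_cons_of_mem _ h')

/-- fixed data of a certificate: letters below `L` with inverse list packed four bits each,
relators, subgroup words, node table, fact table -/
structure Cert where
  L : ℕ
  iv : ℕ
  W : List (List ℕ)
  S : List (List ℕ)
  nd : Tr
  fct : Tr

/-- inverse letter -/
def Cert.inv (C : Cert) (l : ℕ) : ℕ := Nat.land (Nat.shiftRight C.iv (Nat.mul l 4)) 15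

/-- source of a fact -/
def fa (v : ℕ) : ℕ := Nat.land v 65535
/-- target of a fact -/
def fb (v : ℕ) : ℕ := Nat.land (Nat.shiftRight v 16) 65535
/-- letter of a fact -/
def fl (v : ℕ) : ℕ := Nat.land (Nat.shiftRight v 32) 15
/-- kind of a fact -/
def fkind (v : ℕ) : ℕ := Nat.land (Nat.shiftRight v 36) 15
/-- index of the word of a fact -/
def fk (v : ℕ) : ℕ := Nat.land (Nat.shiftRight v 40) 65535
/-- length of the first part of the chain -/
def fsplit (v : ℕ) : ℕ := Nat.land (Nat.shiftRight v 56) 255
/-- length of the chain -/
def flen (v : ℕ) : ℕ := Nat.land (Nat.shiftRight v 64) 255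
/-- the packed chain -/
def fsteps (v : ℕ) : ℕ := Nat.shiftRight v 72

/-- put a letter in front unless it is the empty letter -/
noncomputable def push (C : Cert) (l : ℕ) (acc : List ℕ) : List ℕ :=
  Bool.rec acc (List.cons l acc) (Nat.blt l C.L)

/-- follow a chain of facts below `cur`, collecting the inverse word -/
noncomputable def chain (C : Cert) (cur n : ℕ) :
    ℕ → ℕ → List ℕ → (ℕ → ℕ → List ℕ → Bool) → Bool :=
  Nat.rec (fun s pos acc k => k s pos acc)
    (fun _ ih s pos acc k => force (Nat.land s 65535) fun u => force (Nat.shiftRight u 1) fun i =>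
      andB (Nat.blt i cur) (force (Nat.shiftRight s 16) fun s' => force (C.fct.get i) fun F =>
        force (fl F) fun l =>
        ifB (Nat.beq (Nat.land u 1) 1)
          (andB (Nat.beq (fa F) pos) (force (fb F) fun p => force (C.inv l) fun il =>
            ih s' p (Bool.rec acc (List.cons il acc) (Nat.blt l C.L)) k))
          (andB (Nat.beq (fb F) pos) (force (fa F) fun p =>
            ih s' p (Bool.rec acc (List.cons l acc) (Nat.blt l C.L)) k)))) n

theorem chain_succ (C : Cert) (cur n s pos : ℕ) (acc : List ℕ) (k : ℕ → ℕ → List ℕ → Bool) :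
    chain C cur (n + 1) s pos acc k =
      force (Nat.land s 65535) fun u => force (Nat.shiftRight u 1) fun i =>
      andB (Nat.blt i cur) (force (Nat.shiftRight s 16) fun s' => force (C.fct.get i) fun F =>
        force (fl F) fun l =>
        ifB (Nat.beq (Nat.land u 1) 1)
          (andB (Nat.beq (fa F) pos) (force (fb F) fun p => force (C.inv l) fun il =>
            chain C cur n s' p (Bool.rec acc (List.cons il acc) (Nat.blt l C.L)) k))
          (andB (Nat.beq (fb F) pos) (force (fa F) fun p =>
            chain C cur n s' p (Bool.rec acc (List.cons l acc) (Nat.blt l C.L)) k))) := rfl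

/-- check one fact -/
noncomputable def factOK (C : Cert) (f v : ℕ) : Bool :=
  force (fa v) fun a => force (fb v) fun b => force (fl v) fun l =>
  force (fkind v) fun kind => force (fk v) fun k => force (fsteps v) fun s =>
  ifB (Nat.beq kind 0)
    (andB (Nat.blt a b) (andB (Nat.blt l C.L) (Nat.beq (C.nd.get b) (Nat.add (Nat.mul a 16) l))))
  (ifB (Nat.beq kind 1)
    (andB (Nat.ble C.L l) (force (flen v) fun n => chain C f n s a [] fun _ p acc =>
      andB (Nat.beq p b)
        (List.rec false (fun x t _ =>
          List.rec false (fun y u _ => andB (leq u []) (andB (Nat.blt x C.L) (andB (Nat.blt y C.L)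
            (Bool.rec (Nat.beq x (C.inv y)) true (Nat.beq y (C.inv x)))))) t) acc)))
  (ifB (Nat.beq kind 2)
    (force (flen v) fun n => chain C f n s a [] fun _ p acc =>
      andB (Nat.beq p b) (leq (push C l acc) (nthL C.W k)))
    (force (fsplit v) fun m => force (Nat.sub (flen v) m) fun n =>
      chain C f m s a [] fun s' p acc =>
        andB (Nat.beq p 0) (chain C f n s' 0 [] fun _ q acc' =>
          andB (Nat.beq q b) (leq (acc ++ push C l acc') (nthL C.S k))))))

/-- check the facts `c, c + 1, …, c + n - 1` -/
noncomputable def blockOK (C : Cert) (n : ℕ) : ℕ → Bool :=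
  Nat.rec (fun _ => true)
    (fun _ ih c => force c fun c' =>
      andB (force (C.fct.get c') fun v => factOK C c' v) (force (Nat.succ c') fun d => ih d)) n

/-- a range of facts is checked -/
def RangeOK (C : Cert) (a b : ℕ) : Prop :=
  ∀ i, a ≤ i → i < b → factOK C i (C.fct.get i) = true

theorem RangeOK.append {C : Cert} {a b c : ℕ} (h1 : RangeOK C a b) (h2 : RangeOK C b c) :
    RangeOK C a c := fun i ha hc => (Nat.lt_or_ge i b).elim (h1 i ha) (fun h => h2 i h hc)

theorem blockOK_sound {C : Cert} : ∀ {n a b : ℕ}, blockOK C n a = true → a + n = b →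
    RangeOK C a b := by
  intro n
  induction n with
  | zero => intro a b _ hb i h1 h2; omega
  | succ n ih =>
    intro a b h hb i h1 h2
    have h' : blockOK C (n + 1) a = force a fun c' =>
      andB (force (C.fct.get c') fun v => factOK C c' v)
        (force (Nat.succ c') fun d => blockOK C n d) := rfl
    simp only [h', force_eq, andB_eq, Bool.and_eq_true] at h
    rcases Nat.eq_or_lt_of_le h1 with rfl | h3
    · exact h.1
    · exact ih h.2 (by omega) i h3 h2

end Cfsg.Agent.H67.HN
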