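import Cfsg.Agent.H67.HN.Pres
import Cfsg.Prelude.Def_Spor_HN

/-!
The group presented by the ten relations of HN on `x, y, z`.
-/

set_option autoImplicit false

namespace Cfsg.Agent.H67.HN

/-- three generators -/
inductive G3 | x | y | z
  deriving DecidableEq

/-- images of the three generators in HN's alphabet -/
def G3.gen : G3 → Spor.HN.Gen
  | .x => .x
  | .y => .y
  | .z => .z

/-- the ten relators -/
def rels3 : List (FreeGroup G3) :=
  let x := FreeGroup.of G3.x
  let y := FreeGroup.of G3.y
  let z := FreeGroup.of G3.z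
  [y ^ 6, x ^ 2 * y * x ^ 2 * y⁻¹, (x⁻¹ * y⁻¹ * x * y) ^ 3, (x⁻¹ * y ^ 2 * x * y ^ 3) ^ 3,
    (x * y) ^ 8, (x * y * x * y ^ 3) ^ 4, z ^ 2, (z * x) ^ 2,
    (z⁻¹ * (y * x * y * x * y ^ 2 * x * y⁻¹)⁻¹ * z * (y * x * y * x * y ^ 2 * x * y⁻¹)) * (x ^ 2)⁻¹,
    z * (((y ^ 3 * x * y * x * y)⁻¹ * z * (y ^ 3 * x * y * x * y)) * x) ^ 3]

/-- The group on `x, y, z` presented by the ten relators: a model of `2.HS:2`. -/
abbrev F : Type := PresentedGroup {r : FreeGroup G3 | r ∈ rels3}

/-- the generator x -/
def gx : F := PresentedGroup.of G3.x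
/-- the generator y -/
def gy : F := PresentedGroup.of G3.y
/-- the generator z -/
def gz : F := PresentedGroup.of G3.z

theorem rels_F : Rels gx gy gz := by
  have h : ∀ r ∈ rels3, PresentedGroup.mk {r : FreeGroup G3 | r ∈ rels3} r = 1 :=
    fun r hr => PresentedGroup.one_of_mem hr
  simp only [rels3, List.mem_cons, List.not_mem_nil, or_false, forall_eq_or_imp, forall_eq,
    map_mul, map_pow, map_inv] at h
  obtain ⟨h1, h2, h3, h4, h5, h6, h7, h8, h9, h10⟩ := h
  exact ⟨h1, h2, h3, h4, h5, h6, h7, h8, h9, h10⟩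

theorem closure_F : Subgroup.closure ({gx, gy, gz} : Set F) = ⊤ := by
  rw [eq_top_iff, ← PresentedGroup.closure_range_of, Subgroup.closure_le]
  rintro _ ⟨i, rfl⟩
  cases i <;> exact Subgroup.subset_closure (by simp [gx, gy, gz])

variable {G : Type*} [Group G]

/-- three elements as a map on generators -/
def gfun (x y z : G) : G3 → G
  | .x => x
  | .y => y
  | .z => z

/-- the universal property -/
def lift {x y z : G} (h : Rels x y z) : F →* G :=
  PresentedGroup.toGroup (f := gfun x y z) (by
    intro r hr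
    simp only [rels3, Set.mem_ofPred_eq, List.mem_cons, List.not_mem_nil, or_false] at hr
    rcases hr with rfl | rfl | rfl | rfl | rfl | rfl | rfl | rfl | rfl | rfl <;>
      simp only [map_mul, map_pow, map_inv, FreeGroup.lift_apply_of, gfun]
    exacts [h.y6, h.xy, h.comm, h.d, h.xy8, h.e, h.z2, h.zx, h.i, h.j])

@[simp] theorem lift_gx {x y z : G} (h : Rels x y z) : lift h gx = x := PresentedGroup.toGroup.of _
@[simp] theorem lift_gy {x y z : G} (h : Rels x y z) : lift h gy = y := PresentedGroup.toGroup.of _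
@[simp] theorem lift_gz {x y z : G} (h : Rels x y z) : lift h gz = z := PresentedGroup.toGroup.of _

theorem hom_ext {f g : F →* G} (hx : f gx = g gx) (hy : f gy = g gy) (hz : f gz = g gz) : f = g :=
  MonoidHom.eq_of_eqOn_dense closure_F (by
    intro a ha
    simp only [Set.mem_insert_iff, Set.mem_singleton_iff] at ha
    rcases ha with rfl | rfl | rfl <;> assumption)

theorem lift_range {x y z : G} (h : Rels x y z) :
    (lift h).range = Subgroup.closure {x, y, z} := by
  rw [MonoidHom.range_eq_map, ← closure_F, MonoidHom.map_closure]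
  simp [Set.image_insert_eq]

/-- generators of HN -/
def hn (g : Spor.HN.Gen) : Spor.HN := PresentedGroup.of g

theorem rels_HN : Rels (hn .x) (hn .y) (hn .z) := by
  have h : ∀ r ∈ Spor.HN.extra, PresentedGroup.mk
      (Spor.coxRelators Spor.HN.edges ∪ {r | r ∈ Spor.HN.extra}) r = 1 :=
    fun r hr => PresentedGroup.one_of_mem (Or.inr hr)
  simp only [Spor.HN.extra, List.mem_cons, List.not_mem_nil, or_false, forall_eq_or_imp,
    forall_eq, map_mul, map_pow, map_inv] at h
  obtain ⟨h1, h2, h3, h4, h5, h6, h7, h8, h9, h10, -, -, -, -⟩ := h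
  exact ⟨h1, h2, h3, h4, h5, h6, h7, h8, h9, h10⟩

/-- The homomorphism onto the subgroup `⟨x, y, z⟩` of HN. -/
def nu : F →* Spor.HN := lift rels_HN

theorem nu_range : nu.range = Subgroup.closure {hn .x, hn .y, hn .z} := lift_range rels_HN

theorem x4_F : gx ^ 4 = 1 := rels_F.x4

theorem x2_central : gx ^ 2 ∈ Subgroup.center F := by
  rw [Subgroup.mem_center_iff]
  intro g
  exact rels_F.central (by rw [closure_F]; exact Subgroup.mem_top g)

/-- the central subgroup of `x²` -/
def zx : Subgroup F := Subgroup.zpowers (gx ^ 2)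

instance : zx.Normal := by
  refine ⟨fun a ha g => ?_⟩
  have : a ∈ Subgroup.center F := Subgroup.zpowers_le.mpr x2_central ha
  rw [Subgroup.mem_center_iff.mp this g]
  simpa using ha

theorem card_zx_le : Nat.card zx ≤ 2 := by
  rw [zx, Nat.card_zpowers]
  exact Nat.le_of_dvd (by norm_num) (orderOf_dvd_of_pow_eq_one (by rw [← pow_mul]; exact x4_F))

theorem finite_and_bound : Finite F ∧ Nat.card F ≤ 532224000 := by
  let q := QuotientGroup.mk' zx
  have hq : Rels (q gx) (q gy) (q gz) := rels_F.map q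
  have hx : q gx * q gx = 1 := by
    rw [← map_mul]
    exact (QuotientGroup.eq_one_iff _).mpr (by rw [← pow_two]; exact Subgroup.mem_zpowers _)
  obtain ⟨hf, hc⟩ := card_quotient_le hq hx
  have htop : Subgroup.closure ({q gx, q gy, q gz} : Set (F ⧸ zx)) = ⊤ := by
    have := congrArg (Subgroup.map q) closure_F
    rw [MonoidHom.map_closure, Subgroup.map_top_of_surjective q (QuotientGroup.mk'_surjective _)]
      at this
    simpa [Set.image_insert_eq] using this
  rw [htop] at hf hc
  have hq' : Finite (F ⧸ zx) := Set.finite_univ_iff.mp (by simpa using hf)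
  have hz : Finite zx := (isOfFinOrder_iff_pow_eq_one.mpr ⟨2, by norm_num,
    (by rw [← pow_mul]; exact x4_F : (gx ^ 2) ^ 2 = 1)⟩).finite_zpowers.to_subtype
  refine ⟨Finite.of_subgroup_quotient zx, ?_⟩
  rw [Subgroup.card_eq_card_quotient_mul_card_subgroup zx]
  rw [Subgroup.card_top] at hc
  have := card_zx_le
  calc Nat.card (F ⧸ zx) * Nat.card zx ≤ 266112000 * 2 := Nat.mul_le_mul hc this
    _ = 532224000 := rfl

instance : Finite F := finite_and_bound.1

theorem card_F_le : Nat.card F ≤ 532224000 := finite_and_bound.2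

end Cfsg.Agent.H67.HN
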