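import Cfsg.Agent.H67.HN.Perm
import Cfsg.Agent.H94.HS.Main

/-!
The group on `x, y, z` has order `177408000` and its derived subgroup is `2.HS`.
-/

set_option autoImplicit false

open scoped commutatorElement

namespace Cfsg.Agent.H67.HN

theorem Rels.trivial_of_commute {G : Type*} [Group G] {x y z : G} (h : Rels x y z)
    (hxy : Commute x y) : y = 1 ∧ x = 1 := by
  have c := hxy.eq
  have hx4 : x ^ 4 = 1 := h.x4
  have hd : (x⁻¹ * y ^ 2 * x * y ^ 3) = y ^ 5 := by
    rw [(hxy.pow_right 2).inv_left.eq]; group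
  have h15 : y ^ 15 = 1 := by
    have := h.d; rw [hd, ← pow_mul] at this; exact this
  have hy3 : y ^ 3 = 1 := by
    have : y ^ 15 = y ^ 6 * y ^ 6 * y ^ 3 := by rw [← pow_add, ← pow_add]
    rw [h15, h.y6, one_mul, one_mul] at this
    exact this.symm
  have he : x * y * x * y ^ 3 = x ^ 2 * y := by
    rw [hy3, mul_one, mul_assoc, ← c, ← mul_assoc, ← pow_two]
  have hy : y = 1 := by
    have h4 := h.e
    rw [he, (hxy.pow_left 2).mul_pow, ← pow_mul, show (2 * 4 : ℕ) = 4 + 4 from rfl, pow_add, hx4,
      one_mul, one_mul] at h4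
    have : y ^ 4 = y ^ 3 * y := pow_succ y 3
    rw [h4, hy3, one_mul] at this
    exact this.symm
  refine ⟨hy, ?_⟩
  have hj := h.j
  subst hy
  simp only [one_pow, one_mul, mul_one] at hj
  have hz : Commute z (x * x) := by
    rw [← pow_two]
    exact h.central (Subgroup.subset_closure (by simp))
  have hu : (x * x)⁻¹ * z * (x * x) = z := by rw [mul_assoc, hz.eq, inv_mul_cancel_left]
  rw [hu, pow_three, mul_assoc z x] at hj
  have h2 : (z * x) * (z * x) = 1 := by rw [← pow_two]; exact h.zx
  have h3 : z * (z * x) = 1 := by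
    calc z * (z * x) = z * ((z * x) * ((z * x) * (z * x))) := by rw [h2, mul_one]
      _ = z * (z * (x * (z * x * (z * x)))) := by group
      _ = 1 := by rw [← hj]
  rw [← mul_assoc, ← pow_two z, h.z2, one_mul] at h3
  exact h3

theorem gxy_mem : gx ∈ commutator F ∧ gy ∈ commutator F := by
  have h := (rels_F.map (Abelianization.of (G := F))).trivial_of_commute (mul_comm _ _)
  rw [← Abelianization.ker_of F]
  exact ⟨h.2, h.1⟩

/-- the derived subgroup -/
abbrev D : Subgroup F := commutator F

theorem commutator_D : ⁅D, D⁆ = D := by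
  refine le_antisymm (Subgroup.commutator_le_right D D) ?_
  let q := QuotientGroup.mk' ⁅D, D⁆
  have hc : ∀ a ∈ D, ∀ b ∈ D, q a * q b = q b * q a := by
    intro a ha b hb
    have h1 : q ⁅a, b⁆ = 1 := (QuotientGroup.eq_one_iff _).mpr (Subgroup.commutator_mem_commutator ha hb)
    rw [map_commutatorElement, commutatorElement_eq_one_iff_mul_comm] at h1
    exact h1
  obtain ⟨hy, hx⟩ := (rels_F.map q).trivial_of_commute (hc _ gxy_mem.1 _ gxy_mem.2)
  have hle : Subgroup.closure ({gx, gy, gz} : Set F) ≤ (Subgroup.zpowers (q gz)).comap q := by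
    rw [Subgroup.closure_le]
    simp only [Set.insert_subset_iff, Set.singleton_subset_iff, SetLike.mem_coe,
      Subgroup.mem_comap, hx, hy]
    exact ⟨one_mem _, one_mem _, Subgroup.mem_zpowers _⟩
  rw [closure_F] at hle
  have hcomm : ∀ a b : F, q a * q b = q b * q a := by
    intro a b
    obtain ⟨i, hi⟩ := hle (Subgroup.mem_top a)
    obtain ⟨j, hj⟩ := hle (Subgroup.mem_top b)
    rw [← hi, ← hj, ← zpow_add, ← zpow_add, add_comm]
  show commutator F ≤ _
  rw [commutator_def, Subgroup.commutator_le]
  intro a _ b _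
  refine (QuotientGroup.eq_one_iff _).mp ?_
  show q ⁅a, b⁆ = 1
  rw [map_commutatorElement, commutatorElement_eq_one_iff_mul_comm]
  exact hcomm a b

theorem index_D_le : D.index ≤ 2 := by
  let q := Abelianization.of (G := F)
  have h := (rels_F.map q).trivial_of_commute (mul_comm _ _)
  have hle : Subgroup.closure ({gx, gy, gz} : Set F) ≤ (Subgroup.zpowers (q gz)).comap q := by
    rw [Subgroup.closure_le]
    simp only [Set.insert_subset_iff, Set.singleton_subset_iff, SetLike.mem_coe,
      Subgroup.mem_comap, h.1, h.2]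
    exact ⟨one_mem _, one_mem _, Subgroup.mem_zpowers _⟩
  rw [closure_F] at hle
  have htop : Subgroup.zpowers (q gz) = ⊤ := by
    rw [eq_top_iff]
    intro a _
    obtain ⟨b, rfl⟩ := QuotientGroup.mk_surjective a
    exact hle (Subgroup.mem_top b)
  rw [Subgroup.index_eq_card]
  show Nat.card (Abelianization F) ≤ 2
  rw [← Subgroup.card_top (G := Abelianization F), ← htop, Nat.card_zpowers]
  exact Nat.le_of_dvd (by norm_num) (orderOf_dvd_of_pow_eq_one (by rw [← map_pow, rels_F.z2, map_one]))

theorem sign_ne : ∃ f : F, Equiv.Perm.sign (rep100 f) = -1 := by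
  by_contra h
  push Not at h
  have hle : H94.HS.autG ≤ H94.HS.hsE := by
    rw [← rep100_range]
    rintro _ ⟨f, rfl⟩
    refine ⟨rep100_range ▸ ⟨f, rfl⟩, MonoidHom.mem_ker.mpr ?_⟩
    exact (Int.units_eq_one_or _).resolve_right (h f)
  have := Nat.le_of_dvd Nat.card_pos (Subgroup.card_dvd_of_le hle)
  rw [H94.HS.card_autG, H94.HS.card_hsE] at this
  omega

theorem index_D : D.index = 2 ∧ (Equiv.Perm.sign.comp rep100).ker = D := by
  let s := Equiv.Perm.sign.comp rep100
  have hle : D ≤ s.ker := Abelianization.commutator_subset_ker s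
  have hs : s.ker.index = 2 := by
    obtain ⟨f, hf⟩ := sign_ne
    have hsurj : Function.Surjective s := by
      intro u
      rcases Int.units_eq_one_or u with rfl | rfl
      · exact ⟨1, map_one s⟩
      · exact ⟨f, hf⟩
    rw [Subgroup.index_ker, MonoidHom.range_eq_top.2 hsurj, Subgroup.card_top,
      Nat.card_eq_fintype_card, Fintype.card_units_int]
  have hd := Subgroup.index_dvd_of_le hle
  have hpos : 0 < D.index := Nat.pos_of_ne_zero Subgroup.index_ne_zero_of_finite
  have h2 : D.index = 2 := le_antisymm index_D_le (hs ▸ Nat.le_of_dvd hpos hd)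
  refine ⟨h2, (Subgroup.eq_of_le_of_card_ge hle ?_).symm⟩
  have e1 := D.card_mul_index
  have e2 := s.ker.card_mul_index
  rw [h2] at e1
  rw [hs] at e2
  omega

theorem mem_D_iff (g : F) : g ∈ D ↔ Equiv.Perm.sign (rep100 g) = 1 := by
  rw [← index_D.2]; rfl

/-- the map of the derived subgroup onto the even automorphisms -/
def rho : D →* H94.HS.hsE :=
  (rep100.comp D.subtype).codRestrict H94.HS.hsE fun g =>
    ⟨rep100_range ▸ ⟨g.1, rfl⟩, MonoidHom.mem_ker.mpr ((mem_D_iff g.1).1 g.2)⟩

theorem rho_surjective : Function.Surjective rho := by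
  rintro ⟨p, hp, hsg⟩
  rw [← rep100_range] at hp
  obtain ⟨g, rfl⟩ := hp
  exact ⟨⟨g, (mem_D_iff g).2 (MonoidHom.mem_ker.mp hsg)⟩, rfl⟩

theorem x2_ne : gx ^ 2 ≠ 1 := by
  intro h
  have h1 : X * X = 1 := by
    have := congrArg pi h
    rwa [map_pow, map_one, pi, lift_gx, pow_two] at this
  have h3 : ((X (X ⟨5, by norm_num⟩) : Fin 1408) : ℕ) ≠ 5 := by decide +kernel
  apply h3
  rw [← Equiv.Perm.mul_apply, h1]
  rfl

theorem isSimple_hsE : IsSimpleGroup H94.HS.hsE := by
  obtain ⟨e⟩ := H94.HS.isoHS_hsE
  let e' : ↥H94.HS.hsE ≃* ↥Cfsg.Agent.Golay.hsStab := e.trans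
    ((Cfsg.Agent.Golay.hsStab.equivMapOfInjective Co0.subtype Subtype.val_injective).trans
      (MulEquiv.subgroupCongr Cfsg.Agent.Golay.map_hsStab)).symm
  have := Cfsg.Agent.Golay.isSimple_hsStab
  have : Nontrivial ↥H94.HS.hsE := e'.toEquiv.nontrivial
  exact IsSimpleGroup.isSimpleGroup_of_surjective e'.symm.toMonoidHom e'.symm.surjective

/-- `gx²` inside the derived subgroup -/
def c : D := ⟨gx ^ 2, D.pow_mem gxy_mem.1 2⟩

theorem c_mem_ker : c ∈ rho.ker := Subtype.ext rep100_x2

theorem c_ne : c ≠ 1 := fun h => x2_ne (congrArg Subtype.val h)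

theorem card_D : 2 * Nat.card D = Nat.card F := by
  rw [← D.card_mul_index, index_D.1, Nat.mul_comm]

theorem card_D_ker : Nat.card D = Nat.card rho.ker * 44352000 := by
  rw [← rho.ker.card_mul_index, Subgroup.index_ker, MonoidHom.range_eq_top.2 rho_surjective,
    Subgroup.card_top, H94.HS.card_hsE]

theorem card_ker_le : 2 ≤ Nat.card rho.ker ∧ Nat.card rho.ker ≤ 6 := by
  constructor
  · have : Nontrivial rho.ker := ⟨⟨⟨c, c_mem_ker⟩, 1, fun h => c_ne (congrArg Subtype.val h)⟩⟩
    exact Finite.one_lt_card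
  · have := card_F_le
    have := card_D
    rw [card_D_ker] at this
    omega

/-- a perfect group -/
theorem perfect_D : commutator D = ⊤ := by
  apply Subgroup.map_injective D.subtype_injective
  rw [map_commutator_eq, ← MonoidHom.range_eq_map, Subgroup.range_subtype]
  exact commutator_D

theorem ker_central : rho.ker ≤ Subgroup.center D := by
  classical
  let N := rho.ker
  let a : D →* MulAut N := MulAut.conjNormal
  let a' : D →* Equiv.Perm N := (MulAut.toPerm N).comp a
  have hsimp := isSimple_hsE
  have hnorm : (a'.ker.map rho).Normal := Subgroup.Normal.map inferInstance rho rho_surjective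
  have hk := card_ker_le
  have htop : a'.ker = ⊤ := by
    rcases hnorm.eq_bot_or_eq_top with hb | ht
    · exfalso
      have hle : a'.ker ≤ N := (Subgroup.map_eq_bot_iff _).mp hb
      have h1 := Nat.le_of_dvd Nat.card_pos (Subgroup.card_dvd_of_le hle)
      have h2 : Nat.card a'.range ≤ 720 := by
        refine le_trans (Nat.le_of_dvd Nat.card_pos (Subgroup.card_subgroup_dvd_card _)) ?_
        rw [Nat.card_perm]
        exact (Nat.factorial_le hk.2).trans (by decide)
      have h3 := a'.ker.card_mul_index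
      rw [Subgroup.index_ker, card_D_ker] at h3
      have h4 : Nat.card a'.ker * Nat.card a'.range ≤ 6 * 720 :=
        Nat.mul_le_mul (h1.trans hk.2) h2
      have h5 : 2 * 44352000 ≤ Nat.card rho.ker * 44352000 := Nat.mul_le_mul_right _ hk.1
      omega
    · have hsup : a'.ker ⊔ N = ⊤ := by
        rw [← Subgroup.comap_map_eq, ht, Subgroup.comap_top]
      -- the quotient by the kernel is an image of `N`, with `c` going to one
      let q := QuotientGroup.mk' a'.ker
      let f : N →* D ⧸ a'.ker := q.comp N.subtype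
      have hf : Function.Surjective f := by
        intro p
        obtain ⟨d, rfl⟩ := QuotientGroup.mk'_surjective a'.ker p
        have : d ∈ a'.ker ⊔ N := hsup ▸ Subgroup.mem_top d
        obtain ⟨u, hu, v, hv, rfl⟩ := Subgroup.mem_sup_of_normal_left.mp this
        refine ⟨⟨v, hv⟩, ?_⟩
        show q v = q (u * v)
        rw [map_mul, show q u = 1 from (QuotientGroup.eq_one_iff u).mpr hu, one_mul]
      have hcc : c ∈ a'.ker := by
        refine MonoidHom.mem_ker.mpr (Equiv.ext fun v => Subtype.ext (Subtype.ext ?_))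
        show (c : F) * ((v : D) : F) * (c : F)⁻¹ = ((v : D) : F)
        have := Subgroup.mem_center_iff.mp x2_central ((v : D) : F)
        show gx ^ 2 * _ * (gx ^ 2)⁻¹ = _
        rw [← this]; simp
      have hker : 2 ≤ Nat.card f.ker := by
        have : Nontrivial f.ker := ⟨⟨⟨⟨c, c_mem_ker⟩, (QuotientGroup.eq_one_iff _).mpr hcc⟩, 1,
          fun h => c_ne (congrArg Subtype.val (congrArg Subtype.val h))⟩⟩
        exact Finite.one_lt_card
      have h3 := f.ker.card_mul_index
      rw [Subgroup.index_ker, MonoidHom.range_eq_top.2 hf, Subgroup.card_top] at h3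
      have hq : Nat.card (D ⧸ a'.ker) ≤ 3 := by
        have h6 : Nat.card f.ker * Nat.card (D ⧸ a'.ker) ≤ 6 := h3 ▸ hk.2
        nlinarith
      have hcomm : ∀ u v : D ⧸ a'.ker, u * v = v * u := by
        have hcyc : IsCyclic (D ⧸ a'.ker) := by
          have hpos : 0 < Nat.card (D ⧸ a'.ker) := Nat.card_pos
          rcases (show Nat.card (D ⧸ a'.ker) = 1 ∨ Nat.card (D ⧸ a'.ker) = 2 ∨
            Nat.card (D ⧸ a'.ker) = 3 by omega) with h | h | h
          · have : Subsingleton (D ⧸ a'.ker) := (Nat.card_eq_one_iff_unique.mp h).1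
            infer_instance
          · have : Fact (Nat.Prime 2) := ⟨by norm_num⟩
            exact isCyclic_of_prime_card h
          · have : Fact (Nat.Prime 3) := ⟨by norm_num⟩
            exact isCyclic_of_prime_card h
        intro u v
        exact (hcyc.commGroup).mul_comm u v
      rw [eq_top_iff, ← perfect_D, commutator_def, Subgroup.commutator_le]
      intro u _ v _
      refine (QuotientGroup.eq_one_iff _).mp ?_
      show q ⁅u, v⁆ = 1
      rw [map_commutatorElement, commutatorElement_eq_one_iff_mul_comm]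
      exact hcomm _ _
  intro v hv
  rw [Subgroup.mem_center_iff]
  intro g
  have : a' g = 1 := MonoidHom.mem_ker.mp (htop ▸ Subgroup.mem_top g)
  have h2 := congrArg (fun p : Equiv.Perm N => ((p ⟨v, hv⟩ : N) : D)) this
  exact mul_inv_eq_iff_eq_mul.mp h2

theorem rho_stem : IsStemExtension rho :=
  ⟨rho_surjective, ker_central, by rw [perfect_D]; exact le_top⟩

theorem card_ker : Nat.card rho.ker = 2 := by
  obtain ⟨f, hf⟩ := H94.HS.exists_surjective_two rho rho_stem
  have h := Nat.card_le_card_of_surjective f hf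
  rw [Nat.card_congr Multiplicative.toAdd, Nat.card_zmod] at h
  exact le_antisymm h card_ker_le.1

/-- The group on `x, y, z` has order `177408000`. -/
theorem card_F : Nat.card F = 177408000 := by
  rw [← card_D, card_D_ker, card_ker]

theorem card_D' : Nat.card D = 88704000 := by rw [card_D_ker, card_ker]

theorem pi_injective : Function.Injective pi := by
  rw [← MonoidHom.ker_eq_bot_iff, ← Subgroup.card_eq_one]
  have h := pi.ker.card_mul_index
  rw [Subgroup.index_ker, pi_range, card_F] at h
  have h2 := card_M_ge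
  have hpos : 0 < Nat.card pi.ker := Nat.card_pos
  nlinarith

theorem card_M : Nat.card M = 177408000 := by
  rw [← pi_range, Nat.card_congr (MonoidHom.ofInjective pi_injective).toEquiv.symm, card_F]

/-- the model is isomorphic to the presented group -/
noncomputable def equivM : F ≃* M :=
  (MonoidHom.ofInjective pi_injective).trans (MulEquiv.subgroupCongr pi_range)

theorem exists_nu : ∃ ν : M →* Spor.HN,
    ν ⟨X, Subgroup.subset_closure (Or.inl rfl)⟩ = hn .x ∧
    ν ⟨Y, Subgroup.subset_closure (Or.inr (Or.inl rfl))⟩ = hn .y ∧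
    ν ⟨Z, Subgroup.subset_closure (Or.inr (Or.inr rfl))⟩ = hn .z := by
  refine ⟨nu.comp equivM.symm.toMonoidHom, ?_, ?_, ?_⟩
  all_goals
    simp only [MonoidHom.coe_comp, Function.comp_apply, MulEquiv.coe_toMonoidHom]
  · refine (congrArg nu ((MulEquiv.symm_apply_eq equivM).mpr ?_)).trans (lift_gx rels_HN)
    exact Subtype.ext (lift_gx rels_perm).symm
  · refine (congrArg nu ((MulEquiv.symm_apply_eq equivM).mpr ?_)).trans (lift_gy rels_HN)
    exact Subtype.ext (lift_gy rels_perm).symm
  · refine (congrArg nu ((MulEquiv.symm_apply_eq equivM).mpr ?_)).trans (lift_gz rels_HN)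
    exact Subtype.ext (lift_gz rels_perm).symm

/-- An element of the model fixing the base points `5, 296, 102, 199` is trivial. -/
theorem eq_one_of_fix_base {g : Equiv.Perm (Fin 1408)} (hg : g ∈ M)
    (h5 : g ⟨5, by norm_num⟩ = ⟨5, by norm_num⟩) (h296 : g ⟨296, by norm_num⟩ = ⟨296, by norm_num⟩)
    (h102 : g ⟨102, by norm_num⟩ = ⟨102, by norm_num⟩)
    (h199 : g ⟨199, by norm_num⟩ = ⟨199, by norm_num⟩) : g = 1 := by
  refine chain_base P1408.tab P1408.chain_ok M (fun lv _ w _ =>
    word_mem P1408.perm_ok (Subgroup.subset_closure (Or.inl rfl))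
      (Subgroup.subset_closure (Or.inr (Or.inl rfl)))
      (Subgroup.subset_closure (Or.inr (Or.inr rfl))) w) ?_ g hg ?_
  · rw [P1408.chain_prod, card_M]
  · intro lv hlv hb
    simp only [P1408.lvls, List.mem_cons, List.not_mem_nil, or_false] at hlv
    rcases hlv with rfl | rfl | rfl | rfl
    exacts [h5, h296, h102, h199]

end Cfsg.Agent.H67.HN
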