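import Cfsg.Agent.H67.HN.PermData
import Cfsg.Agent.H67.HN.HSData
import Cfsg.Agent.H67.HN.ChainBase
import Cfsg.Agent.H67.HN.F
import Cfsg.Agent.H94.HS.Group

/-!
The action on 1408 points and the action on the Higman–Sims graph.
-/

set_option autoImplicit false

namespace Cfsg.Agent.H67.HN

open Cfsg.Agent.H45

section generic

variable {n : ℕ} {cols : List ℕ}

theorem rels_of_perm (h : permCheck 5 n [1, 0, 3, 2, 4] cols P1408.rels = true) :
    Rels (sig (permCheck_PT h) 0) (sig (permCheck_PT h) 2) (sig (permCheck_PT h) 4) := by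
  have h1 : sig (permCheck_PT h) 1 = (sig (permCheck_PT h) 0)⁻¹ :=
    sig_inv (permCheck_PT h) (l := 0) (by norm_num)
  have h3 : sig (permCheck_PT h) 3 = (sig (permCheck_PT h) 2)⁻¹ :=
    sig_inv (permCheck_PT h) (l := 2) (by norm_num)
  have h4 : sig (permCheck_PT h) 4 = (sig (permCheck_PT h) 4)⁻¹ :=
    sig_inv (permCheck_PT h) (l := 4) (by norm_num)
  have hr := permCheck_rel h
  simp only [P1408.rels, List.mem_cons, List.not_mem_nil, or_false, forall_eq_or_imp, forall_eq,
    evalW, List.map_cons, List.map_nil, List.prod_cons, List.prod_nil, mul_one, h1, h3] at hr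
  obtain ⟨r1, r2, r3, r4, r5, r6, r7, r8, r9, r10⟩ := hr
  constructor
  · simpa [pow_succ, mul_assoc] using r1
  · simpa [pow_succ, mul_assoc] using r2
  · simpa [pow_succ, mul_assoc] using r3
  · simpa [pow_succ, mul_assoc] using r4
  · simpa [pow_succ, mul_assoc] using r5
  · simpa [pow_succ, mul_assoc] using r6
  · simpa [pow_succ, mul_assoc] using r7
  · simpa [pow_succ, mul_assoc] using r8
  · simpa [pow_succ, mul_assoc, ← h4] using r9
  · simpa [pow_succ, mul_assoc, ← h4] using r10

/-- every word in the five letters lies in the group generated by the three generators -/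
theorem word_mem (h : permCheck 5 n [1, 0, 3, 2, 4] cols P1408.rels = true)
    {Y : Subgroup (Equiv.Perm (Fin n))} (hx : sig (permCheck_PT h) 0 ∈ Y)
    (hy : sig (permCheck_PT h) 2 ∈ Y) (hz : sig (permCheck_PT h) 4 ∈ Y) :
    ∀ w : List ℕ, evalW (sig (permCheck_PT h)) w ∈ Y := by
  have h1 : sig (permCheck_PT h) 1 = (sig (permCheck_PT h) 0)⁻¹ :=
    sig_inv (permCheck_PT h) (l := 0) (by norm_num)
  have h3 : sig (permCheck_PT h) 3 = (sig (permCheck_PT h) 2)⁻¹ :=
    sig_inv (permCheck_PT h) (l := 2) (by norm_num)
  intro w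
  induction w with
  | nil => simp [evalW]
  | cons l w ih =>
    rw [evalW_cons]
    refine Y.mul_mem ?_ ih
    rcases Nat.lt_or_ge l 5 with hl | hl
    · interval_cases l
      exacts [hx, h1 ▸ Y.inv_mem hx, hy, h3 ▸ Y.inv_mem hy, hz]
    · simp [sig, Nat.not_lt.mpr hl]

end generic

/-- the image of x on 1408 points: `i ↦ i·x⁻¹` -/
def X : Equiv.Perm (Fin 1408) := sig P1408.tab 0
/-- the image of y on 1408 points -/
def Y : Equiv.Perm (Fin 1408) := sig P1408.tab 2
/-- the image of z on 1408 points -/
def Z : Equiv.Perm (Fin 1408) := sig P1408.tab 4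

theorem rels_perm : Rels X Y Z := rels_of_perm P1408.perm_ok

/-- the model `2.HS:2` on 1408 points -/
def M : Subgroup (Equiv.Perm (Fin 1408)) := Subgroup.closure {X, Y, Z}

/-- the representation on 1408 points -/
def pi : F →* Equiv.Perm (Fin 1408) := lift rels_perm

theorem pi_range : pi.range = M := lift_range rels_perm

theorem card_M_ge : 177408000 ≤ Nat.card M := by
  have h := chainCheck_sound P1408.tab P1408.chain_ok M
    (fun lv _ g _ => word_mem P1408.perm_ok (Subgroup.subset_closure (Or.inl rfl))
      (Subgroup.subset_closure (Or.inr (Or.inl rfl))) (Subgroup.subset_closure (Or.inr (Or.inr rfl))) g)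
  rwa [P1408.chain_prod] at h

/-- image of x on the 100 points -/
def X100 : Equiv.Perm (Fin 100) := sig P100.tab 0
/-- image of y on the 100 points -/
def Y100 : Equiv.Perm (Fin 100) := sig P100.tab 2
/-- image of z on the 100 points -/
def Z100 : Equiv.Perm (Fin 100) := sig P100.tab 4

theorem rels_100 : Rels X100 Y100 Z100 :=
  rels_of_perm (cols := P100.cols) (show permCheck 5 100 [1, 0, 3, 2, 4] P100.cols P1408.rels = true
    from P100.perm_ok)

/-- the graph test of a letter -/
def graphOK (l : ℕ) : Bool :=
  (List.range 100).all fun a => (List.range 100).all fun b =>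
    H94.HS.adjB a b == H94.HS.adjB (tget P100.cols a (linv P100.iv l)) (tget P100.cols b (linv P100.iv l))

theorem graph0 : graphOK 0 = true := by decide +kernel
theorem graph2 : graphOK 2 = true := by decide +kernel
theorem graph4 : graphOK 4 = true := by decide +kernel

theorem sig_mem_autG {l : ℕ} (hl : l < 5) (h : graphOK l = true) :
    sig P100.tab l ∈ H94.HS.autG := by
  intro a b
  simp only [graphOK, List.all_eq_true, List.mem_range, beq_iff_eq] at h
  have := h a a.isLt b b.isLt
  simpa [sig, hl] using this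

/-- the representation on the 100 points -/
def rep100 : F →* Equiv.Perm (Fin 100) := lift rels_100

theorem rep100_range : rep100.range = H94.HS.autG := by
  have hr : rep100.range = Subgroup.closure {X100, Y100, Z100} := lift_range rels_100
  have hle : rep100.range ≤ H94.HS.autG := by
    rw [hr, Subgroup.closure_le]
    simp only [Set.insert_subset_iff, Set.singleton_subset_iff, SetLike.mem_coe]
    exact ⟨sig_mem_autG (by norm_num) graph0, sig_mem_autG (by norm_num) graph2,
      sig_mem_autG (by norm_num) graph4⟩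
  refine Subgroup.eq_of_le_of_card_ge hle ?_
  rw [H94.HS.card_autG]
  have hm : ∀ {g}, g ∈ ({X100, Y100, Z100} : Set (Equiv.Perm (Fin 100))) → g ∈ rep100.range :=
    fun hg => hr ▸ Subgroup.subset_closure hg
  have h := chainCheck_sound P100.tab P100.chain_ok rep100.range
    (fun lv _ g _ => word_mem (n := 100) (cols := P100.cols)
      (show permCheck 5 100 [1, 0, 3, 2, 4] P100.cols P1408.rels = true from P100.perm_ok)
      (hm (Or.inl rfl)) (hm (Or.inr (Or.inl rfl))) (hm (Or.inr (Or.inr rfl))) g)
  rwa [P100.chain_prod] at h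

theorem rep100_x2 : rep100 (gx ^ 2) = 1 := by
  rw [map_pow, rep100, lift_gx]
  have hx : fixAll ([0, 0].map fun l => P100.cols.getD l 0) 100 = true := by decide +kernel
  rw [← inv_eq_one]
  have h2 : X100 ^ 2 = evalW (sig P100.tab) [0, 0] := by simp [X100, evalW, pow_two]
  rw [h2]
  apply Equiv.ext; intro i
  apply Fin.ext
  rw [sig_walk _ _ (by simp) i, ← walkC_map, fixAll_sound hx _ i.isLt]
  rfl

end Cfsg.Agent.H67.HN
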