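import Cfsg.Agent.H67.HN.T1Check0
import Cfsg.Agent.H67.HN.T1Check1

/-!
The certificate is closed.
-/

set_option autoImplicit false

namespace Cfsg.Agent.H67.HN.T1

theorem factsAll : RangeOK cert 0 fin.N := (part0).append part1

theorem tab0 : TabRangeOK cert fin 0 256 :=
  tabOK_sound (n := 256) (by decide +kernel) (by decide)

theorem tab256 : TabRangeOK cert fin 256 512 :=
  tabOK_sound (n := 256) (by decide +kernel) (by decide)

theorem tab512 : TabRangeOK cert fin 512 768 :=
  tabOK_sound (n := 256) (by decide +kernel) (by decide)

theorem tab768 : TabRangeOK cert fin 768 1024 :=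
  tabOK_sound (n := 256) (by decide +kernel) (by decide)

theorem tab1024 : TabRangeOK cert fin 1024 1280 :=
  tabOK_sound (n := 256) (by decide +kernel) (by decide)

theorem tab1280 : TabRangeOK cert fin 1280 1408 :=
  tabOK_sound (n := 128) (by decide +kernel) (by decide)

theorem closed : Closed cert fin :=
  ⟨by decide, by decide +kernel, factsAll, (((((tab0).append tab256).append tab512).append tab768).append tab1024).append tab1280⟩

end Cfsg.Agent.H67.HN.T1
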