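import Cfsg.Agent.H67.HN.T2Data

/-!
Kernel check of the facts 9000 to 18000.
-/

set_option autoImplicit false

namespace Cfsg.Agent.H67.HN.T2


theorem facts9000 : RangeOK cert 9000 9256 :=
  blockOK_sound (n := 256) (by decide +kernel) (by decide)

theorem facts9256 : RangeOK cert 9256 9512 :=
  blockOK_sound (n := 256) (by decide +kernel) (by decide)

theorem facts9512 : RangeOK cert 9512 9768 :=
  blockOK_sound (n := 256) (by decide +kernel) (by decide)

theorem facts9768 : RangeOK cert 9768 10024 :=
  blockOK_sound (n := 256) (by decide +kernel) (by decide)

theorem facts10024 : RangeOK cert 10024 10280 :=
  blockOK_sound (n := 256) (by decide +kernel) (by decide)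

theorem facts10280 : RangeOK cert 10280 10536 :=
  blockOK_sound (n := 256) (by decide +kernel) (by decide)

theorem facts10536 : RangeOK cert 10536 10792 :=
  blockOK_sound (n := 256) (by decide +kernel) (by decide)

theorem facts10792 : RangeOK cert 10792 11048 :=
  blockOK_sound (n := 256) (by decide +kernel) (by decide)

theorem facts11048 : RangeOK cert 11048 11304 :=
  blockOK_sound (n := 256) (by decide +kernel) (by decide)

theorem facts11304 : RangeOK cert 11304 11560 :=
  blockOK_sound (n := 256) (by decide +kernel) (by decide)

theorem facts11560 : RangeOK cert 11560 11816 :=
  blockOK_sound (n := 256) (by decide +kernel) (by decide)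

theorem facts11816 : RangeOK cert 11816 12072 :=
  blockOK_sound (n := 256) (by decide +kernel) (by decide)

theorem facts12072 : RangeOK cert 12072 12328 :=
  blockOK_sound (n := 256) (by decide +kernel) (by decide)

theorem facts12328 : RangeOK cert 12328 12584 :=
  blockOK_sound (n := 256) (by decide +kernel) (by decide)

theorem facts12584 : RangeOK cert 12584 12840 :=
  blockOK_sound (n := 256) (by decide +kernel) (by decide)

theorem facts12840 : RangeOK cert 12840 13096 :=
  blockOK_sound (n := 256) (by decide +kernel) (by decide)

theorem facts13096 : RangeOK cert 13096 13352 :=
  blockOK_sound (n := 256) (by decide +kernel) (by decide)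

theorem facts13352 : RangeOK cert 13352 13608 :=
  blockOK_sound (n := 256) (by decide +kernel) (by decide)

theorem facts13608 : RangeOK cert 13608 13864 :=
  blockOK_sound (n := 256) (by decide +kernel) (by decide)

theorem facts13864 : RangeOK cert 13864 14120 :=
  blockOK_sound (n := 256) (by decide +kernel) (by decide)

theorem facts14120 : RangeOK cert 14120 14376 :=
  blockOK_sound (n := 256) (by decide +kernel) (by decide)

theorem facts14376 : RangeOK cert 14376 14632 :=
  blockOK_sound (n := 256) (by decide +kernel) (by decide)

theorem facts14632 : RangeOK cert 14632 14888 :=
  blockOK_sound (n := 256) (by decide +kernel) (by decide)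

theorem facts14888 : RangeOK cert 14888 15144 :=
  blockOK_sound (n := 256) (by decide +kernel) (by decide)

theorem facts15144 : RangeOK cert 15144 15400 :=
  blockOK_sound (n := 256) (by decide +kernel) (by decide)

theorem facts15400 : RangeOK cert 15400 15656 :=
  blockOK_sound (n := 256) (by decide +kernel) (by decide)

theorem facts15656 : RangeOK cert 15656 15912 :=
  blockOK_sound (n := 256) (by decide +kernel) (by decide)

theorem facts15912 : RangeOK cert 15912 16168 :=
  blockOK_sound (n := 256) (by decide +kernel) (by decide)

theorem facts16168 : RangeOK cert 16168 16424 :=
  blockOK_sound (n := 256) (by decide +kernel) (by decide)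

theorem facts16424 : RangeOK cert 16424 16680 :=
  blockOK_sound (n := 256) (by decide +kernel) (by decide)

theorem facts16680 : RangeOK cert 16680 16936 :=
  blockOK_sound (n := 256) (by decide +kernel) (by decide)

theorem facts16936 : RangeOK cert 16936 17192 :=
  blockOK_sound (n := 256) (by decide +kernel) (by decide)

theorem facts17192 : RangeOK cert 17192 17448 :=
  blockOK_sound (n := 256) (by decide +kernel) (by decide)

theorem facts17448 : RangeOK cert 17448 17704 :=
  blockOK_sound (n := 256) (by decide +kernel) (by decide)

theorem facts17704 : RangeOK cert 17704 17960 :=
  blockOK_sound (n := 256) (by decide +kernel) (by decide)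

theorem facts17960 : RangeOK cert 17960 18000 :=
  blockOK_sound (n := 40) (by decide +kernel) (by decide)

theorem part1 : RangeOK cert 9000 18000 := ((((((((((((((((((((((((((((((((((facts9000.append facts9256).append facts9512).append facts9768).append facts10024).append facts10280).append facts10536).append facts10792).append facts11048).append facts11304).append facts11560).append facts11816).append facts12072).append facts12328).append facts12584).append facts12840).append facts13096).append facts13352).append facts13608).append facts13864).append facts14120).append facts14376).append facts14632).append facts14888).append facts15144).append facts15400).append facts15656).append facts15912).append facts16168).append facts16424).append facts16680).append facts16936).append facts17192).append facts17448).append facts17704).append facts17960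

end Cfsg.Agent.H67.HN.T2
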