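import Cfsg.Agent.H67.HN.T2Data

/-!
Kernel check of the facts 18000 to 27000.
-/

set_option autoImplicit false

namespace Cfsg.Agent.H67.HN.T2


theorem facts18000 : RangeOK cert 18000 18256 :=
  blockOK_sound (n := 256) (by decide +kernel) (by decide)

theorem facts18256 : RangeOK cert 18256 18512 :=
  blockOK_sound (n := 256) (by decide +kernel) (by decide)

theorem facts18512 : RangeOK cert 18512 18768 :=
  blockOK_sound (n := 256) (by decide +kernel) (by decide)

theorem facts18768 : RangeOK cert 18768 19024 :=
  blockOK_sound (n := 256) (by decide +kernel) (by decide)

theorem facts19024 : RangeOK cert 19024 19280 :=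
  blockOK_sound (n := 256) (by decide +kernel) (by decide)

theorem facts19280 : RangeOK cert 19280 19536 :=
  blockOK_sound (n := 256) (by decide +kernel) (by decide)

theorem facts19536 : RangeOK cert 19536 19792 :=
  blockOK_sound (n := 256) (by decide +kernel) (by decide)

theorem facts19792 : RangeOK cert 19792 20048 :=
  blockOK_sound (n := 256) (by decide +kernel) (by decide)

theorem facts20048 : RangeOK cert 20048 20304 :=
  blockOK_sound (n := 256) (by decide +kernel) (by decide)

theorem facts20304 : RangeOK cert 20304 20560 :=
  blockOK_sound (n := 256) (by decide +kernel) (by decide)

theorem facts20560 : RangeOK cert 20560 20816 :=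
  blockOK_sound (n := 256) (by decide +kernel) (by decide)

theorem facts20816 : RangeOK cert 20816 21072 :=
  blockOK_sound (n := 256) (by decide +kernel) (by decide)

theorem facts21072 : RangeOK cert 21072 21328 :=
  blockOK_sound (n := 256) (by decide +kernel) (by decide)

theorem facts21328 : RangeOK cert 21328 21584 :=
  blockOK_sound (n := 256) (by decide +kernel) (by decide)

theorem facts21584 : RangeOK cert 21584 21840 :=
  blockOK_sound (n := 256) (by decide +kernel) (by decide)

theorem facts21840 : RangeOK cert 21840 22096 :=
  blockOK_sound (n := 256) (by decide +kernel) (by decide)

theorem facts22096 : RangeOK cert 22096 22352 :=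
  blockOK_sound (n := 256) (by decide +kernel) (by decide)

theorem facts22352 : RangeOK cert 22352 22608 :=
  blockOK_sound (n := 256) (by decide +kernel) (by decide)

theorem facts22608 : RangeOK cert 22608 22864 :=
  blockOK_sound (n := 256) (by decide +kernel) (by decide)

theorem facts22864 : RangeOK cert 22864 23120 :=
  blockOK_sound (n := 256) (by decide +kernel) (by decide)

theorem facts23120 : RangeOK cert 23120 23376 :=
  blockOK_sound (n := 256) (by decide +kernel) (by decide)

theorem facts23376 : RangeOK cert 23376 23632 :=
  blockOK_sound (n := 256) (by decide +kernel) (by decide)

theorem facts23632 : RangeOK cert 23632 23888 :=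
  blockOK_sound (n := 256) (by decide +kernel) (by decide)

theorem facts23888 : RangeOK cert 23888 24144 :=
  blockOK_sound (n := 256) (by decide +kernel) (by decide)

theorem facts24144 : RangeOK cert 24144 24400 :=
  blockOK_sound (n := 256) (by decide +kernel) (by decide)

theorem facts24400 : RangeOK cert 24400 24656 :=
  blockOK_sound (n := 256) (by decide +kernel) (by decide)

theorem facts24656 : RangeOK cert 24656 24912 :=
  blockOK_sound (n := 256) (by decide +kernel) (by decide)

theorem facts24912 : RangeOK cert 24912 25168 :=
  blockOK_sound (n := 256) (by decide +kernel) (by decide)

theorem facts25168 : RangeOK cert 25168 25424 :=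
  blockOK_sound (n := 256) (by decide +kernel) (by decide)

theorem facts25424 : RangeOK cert 25424 25680 :=
  blockOK_sound (n := 256) (by decide +kernel) (by decide)

theorem facts25680 : RangeOK cert 25680 25936 :=
  blockOK_sound (n := 256) (by decide +kernel) (by decide)

theorem facts25936 : RangeOK cert 25936 26192 :=
  blockOK_sound (n := 256) (by decide +kernel) (by decide)

theorem facts26192 : RangeOK cert 26192 26448 :=
  blockOK_sound (n := 256) (by decide +kernel) (by decide)

theorem facts26448 : RangeOK cert 26448 26704 :=
  blockOK_sound (n := 256) (by decide +kernel) (by decide)

theorem facts26704 : RangeOK cert 26704 26960 :=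
  blockOK_sound (n := 256) (by decide +kernel) (by decide)

theorem facts26960 : RangeOK cert 26960 27000 :=
  blockOK_sound (n := 40) (by decide +kernel) (by decide)

theorem part2 : RangeOK cert 18000 27000 := ((((((((((((((((((((((((((((((((((facts18000.append facts18256).append facts18512).append facts18768).append facts19024).append facts19280).append facts19536).append facts19792).append facts20048).append facts20304).append facts20560).append facts20816).append facts21072).append facts21328).append facts21584).append facts21840).append facts22096).append facts22352).append facts22608).append facts22864).append facts23120).append facts23376).append facts23632).append facts23888).append facts24144).append facts24400).append facts24656).append facts24912).append facts25168).append facts25424).append facts25680).append facts25936).append facts26192).append facts26448).append facts26704).append facts26960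

end Cfsg.Agent.H67.HN.T2
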