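import Cfsg.Agent.H67.HN.T2Data

/-!
Kernel check of the facts 27000 to 33877.
-/

set_option autoImplicit false

namespace Cfsg.Agent.H67.HN.T2


theorem facts27000 : RangeOK cert 27000 27256 :=
  blockOK_sound (n := 256) (by decide +kernel) (by decide)

theorem facts27256 : RangeOK cert 27256 27512 :=
  blockOK_sound (n := 256) (by decide +kernel) (by decide)

theorem facts27512 : RangeOK cert 27512 27768 :=
  blockOK_sound (n := 256) (by decide +kernel) (by decide)

theorem facts27768 : RangeOK cert 27768 28024 :=
  blockOK_sound (n := 256) (by decide +kernel) (by decide)

theorem facts28024 : RangeOK cert 28024 28280 :=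
  blockOK_sound (n := 256) (by decide +kernel) (by decide)

theorem facts28280 : RangeOK cert 28280 28536 :=
  blockOK_sound (n := 256) (by decide +kernel) (by decide)

theorem facts28536 : RangeOK cert 28536 28792 :=
  blockOK_sound (n := 256) (by decide +kernel) (by decide)

theorem facts28792 : RangeOK cert 28792 29048 :=
  blockOK_sound (n := 256) (by decide +kernel) (by decide)

theorem facts29048 : RangeOK cert 29048 29304 :=
  blockOK_sound (n := 256) (by decide +kernel) (by decide)

theorem facts29304 : RangeOK cert 29304 29560 :=
  blockOK_sound (n := 256) (by decide +kernel) (by decide)

theorem facts29560 : RangeOK cert 29560 29816 :=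
  blockOK_sound (n := 256) (by decide +kernel) (by decide)

theorem facts29816 : RangeOK cert 29816 30072 :=
  blockOK_sound (n := 256) (by decide +kernel) (by decide)

theorem facts30072 : RangeOK cert 30072 30328 :=
  blockOK_sound (n := 256) (by decide +kernel) (by decide)

theorem facts30328 : RangeOK cert 30328 30584 :=
  blockOK_sound (n := 256) (by decide +kernel) (by decide)

theorem facts30584 : RangeOK cert 30584 30840 :=
  blockOK_sound (n := 256) (by decide +kernel) (by decide)

theorem facts30840 : RangeOK cert 30840 31096 :=
  blockOK_sound (n := 256) (by decide +kernel) (by decide)

theorem facts31096 : RangeOK cert 31096 31352 :=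
  blockOK_sound (n := 256) (by decide +kernel) (by decide)

theorem facts31352 : RangeOK cert 31352 31608 :=
  blockOK_sound (n := 256) (by decide +kernel) (by decide)

theorem facts31608 : RangeOK cert 31608 31864 :=
  blockOK_sound (n := 256) (by decide +kernel) (by decide)

theorem facts31864 : RangeOK cert 31864 32120 :=
  blockOK_sound (n := 256) (by decide +kernel) (by decide)

theorem facts32120 : RangeOK cert 32120 32376 :=
  blockOK_sound (n := 256) (by decide +kernel) (by decide)

theorem facts32376 : RangeOK cert 32376 32632 :=
  blockOK_sound (n := 256) (by decide +kernel) (by decide)

theorem facts32632 : RangeOK cert 32632 32888 :=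
  blockOK_sound (n := 256) (by decide +kernel) (by decide)

theorem facts32888 : RangeOK cert 32888 33144 :=
  blockOK_sound (n := 256) (by decide +kernel) (by decide)

theorem facts33144 : RangeOK cert 33144 33400 :=
  blockOK_sound (n := 256) (by decide +kernel) (by decide)

theorem facts33400 : RangeOK cert 33400 33656 :=
  blockOK_sound (n := 256) (by decide +kernel) (by decide)

theorem facts33656 : RangeOK cert 33656 33877 :=
  blockOK_sound (n := 221) (by decide +kernel) (by decide)

theorem part3 : RangeOK cert 27000 33877 := (((((((((((((((((((((((((facts27000.append facts27256).append facts27512).append facts27768).append facts28024).append facts28280).append facts28536).append facts28792).append facts29048).append facts29304).append facts29560).append facts29816).append facts30072).append facts30328).append facts30584).append facts30840).append facts31096).append facts31352).append facts31608).append facts31864).append facts32120).append facts32376).append facts32632).append facts32888).append facts33144).append facts33400).append facts33656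

end Cfsg.Agent.H67.HN.T2
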