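import Cfsg.Agent.H67.HN.T2Check0
import Cfsg.Agent.H67.HN.T2Check1
import Cfsg.Agent.H67.HN.T2Check2
import Cfsg.Agent.H67.HN.T2Check3

/-!
The certificate is closed.
-/

set_option autoImplicit false

namespace Cfsg.Agent.H67.HN.T2

theorem factsAll : RangeOK cert 0 fin.N := (((part0).append part1).append part2).append part3

theorem tab0 : TabRangeOK cert fin 0 256 :=
  tabOK_sound (n := 256) (by decide +kernel) (by decide)

theorem tab256 : TabRangeOK cert fin 256 512 :=
  tabOK_sound (n := 256) (by decide +kernel) (by decide)

theorem tab512 : TabRangeOK cert fin 512 768 :=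
  tabOK_sound (n := 256) (by decide +kernel) (by decide)

theorem tab768 : TabRangeOK cert fin 768 1024 :=
  tabOK_sound (n := 256) (by decide +kernel) (by decide)

theorem tab1024 : TabRangeOK cert fin 1024 1280 :=
  tabOK_sound (n := 256) (by decide +kernel) (by decide)

theorem tab1280 : TabRangeOK cert fin 1280 1536 :=
  tabOK_sound (n := 256) (by decide +kernel) (by decide)

theorem tab1536 : TabRangeOK cert fin 1536 1792 :=
  tabOK_sound (n := 256) (by decide +kernel) (by decide)

theorem tab1792 : TabRangeOK cert fin 1792 2048 :=
  tabOK_sound (n := 256) (by decide +kernel) (by decide)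

theorem tab2048 : TabRangeOK cert fin 2048 2304 :=
  tabOK_sound (n := 256) (by decide +kernel) (by decide)

theorem tab2304 : TabRangeOK cert fin 2304 2560 :=
  tabOK_sound (n := 256) (by decide +kernel) (by decide)

theorem tab2560 : TabRangeOK cert fin 2560 2816 :=
  tabOK_sound (n := 256) (by decide +kernel) (by decide)

theorem tab2816 : TabRangeOK cert fin 2816 3072 :=
  tabOK_sound (n := 256) (by decide +kernel) (by decide)

theorem tab3072 : TabRangeOK cert fin 3072 3328 :=
  tabOK_sound (n := 256) (by decide +kernel) (by decide)

theorem tab3328 : TabRangeOK cert fin 3328 3584 :=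
  tabOK_sound (n := 256) (by decide +kernel) (by decide)

theorem tab3584 : TabRangeOK cert fin 3584 3840 :=
  tabOK_sound (n := 256) (by decide +kernel) (by decide)

theorem tab3840 : TabRangeOK cert fin 3840 4096 :=
  tabOK_sound (n := 256) (by decide +kernel) (by decide)

theorem tab4096 : TabRangeOK cert fin 4096 4352 :=
  tabOK_sound (n := 256) (by decide +kernel) (by decide)

theorem tab4352 : TabRangeOK cert fin 4352 4608 :=
  tabOK_sound (n := 256) (by decide +kernel) (by decide)

theorem tab4608 : TabRangeOK cert fin 4608 4864 :=
  tabOK_sound (n := 256) (by decide +kernel) (by decide)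

theorem tab4864 : TabRangeOK cert fin 4864 5120 :=
  tabOK_sound (n := 256) (by decide +kernel) (by decide)

theorem tab5120 : TabRangeOK cert fin 5120 5376 :=
  tabOK_sound (n := 256) (by decide +kernel) (by decide)

theorem tab5376 : TabRangeOK cert fin 5376 5632 :=
  tabOK_sound (n := 256) (by decide +kernel) (by decide)

theorem tab5632 : TabRangeOK cert fin 5632 5888 :=
  tabOK_sound (n := 256) (by decide +kernel) (by decide)

theorem tab5888 : TabRangeOK cert fin 5888 6144 :=
  tabOK_sound (n := 256) (by decide +kernel) (by decide)

theorem tab6144 : TabRangeOK cert fin 6144 6400 :=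
  tabOK_sound (n := 256) (by decide +kernel) (by decide)

theorem tab6400 : TabRangeOK cert fin 6400 6656 :=
  tabOK_sound (n := 256) (by decide +kernel) (by decide)

theorem tab6656 : TabRangeOK cert fin 6656 6912 :=
  tabOK_sound (n := 256) (by decide +kernel) (by decide)

theorem tab6912 : TabRangeOK cert fin 6912 7168 :=
  tabOK_sound (n := 256) (by decide +kernel) (by decide)

theorem tab7168 : TabRangeOK cert fin 7168 7424 :=
  tabOK_sound (n := 256) (by decide +kernel) (by decide)

theorem tab7424 : TabRangeOK cert fin 7424 7680 :=
  tabOK_sound (n := 256) (by decide +kernel) (by decide)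

theorem tab7680 : TabRangeOK cert fin 7680 7936 :=
  tabOK_sound (n := 256) (by decide +kernel) (by decide)

theorem tab7936 : TabRangeOK cert fin 7936 8192 :=
  tabOK_sound (n := 256) (by decide +kernel) (by decide)

theorem tab8192 : TabRangeOK cert fin 8192 8448 :=
  tabOK_sound (n := 256) (by decide +kernel) (by decide)

theorem tab8448 : TabRangeOK cert fin 8448 8704 :=
  tabOK_sound (n := 256) (by decide +kernel) (by decide)

theorem tab8704 : TabRangeOK cert fin 8704 8960 :=
  tabOK_sound (n := 256) (by decide +kernel) (by decide)

theorem tab8960 : TabRangeOK cert fin 8960 9216 :=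
  tabOK_sound (n := 256) (by decide +kernel) (by decide)

theorem tab9216 : TabRangeOK cert fin 9216 9472 :=
  tabOK_sound (n := 256) (by decide +kernel) (by decide)

theorem tab9472 : TabRangeOK cert fin 9472 9728 :=
  tabOK_sound (n := 256) (by decide +kernel) (by decide)

theorem tab9728 : TabRangeOK cert fin 9728 9984 :=
  tabOK_sound (n := 256) (by decide +kernel) (by decide)

theorem tab9984 : TabRangeOK cert fin 9984 10240 :=
  tabOK_sound (n := 256) (by decide +kernel) (by decide)

theorem tab10240 : TabRangeOK cert fin 10240 10496 :=
  tabOK_sound (n := 256) (by decide +kernel) (by decide)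

theorem tab10496 : TabRangeOK cert fin 10496 10752 :=
  tabOK_sound (n := 256) (by decide +kernel) (by decide)

theorem tab10752 : TabRangeOK cert fin 10752 11008 :=
  tabOK_sound (n := 256) (by decide +kernel) (by decide)

theorem tab11008 : TabRangeOK cert fin 11008 11264 :=
  tabOK_sound (n := 256) (by decide +kernel) (by decide)

theorem tab11264 : TabRangeOK cert fin 11264 11520 :=
  tabOK_sound (n := 256) (by decide +kernel) (by decide)

theorem tab11520 : TabRangeOK cert fin 11520 11776 :=
  tabOK_sound (n := 256) (by decide +kernel) (by decide)

theorem tab11776 : TabRangeOK cert fin 11776 12032 :=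
  tabOK_sound (n := 256) (by decide +kernel) (by decide)

theorem tab12032 : TabRangeOK cert fin 12032 12288 :=
  tabOK_sound (n := 256) (by decide +kernel) (by decide)

theorem tab12288 : TabRangeOK cert fin 12288 12544 :=
  tabOK_sound (n := 256) (by decide +kernel) (by decide)

theorem tab12544 : TabRangeOK cert fin 12544 12800 :=
  tabOK_sound (n := 256) (by decide +kernel) (by decide)

theorem tab12800 : TabRangeOK cert fin 12800 13056 :=
  tabOK_sound (n := 256) (by decide +kernel) (by decide)

theorem tab13056 : TabRangeOK cert fin 13056 13312 :=
  tabOK_sound (n := 256) (by decide +kernel) (by decide)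

theorem tab13312 : TabRangeOK cert fin 13312 13500 :=
  tabOK_sound (n := 188) (by decide +kernel) (by decide)

theorem closed : Closed cert fin :=
  ⟨by decide, by decide +kernel, factsAll, ((((((((((((((((((((((((((((((((((((((((((((((((((((tab0).append tab256).append tab512).append tab768).append tab1024).append tab1280).append tab1536).append tab1792).append tab2048).append tab2304).append tab2560).append tab2816).append tab3072).append tab3328).append tab3584).append tab3840).append tab4096).append tab4352).append tab4608).append tab4864).append tab5120).append tab5376).append tab5632).append tab5888).append tab6144).append tab6400).append tab6656).append tab6912).append tab7168).append tab7424).append tab7680).append tab7936).append tab8192).append tab8448).append tab8704).append tab8960).append tab9216).append tab9472).append tab9728).append tab9984).append tab10240).append tab10496).append tab10752).append tab11008).append tab11264).append tab11520).append tab11776).append tab12032).append tab12288).append tab12544).append tab12800).append tab13056).append tab13312⟩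

end Cfsg.Agent.H67.HN.T2
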