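import Cfsg.Agent.H67.HN.T3Check0

/-!
The certificate is closed.
-/

set_option autoImplicit false

namespace Cfsg.Agent.H67.HN.T3

theorem factsAll : RangeOK cert 0 fin.N := part0

theorem tab0 : TabRangeOK cert fin 0 168 :=
  tabOK_sound (n := 168) (by decide +kernel) (by decide)

theorem closed : Closed cert fin :=
  ⟨by decide, by decide +kernel, factsAll, tab0⟩

end Cfsg.Agent.H67.HN.T3
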