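import Cfsg.Agent.H67.HN.Rot
import Cfsg.Agent.H67.HN.T1OK
import Cfsg.Agent.H67.HN.T2OK
import Cfsg.Agent.H67.HN.T3OK

/-!
The ten relations of HN on `x, y, z` bound the order of the group they generate by `532224000`.
-/

set_option autoImplicit false

namespace Cfsg.Agent.H67.HN

/-- the relations of HN in the generators `x, y, z` -/
structure Rels {G : Type*} [Group G] (x y z : G) : Prop where
  y6 : y ^ 6 = 1
  xy : x ^ 2 * y * x ^ 2 * y⁻¹ = 1
  comm : (x⁻¹ * y⁻¹ * x * y) ^ 3 = 1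
  d : (x⁻¹ * y ^ 2 * x * y ^ 3) ^ 3 = 1
  xy8 : (x * y) ^ 8 = 1
  e : (x * y * x * y ^ 3) ^ 4 = 1
  z2 : z ^ 2 = 1
  zx : (z * x) ^ 2 = 1
  i : (z⁻¹ * (y * x * y * x * y ^ 2 * x * y⁻¹)⁻¹ * z * (y * x * y * x * y ^ 2 * x * y⁻¹)) *
    (x ^ 2)⁻¹ = 1
  j : z * (((y ^ 3 * x * y * x * y)⁻¹ * z * (y ^ 3 * x * y * x * y)) * x) ^ 3 = 1

variable {G : Type*} [Group G] {x y z : G}

theorem Rels.map {H : Type*} [Group H] (f : G →* H) (h : Rels x y z) :
    Rels (f x) (f y) (f z) := by
  constructor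
  · rw [← map_pow, h.y6, map_one]
  · simpa using congrArg f h.xy
  · simpa using congrArg f h.comm
  · simpa using congrArg f h.d
  · simpa using congrArg f h.xy8
  · simpa using congrArg f h.e
  · simpa using congrArg f h.z2
  · simpa using congrArg f h.zx
  · simpa using congrArg f h.i
  · simpa using congrArg f h.j

theorem Rels.semiconj (h : Rels x y z) : SemiconjBy y (x ^ 2) (x ^ 2)⁻¹ := by
  have h1 : x ^ 2 * y * x ^ 2 = y := mul_inv_eq_one.mp h.xy
  show y * x ^ 2 = (x ^ 2)⁻¹ * y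
  conv_rhs => rw [← h1]
  group

/-- the fourth power of `x` is trivial -/
theorem Rels.x4 (h : Rels x y z) : x ^ 4 = 1 := by
  have hy := h.semiconj
  have hy' : SemiconjBy y (x ^ 2)⁻¹ (x ^ 2) := by simpa using hy.inv_right
  have hy2 : SemiconjBy (y ^ 2) (x ^ 2) (x ^ 2) := by
    rw [pow_two y]; exact hy'.mul_left hy
  have hy3 : SemiconjBy (y ^ 3) (x ^ 2) (x ^ 2)⁻¹ := by
    rw [pow_succ' y 2]; exact hy.mul_left hy2
  have hx : SemiconjBy x (x ^ 2)⁻¹ (x ^ 2)⁻¹ := ((Commute.refl x).pow_right 2).inv_right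
  have hp : SemiconjBy (x⁻¹ * y ^ 2 * x * y ^ 3) (x ^ 2) (x ^ 2)⁻¹ :=
    (((hx.inv_symm_left.mul_left hy2.inv_right).mul_left hx).mul_left hy3)
  have hp' : SemiconjBy (x⁻¹ * y ^ 2 * x * y ^ 3) (x ^ 2)⁻¹ (x ^ 2) := by
    simpa using hp.inv_right
  have h3 := (hp.mul_left hp').mul_left hp
  have he : x⁻¹ * y ^ 2 * x * y ^ 3 * (x⁻¹ * y ^ 2 * x * y ^ 3) * (x⁻¹ * y ^ 2 * x * y ^ 3) =
      1 := (pow_three' _).symm.trans h.d
  rw [he] at h3
  have h4 : x ^ 2 = (x ^ 2)⁻¹ := by simpa [SemiconjBy] using h3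
  rw [show 4 = 2 + 2 from rfl, pow_add]
  exact eq_inv_iff_mul_eq_one.mp h4

theorem Rels.zxz (h : Rels x y z) : z * x * z = x⁻¹ := by
  have := h.zx
  rw [pow_two, ← mul_assoc] at this
  exact eq_inv_of_mul_eq_one_left this

theorem Rels.x2inv (h : Rels x y z) : (x ^ 2)⁻¹ = x ^ 2 :=
  inv_eq_of_mul_eq_one_right (by rw [← pow_add]; exact h.x4)

/-- `x²` commutes with the three generators -/
theorem Rels.central (h : Rels x y z) {g : G} (hg : g ∈ Subgroup.closure ({x, y, z} : Set G)) :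
    Commute g (x ^ 2) := by
  have hz : Commute z (x ^ 2) := by
    have hsq : z * z = 1 := by rw [← pow_two]; exact h.z2
    have h1 : z * x ^ 2 * z = x ^ 2 := by
      calc z * x ^ 2 * z = (z * x * z) * (z * x * z) := by
            rw [pow_two]
            calc z * (x * x) * z = z * x * (z * z) * x * z := by rw [hsq]; group
              _ = (z * x * z) * (z * x * z) := by group
        _ = (x ^ 2)⁻¹ := by rw [h.zxz]; group
        _ = x ^ 2 := h.x2inv
    show z * x ^ 2 = x ^ 2 * z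
    calc z * x ^ 2 = z * x ^ 2 * (z * z) := by rw [hsq, mul_one]
      _ = (z * x ^ 2 * z) * z := by group
      _ = x ^ 2 * z := by rw [h1]
  have hle : Subgroup.closure ({x, y, z} : Set G) ≤ Subgroup.centralizer {x ^ 2} := by
    rw [Subgroup.closure_le]
    intro g hg
    rw [SetLike.mem_coe, Subgroup.mem_centralizer_singleton_iff]
    simp only [Set.mem_insert_iff, Set.mem_singleton_iff] at hg
    rcases hg with rfl | rfl | rfl
    · exact (Commute.refl g).pow_right 2
    · have := h.semiconj; rw [h.x2inv] at this; exact this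
    · exact hz
  exact Subgroup.mem_centralizer_singleton_iff.mp (hle hg)

section Involution

/-- letters x, y, y⁻¹, z -/
def e1 (x y z : G) (l : ℕ) : G := [x, y, y⁻¹, z].getD l 1

/-- letters a, a⁻¹, b, b⁻¹ -/
def e3 (a b : G) (l : ℕ) : G := [a, a⁻¹, b, b⁻¹].getD l 1

/-- relators in the letters of the first table -/
def R1 : List (List ℕ) :=
  [[1,1,1,1,1,1], [0,0,1,0,0,2], [0,2,0,1,0,2,0,1,0,2,0,1],
   [0,1,1,0,1,1,1,0,1,1,0,1,1,1,0,1,1,0,1,1,1], [0,1,0,1,0,1,0,1,0,1,0,1,0,1,0,1],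
   [0,1,0,1,1,1,0,1,0,1,1,1,0,1,0,1,1,1,0,1,0,1,1,1], [0,0], [3,3], [3,0,3,0],
   [3,1,0,2,2,0,2,0,2,3,1,0,1,0,1,1,0,2,0,0],
   [3,2,0,2,0,2,2,2,3,1,1,1,0,1,0,1,0,2,0,2,0,2,2,2,3,1,1,1,0,1,0,1,0,
    2,0,2,0,2,2,2,3,1,1,1,0,1,0,1,0]]

/-- relators in the letters of the second table -/
def R2 : List (List ℕ) := R1.take 7

/-- relators in the letters of the third table -/
def R3 : List (List ℕ) :=
  [[0,0,0,0], [2,2,2], [0,2,0,2,0,2,0,2], [0,3,0,3,0,3]]

theorem base1 : baseCheck T1.cert R1 = true := by decide +kernel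
theorem base2 : baseCheck T2.cert R2 = true := by decide +kernel
theorem base3 : baseCheck T3.cert R3 = true := by decide +kernel

variable (h : Rels x y z) (hx : x * x = 1)
include h hx

theorem R1_holds : ∀ r ∈ R1, evW (e1 x y z) r = 1 := by
  have hxi : x⁻¹ = x := inv_eq_of_mul_eq_one_right hx
  have hzi : z⁻¹ = z := inv_eq_of_mul_eq_one_right (by rw [← pow_two]; exact h.z2)
  intro r hr
  simp only [R1, List.mem_cons, List.not_mem_nil, or_false] at hr
  rcases hr with rfl | rfl | rfl | rfl | rfl | rfl | rfl | rfl | rfl | rfl | rfl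
  · simpa [evW, e1, pow_succ, mul_assoc] using h.y6
  · simpa [evW, e1, pow_succ, mul_assoc] using h.xy
  · simpa [evW, e1, pow_succ, mul_assoc, hxi] using h.comm
  · simpa [evW, e1, pow_succ, mul_assoc, hxi] using h.d
  · simpa [evW, e1, pow_succ, mul_assoc] using h.xy8
  · simpa [evW, e1, pow_succ, mul_assoc] using h.e
  · simpa [evW, e1] using hx
  · simpa [evW, e1, pow_succ, mul_assoc] using h.z2
  · simpa [evW, e1, pow_succ, mul_assoc] using h.zx
  · simpa [evW, e1, pow_succ, mul_assoc, hxi, hzi] using h.i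
  · simpa [evW, e1, pow_succ, mul_assoc, hxi] using h.j

theorem inv1 : ∀ l, l < 4 → T1.cert.inv l < 4 ∧ e1 x y z (T1.cert.inv l) = (e1 x y z l)⁻¹ := by
  have hxi : x⁻¹ = x := inv_eq_of_mul_eq_one_right hx
  have hzi : z⁻¹ = z := inv_eq_of_mul_eq_one_right (by rw [← pow_two]; exact h.z2)
  intro l hl
  interval_cases l <;> simp [T1.cert, Cert.inv, e1, hxi, hzi]

theorem inv2 : ∀ l, l < 3 → T2.cert.inv l < 3 ∧ e1 x y z (T2.cert.inv l) = (e1 x y z l)⁻¹ := by
  have hxi : x⁻¹ = x := inv_eq_of_mul_eq_one_right hx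
  intro l hl
  interval_cases l <;> simp [T2.cert, Cert.inv, e1, hxi]

theorem card_quotient_le :
    (Subgroup.closure ({x, y, z} : Set G) : Set G).Finite ∧
      Nat.card (Subgroup.closure ({x, y, z} : Set G)) ≤ 266112000 := by
  have hxi : x⁻¹ = x := inv_eq_of_mul_eq_one_right hx
  set a := x * y * x * y with ha
  set b := y * y with hb
  set A := Subgroup.zpowers a
  set S := Subgroup.closure ({a, b} : Set G)
  set N := Subgroup.closure ({x, y} : Set G)
  set K := Subgroup.closure ({x, y, z} : Set G)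
  have hxN : x ∈ N := Subgroup.subset_closure (by simp)
  have hyN : y ∈ N := Subgroup.subset_closure (by simp)
  have haS : a ∈ S := Subgroup.subset_closure (by simp)
  have hbS : b ∈ S := Subgroup.subset_closure (by simp)
  have hSN : S ≤ N := by
    rw [Subgroup.closure_le]
    simp only [Set.insert_subset_iff, Set.singleton_subset_iff, SetLike.mem_coe]
    exact ⟨N.mul_mem (N.mul_mem (N.mul_mem hxN hyN) hxN) hyN, N.mul_mem hyN hyN⟩
  have hNK : N ≤ K := Subgroup.closure_mono (by intro g hg; simp at hg ⊢; tauto)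
  have ha4 : a ^ 4 = 1 := by
    simpa [ha, pow_succ, mul_assoc] using h.xy8
  have hb3 : b * (b * b) = 1 := by
    simpa [hb, pow_succ, mul_assoc] using h.y6
  have hA : (A : Set G).Finite ∧ Nat.card A ≤ 4 := by
    have hfo : IsOfFinOrder a := isOfFinOrder_iff_pow_eq_one.mpr ⟨4, by norm_num, ha4⟩
    refine ⟨hfo.finite_zpowers, ?_⟩
    rw [Nat.card_zpowers]
    exact Nat.le_of_dvd (by norm_num) (orderOf_dvd_of_pow_eq_one ha4)
  have hR3 : ∀ r ∈ R3, evW (e3 a b) r = 1 := by
    intro r hr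
    simp only [R3, List.mem_cons, List.not_mem_nil, or_false] at hr
    rcases hr with rfl | rfl | rfl | rfl
    · simpa [evW, e3, pow_succ, mul_assoc] using ha4
    · simpa [evW, e3] using hb3
    · simpa [evW, e3, ha, hb, pow_succ, mul_assoc] using h.e
    · have h1 : ((x * y⁻¹ * x * y) ^ 3)⁻¹ = 1 := by
        rw [inv_eq_one]; simpa [hxi] using h.comm
      have h2 : y * ((x * y⁻¹ * x * y) ^ 3)⁻¹ * y⁻¹ = 1 := by rw [h1]; simp
      simpa [evW, e3, ha, hb, pow_succ, mul_assoc, hxi] using h2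
  have inv3 : ∀ l, l < 4 → T3.cert.inv l < 4 ∧ e3 a b (T3.cert.inv l) = (e3 a b l)⁻¹ := by
    intro l hl
    interval_cases l <;> simp [T3.cert, Cert.inv, e3]
  have h3 : Hyp T3.cert (e3 a b) A :=
    ⟨inv3, rel_of_base base3 inv3 hR3, by
      intro u hu
      simp only [T3.cert, T3.S, List.mem_cons, List.not_mem_nil, or_false] at hu
      rcases hu with rfl | rfl <;> simp [evW, e3, A]⟩
  have hS : (S : Set G).Finite ∧ Nat.card S ≤ 42 * Nat.card A := by
    refine T3.closed.card_le h3 ?_ ?_ (nodeW_mem ?_) hA.1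
    · rw [Subgroup.closure_le]
      simp only [Set.insert_subset_iff, Set.singleton_subset_iff, SetLike.mem_coe]
      exact ⟨Subgroup.subset_closure ⟨0, by decide, by simp [e3]⟩,
        Subgroup.subset_closure ⟨2, by decide, by simp [e3]⟩⟩
    · exact Subgroup.zpowers_le.mpr haS
    · intro l hl
      change l < 4 at hl
      interval_cases l <;> simp [e3, haS, hbS]
  have h2 : Hyp T2.cert (e1 x y z) S :=
    ⟨inv2 h hx, rel_of_base base2 (inv2 h hx) (fun r hr => R1_holds h hx r (List.mem_of_mem_take hr)),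
      by
      intro u hu
      simp only [T2.cert, T2.S, List.mem_cons, List.not_mem_nil, or_false] at hu
      rcases hu with rfl | rfl | rfl | rfl
      · simpa [evW, e1, ha, mul_assoc] using haS
      · simpa [evW, e1, ha, mul_assoc, hxi] using S.inv_mem haS
      · simpa [evW, e1, hb] using hbS
      · simpa [evW, e1, hb] using S.inv_mem hbS⟩
  have hN : (N : Set G).Finite ∧ Nat.card N ≤ 4500 * Nat.card S := by
    refine T2.closed.card_le h2 ?_ hSN (nodeW_mem ?_) hS.1
    · rw [Subgroup.closure_le]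
      simp only [Set.insert_subset_iff, Set.singleton_subset_iff, SetLike.mem_coe]
      exact ⟨Subgroup.subset_closure ⟨0, by decide, by simp [e1]⟩,
        Subgroup.subset_closure ⟨1, by decide, by simp [e1]⟩⟩
    · intro l hl
      change l < 3 at hl
      interval_cases l <;> simp [e1, hxN, hyN]
  have h1 : Hyp T1.cert (e1 x y z) N :=
    ⟨inv1 h hx, rel_of_base base1 (inv1 h hx) (R1_holds h hx), by
      intro u hu
      simp only [T1.cert, T1.S, List.mem_cons, List.not_mem_nil, or_false] at hu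
      rcases hu with rfl | rfl | rfl <;> simp [evW, e1, hxN, hyN]⟩
  have hK : (K : Set G).Finite ∧ Nat.card K ≤ 352 * Nat.card N := by
    refine T1.closed.card_le h1 ?_ hNK (nodeW_mem ?_) hN.1
    · rw [Subgroup.closure_le]
      simp only [Set.insert_subset_iff, Set.singleton_subset_iff, SetLike.mem_coe]
      exact ⟨Subgroup.subset_closure ⟨0, by decide, by simp [e1]⟩,
        Subgroup.subset_closure ⟨1, by decide, by simp [e1]⟩,
        Subgroup.subset_closure ⟨3, by decide, by simp [e1]⟩⟩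
    · have hzK : z ∈ K := Subgroup.subset_closure (by simp)
      intro l hl
      change l < 4 at hl
      interval_cases l <;> simp [e1, hNK hxN, hNK hyN, hzK]
  refine ⟨hK.1, ?_⟩
  have := hA.2; have := hS.2; have := hN.2; have := hK.2
  omega

end Involution

end Cfsg.Agent.H67.HN
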