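import Cfsg.Agent.H67.HN.Bound

/-!
Rotations and inverses of relators.
-/

set_option autoImplicit false

namespace Cfsg.Agent.H67.HN

variable {G : Type*} [Group G] {C : Cert} {e : ℕ → G}

/-- inverse of a word -/
def Cert.winv (C : Cert) (u : List ℕ) : List ℕ := (u.map C.inv).reverse

/-- every word of the certificate is a rotation of a relator or of an inverse of one, or cancels -/
def baseCheck (C : Cert) (R : List (List ℕ)) : Bool :=
  (R.all fun r => r.all fun l => decide (l < C.L)) &&
  C.W.all fun u =>
    (R.any fun r => (List.range (r.length + 1)).any fun k =>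
      u == r.rotate k || u == (C.winv r).rotate k) ||
      ((List.range C.L).any fun l => u == [l, C.inv l])

theorem evW_rotate {r : List ℕ} (h : evW e r = 1) (k : ℕ) : evW e (r.rotate k) = 1 := by
  rw [← List.rotate_mod, List.rotate_eq_drop_append_take_mod, Nat.mod_mod]
  generalize k % r.length = m
  rw [← List.take_append_drop m r, evW_append] at h
  rw [evW_append, eq_inv_of_mul_eq_one_left h]
  simp

theorem evW_winv (hinv : ∀ l, l < C.L → C.inv l < C.L ∧ e (C.inv l) = (e l)⁻¹) :
    ∀ r : List ℕ, (∀ l ∈ r, l < C.L) → evW e (C.winv r) = (evW e r)⁻¹ := by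
  intro r
  induction r with
  | nil => intro _; simp [Cert.winv, evW]
  | cons l r ih =>
    intro h
    have hl := hinv l (h l List.mem_cons_self)
    have := ih (fun m hm => h m (List.mem_cons_of_mem _ hm))
    simp only [Cert.winv, List.map_cons, List.reverse_cons] at this ⊢
    rw [evW_append, this, evW_cons l r, evW_cons, evW_nil, mul_one, hl.2, mul_inv_rev]

theorem rel_of_base {R : List (List ℕ)} (hc : baseCheck C R = true)
    (hinv : ∀ l, l < C.L → C.inv l < C.L ∧ e (C.inv l) = (e l)⁻¹)
    (hR : ∀ r ∈ R, evW e r = 1) : ∀ u ∈ C.W, evW e u = 1 := by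
  intro u hu
  simp only [baseCheck, Bool.and_eq_true, List.all_eq_true, Bool.or_eq_true, List.any_eq_true,
    beq_iff_eq, decide_eq_true_eq, List.mem_range] at hc
  rcases hc.2 u hu with ⟨r, hr, k, -, h | h⟩ | ⟨l, hl, rfl⟩
  · rw [h]; exact evW_rotate (hR r hr) k
  · rw [h]
    exact evW_rotate (by rw [evW_winv hinv r (hc.1 r hr), hR r hr, inv_one]) k
  · simp [evW_cons, evW_nil, (hinv l hl).2]

end Cfsg.Agent.H67.HN
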