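import Cfsg.Agent.H67.HN.Engine

/-!
Soundness of the derived-fact certificates: an upper bound for the order of a generated group.
-/

set_option autoImplicit false

namespace Cfsg.Agent.H67.HN

open Cfsg.Agent.H45 (force force_eq)

variable {G : Type*} [Group G] {C : Cert} {e : ℕ → G} {H : Subgroup G}

/-- value of a word -/
def evW (e : ℕ → G) (u : List ℕ) : G := (u.map e).prod

theorem evW_nil : evW e [] = 1 := rfl

theorem evW_cons (l : ℕ) (u : List ℕ) : evW e (l :: u) = e l * evW e u := by
  simp [evW]

theorem evW_append (u v : List ℕ) : evW e (u ++ v) = evW e u * evW e v := by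
  simp [evW]

/-- value of a letter, letters from `L` on standing for the empty word -/
def letv (C : Cert) (e : ℕ → G) (l : ℕ) : G := if l < C.L then e l else 1

/-- the node words, along the node table -/
noncomputable def nodeW (C : Cert) (e : ℕ → G) (i : ℕ) : G :=
  if _h : C.nd.get i / 16 < i then
    nodeW C e (C.nd.get i / 16) * letv C e (C.nd.get i % 16) else 1
termination_by i

theorem nodeW_zero : nodeW C e 0 = 1 := by
  rw [nodeW, dif_neg (by omega)]

/-- what the words must satisfy -/
structure Hyp (C : Cert) (e : ℕ → G) (H : Subgroup G) : Prop where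
  inv : ∀ l, l < C.L → C.inv l < C.L ∧ e (C.inv l) = (e l)⁻¹
  rel : ∀ u ∈ C.W, evW e u = 1
  sub : ∀ u ∈ C.S, evW e u ∈ H

/-- the meaning of a fact -/
def Rel (C : Cert) (e : ℕ → G) (H : Subgroup G) (v : ℕ) : Prop :=
  nodeW C e (fa v) * letv C e (fl v) * (nodeW C e (fb v))⁻¹ ∈ H

theorem evW_push (C : Cert) (l : ℕ) (acc : List ℕ) :
    evW e (push C l acc) = letv C e l * evW e acc := by
  unfold push letv
  cases h : Nat.blt l C.L with
  | true => rw [if_pos (Nat.blt_eq.mp h)]; exact evW_cons l acc
  | false =>
    have hn : ¬ l < C.L := fun h' => by rw [Nat.blt_eq.mpr h'] at h; exact Bool.noConfusion h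
    simp [if_neg hn]

theorem chain_sound (hD : Hyp C e H) {cur : ℕ} (hK : ∀ i, i < cur → Rel C e H (C.fct.get i)) :
    ∀ (n s pos : ℕ) (acc : List ℕ) (k : ℕ → ℕ → List ℕ → Bool) (x : G),
      x * (evW e acc)⁻¹ * (nodeW C e pos)⁻¹ ∈ H → chain C cur n s pos acc k = true →
      ∃ s' p acc', k s' p acc' = true ∧ x * (evW e acc')⁻¹ * (nodeW C e p)⁻¹ ∈ H := by
  intro n
  induction n with
  | zero => intro s pos acc k x hx h; exact ⟨s, pos, acc, h, hx⟩
  | succ n ih =>
    intro s pos acc k x hx h
    simp only [chain_succ, andB_eq, force_eq, Bool.and_eq_true, Nat.blt_eq] at h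
    obtain ⟨hi, h⟩ := h
    have hR := hK _ hi
    generalize C.fct.get (Nat.shiftRight (Nat.land s 65535) 1) = F at h hR
    unfold Rel at hR
    rw [ifB_eq] at h
    cases hd : Nat.beq (Nat.land (Nat.land s 65535) 1) 1 with
    | true =>
      rw [hd, cond_true, Bool.and_eq_true, Nat.beq_eq] at h
      obtain ⟨rfl, h⟩ := h
      refine ih _ _ _ k x ?_ h
      have h2 := H.mul_mem hx hR
      cases hl : Nat.blt (fl F) C.L with
      | true =>
        have hlt : fl F < C.L := Nat.blt_eq.mp hl
        simp only [letv, if_pos hlt] at h2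
        simpa [evW_cons, (hD.inv _ hlt).2, mul_assoc] using h2
      | false =>
        have hn : ¬ fl F < C.L := fun h' => by rw [Nat.blt_eq.mpr h'] at hl; exact Bool.noConfusion hl
        simp only [letv, if_neg hn] at h2
        simpa [mul_assoc] using h2
    | false =>
      rw [hd, cond_false, Bool.and_eq_true, Nat.beq_eq] at h
      obtain ⟨rfl, h⟩ := h
      refine ih _ _ _ k x ?_ h
      have h2 := H.mul_mem hx (H.inv_mem hR)
      cases hl : Nat.blt (fl F) C.L with
      | true =>
        have hlt : fl F < C.L := Nat.blt_eq.mp hl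
        simp only [letv, if_pos hlt] at h2
        simpa [evW_cons, mul_assoc] using h2
      | false =>
        have hn : ¬ fl F < C.L := fun h' => by rw [Nat.blt_eq.mpr h'] at hl; exact Bool.noConfusion hl
        simp only [letv, if_neg hn] at h2
        simpa [mul_assoc] using h2

theorem factOK_sound (hD : Hyp C e H) {f v : ℕ}
    (hK : ∀ i, i < f → Rel C e H (C.fct.get i)) (h : factOK C f v = true) : Rel C e H v := by
  simp only [factOK, force_eq, ifB_eq] at h
  unfold Rel
  have hl16 : fl v ≤ 15 := Nat.and_le_right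
  generalize fa v = a at h ⊢
  generalize fb v = b at h ⊢
  generalize fl v = l at h hl16 ⊢
  cases h0 : Nat.beq (fkind v) 0 with
  | true =>
    simp only [h0, cond_true, andB_eq, Bool.and_eq_true, Nat.blt_eq, Nat.beq_eq] at h
    obtain ⟨hab, -, hnd⟩ := h
    have hnd' : C.nd.get b = a * 16 + l := hnd
    have hd : C.nd.get b / 16 = a := by omega
    have hm : C.nd.get b % 16 = l := by omega
    conv => arg 2; arg 2; rw [nodeW, dif_pos (by omega), hd, hm]
    simp
  | false =>
    simp only [h0, cond_false] at h
    cases h1 : Nat.beq (fkind v) 1 with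
    | true =>
      simp only [h1, cond_true, andB_eq, Bool.and_eq_true, Nat.ble_eq] at h
      obtain ⟨hl, h⟩ := h
      obtain ⟨s', p, acc, hk, hmem⟩ := chain_sound hD hK _ _ a [] _ (nodeW C e a)
        (by simp [evW_nil, H.one_mem]) h
      rw [Bool.and_eq_true, Nat.beq_eq] at hk
      obtain ⟨rfl, hk⟩ := hk
      rcases acc with _ | ⟨x, _ | ⟨y, u⟩⟩
      · exact absurd hk (fun h' => Bool.noConfusion h')
      · exact absurd hk (fun h' => Bool.noConfusion h')
      simp only [Bool.and_eq_true, Nat.blt_eq] at hk
      obtain ⟨hu, hx, hy, hxy⟩ := hk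
      have hu' := leq_sound _ _ hu
      subst hu'
      have hone : e x * e y = 1 := by
        cases hb : Nat.beq y (C.inv x) with
        | true => rw [Nat.eq_of_beq_eq_true hb, (hD.inv x hx).2]; simp
        | false =>
          rw [hb] at hxy
          rw [Nat.eq_of_beq_eq_true hxy, (hD.inv y hy).2]; simp
      simpa [evW_cons, evW_nil, hone, letv, Nat.not_lt.mpr hl] using hmem
    | false =>
      simp only [h1, cond_false] at h
      cases h2 : Nat.beq (fkind v) 2 with
      | true =>
        simp only [h2, cond_true] at h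
        obtain ⟨s', p, acc, hk, hmem⟩ := chain_sound hD hK _ _ a [] _ (nodeW C e a)
          (by simp [evW_nil, H.one_mem]) h
        rw [andB_eq, Bool.and_eq_true, Nat.beq_eq] at hk
        obtain ⟨rfl, hk⟩ := hk
        have hk' := leq_sound _ _ hk
        have hone : letv C e l * evW e acc = 1 := by
          rw [← evW_push, hk']
          rcases nthL_mem C.W (fk v) with h3 | h3
          · rw [h3, evW_nil]
          · exact hD.rel _ h3
        rwa [eq_inv_of_mul_eq_one_left hone]
      | false =>
        simp only [h2, cond_false] at h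
        obtain ⟨s', p, acc, hk, hmem⟩ := chain_sound hD hK _ _ a [] _ (nodeW C e a)
          (by simp [evW_nil, H.one_mem]) h
        rw [andB_eq, Bool.and_eq_true, Nat.beq_eq] at hk
        obtain ⟨rfl, hk⟩ := hk
        obtain ⟨s'', q, acc', hk', hmem'⟩ := chain_sound hD hK _ _ 0 [] _ 1
          (by simp [evW_nil, nodeW_zero, H.one_mem]) hk
        rw [andB_eq, Bool.and_eq_true, Nat.beq_eq] at hk'
        obtain ⟨rfl, hk'⟩ := hk'
        have hk'' := leq_sound _ _ hk'
        have hmid : evW e acc * (letv C e l * evW e acc') ∈ H := by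
          rw [← evW_push, ← evW_append, hk'']
          rcases nthL_mem C.S (fk v) with h3 | h3
          · rw [h3, evW_nil]; exact H.one_mem
          · exact hD.sub _ h3
        have := H.mul_mem (H.mul_mem hmem hmid) hmem'
        simpa [nodeW_zero, mul_assoc] using this

theorem rel_of_checked (hD : Hyp C e H) {N : ℕ} (hC : RangeOK C 0 N) :
    ∀ i, i < N → Rel C e H (C.fct.get i) := by
  intro i
  induction i using Nat.strong_induction_on with
  | _ i ih =>
    intro hi
    exact factOK_sound hD (fun j hj => ih j hj (by omega)) (hC i (Nat.zero_le _) hi)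

end Cfsg.Agent.H67.HN
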