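import Cfsg.Agent.H67.HN.T1Data

/-!
Kernel check of the facts 0 to 9000.
-/

set_option autoImplicit false

namespace Cfsg.Agent.H67.HN.T1


theorem facts0 : RangeOK cert 0 256 :=
  blockOK_sound (n := 256) (by decide +kernel) (by decide)

theorem facts256 : RangeOK cert 256 512 :=
  blockOK_sound (n := 256) (by decide +kernel) (by decide)

theorem facts512 : RangeOK cert 512 768 :=
  blockOK_sound (n := 256) (by decide +kernel) (by decide)

theorem facts768 : RangeOK cert 768 1024 :=
  blockOK_sound (n := 256) (by decide +kernel) (by decide)

theorem facts1024 : RangeOK cert 1024 1280 :=
  blockOK_sound (n := 256) (by decide +kernel) (by decide)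

theorem facts1280 : RangeOK cert 1280 1536 :=
  blockOK_sound (n := 256) (by decide +kernel) (by decide)

theorem facts1536 : RangeOK cert 1536 1792 :=
  blockOK_sound (n := 256) (by decide +kernel) (by decide)

theorem facts1792 : RangeOK cert 1792 2048 :=
  blockOK_sound (n := 256) (by decide +kernel) (by decide)

theorem facts2048 : RangeOK cert 2048 2304 :=
  blockOK_sound (n := 256) (by decide +kernel) (by decide)

theorem facts2304 : RangeOK cert 2304 2560 :=
  blockOK_sound (n := 256) (by decide +kernel) (by decide)

theorem facts2560 : RangeOK cert 2560 2816 :=
  blockOK_sound (n := 256) (by decide +kernel) (by decide)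

theorem facts2816 : RangeOK cert 2816 3072 :=
  blockOK_sound (n := 256) (by decide +kernel) (by decide)

theorem facts3072 : RangeOK cert 3072 3328 :=
  blockOK_sound (n := 256) (by decide +kernel) (by decide)

theorem facts3328 : RangeOK cert 3328 3584 :=
  blockOK_sound (n := 256) (by decide +kernel) (by decide)

theorem facts3584 : RangeOK cert 3584 3840 :=
  blockOK_sound (n := 256) (by decide +kernel) (by decide)

theorem facts3840 : RangeOK cert 3840 4096 :=
  blockOK_sound (n := 256) (by decide +kernel) (by decide)

theorem facts4096 : RangeOK cert 4096 4352 :=
  blockOK_sound (n := 256) (by decide +kernel) (by decide)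

theorem facts4352 : RangeOK cert 4352 4608 :=
  blockOK_sound (n := 256) (by decide +kernel) (by decide)

theorem facts4608 : RangeOK cert 4608 4864 :=
  blockOK_sound (n := 256) (by decide +kernel) (by decide)

theorem facts4864 : RangeOK cert 4864 5120 :=
  blockOK_sound (n := 256) (by decide +kernel) (by decide)

theorem facts5120 : RangeOK cert 5120 5376 :=
  blockOK_sound (n := 256) (by decide +kernel) (by decide)

theorem facts5376 : RangeOK cert 5376 5632 :=
  blockOK_sound (n := 256) (by decide +kernel) (by decide)

theorem facts5632 : RangeOK cert 5632 5888 :=
  blockOK_sound (n := 256) (by decide +kernel) (by decide)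

theorem facts5888 : RangeOK cert 5888 6144 :=
  blockOK_sound (n := 256) (by decide +kernel) (by decide)

theorem facts6144 : RangeOK cert 6144 6400 :=
  blockOK_sound (n := 256) (by decide +kernel) (by decide)

theorem facts6400 : RangeOK cert 6400 6656 :=
  blockOK_sound (n := 256) (by decide +kernel) (by decide)

theorem facts6656 : RangeOK cert 6656 6912 :=
  blockOK_sound (n := 256) (by decide +kernel) (by decide)

theorem facts6912 : RangeOK cert 6912 7168 :=
  blockOK_sound (n := 256) (by decide +kernel) (by decide)

theorem facts7168 : RangeOK cert 7168 7424 :=
  blockOK_sound (n := 256) (by decide +kernel) (by decide)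

theorem facts7424 : RangeOK cert 7424 7680 :=
  blockOK_sound (n := 256) (by decide +kernel) (by decide)

theorem facts7680 : RangeOK cert 7680 7936 :=
  blockOK_sound (n := 256) (by decide +kernel) (by decide)

theorem facts7936 : RangeOK cert 7936 8192 :=
  blockOK_sound (n := 256) (by decide +kernel) (by decide)

theorem facts8192 : RangeOK cert 8192 8448 :=
  blockOK_sound (n := 256) (by decide +kernel) (by decide)

theorem facts8448 : RangeOK cert 8448 8704 :=
  blockOK_sound (n := 256) (by decide +kernel) (by decide)

theorem facts8704 : RangeOK cert 8704 8960 :=
  blockOK_sound (n := 256) (by decide +kernel) (by decide)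

theorem facts8960 : RangeOK cert 8960 9000 :=
  blockOK_sound (n := 40) (by decide +kernel) (by decide)

theorem part0 : RangeOK cert 0 9000 := ((((((((((((((((((((((((((((((((((facts0.append facts256).append facts512).append facts768).append facts1024).append facts1280).append facts1536).append facts1792).append facts2048).append facts2304).append facts2560).append facts2816).append facts3072).append facts3328).append facts3584).append facts3840).append facts4096).append facts4352).append facts4608).append facts4864).append facts5120).append facts5376).append facts5632).append facts5888).append facts6144).append facts6400).append facts6656).append facts6912).append facts7168).append facts7424).append facts7680).append facts7936).append facts8192).append facts8448).append facts8704).append facts8960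

end Cfsg.Agent.H67.HN.T1
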