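import Cfsg.Agent.H67.HN.T1Facts0
import Cfsg.Agent.H67.HN.T1Facts1
import Cfsg.Agent.H67.HN.Bound

/-!
Certificate data: x, y, z over the cosets of ⟨x, y⟩.
-/

set_option autoImplicit false

namespace Cfsg.Agent.H67.HN.T1


/-- relators, rotated -/
def W : List (List ℕ) := [[1,1,1,1,1,1],
  [2,2,2,2,2,2],
  [0,0,1,0,0,2],
  [0,1,0,0,2,0],
  [1,0,0,2,0,0],
  [0,0,2,0,0,1],
  [0,2,0,0,1,0],
  [2,0,0,1,0,0],
  [0,2,0,1,0,2,0,1,0,2,0,1],
  [2,0,1,0,2,0,1,0,2,0,1,0],
  [0,1,0,2,0,1,0,2,0,1,0,2],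
  [1,0,2,0,1,0,2,0,1,0,2,0],
  [0,1,1,0,1,1,1,0,1,1,0,1,1,1,0,1,1,0,1,1,1],
  [1,1,0,1,1,1,0,1,1,0,1,1,1,0,1,1,0,1,1,1,0],
  [1,0,1,1,1,0,1,1,0,1,1,1,0,1,1,0,1,1,1,0,1],
  [0,1,1,1,0,1,1,0,1,1,1,0,1,1,0,1,1,1,0,1,1],
  [1,1,1,0,1,1,0,1,1,1,0,1,1,0,1,1,1,0,1,1,0],
  [1,1,0,1,1,0,1,1,1,0,1,1,0,1,1,1,0,1,1,0,1],
  [1,0,1,1,0,1,1,1,0,1,1,0,1,1,1,0,1,1,0,1,1],
  [2,2,2,0,2,2,0,2,2,2,0,2,2,0,2,2,2,0,2,2,0],
  [2,2,0,2,2,0,2,2,2,0,2,2,0,2,2,2,0,2,2,0,2],
  [2,0,2,2,0,2,2,2,0,2,2,0,2,2,2,0,2,2,0,2,2],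
  [0,2,2,0,2,2,2,0,2,2,0,2,2,2,0,2,2,0,2,2,2],
  [2,2,0,2,2,2,0,2,2,0,2,2,2,0,2,2,0,2,2,2,0],
  [2,0,2,2,2,0,2,2,0,2,2,2,0,2,2,0,2,2,2,0,2],
  [0,2,2,2,0,2,2,0,2,2,2,0,2,2,0,2,2,2,0,2,2],
  [0,1,0,1,0,1,0,1,0,1,0,1,0,1,0,1],
  [1,0,1,0,1,0,1,0,1,0,1,0,1,0,1,0],
  [2,0,2,0,2,0,2,0,2,0,2,0,2,0,2,0],
  [0,2,0,2,0,2,0,2,0,2,0,2,0,2,0,2],
  [0,1,0,1,1,1,0,1,0,1,1,1,0,1,0,1,1,1,0,1,0,1,1,1],
  [1,0,1,1,1,0,1,0,1,1,1,0,1,0,1,1,1,0,1,0,1,1,1,0],
  [0,1,1,1,0,1,0,1,1,1,0,1,0,1,1,1,0,1,0,1,1,1,0,1],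
  [1,1,1,0,1,0,1,1,1,0,1,0,1,1,1,0,1,0,1,1,1,0,1,0],
  [1,1,0,1,0,1,1,1,0,1,0,1,1,1,0,1,0,1,1,1,0,1,0,1],
  [1,0,1,0,1,1,1,0,1,0,1,1,1,0,1,0,1,1,1,0,1,0,1,1],
  [2,2,2,0,2,0,2,2,2,0,2,0,2,2,2,0,2,0,2,2,2,0,2,0],
  [2,2,0,2,0,2,2,2,0,2,0,2,2,2,0,2,0,2,2,2,0,2,0,2],
  [2,0,2,0,2,2,2,0,2,0,2,2,2,0,2,0,2,2,2,0,2,0,2,2],
  [0,2,0,2,2,2,0,2,0,2,2,2,0,2,0,2,2,2,0,2,0,2,2,2],
  [2,0,2,2,2,0,2,0,2,2,2,0,2,0,2,2,2,0,2,0,2,2,2,0],
  [0,2,2,2,0,2,0,2,2,2,0,2,0,2,2,2,0,2,0,2,2,2,0,2],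
  [0,0],
  [3,3],
  [3,0,3,0],
  [0,3,0,3],
  [3,1,0,2,2,0,2,0,2,3,1,0,1,0,1,1,0,2,0,0],
  [1,0,2,2,0,2,0,2,3,1,0,1,0,1,1,0,2,0,0,3],
  [0,2,2,0,2,0,2,3,1,0,1,0,1,1,0,2,0,0,3,1],
  [2,2,0,2,0,2,3,1,0,1,0,1,1,0,2,0,0,3,1,0],
  [2,0,2,0,2,3,1,0,1,0,1,1,0,2,0,0,3,1,0,2],
  [0,2,0,2,3,1,0,1,0,1,1,0,2,0,0,3,1,0,2,2],
  [2,0,2,3,1,0,1,0,1,1,0,2,0,0,3,1,0,2,2,0],
  [0,2,3,1,0,1,0,1,1,0,2,0,0,3,1,0,2,2,0,2],
  [2,3,1,0,1,0,1,1,0,2,0,0,3,1,0,2,2,0,2,0],
  [3,1,0,1,0,1,1,0,2,0,0,3,1,0,2,2,0,2,0,2],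
  [1,0,1,0,1,1,0,2,0,0,3,1,0,2,2,0,2,0,2,3],
  [0,1,0,1,1,0,2,0,0,3,1,0,2,2,0,2,0,2,3,1],
  [1,0,1,1,0,2,0,0,3,1,0,2,2,0,2,0,2,3,1,0],
  [0,1,1,0,2,0,0,3,1,0,2,2,0,2,0,2,3,1,0,1],
  [1,1,0,2,0,0,3,1,0,2,2,0,2,0,2,3,1,0,1,0],
  [1,0,2,0,0,3,1,0,2,2,0,2,0,2,3,1,0,1,0,1],
  [0,2,0,0,3,1,0,2,2,0,2,0,2,3,1,0,1,0,1,1],
  [2,0,0,3,1,0,2,2,0,2,0,2,3,1,0,1,0,1,1,0],
  [0,0,3,1,0,2,2,0,2,0,2,3,1,0,1,0,1,1,0,2],
  [0,3,1,0,2,2,0,2,0,2,3,1,0,1,0,1,1,0,2,0],
  [0,0,1,0,2,2,0,2,0,2,3,1,0,1,0,1,1,0,2,3],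
  [0,1,0,2,2,0,2,0,2,3,1,0,1,0,1,1,0,2,3,0],
  [1,0,2,2,0,2,0,2,3,1,0,1,0,1,1,0,2,3,0,0],
  [0,2,2,0,2,0,2,3,1,0,1,0,1,1,0,2,3,0,0,1],
  [2,2,0,2,0,2,3,1,0,1,0,1,1,0,2,3,0,0,1,0],
  [2,0,2,0,2,3,1,0,1,0,1,1,0,2,3,0,0,1,0,2],
  [0,2,0,2,3,1,0,1,0,1,1,0,2,3,0,0,1,0,2,2],
  [2,0,2,3,1,0,1,0,1,1,0,2,3,0,0,1,0,2,2,0],
  [0,2,3,1,0,1,0,1,1,0,2,3,0,0,1,0,2,2,0,2],
  [2,3,1,0,1,0,1,1,0,2,3,0,0,1,0,2,2,0,2,0],
  [3,1,0,1,0,1,1,0,2,3,0,0,1,0,2,2,0,2,0,2],
  [1,0,1,0,1,1,0,2,3,0,0,1,0,2,2,0,2,0,2,3],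
  [0,1,0,1,1,0,2,3,0,0,1,0,2,2,0,2,0,2,3,1],
  [1,0,1,1,0,2,3,0,0,1,0,2,2,0,2,0,2,3,1,0],
  [0,1,1,0,2,3,0,0,1,0,2,2,0,2,0,2,3,1,0,1],
  [1,1,0,2,3,0,0,1,0,2,2,0,2,0,2,3,1,0,1,0],
  [1,0,2,3,0,0,1,0,2,2,0,2,0,2,3,1,0,1,0,1],
  [0,2,3,0,0,1,0,2,2,0,2,0,2,3,1,0,1,0,1,1],
  [2,3,0,0,1,0,2,2,0,2,0,2,3,1,0,1,0,1,1,0],
  [3,0,0,1,0,2,2,0,2,0,2,3,1,0,1,0,1,1,0,2],
  [3,2,0,2,0,2,2,2,3,1,1,1,0,1,0,1,0,2,0,2,0,2,2,2,3,1,1,1,0,1,0,1,0,2,0,2,0,2,2,2,3,1,1,1,0,1,0,1,0],
  [2,0,2,0,2,2,2,3,1,1,1,0,1,0,1,0,2,0,2,0,2,2,2,3,1,1,1,0,1,0,1,0,2,0,2,0,2,2,2,3,1,1,1,0,1,0,1,0,3],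
  [0,2,0,2,2,2,3,1,1,1,0,1,0,1,0,2,0,2,0,2,2,2,3,1,1,1,0,1,0,1,0,2,0,2,0,2,2,2,3,1,1,1,0,1,0,1,0,3,2],
  [2,0,2,2,2,3,1,1,1,0,1,0,1,0,2,0,2,0,2,2,2,3,1,1,1,0,1,0,1,0,2,0,2,0,2,2,2,3,1,1,1,0,1,0,1,0,3,2,0],
  [0,2,2,2,3,1,1,1,0,1,0,1,0,2,0,2,0,2,2,2,3,1,1,1,0,1,0,1,0,2,0,2,0,2,2,2,3,1,1,1,0,1,0,1,0,3,2,0,2],
  [2,2,2,3,1,1,1,0,1,0,1,0,2,0,2,0,2,2,2,3,1,1,1,0,1,0,1,0,2,0,2,0,2,2,2,3,1,1,1,0,1,0,1,0,3,2,0,2,0],
  [2,2,3,1,1,1,0,1,0,1,0,2,0,2,0,2,2,2,3,1,1,1,0,1,0,1,0,2,0,2,0,2,2,2,3,1,1,1,0,1,0,1,0,3,2,0,2,0,2],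
  [2,3,1,1,1,0,1,0,1,0,2,0,2,0,2,2,2,3,1,1,1,0,1,0,1,0,2,0,2,0,2,2,2,3,1,1,1,0,1,0,1,0,3,2,0,2,0,2,2],
  [3,1,1,1,0,1,0,1,0,2,0,2,0,2,2,2,3,1,1,1,0,1,0,1,0,2,0,2,0,2,2,2,3,1,1,1,0,1,0,1,0,3,2,0,2,0,2,2,2],
  [1,1,1,0,1,0,1,0,2,0,2,0,2,2,2,3,1,1,1,0,1,0,1,0,2,0,2,0,2,2,2,3,1,1,1,0,1,0,1,0,3,2,0,2,0,2,2,2,3],
  [1,1,0,1,0,1,0,2,0,2,0,2,2,2,3,1,1,1,0,1,0,1,0,2,0,2,0,2,2,2,3,1,1,1,0,1,0,1,0,3,2,0,2,0,2,2,2,3,1],
  [1,0,1,0,1,0,2,0,2,0,2,2,2,3,1,1,1,0,1,0,1,0,2,0,2,0,2,2,2,3,1,1,1,0,1,0,1,0,3,2,0,2,0,2,2,2,3,1,1],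
  [0,1,0,1,0,2,0,2,0,2,2,2,3,1,1,1,0,1,0,1,0,2,0,2,0,2,2,2,3,1,1,1,0,1,0,1,0,3,2,0,2,0,2,2,2,3,1,1,1],
  [1,0,1,0,2,0,2,0,2,2,2,3,1,1,1,0,1,0,1,0,2,0,2,0,2,2,2,3,1,1,1,0,1,0,1,0,3,2,0,2,0,2,2,2,3,1,1,1,0],
  [0,1,0,2,0,2,0,2,2,2,3,1,1,1,0,1,0,1,0,2,0,2,0,2,2,2,3,1,1,1,0,1,0,1,0,3,2,0,2,0,2,2,2,3,1,1,1,0,1],
  [1,0,2,0,2,0,2,2,2,3,1,1,1,0,1,0,1,0,2,0,2,0,2,2,2,3,1,1,1,0,1,0,1,0,3,2,0,2,0,2,2,2,3,1,1,1,0,1,0],
  [0,2,0,2,0,2,2,2,3,1,1,1,0,1,0,1,0,2,0,2,0,2,2,2,3,1,1,1,0,1,0,1,0,3,2,0,2,0,2,2,2,3,1,1,1,0,1,0,1],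
  [2,0,2,0,2,2,2,3,1,1,1,0,1,0,1,0,2,0,2,0,2,2,2,3,1,1,1,0,1,0,1,0,3,2,0,2,0,2,2,2,3,1,1,1,0,1,0,1,0],
  [0,2,0,2,2,2,3,1,1,1,0,1,0,1,0,2,0,2,0,2,2,2,3,1,1,1,0,1,0,1,0,3,2,0,2,0,2,2,2,3,1,1,1,0,1,0,1,0,2],
  [2,0,2,2,2,3,1,1,1,0,1,0,1,0,2,0,2,0,2,2,2,3,1,1,1,0,1,0,1,0,3,2,0,2,0,2,2,2,3,1,1,1,0,1,0,1,0,2,0],
  [0,2,2,2,3,1,1,1,0,1,0,1,0,2,0,2,0,2,2,2,3,1,1,1,0,1,0,1,0,3,2,0,2,0,2,2,2,3,1,1,1,0,1,0,1,0,2,0,2],
  [2,2,2,3,1,1,1,0,1,0,1,0,2,0,2,0,2,2,2,3,1,1,1,0,1,0,1,0,3,2,0,2,0,2,2,2,3,1,1,1,0,1,0,1,0,2,0,2,0],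
  [2,2,3,1,1,1,0,1,0,1,0,2,0,2,0,2,2,2,3,1,1,1,0,1,0,1,0,3,2,0,2,0,2,2,2,3,1,1,1,0,1,0,1,0,2,0,2,0,2],
  [2,3,1,1,1,0,1,0,1,0,2,0,2,0,2,2,2,3,1,1,1,0,1,0,1,0,3,2,0,2,0,2,2,2,3,1,1,1,0,1,0,1,0,2,0,2,0,2,2],
  [3,1,1,1,0,1,0,1,0,2,0,2,0,2,2,2,3,1,1,1,0,1,0,1,0,3,2,0,2,0,2,2,2,3,1,1,1,0,1,0,1,0,2,0,2,0,2,2,2],
  [1,1,1,0,1,0,1,0,2,0,2,0,2,2,2,3,1,1,1,0,1,0,1,0,3,2,0,2,0,2,2,2,3,1,1,1,0,1,0,1,0,2,0,2,0,2,2,2,3],
  [1,1,0,1,0,1,0,2,0,2,0,2,2,2,3,1,1,1,0,1,0,1,0,3,2,0,2,0,2,2,2,3,1,1,1,0,1,0,1,0,2,0,2,0,2,2,2,3,1],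
  [1,0,1,0,1,0,2,0,2,0,2,2,2,3,1,1,1,0,1,0,1,0,3,2,0,2,0,2,2,2,3,1,1,1,0,1,0,1,0,2,0,2,0,2,2,2,3,1,1],
  [0,1,0,1,0,2,0,2,0,2,2,2,3,1,1,1,0,1,0,1,0,3,2,0,2,0,2,2,2,3,1,1,1,0,1,0,1,0,2,0,2,0,2,2,2,3,1,1,1],
  [1,0,1,0,2,0,2,0,2,2,2,3,1,1,1,0,1,0,1,0,3,2,0,2,0,2,2,2,3,1,1,1,0,1,0,1,0,2,0,2,0,2,2,2,3,1,1,1,0],
  [0,1,0,2,0,2,0,2,2,2,3,1,1,1,0,1,0,1,0,3,2,0,2,0,2,2,2,3,1,1,1,0,1,0,1,0,2,0,2,0,2,2,2,3,1,1,1,0,1],
  [1,0,2,0,2,0,2,2,2,3,1,1,1,0,1,0,1,0,3,2,0,2,0,2,2,2,3,1,1,1,0,1,0,1,0,2,0,2,0,2,2,2,3,1,1,1,0,1,0],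
  [0,2,0,2,0,2,2,2,3,1,1,1,0,1,0,1,0,3,2,0,2,0,2,2,2,3,1,1,1,0,1,0,1,0,2,0,2,0,2,2,2,3,1,1,1,0,1,0,1],
  [2,0,2,0,2,2,2,3,1,1,1,0,1,0,1,0,3,2,0,2,0,2,2,2,3,1,1,1,0,1,0,1,0,2,0,2,0,2,2,2,3,1,1,1,0,1,0,1,0],
  [0,2,0,2,2,2,3,1,1,1,0,1,0,1,0,3,2,0,2,0,2,2,2,3,1,1,1,0,1,0,1,0,2,0,2,0,2,2,2,3,1,1,1,0,1,0,1,0,2],
  [2,0,2,2,2,3,1,1,1,0,1,0,1,0,3,2,0,2,0,2,2,2,3,1,1,1,0,1,0,1,0,2,0,2,0,2,2,2,3,1,1,1,0,1,0,1,0,2,0],
  [0,2,2,2,3,1,1,1,0,1,0,1,0,3,2,0,2,0,2,2,2,3,1,1,1,0,1,0,1,0,2,0,2,0,2,2,2,3,1,1,1,0,1,0,1,0,2,0,2],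
  [2,2,2,3,1,1,1,0,1,0,1,0,3,2,0,2,0,2,2,2,3,1,1,1,0,1,0,1,0,2,0,2,0,2,2,2,3,1,1,1,0,1,0,1,0,2,0,2,0],
  [2,2,3,1,1,1,0,1,0,1,0,3,2,0,2,0,2,2,2,3,1,1,1,0,1,0,1,0,2,0,2,0,2,2,2,3,1,1,1,0,1,0,1,0,2,0,2,0,2],
  [2,3,1,1,1,0,1,0,1,0,3,2,0,2,0,2,2,2,3,1,1,1,0,1,0,1,0,2,0,2,0,2,2,2,3,1,1,1,0,1,0,1,0,2,0,2,0,2,2],
  [3,1,1,1,0,1,0,1,0,3,2,0,2,0,2,2,2,3,1,1,1,0,1,0,1,0,2,0,2,0,2,2,2,3,1,1,1,0,1,0,1,0,2,0,2,0,2,2,2],
  [1,1,1,0,1,0,1,0,3,2,0,2,0,2,2,2,3,1,1,1,0,1,0,1,0,2,0,2,0,2,2,2,3,1,1,1,0,1,0,1,0,2,0,2,0,2,2,2,3],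
  [1,1,0,1,0,1,0,3,2,0,2,0,2,2,2,3,1,1,1,0,1,0,1,0,2,0,2,0,2,2,2,3,1,1,1,0,1,0,1,0,2,0,2,0,2,2,2,3,1],
  [1,0,1,0,1,0,3,2,0,2,0,2,2,2,3,1,1,1,0,1,0,1,0,2,0,2,0,2,2,2,3,1,1,1,0,1,0,1,0,2,0,2,0,2,2,2,3,1,1],
  [0,1,0,1,0,3,2,0,2,0,2,2,2,3,1,1,1,0,1,0,1,0,2,0,2,0,2,2,2,3,1,1,1,0,1,0,1,0,2,0,2,0,2,2,2,3,1,1,1],
  [1,0,1,0,3,2,0,2,0,2,2,2,3,1,1,1,0,1,0,1,0,2,0,2,0,2,2,2,3,1,1,1,0,1,0,1,0,2,0,2,0,2,2,2,3,1,1,1,0],
  [0,1,0,3,2,0,2,0,2,2,2,3,1,1,1,0,1,0,1,0,2,0,2,0,2,2,2,3,1,1,1,0,1,0,1,0,2,0,2,0,2,2,2,3,1,1,1,0,1],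
  [1,0,3,2,0,2,0,2,2,2,3,1,1,1,0,1,0,1,0,2,0,2,0,2,2,2,3,1,1,1,0,1,0,1,0,2,0,2,0,2,2,2,3,1,1,1,0,1,0],
  [0,3,2,0,2,0,2,2,2,3,1,1,1,0,1,0,1,0,2,0,2,0,2,2,2,3,1,1,1,0,1,0,1,0,2,0,2,0,2,2,2,3,1,1,1,0,1,0,1],
  [0,2,0,2,0,2,2,2,3,1,1,1,0,1,0,1,0,2,0,2,0,2,2,2,3,1,1,1,0,1,0,1,0,2,0,2,0,2,2,2,3,1,1,1,0,1,0,1,3],
  [2,0,2,0,2,2,2,3,1,1,1,0,1,0,1,0,2,0,2,0,2,2,2,3,1,1,1,0,1,0,1,0,2,0,2,0,2,2,2,3,1,1,1,0,1,0,1,3,0],
  [0,2,0,2,2,2,3,1,1,1,0,1,0,1,0,2,0,2,0,2,2,2,3,1,1,1,0,1,0,1,0,2,0,2,0,2,2,2,3,1,1,1,0,1,0,1,3,0,2],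
  [2,0,2,2,2,3,1,1,1,0,1,0,1,0,2,0,2,0,2,2,2,3,1,1,1,0,1,0,1,0,2,0,2,0,2,2,2,3,1,1,1,0,1,0,1,3,0,2,0],
  [0,2,2,2,3,1,1,1,0,1,0,1,0,2,0,2,0,2,2,2,3,1,1,1,0,1,0,1,0,2,0,2,0,2,2,2,3,1,1,1,0,1,0,1,3,0,2,0,2],
  [2,2,2,3,1,1,1,0,1,0,1,0,2,0,2,0,2,2,2,3,1,1,1,0,1,0,1,0,2,0,2,0,2,2,2,3,1,1,1,0,1,0,1,3,0,2,0,2,0],
  [2,2,3,1,1,1,0,1,0,1,0,2,0,2,0,2,2,2,3,1,1,1,0,1,0,1,0,2,0,2,0,2,2,2,3,1,1,1,0,1,0,1,3,0,2,0,2,0,2],
  [2,3,1,1,1,0,1,0,1,0,2,0,2,0,2,2,2,3,1,1,1,0,1,0,1,0,2,0,2,0,2,2,2,3,1,1,1,0,1,0,1,3,0,2,0,2,0,2,2],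
  [3,1,1,1,0,1,0,1,0,2,0,2,0,2,2,2,3,1,1,1,0,1,0,1,0,2,0,2,0,2,2,2,3,1,1,1,0,1,0,1,3,0,2,0,2,0,2,2,2],
  [1,1,1,0,1,0,1,0,2,0,2,0,2,2,2,3,1,1,1,0,1,0,1,0,2,0,2,0,2,2,2,3,1,1,1,0,1,0,1,3,0,2,0,2,0,2,2,2,3],
  [1,1,0,1,0,1,0,2,0,2,0,2,2,2,3,1,1,1,0,1,0,1,0,2,0,2,0,2,2,2,3,1,1,1,0,1,0,1,3,0,2,0,2,0,2,2,2,3,1],
  [1,0,1,0,1,0,2,0,2,0,2,2,2,3,1,1,1,0,1,0,1,0,2,0,2,0,2,2,2,3,1,1,1,0,1,0,1,3,0,2,0,2,0,2,2,2,3,1,1],
  [0,1,0,1,0,2,0,2,0,2,2,2,3,1,1,1,0,1,0,1,0,2,0,2,0,2,2,2,3,1,1,1,0,1,0,1,3,0,2,0,2,0,2,2,2,3,1,1,1],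
  [1,0,1,0,2,0,2,0,2,2,2,3,1,1,1,0,1,0,1,0,2,0,2,0,2,2,2,3,1,1,1,0,1,0,1,3,0,2,0,2,0,2,2,2,3,1,1,1,0],
  [0,1,0,2,0,2,0,2,2,2,3,1,1,1,0,1,0,1,0,2,0,2,0,2,2,2,3,1,1,1,0,1,0,1,3,0,2,0,2,0,2,2,2,3,1,1,1,0,1],
  [1,0,2,0,2,0,2,2,2,3,1,1,1,0,1,0,1,0,2,0,2,0,2,2,2,3,1,1,1,0,1,0,1,3,0,2,0,2,0,2,2,2,3,1,1,1,0,1,0],
  [0,2,0,2,0,2,2,2,3,1,1,1,0,1,0,1,0,2,0,2,0,2,2,2,3,1,1,1,0,1,0,1,3,0,2,0,2,0,2,2,2,3,1,1,1,0,1,0,1],
  [2,0,2,0,2,2,2,3,1,1,1,0,1,0,1,0,2,0,2,0,2,2,2,3,1,1,1,0,1,0,1,3,0,2,0,2,0,2,2,2,3,1,1,1,0,1,0,1,0],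
  [0,2,0,2,2,2,3,1,1,1,0,1,0,1,0,2,0,2,0,2,2,2,3,1,1,1,0,1,0,1,3,0,2,0,2,0,2,2,2,3,1,1,1,0,1,0,1,0,2],
  [2,0,2,2,2,3,1,1,1,0,1,0,1,0,2,0,2,0,2,2,2,3,1,1,1,0,1,0,1,3,0,2,0,2,0,2,2,2,3,1,1,1,0,1,0,1,0,2,0],
  [0,2,2,2,3,1,1,1,0,1,0,1,0,2,0,2,0,2,2,2,3,1,1,1,0,1,0,1,3,0,2,0,2,0,2,2,2,3,1,1,1,0,1,0,1,0,2,0,2],
  [2,2,2,3,1,1,1,0,1,0,1,0,2,0,2,0,2,2,2,3,1,1,1,0,1,0,1,3,0,2,0,2,0,2,2,2,3,1,1,1,0,1,0,1,0,2,0,2,0],
  [2,2,3,1,1,1,0,1,0,1,0,2,0,2,0,2,2,2,3,1,1,1,0,1,0,1,3,0,2,0,2,0,2,2,2,3,1,1,1,0,1,0,1,0,2,0,2,0,2],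
  [2,3,1,1,1,0,1,0,1,0,2,0,2,0,2,2,2,3,1,1,1,0,1,0,1,3,0,2,0,2,0,2,2,2,3,1,1,1,0,1,0,1,0,2,0,2,0,2,2],
  [3,1,1,1,0,1,0,1,0,2,0,2,0,2,2,2,3,1,1,1,0,1,0,1,3,0,2,0,2,0,2,2,2,3,1,1,1,0,1,0,1,0,2,0,2,0,2,2,2],
  [1,1,1,0,1,0,1,0,2,0,2,0,2,2,2,3,1,1,1,0,1,0,1,3,0,2,0,2,0,2,2,2,3,1,1,1,0,1,0,1,0,2,0,2,0,2,2,2,3],
  [1,1,0,1,0,1,0,2,0,2,0,2,2,2,3,1,1,1,0,1,0,1,3,0,2,0,2,0,2,2,2,3,1,1,1,0,1,0,1,0,2,0,2,0,2,2,2,3,1],
  [1,0,1,0,1,0,2,0,2,0,2,2,2,3,1,1,1,0,1,0,1,3,0,2,0,2,0,2,2,2,3,1,1,1,0,1,0,1,0,2,0,2,0,2,2,2,3,1,1],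
  [0,1,0,1,0,2,0,2,0,2,2,2,3,1,1,1,0,1,0,1,3,0,2,0,2,0,2,2,2,3,1,1,1,0,1,0,1,0,2,0,2,0,2,2,2,3,1,1,1],
  [1,0,1,0,2,0,2,0,2,2,2,3,1,1,1,0,1,0,1,3,0,2,0,2,0,2,2,2,3,1,1,1,0,1,0,1,0,2,0,2,0,2,2,2,3,1,1,1,0],
  [0,1,0,2,0,2,0,2,2,2,3,1,1,1,0,1,0,1,3,0,2,0,2,0,2,2,2,3,1,1,1,0,1,0,1,0,2,0,2,0,2,2,2,3,1,1,1,0,1],
  [1,0,2,0,2,0,2,2,2,3,1,1,1,0,1,0,1,3,0,2,0,2,0,2,2,2,3,1,1,1,0,1,0,1,0,2,0,2,0,2,2,2,3,1,1,1,0,1,0],
  [0,2,0,2,0,2,2,2,3,1,1,1,0,1,0,1,3,0,2,0,2,0,2,2,2,3,1,1,1,0,1,0,1,0,2,0,2,0,2,2,2,3,1,1,1,0,1,0,1],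
  [2,0,2,0,2,2,2,3,1,1,1,0,1,0,1,3,0,2,0,2,0,2,2,2,3,1,1,1,0,1,0,1,0,2,0,2,0,2,2,2,3,1,1,1,0,1,0,1,0],
  [0,2,0,2,2,2,3,1,1,1,0,1,0,1,3,0,2,0,2,0,2,2,2,3,1,1,1,0,1,0,1,0,2,0,2,0,2,2,2,3,1,1,1,0,1,0,1,0,2],
  [2,0,2,2,2,3,1,1,1,0,1,0,1,3,0,2,0,2,0,2,2,2,3,1,1,1,0,1,0,1,0,2,0,2,0,2,2,2,3,1,1,1,0,1,0,1,0,2,0],
  [0,2,2,2,3,1,1,1,0,1,0,1,3,0,2,0,2,0,2,2,2,3,1,1,1,0,1,0,1,0,2,0,2,0,2,2,2,3,1,1,1,0,1,0,1,0,2,0,2],
  [2,2,2,3,1,1,1,0,1,0,1,3,0,2,0,2,0,2,2,2,3,1,1,1,0,1,0,1,0,2,0,2,0,2,2,2,3,1,1,1,0,1,0,1,0,2,0,2,0],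
  [2,2,3,1,1,1,0,1,0,1,3,0,2,0,2,0,2,2,2,3,1,1,1,0,1,0,1,0,2,0,2,0,2,2,2,3,1,1,1,0,1,0,1,0,2,0,2,0,2],
  [2,3,1,1,1,0,1,0,1,3,0,2,0,2,0,2,2,2,3,1,1,1,0,1,0,1,0,2,0,2,0,2,2,2,3,1,1,1,0,1,0,1,0,2,0,2,0,2,2],
  [3,1,1,1,0,1,0,1,3,0,2,0,2,0,2,2,2,3,1,1,1,0,1,0,1,0,2,0,2,0,2,2,2,3,1,1,1,0,1,0,1,0,2,0,2,0,2,2,2],
  [1,1,1,0,1,0,1,3,0,2,0,2,0,2,2,2,3,1,1,1,0,1,0,1,0,2,0,2,0,2,2,2,3,1,1,1,0,1,0,1,0,2,0,2,0,2,2,2,3],
  [1,1,0,1,0,1,3,0,2,0,2,0,2,2,2,3,1,1,1,0,1,0,1,0,2,0,2,0,2,2,2,3,1,1,1,0,1,0,1,0,2,0,2,0,2,2,2,3,1],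
  [1,0,1,0,1,3,0,2,0,2,0,2,2,2,3,1,1,1,0,1,0,1,0,2,0,2,0,2,2,2,3,1,1,1,0,1,0,1,0,2,0,2,0,2,2,2,3,1,1],
  [0,1,0,1,3,0,2,0,2,0,2,2,2,3,1,1,1,0,1,0,1,0,2,0,2,0,2,2,2,3,1,1,1,0,1,0,1,0,2,0,2,0,2,2,2,3,1,1,1],
  [1,0,1,3,0,2,0,2,0,2,2,2,3,1,1,1,0,1,0,1,0,2,0,2,0,2,2,2,3,1,1,1,0,1,0,1,0,2,0,2,0,2,2,2,3,1,1,1,0],
  [0,1,3,0,2,0,2,0,2,2,2,3,1,1,1,0,1,0,1,0,2,0,2,0,2,2,2,3,1,1,1,0,1,0,1,0,2,0,2,0,2,2,2,3,1,1,1,0,1],
  [1,3,0,2,0,2,0,2,2,2,3,1,1,1,0,1,0,1,0,2,0,2,0,2,2,2,3,1,1,1,0,1,0,1,0,2,0,2,0,2,2,2,3,1,1,1,0,1,0],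
  [3,0,2,0,2,0,2,2,2,3,1,1,1,0,1,0,1,0,2,0,2,0,2,2,2,3,1,1,1,0,1,0,1,0,2,0,2,0,2,2,2,3,1,1,1,0,1,0,1],
  [1,2],
  [2,1]]

/-- subgroup words -/
def S : List (List ℕ) := [[0], [1], [2]]

/-- block of `nd` -/
def nd_0 : Tr := .node 128 (.node 64 (.node 32 (.node 16 (.node 8 (.node 4 (.node 2 (.node 1 (.leaf 0) (.leaf 3)) (.node 3 (.leaf 17) (.leaf 32))) (.node 6 (.node 5 (.leaf 18) (.leaf 64)) (.node 7 (.leaf 33) (.leaf 96)))) (.node 12 (.node 10 (.node 9 (.leaf 35) (.leaf 51)) (.node 11 (.leaf 49) (.leaf 160))) (.node 14 (.node 13 (.leaf 50) (.leaf 192)) (.node 15 (.leaf 66) (.leaf 224))))) (.node 24 (.node 20 (.node 18 (.node 17 (.leaf 97) (.leaf 256)) (.node 19 (.leaf 67) (.leaf 83))) (.node 22 (.node 21 (.leaf 81) (.leaf 320)) (.node 23 (.leaf 82) (.leaf 352)))) (.node 28 (.node 26 (.node 25 (.leaf 99) (.leaf 115)) (.node 27 (.leaf 113) (.leaf 416))) (.node 30 (.node 29 (.leaf 114) (.leaf 448)) (.node 31 (.leaf 129) (.leaf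 480)))))) (.node 48 (.node 40 (.node 36 (.node 34 (.node 33 (.leaf 130) (.leaf 512)) (.node 35 (.leaf 145) (.leaf 544))) (.node 38 (.node 37 (.leaf 146) (.leaf 576)) (.node 39 (.leaf 161) (.leaf 608)))) (.node 44 (.node 42 (.node 41 (.leaf 178) (.leaf 640)) (.node 43 (.leaf 163) (.leaf 179))) (.node 46 (.node 45 (.leaf 195) (.leaf 211)) (.node 47 (.leaf 209) (.leaf 210))))) (.node 56 (.node 52 (.node 50 (.node 49 (.leaf 752) (.leaf 227)) (.node 51 (.leaf 243) (.leaf 241))) (.node 54 (.node 53 (.leaf 816) (.leaf 242)) (.node 55 (.leaf 848) (.leaf 259)))) (.node 60 (.node 58 (.node 57 (.leaf 275) (.leaf 273)) (.node 59 (.leaf 912) (.leaf 274))) (.node 62 (.node 61 (.leaf 944) (.leaf 289)) (.node 63 (.leaf 976) (.leaf 290))))))) (.node 96 (.node 80 (.node 72 (.node 68 (.node 66 (.node 65 (.leaf 1008) (.leaf 305)) (.node 67 (.leaf 1040) (.leaf 306))) (.node 70 (.node 69 (.leaf 1072) (.leaf 321)) (.node 71 (.leaf 1104) (.leaf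 323)))) (.node 76 (.node 74 (.node 73 (.leaf 339) (.leaf 337)) (.node 75 (.leaf 1168) (.leaf 338))) (.node 78 (.node 77 (.leaf 354) (.leaf 1216)) (.node 79 (.leaf 1105) (.leaf 1248))))) (.node 88 (.node 84 (.node 82 (.node 81 (.leaf 355) (.leaf 371)) (.node 83 (.leaf 369) (.leaf 1312))) (.node 86 (.node 85 (.leaf 370) (.leaf 737)) (.node 87 (.leaf 385) (.leaf 1376)))) (.node 92 (.node 90 (.node 89 (.leaf 386) (.leaf 1408)) (.node 91 (.leaf 401) (.leaf 1440))) (.node 94 (.node 93 (.leaf 402) (.leaf 1472)) (.node 95 (.leaf 417) (.leaf 1504)))))) (.node 112 (.node 104 (.node 100 (.node 98 (.node 97 (.leaf 419) (.leaf 435)) (.node 99 (.leaf 433) (.leaf 1568))) (.node 102 (.node 101 (.leaf 434) (.leaf 1600)) (.node 103 (.leaf 450) (.leaf 1632)))) (.node 108 (.node 106 (.node 105 (.leaf 1505) (.leaf 1664)) (.node 107 (.leaf 451) (.leaf 467))) (.node 110 (.node 109 (.leaf 465) (.leaf 657)) (.node 111 (.leaf 466) (.leaf 1760)))))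 (.node 120 (.node 116 (.node 114 (.node 113 (.leaf 481) (.leaf 1792)) (.node 115 (.leaf 483) (.leaf 499))) (.node 118 (.node 117 (.leaf 497) (.leaf 1856)) (.node 119 (.leaf 498) (.leaf 1888)))) (.node 124 (.node 122 (.node 121 (.leaf 514) (.leaf 1920)) (.node 123 (.leaf 1793) (.leaf 1952))) (.node 126 (.node 125 (.leaf 515) (.leaf 531)) (.node 127 (.leaf 530) (.leaf 2016)))))))) (.node 192 (.node 160 (.node 144 (.node 136 (.node 132 (.node 130 (.node 129 (.leaf 545) (.leaf 2048)) (.node 131 (.leaf 547) (.leaf 563))) (.node 134 (.node 133 (.leaf 561) (.leaf 2112)) (.node 135 (.leaf 562) (.leaf 2144)))) (.node 140 (.node 138 (.node 137 (.leaf 578) (.leaf 2176)) (.node 139 (.leaf 2049) (.leaf 2208))) (.node 142 (.node 141 (.leaf 594) (.leaf 2240)) (.node 143 (.leaf 625) (.leaf 2272))))) (.node 152 (.node 148 (.node 146 (.node 145 (.leaf 626) (.leaf 2304)) (.node 147 (.leaf 643) (.leaf 659))) (.node 150 (.node 149 (.leaf 658)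 (.leaf 2368)) (.node 151 (.leaf 673) (.leaf 2400)))) (.node 156 (.node 154 (.node 153 (.leaf 674) (.leaf 2432)) (.node 155 (.leaf 689) (.leaf 2464))) (.node 158 (.node 157 (.leaf 690) (.leaf 705)) (.node 159 (.leaf 2512) (.leaf 706)))))) (.node 176 (.node 168 (.node 164 (.node 162 (.node 161 (.leaf 2544) (.leaf 721)) (.node 163 (.leaf 2576) (.leaf 722))) (.node 166 (.node 165 (.leaf 2608) (.leaf 754)) (.node 167 (.leaf 2640) (.leaf 1361)))) (.node 172 (.node 170 (.node 169 (.leaf 2672) (.leaf 771)) (.node 171 (.leaf 769) (.leaf 2321))) (.node 174 (.node 173 (.leaf 770) (.leaf 2752)) (.node 175 (.leaf 785) (.leaf 2784))))) (.node 184 (.node 180 (.node 178 (.node 177 (.leaf 786) (.leaf 2816)) (.node 179 (.leaf 801) (.leaf 2848))) (.node 182 (.node 181 (.leaf 802) (.leaf 2880)) (.node 183 (.leaf 819) (.leaf 835)))) (.node 188 (.node 186 (.node 185 (.leaf 833) (.leaf 1233)) (.node 187 (.leaf 834) (.leaf 1330))) (.node 190 (.node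 189 (.leaf 850) (.leaf 3008)) (.node 191 (.leaf 2689) (.leaf 3040))))))) (.node 224 (.node 208 (.node 200 (.node 196 (.node 194 (.node 193 (.leaf 851) (.leaf 867)) (.node 195 (.leaf 865) (.leaf 3104))) (.node 198 (.node 197 (.leaf 866) (.leaf 3057)) (.node 199 (.leaf 3058) (.leaf 3168)))) (.node 204 (.node 202 (.node 201 (.leaf 3152) (.leaf 3136)) (.node 203 (.leaf 881) (.leaf 3232))) (.node 206 (.node 205 (.leaf 882) (.leaf 3264)) (.node 207 (.leaf 897) (.leaf 3296))))) (.node 216 (.node 212 (.node 210 (.node 209 (.leaf 898) (.leaf 3328)) (.node 211 (.leaf 913) (.leaf 3360))) (.node 214 (.node 213 (.leaf 915) (.leaf 931)) (.node 215 (.leaf 929) (.leaf 3424)))) (.node 220 (.node 218 (.node 217 (.leaf 930) (.leaf 3122)) (.node 219 (.leaf 3377) (.leaf 3488))) (.node 222 (.node 221 (.leaf 946) (.leaf 3520)) (.node 223 (.leaf 3361) (.leaf 3552)))))) (.node 240 (.node 232 (.node 228 (.node 226 (.node 225 (.leaf 947) (.leaf 963))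 (.node 227 (.leaf 961) (.leaf 1617))) (.node 230 (.node 229 (.leaf 962) (.leaf 3648)) (.node 231 (.leaf 977) (.leaf 3680)))) (.node 236 (.node 234 (.node 233 (.leaf 979) (.leaf 995)) (.node 235 (.leaf 993) (.leaf 3744))) (.node 238 (.node 237 (.leaf 994) (.leaf 1010)) (.node 239 (.leaf 3792) (.leaf 3681))))) (.node 248 (.node 244 (.node 242 (.node 241 (.leaf 3824) (.leaf 1011)) (.node 243 (.leaf 1027) (.leaf 1025))) (.node 246 (.node 245 (.leaf 1026) (.leaf 3904)) (.node 247 (.leaf 1041) (.leaf 3936)))) (.node 252 (.node 250 (.node 249 (.leaf 1057) (.leaf 3968)) (.node 251 (.leaf 1058) (.leaf 1074))) (.node 254 (.node 253 (.leaf 4016) (.leaf 3937)) (.node 255 (.leaf 4048) (.leaf 1075))))))))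

/-- block of `nd` -/
def nd_1 : Tr := .node 384 (.node 320 (.node 288 (.node 272 (.node 264 (.node 260 (.node 258 (.node 257 (.leaf 1091) (.leaf 1089)) (.node 259 (.leaf 1090) (.leaf 4128))) (.node 262 (.node 261 (.leaf 1107) (.leaf 1123)) (.node 263 (.leaf 1121) (.leaf 4192)))) (.node 268 (.node 266 (.node 265 (.leaf 1122) (.leaf 4224)) (.node 267 (.leaf 1138) (.leaf 4256))) (.node 270 (.node 269 (.leaf 1153) (.leaf 4288)) (.node 271 (.leaf 1154) (.leaf 1169))))) (.node 280 (.node 276 (.node 274 (.node 273 (.leaf 4336) (.leaf 1185)) (.node 275 (.leaf 4368) (.leaf 1186))) (.node 278 (.node 277 (.leaf 4400) (.leaf 1202)) (.node 279 (.leaf 4432) (.leaf 4337)))) (.node 284 (.node 282 (.node 281 (.leaf 4464) (.leaf 1234)) (.node 283 (.leaf 4496) (.leaf 1251))) (.node 286 (.node 285 (.leaf 1265) (.leaf 4544)) (.node 287 (.leaf 1266) (.leaf 4576)))))) (.node 304 (.node 296 (.node 292 (.node 290 (.node 289 (.leaf 1281) (.leaf 4608))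 (.node 291 (.leaf 1297) (.leaf 4640))) (.node 294 (.node 293 (.leaf 1313) (.leaf 4672)) (.node 295 (.leaf 1315) (.leaf 1331)))) (.node 300 (.node 298 (.node 297 (.leaf 1329) (.leaf 4736)) (.node 299 (.leaf 1346) (.leaf 4768))) (.node 302 (.node 301 (.leaf 4673) (.leaf 4800)) (.node 303 (.leaf 1347) (.leaf 1363))))) (.node 312 (.node 308 (.node 306 (.node 305 (.leaf 1377) (.leaf 4864)) (.node 307 (.leaf 1379) (.leaf 1395))) (.node 310 (.node 309 (.leaf 1393) (.leaf 4928)) (.node 311 (.leaf 1394) (.leaf 4960)))) (.node 316 (.node 314 (.node 313 (.leaf 1410) (.leaf 4992)) (.node 315 (.leaf 4865) (.leaf 5024))) (.node 318 (.node 317 (.leaf 1411) (.leaf 1427)) (.node 319 (.leaf 1425) (.leaf 5088))))))) (.node 352 (.node 336 (.node 328 (.node 324 (.node 322 (.node 321 (.leaf 1426) (.leaf 5120)) (.node 323 (.leaf 1441) (.leaf 5152))) (.node 326 (.node 325 (.leaf 1443) (.leaf 1459)) (.node 327 (.leaf 1457) (.leaf 5216)))) (.node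 332 (.node 330 (.node 329 (.leaf 1458) (.leaf 5248)) (.node 331 (.leaf 1474) (.leaf 5280))) (.node 334 (.node 333 (.leaf 5153) (.leaf 5312)) (.node 335 (.leaf 1475) (.leaf 1491))))) (.node 344 (.node 340 (.node 338 (.node 337 (.leaf 1489) (.leaf 5376)) (.node 339 (.leaf 1490) (.leaf 5408))) (.node 342 (.node 341 (.leaf 1507) (.leaf 1523)) (.node 343 (.leaf 1521) (.leaf 5472)))) (.node 348 (.node 346 (.node 345 (.leaf 1522) (.leaf 5504)) (.node 347 (.leaf 1537) (.leaf 5536))) (.node 350 (.node 349 (.leaf 1538) (.leaf 5568)) (.node 351 (.leaf 1553) (.leaf 5600)))))) (.node 368 (.node 360 (.node 356 (.node 354 (.node 353 (.leaf 1554) (.leaf 5632)) (.node 355 (.leaf 1569) (.leaf 5664))) (.node 358 (.node 357 (.leaf 1571) (.leaf 1587)) (.node 359 (.leaf 1585) (.leaf 2770)))) (.node 364 (.node 362 (.node 361 (.leaf 1586) (.leaf 5760)) (.node 363 (.leaf 1602) (.leaf 5792))) (.node 366 (.node 365 (.leaf 5665) (.leaf 5824)) (.node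 367 (.leaf 1603) (.leaf 1619))))) (.node 376 (.node 372 (.node 370 (.node 369 (.leaf 1618) (.leaf 5888)) (.node 371 (.leaf 1649) (.leaf 5920))) (.node 374 (.node 373 (.leaf 1650) (.leaf 5952)) (.node 375 (.leaf 1681) (.leaf 5984)))) (.node 380 (.node 378 (.node 377 (.leaf 1682) (.leaf 6016)) (.node 379 (.leaf 1697) (.leaf 6048))) (.node 382 (.node 381 (.leaf 1698) (.leaf 6080)) (.node 383 (.leaf 1713) (.leaf 6112)))))))) (.node 448 (.node 416 (.node 400 (.node 392 (.node 388 (.node 386 (.node 385 (.leaf 1714) (.leaf 6144)) (.node 387 (.leaf 1729) (.leaf 6176))) (.node 390 (.node 389 (.leaf 1745) (.leaf 6208)) (.node 391 (.leaf 1762) (.leaf 6240)))) (.node 396 (.node 394 (.node 393 (.leaf 6177) (.leaf 6272)) (.node 395 (.leaf 1763) (.leaf 1779))) (.node 398 (.node 397 (.leaf 1777) (.leaf 6336)) (.node 399 (.leaf 1778) (.leaf 6368))))) (.node 408 (.node 404 (.node 402 (.node 401 (.leaf 1795) (.leaf 1811)) (.node 403 (.leaf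 1809) (.leaf 6432))) (.node 406 (.node 405 (.leaf 1810) (.leaf 6464)) (.node 407 (.leaf 1825) (.leaf 6496)))) (.node 412 (.node 410 (.node 409 (.leaf 1826) (.leaf 6528)) (.node 411 (.leaf 1841) (.leaf 6560))) (.node 414 (.node 413 (.leaf 1842) (.leaf 6592)) (.node 415 (.leaf 1857) (.leaf 6624)))))) (.node 432 (.node 424 (.node 420 (.node 418 (.node 417 (.leaf 1859) (.leaf 1875)) (.node 419 (.leaf 1873) (.leaf 6688))) (.node 422 (.node 421 (.leaf 1874) (.leaf 6720)) (.node 423 (.leaf 1890) (.leaf 6752)))) (.node 428 (.node 426 (.node 425 (.leaf 6625) (.leaf 1905)) (.node 427 (.leaf 2161) (.leaf 1906))) (.node 430 (.node 429 (.leaf 1923) (.leaf 1939)) (.node 431 (.leaf 1937) (.leaf 6880))))) (.node 440 (.node 436 (.node 434 (.node 433 (.leaf 1938) (.leaf 6912)) (.node 435 (.leaf 1955) (.leaf 1971))) (.node 438 (.node 437 (.leaf 1969) (.leaf 1970)) (.node 439 (.leaf 1985) (.leaf 7008)))) (.node 444 (.node 442 (.node 441 (.leaf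 1986) (.leaf 2033)) (.node 443 (.leaf 7056) (.leaf 2051))) (.node 446 (.node 445 (.leaf 2067) (.leaf 2065)) (.node 447 (.leaf 7120) (.leaf 2066))))))) (.node 480 (.node 464 (.node 456 (.node 452 (.node 450 (.node 449 (.leaf 7152) (.leaf 2081)) (.node 451 (.leaf 7184) (.leaf 2082))) (.node 454 (.node 453 (.leaf 2097) (.leaf 2098)) (.node 455 (.leaf 2129) (.leaf 2146)))) (.node 460 (.node 458 (.node 457 (.leaf 7280) (.leaf 2162)) (.node 459 (.leaf 2179) (.leaf 2195))) (.node 462 (.node 461 (.leaf 2193) (.leaf 7360)) (.node 463 (.leaf 2194) (.leaf 7392))))) (.node 472 (.node 468 (.node 466 (.node 465 (.leaf 2211) (.leaf 2227)) (.node 467 (.leaf 2225) (.leaf 7456))) (.node 470 (.node 469 (.leaf 2226) (.leaf 7488)) (.node 471 (.leaf 2242) (.leaf 7520)))) (.node 476 (.node 474 (.node 473 (.leaf 2243) (.leaf 2259)) (.node 475 (.leaf 2257) (.leaf 2258))) (.node 478 (.node 477 (.leaf 7600) (.leaf 2273)) (.node 479 (.leaf 7632) (.leaf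 2289)))))) (.node 496 (.node 488 (.node 484 (.node 482 (.node 481 (.leaf 7664) (.leaf 2290)) (.node 483 (.leaf 7696) (.leaf 2306))) (.node 486 (.node 485 (.leaf 7728) (.leaf 7633)) (.node 487 (.leaf 7760) (.leaf 2307)))) (.node 492 (.node 490 (.node 489 (.leaf 2323) (.leaf 2322)) (.node 491 (.leaf 7824) (.leaf 2337))) (.node 494 (.node 493 (.leaf 7856) (.leaf 2338)) (.node 495 (.leaf 2370) (.leaf 7904))))) (.node 504 (.node 500 (.node 498 (.node 497 (.leaf 6209) (.leaf 7936)) (.node 499 (.leaf 7778) (.leaf 7968))) (.node 502 (.node 501 (.leaf 2385) (.leaf 7713)) (.node 503 (.leaf 2386) (.leaf 8032)))) (.node 508 (.node 506 (.node 505 (.leaf 2401) (.leaf 8064)) (.node 507 (.leaf 2403) (.leaf 2419))) (.node 510 (.node 509 (.leaf 2417) (.leaf 8128)) (.node 511 (.leaf 2418) (.leaf 8160))))))))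

/-- block of `nd` -/
def nd_2 : Tr := .node 640 (.node 576 (.node 544 (.node 528 (.node 520 (.node 516 (.node 514 (.node 513 (.leaf 2434) (.leaf 8192)) (.node 515 (.leaf 8065) (.leaf 8224))) (.node 518 (.node 517 (.leaf 2449) (.leaf 2450)) (.node 519 (.leaf 8272) (.leaf 2465)))) (.node 524 (.node 522 (.node 521 (.leaf 2481) (.leaf 8320)) (.node 523 (.leaf 2482) (.leaf 8352))) (.node 526 (.node 525 (.leaf 2498) (.leaf 8384)) (.node 527 (.leaf 8305) (.leaf 2513))))) (.node 536 (.node 532 (.node 530 (.node 529 (.leaf 2529) (.leaf 8448)) (.node 531 (.leaf 2530) (.leaf 2546))) (.node 534 (.node 533 (.leaf 8496) (.leaf 8433)) (.node 535 (.leaf 2562) (.leaf 8544)))) (.node 540 (.node 538 (.node 537 (.leaf 2593) (.leaf 8576)) (.node 539 (.leaf 2626) (.leaf 8608))) (.node 542 (.node 541 (.leaf 2643) (.leaf 2657)) (.node 543 (.leaf 8656) (.leaf 2658)))))) (.node 560 (.node 552 (.node 548 (.node 546 (.node 545 (.leaf 8688) (.leaf 2706))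 (.node 547 (.leaf 2721) (.leaf 8736))) (.node 550 (.node 549 (.leaf 2723) (.leaf 2739)) (.node 551 (.leaf 2737) (.leaf 8800)))) (.node 556 (.node 554 (.node 553 (.leaf 2754) (.leaf 8832)) (.node 555 (.leaf 8737) (.leaf 8864))) (.node 558 (.node 557 (.leaf 2755) (.leaf 2769)) (.node 559 (.leaf 8912) (.leaf 2785))))) (.node 568 (.node 564 (.node 562 (.node 561 (.leaf 8944) (.leaf 2787)) (.node 563 (.leaf 2803) (.leaf 2801))) (.node 566 (.node 565 (.leaf 2802) (.leaf 9024)) (.node 567 (.leaf 2818) (.leaf 9056)))) (.node 572 (.node 570 (.node 569 (.leaf 8945) (.leaf 2833)) (.node 571 (.leaf 9104) (.leaf 2834))) (.node 574 (.node 573 (.leaf 9136) (.leaf 2849)) (.node 575 (.leaf 9168) (.leaf 2865))))))) (.node 608 (.node 592 (.node 584 (.node 580 (.node 578 (.node 577 (.leaf 9200) (.leaf 2866)) (.node 579 (.leaf 9232) (.leaf 2882))) (.node 582 (.node 581 (.leaf 9264) (.leaf 2883)) (.node 583 (.leaf 2899) (.leaf 2897)))) (.node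 588 (.node 586 (.node 585 (.leaf 9328) (.leaf 2898)) (.node 587 (.leaf 9360) (.leaf 2913))) (.node 590 (.node 589 (.leaf 9392) (.leaf 8337)) (.node 591 (.leaf 9424) (.leaf 2929))))) (.node 600 (.node 596 (.node 594 (.node 593 (.leaf 9456) (.leaf 2945)) (.node 595 (.leaf 9488) (.leaf 2961))) (.node 598 (.node 597 (.leaf 9520) (.leaf 2978)) (.node 599 (.leaf 9552) (.leaf 9489)))) (.node 604 (.node 602 (.node 601 (.leaf 9584) (.leaf 2979)) (.node 603 (.leaf 2995) (.leaf 2994))) (.node 606 (.node 605 (.leaf 9648) (.leaf 3011)) (.node 607 (.leaf 3027) (.leaf 3025)))))) (.node 624 (.node 616 (.node 612 (.node 610 (.node 609 (.leaf 9712) (.leaf 3026)) (.node 611 (.leaf 9744) (.leaf 3043))) (.node 614 (.node 613 (.leaf 3059) (.leaf 3073)) (.node 615 (.leaf 9808) (.leaf 3074)))) (.node 620 (.node 618 (.node 617 (.leaf 9840) (.leaf 3089)) (.node 619 (.leaf 9872) (.leaf 3090))) (.node 622 (.node 621 (.leaf 9904) (.leaf 3107)) (.node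 623 (.leaf 3123) (.leaf 3121))))) (.node 632 (.node 628 (.node 626 (.node 625 (.leaf 9968) (.leaf 3378)) (.node 627 (.leaf 10000) (.leaf 3139))) (.node 630 (.node 629 (.leaf 3219) (.leaf 3155)) (.node 631 (.leaf 3203) (.leaf 3171)))) (.node 636 (.node 634 (.node 633 (.leaf 3187) (.leaf 3185)) (.node 635 (.leaf 8705) (.leaf 3186))) (.node 638 (.node 637 (.leaf 10160) (.leaf 3201)) (.node 639 (.leaf 10192) (.leaf 3202)))))))) (.node 704 (.node 672 (.node 656 (.node 648 (.node 644 (.node 642 (.node 641 (.leaf 3217) (.leaf 10240)) (.node 643 (.leaf 3218) (.leaf 4385))) (.node 646 (.node 645 (.leaf 3233) (.leaf 3235)) (.node 647 (.leaf 3251) (.leaf 3249)))) (.node 652 (.node 650 (.node 649 (.leaf 10352) (.leaf 3250)) (.node 651 (.leaf 10384) (.leaf 3266))) (.node 654 (.node 653 (.leaf 10305) (.leaf 10432)) (.node 655 (.leaf 3267) (.leaf 3283))))) (.node 664 (.node 660 (.node 658 (.node 657 (.leaf 3281) (.leaf 10496)) (.node 659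 (.leaf 3282) (.leaf 10528))) (.node 662 (.node 661 (.leaf 3297) (.leaf 10560)) (.node 663 (.leaf 3299) (.leaf 3315)))) (.node 668 (.node 666 (.node 665 (.leaf 3313) (.leaf 10624)) (.node 667 (.leaf 3314) (.leaf 10656))) (.node 670 (.node 669 (.leaf 3330) (.leaf 10688)) (.node 671 (.leaf 10561) (.leaf 3331)))))) (.node 688 (.node 680 (.node 676 (.node 674 (.node 673 (.leaf 3347) (.leaf 3345)) (.node 675 (.leaf 10768) (.leaf 3346))) (.node 678 (.node 677 (.leaf 10800) (.leaf 3393)) (.node 679 (.leaf 10832) (.leaf 3394)))) (.node 684 (.node 682 (.node 681 (.leaf 10864) (.leaf 3409)) (.node 683 (.leaf 10896) (.leaf 3410))) (.node 686 (.node 685 (.leaf 10928) (.leaf 3425)) (.node 687 (.leaf 10960) (.leaf 3427))))) (.node 696 (.node 692 (.node 690 (.node 689 (.leaf 3443) (.leaf 3441)) (.node 691 (.leaf 6386) (.leaf 3442))) (.node 694 (.node 693 (.leaf 11056) (.leaf 3458)) (.node 695 (.leaf 11088) (.leaf 10961)))) (.node 700 (.node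 698 (.node 697 (.leaf 11120) (.leaf 3459)) (.node 699 (.leaf 3475) (.leaf 3491))) (.node 702 (.node 701 (.leaf 3507) (.leaf 3505)) (.node 703 (.leaf 11216) (.leaf 3506))))))) (.node 736 (.node 720 (.node 712 (.node 708 (.node 706 (.node 705 (.leaf 11248) (.leaf 3539)) (.node 707 (.leaf 3537) (.leaf 3538))) (.node 710 (.node 709 (.leaf 11312) (.leaf 3569)) (.node 711 (.leaf 3570) (.leaf 11360)))) (.node 716 (.node 714 (.node 713 (.leaf 3585) (.leaf 11392)) (.node 715 (.leaf 3586) (.leaf 11424))) (.node 718 (.node 717 (.leaf 3601) (.leaf 11456)) (.node 719 (.leaf 3602) (.leaf 11488))))) (.node 728 (.node 724 (.node 722 (.node 721 (.leaf 3617) (.leaf 11520)) (.node 723 (.leaf 3619) (.leaf 3633))) (.node 726 (.node 725 (.leaf 11568) (.leaf 3650)) (.node 727 (.leaf 11600) (.leaf 11521)))) (.node 732 (.node 730 (.node 729 (.leaf 11632) (.leaf 3651)) (.node 731 (.leaf 3667) (.leaf 3665))) (.node 734 (.node 733 (.leaf 3666) (.leaf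 9537)) (.node 735 (.leaf 3683) (.leaf 3699)))))) (.node 752 (.node 744 (.node 740 (.node 738 (.node 737 (.leaf 3697) (.leaf 3698)) (.node 739 (.leaf 11792) (.leaf 3713))) (.node 742 (.node 741 (.leaf 11824) (.leaf 3714)) (.node 743 (.leaf 3729) (.leaf 11872)))) (.node 748 (.node 746 (.node 745 (.leaf 3745) (.leaf 3747)) (.node 747 (.leaf 3763) (.leaf 3761))) (.node 750 (.node 749 (.leaf 11952) (.leaf 3762)) (.node 751 (.leaf 11984) (.leaf 3778))))) (.node 760 (.node 756 (.node 754 (.node 753 (.leaf 12016) (.leaf 11905)) (.node 755 (.leaf 3795) (.leaf 3811))) (.node 758 (.node 757 (.leaf 3809) (.leaf 12096)) (.node 759 (.leaf 3810) (.leaf 12128)))) (.node 764 (.node 762 (.node 761 (.leaf 3827) (.leaf 3843)) (.node 763 (.leaf 3841) (.leaf 12192))) (.node 766 (.node 765 (.leaf 3842) (.leaf 12224)) (.node 767 (.leaf 3857) (.leaf 12256))))))))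

/-- block of `nd` -/
def nd_3 : Tr := .node 896 (.node 832 (.node 800 (.node 784 (.node 776 (.node 772 (.node 770 (.node 769 (.leaf 3858) (.leaf 12288)) (.node 771 (.leaf 3873) (.leaf 12320))) (.node 774 (.node 773 (.leaf 3874) (.leaf 12352)) (.node 775 (.leaf 3889) (.leaf 3906)))) (.node 780 (.node 778 (.node 777 (.leaf 12400) (.leaf 12385)) (.node 779 (.leaf 12432) (.leaf 3907))) (.node 782 (.node 781 (.leaf 3923) (.leaf 3921)) (.node 783 (.leaf 12496) (.leaf 3922))))) (.node 792 (.node 788 (.node 786 (.node 785 (.leaf 12528) (.leaf 3954)) (.node 787 (.leaf 12560) (.leaf 3985))) (.node 790 (.node 789 (.leaf 12592) (.leaf 4002)) (.node 791 (.leaf 12624) (.leaf 4019)))) (.node 796 (.node 794 (.node 793 (.leaf 4033) (.leaf 12672)) (.node 795 (.leaf 4034) (.leaf 4066))) (.node 798 (.node 797 (.leaf 12720) (.leaf 4081)) (.node 799 (.leaf 4082) (.leaf 4097)))))) (.node 816 (.node 808 (.node 804 (.node 802 (.node 801 (.leaf 4098)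 (.leaf 4113)) (.node 803 (.leaf 12816) (.leaf 4130))) (.node 806 (.node 805 (.leaf 12817) (.leaf 12864)) (.node 807 (.leaf 4131) (.leaf 4147)))) (.node 812 (.node 810 (.node 809 (.leaf 4145) (.leaf 12928)) (.node 811 (.leaf 4146) (.leaf 12960))) (.node 814 (.node 813 (.leaf 4161) (.leaf 12992)) (.node 815 (.leaf 4177) (.leaf 13024))))) (.node 824 (.node 820 (.node 818 (.node 817 (.leaf 4193) (.leaf 13056)) (.node 819 (.leaf 4209) (.leaf 13088))) (.node 822 (.node 821 (.leaf 4210) (.leaf 13120)) (.node 823 (.leaf 4226) (.leaf 13152)))) (.node 828 (.node 826 (.node 825 (.leaf 13057) (.leaf 13184)) (.node 827 (.leaf 4227) (.leaf 4243))) (.node 830 (.node 829 (.leaf 4241) (.leaf 4417)) (.node 831 (.leaf 4242) (.leaf 13280))))))) (.node 864 (.node 848 (.node 840 (.node 836 (.node 834 (.node 833 (.leaf 4274) (.leaf 13312)) (.node 835 (.leaf 4305) (.leaf 13344))) (.node 838 (.node 837 (.leaf 4306) (.leaf 13376)) (.node 839 (.leaf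 4322) (.leaf 13408)))) (.node 844 (.node 842 (.node 841 (.leaf 4353) (.leaf 13440)) (.node 843 (.leaf 4354) (.leaf 13472))) (.node 846 (.node 845 (.leaf 4369) (.leaf 13504)) (.node 847 (.leaf 4387) (.leaf 4386))))) (.node 856 (.node 852 (.node 850 (.node 849 (.leaf 13552) (.leaf 4402)) (.node 851 (.leaf 13505) (.leaf 13600))) (.node 854 (.node 853 (.leaf 4418) (.leaf 4449)) (.node 855 (.leaf 13648) (.leaf 4450)))) (.node 860 (.node 858 (.node 857 (.leaf 13680) (.leaf 4481)) (.node 859 (.leaf 13712) (.leaf 4482))) (.node 862 (.node 861 (.leaf 13744) (.leaf 4498)) (.node 863 (.leaf 13776) (.leaf 9521)))))) (.node 880 (.node 872 (.node 868 (.node 866 (.node 865 (.leaf 13808) (.leaf 4513)) (.node 867 (.leaf 13840) (.leaf 4514))) (.node 870 (.node 869 (.leaf 13872) (.leaf 4530)) (.node 871 (.leaf 13904) (.leaf 4545)))) (.node 876 (.node 874 (.node 873 (.leaf 13936) (.leaf 4561)) (.node 875 (.leaf 13968) (.leaf 4562))) (.node 878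 (.node 877 (.leaf 13858) (.leaf 4578)) (.node 879 (.leaf 14032) (.leaf 13937))))) (.node 888 (.node 884 (.node 882 (.node 881 (.leaf 14064) (.leaf 4593)) (.node 883 (.leaf 13137) (.leaf 4594))) (.node 886 (.node 885 (.leaf 14128) (.leaf 4625)) (.node 887 (.leaf 14160) (.leaf 6066)))) (.node 892 (.node 890 (.node 889 (.leaf 4626) (.leaf 14208)) (.node 891 (.leaf 4657) (.leaf 14240))) (.node 894 (.node 893 (.leaf 4658) (.leaf 14272)) (.node 895 (.leaf 4689) (.leaf 14304)))))))) (.node 960 (.node 928 (.node 912 (.node 904 (.node 900 (.node 898 (.node 897 (.leaf 4690) (.leaf 14336)) (.node 899 (.leaf 11345) (.leaf 14368))) (.node 902 (.node 901 (.leaf 11362) (.leaf 14400)) (.node 903 (.leaf 4705) (.leaf 14432)))) (.node 908 (.node 906 (.node 905 (.leaf 4722) (.leaf 14464)) (.node 907 (.leaf 4737) (.leaf 14496))) (.node 910 (.node 909 (.leaf 13794) (.leaf 14528)) (.node 911 (.leaf 9650) (.leaf 14560))))) (.node 920 (.node 916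 (.node 914 (.node 913 (.leaf 4753) (.leaf 14592)) (.node 915 (.leaf 4754) (.leaf 14418))) (.node 918 (.node 917 (.leaf 13953) (.leaf 14656)) (.node 919 (.leaf 4771) (.leaf 4787)))) (.node 924 (.node 922 (.node 921 (.leaf 4785) (.leaf 4786)) (.node 923 (.leaf 14736) (.leaf 4817))) (.node 926 (.node 925 (.leaf 14768) (.leaf 4818)) (.node 927 (.leaf 14800) (.leaf 4833)))))) (.node 944 (.node 936 (.node 932 (.node 930 (.node 929 (.leaf 14832) (.leaf 4849)) (.node 931 (.leaf 14864) (.leaf 4850))) (.node 934 (.node 933 (.leaf 4881) (.leaf 14912)) (.node 935 (.leaf 4882) (.leaf 14944)))) (.node 940 (.node 938 (.node 937 (.leaf 4897) (.leaf 14976)) (.node 939 (.leaf 4898) (.leaf 15008))) (.node 942 (.node 941 (.leaf 4913) (.leaf 15040)) (.node 943 (.leaf 4914) (.leaf 15072))))) (.node 952 (.node 948 (.node 946 (.node 945 (.leaf 4929) (.leaf 15104)) (.node 947 (.leaf 4931) (.leaf 4947))) (.node 950 (.node 949 (.leaf 4945) (.leaf 15168))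 (.node 951 (.leaf 4946) (.leaf 15200)))) (.node 956 (.node 954 (.node 953 (.leaf 4962) (.leaf 15232)) (.node 955 (.leaf 15105) (.leaf 15264))) (.node 958 (.node 957 (.leaf 4963) (.leaf 4979)) (.node 959 (.leaf 4977) (.leaf 5265))))))) (.node 992 (.node 976 (.node 968 (.node 964 (.node 962 (.node 961 (.leaf 4978) (.leaf 4995)) (.node 963 (.leaf 5011) (.leaf 5009))) (.node 966 (.node 965 (.leaf 15408) (.leaf 5010)) (.node 967 (.leaf 15440) (.leaf 5042)))) (.node 972 (.node 970 (.node 969 (.leaf 15472) (.leaf 5057)) (.node 971 (.leaf 15504) (.leaf 5058))) (.node 974 (.node 973 (.leaf 15536) (.leaf 5073)) (.node 975 (.leaf 15568) (.leaf 5074))))) (.node 984 (.node 980 (.node 978 (.node 977 (.leaf 5089) (.leaf 15616)) (.node 979 (.leaf 5091) (.leaf 5107))) (.node 982 (.node 981 (.leaf 5105) (.leaf 15680)) (.node 983 (.leaf 5106) (.leaf 5394)))) (.node 988 (.node 986 (.node 985 (.leaf 5122) (.leaf 15744)) (.node 987 (.leaf 15617)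 (.leaf 15776))) (.node 990 (.node 989 (.leaf 5123) (.leaf 5139)) (.node 991 (.leaf 5137) (.leaf 15840)))))) (.node 1008 (.node 1000 (.node 996 (.node 994 (.node 993 (.leaf 5138) (.leaf 15872)) (.node 995 (.leaf 5155) (.leaf 5171))) (.node 998 (.node 997 (.leaf 5169) (.leaf 15936)) (.node 999 (.leaf 5170) (.leaf 15968)))) (.node 1004 (.node 1002 (.node 1001 (.leaf 5185) (.leaf 16000)) (.node 1003 (.leaf 5186) (.leaf 16032))) (.node 1006 (.node 1005 (.leaf 5201) (.leaf 16064)) (.node 1007 (.leaf 5202) (.leaf 16096))))) (.node 1016 (.node 1012 (.node 1010 (.node 1009 (.leaf 5217) (.leaf 16128)) (.node 1011 (.leaf 5219) (.leaf 5235))) (.node 1014 (.node 1013 (.leaf 5233) (.leaf 16192)) (.node 1015 (.leaf 5234) (.leaf 5250)))) (.node 1020 (.node 1018 (.node 1017 (.leaf 16240) (.leaf 16129)) (.node 1019 (.leaf 16272) (.leaf 5251))) (.node 1022 (.node 1021 (.leaf 5267) (.leaf 5266)) (.node 1023 (.leaf 16336) (.leaf 5297))))))))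

/-- block of `nd` -/
def nd_4 : Tr := .node 1152 (.node 1088 (.node 1056 (.node 1040 (.node 1032 (.node 1028 (.node 1026 (.node 1025 (.leaf 16368) (.leaf 5298)) (.node 1027 (.leaf 16400) (.leaf 5329))) (.node 1030 (.node 1029 (.leaf 16432) (.leaf 5330)) (.node 1031 (.leaf 16464) (.leaf 5345)))) (.node 1036 (.node 1034 (.node 1033 (.leaf 16496) (.leaf 5346)) (.node 1035 (.leaf 5361) (.leaf 5362))) (.node 1038 (.node 1037 (.leaf 5377) (.leaf 16576)) (.node 1039 (.leaf 5410) (.leaf 16608))))) (.node 1048 (.node 1044 (.node 1042 (.node 1041 (.leaf 16577) (.leaf 16640)) (.node 1043 (.leaf 5411) (.leaf 5427))) (.node 1046 (.node 1045 (.leaf 5425) (.leaf 16704)) (.node 1047 (.leaf 5426) (.leaf 16736)))) (.node 1052 (.node 1050 (.node 1049 (.leaf 5441) (.leaf 16768)) (.node 1051 (.leaf 5457) (.leaf 16800))) (.node 1054 (.node 1053 (.leaf 5458) (.leaf 16832)) (.node 1055 (.leaf 5473) (.leaf 16864)))))) (.node 1072 (.node 1064 (.node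 1060 (.node 1058 (.node 1057 (.leaf 5489) (.leaf 16896)) (.node 1059 (.leaf 5490) (.leaf 16928))) (.node 1062 (.node 1061 (.leaf 5506) (.leaf 16960)) (.node 1063 (.leaf 16865) (.leaf 16992)))) (.node 1068 (.node 1066 (.node 1065 (.leaf 13826) (.leaf 17024)) (.node 1067 (.leaf 5507) (.leaf 5523))) (.node 1070 (.node 1069 (.leaf 5521) (.leaf 5777)) (.node 1071 (.leaf 5522) (.leaf 5537))))) (.node 1080 (.node 1076 (.node 1074 (.node 1073 (.leaf 17136) (.leaf 5539)) (.node 1075 (.leaf 5555) (.leaf 5553))) (.node 1078 (.node 1077 (.leaf 17200) (.leaf 5554)) (.node 1079 (.leaf 17232) (.leaf 5570)))) (.node 1084 (.node 1082 (.node 1081 (.leaf 17264) (.leaf 17137)) (.node 1083 (.leaf 5585) (.leaf 17312))) (.node 1086 (.node 1085 (.leaf 5586) (.leaf 17344)) (.node 1087 (.leaf 5601) (.leaf 17376))))))) (.node 1120 (.node 1104 (.node 1096 (.node 1092 (.node 1090 (.node 1089 (.leaf 5603) (.leaf 5619)) (.node 1091 (.leaf 5617) (.leaf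 17440))) (.node 1094 (.node 1093 (.leaf 5618) (.leaf 17472)) (.node 1095 (.leaf 5634) (.leaf 17504)))) (.node 1100 (.node 1098 (.node 1097 (.leaf 17377) (.leaf 5635)) (.node 1099 (.leaf 5651) (.leaf 5649))) (.node 1102 (.node 1101 (.leaf 17584) (.leaf 5650)) (.node 1103 (.leaf 17616) (.leaf 5681))))) (.node 1112 (.node 1108 (.node 1106 (.node 1105 (.leaf 5682) (.leaf 17664)) (.node 1107 (.leaf 5697) (.leaf 17696))) (.node 1110 (.node 1109 (.leaf 5698) (.leaf 17728)) (.node 1111 (.leaf 5713) (.leaf 17760)))) (.node 1116 (.node 1114 (.node 1113 (.leaf 5714) (.leaf 17792)) (.node 1115 (.leaf 5729) (.leaf 17824))) (.node 1118 (.node 1117 (.leaf 5731) (.leaf 5746)) (.node 1119 (.leaf 17872) (.leaf 5809)))))) (.node 1136 (.node 1128 (.node 1124 (.node 1122 (.node 1121 (.leaf 17904) (.leaf 5810)) (.node 1123 (.leaf 17936) (.leaf 5841))) (.node 1126 (.node 1125 (.leaf 17968) (.leaf 5842)) (.node 1127 (.leaf 18000) (.leaf 5857))))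 (.node 1132 (.node 1130 (.node 1129 (.leaf 18032) (.leaf 5858)) (.node 1131 (.leaf 18064) (.leaf 5873))) (.node 1134 (.node 1133 (.leaf 18096) (.leaf 5874)) (.node 1135 (.leaf 18128) (.leaf 5890))))) (.node 1144 (.node 1140 (.node 1138 (.node 1137 (.leaf 11569) (.leaf 5891)) (.node 1139 (.leaf 5907) (.leaf 5905))) (.node 1142 (.node 1141 (.leaf 18224) (.leaf 5906)) (.node 1143 (.leaf 18256) (.leaf 5921)))) (.node 1148 (.node 1146 (.node 1145 (.leaf 18288) (.leaf 5938)) (.node 1147 (.leaf 6354) (.leaf 5954))) (.node 1150 (.node 1149 (.leaf 18352) (.leaf 18289)) (.node 1151 (.leaf 18384) (.leaf 13201)))))))) (.node 1216 (.node 1184 (.node 1168 (.node 1160 (.node 1156 (.node 1154 (.node 1153 (.leaf 18416) (.leaf 5970)) (.node 1155 (.leaf 18448) (.leaf 5985))) (.node 1158 (.node 1157 (.leaf 18480) (.leaf 11314)) (.node 1159 (.leaf 18512) (.leaf 11297)))) (.node 1164 (.node 1162 (.node 1161 (.leaf 18544) (.leaf 6001)) (.node 1163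 (.leaf 6002) (.leaf 6018))) (.node 1166 (.node 1165 (.leaf 18608) (.leaf 10241)) (.node 1167 (.leaf 18640) (.leaf 10274))))) (.node 1176 (.node 1172 (.node 1170 (.node 1169 (.leaf 18481) (.leaf 18688)) (.node 1171 (.leaf 18672) (.leaf 6019))) (.node 1174 (.node 1173 (.leaf 16945) (.leaf 6049)) (.node 1175 (.leaf 18768) (.leaf 6065)))) (.node 1180 (.node 1178 (.node 1177 (.leaf 18800) (.leaf 6082)) (.node 1179 (.leaf 18832) (.leaf 18769))) (.node 1182 (.node 1181 (.leaf 18864) (.leaf 6083)) (.node 1183 (.leaf 6097) (.leaf 6098)))))) (.node 1200 (.node 1192 (.node 1188 (.node 1186 (.node 1185 (.leaf 18928) (.leaf 6113)) (.node 1187 (.leaf 18960) (.leaf 6129))) (.node 1190 (.node 1189 (.leaf 18992) (.leaf 6162)) (.node 1191 (.leaf 19024) (.leaf 6193)))) (.node 1196 (.node 1194 (.node 1193 (.leaf 19056) (.leaf 6194)) (.node 1195 (.leaf 19088) (.leaf 6225))) (.node 1198 (.node 1197 (.leaf 14050) (.leaf 19136)) (.node 1199 (.leaf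 19120) (.leaf 6226))))) (.node 1208 (.node 1204 (.node 1202 (.node 1201 (.leaf 19184) (.leaf 14049)) (.node 1203 (.leaf 19216) (.leaf 6258))) (.node 1206 (.node 1205 (.leaf 19248) (.leaf 6291)) (.node 1207 (.leaf 6289) (.leaf 19296)))) (.node 1212 (.node 1210 (.node 1209 (.leaf 6290) (.leaf 19328)) (.node 1211 (.leaf 6305) (.leaf 19360))) (.node 1214 (.node 1213 (.leaf 6322) (.leaf 19392)) (.node 1215 (.leaf 6337) (.leaf 6353))))))) (.node 1248 (.node 1232 (.node 1224 (.node 1220 (.node 1218 (.node 1217 (.leaf 19440) (.leaf 6370)) (.node 1219 (.leaf 19472) (.leaf 19425))) (.node 1222 (.node 1221 (.leaf 19504) (.leaf 6371)) (.node 1223 (.leaf 6385) (.leaf 11537)))) (.node 1228 (.node 1226 (.node 1225 (.leaf 6401) (.leaf 19584)) (.node 1227 (.leaf 6402) (.leaf 19616))) (.node 1230 (.node 1229 (.leaf 6417) (.leaf 19648)) (.node 1231 (.leaf 6418) (.leaf 19680))))) (.node 1240 (.node 1236 (.node 1234 (.node 1233 (.leaf 6433) (.leaf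 6449)) (.node 1235 (.leaf 6466) (.leaf 19744))) (.node 1238 (.node 1237 (.leaf 19713) (.leaf 19776)) (.node 1239 (.leaf 6467) (.leaf 6483)))) (.node 1244 (.node 1242 (.node 1241 (.leaf 6481) (.leaf 6737)) (.node 1243 (.leaf 6482) (.leaf 6497))) (.node 1246 (.node 1245 (.leaf 19888) (.leaf 6499)) (.node 1247 (.leaf 6515) (.leaf 6513)))))) (.node 1264 (.node 1256 (.node 1252 (.node 1250 (.node 1249 (.leaf 19952) (.leaf 6514)) (.node 1251 (.leaf 19984) (.leaf 6530))) (.node 1254 (.node 1253 (.leaf 20016) (.leaf 19889)) (.node 1255 (.leaf 20048) (.leaf 6531)))) (.node 1260 (.node 1258 (.node 1257 (.leaf 6547) (.leaf 6545)) (.node 1259 (.leaf 6546) (.leaf 20128))) (.node 1262 (.node 1261 (.leaf 6561) (.leaf 20160)) (.node 1263 (.leaf 6563) (.leaf 6579))))) (.node 1272 (.node 1268 (.node 1266 (.node 1265 (.leaf 6577) (.leaf 20224)) (.node 1267 (.leaf 6578) (.leaf 20256))) (.node 1270 (.node 1269 (.leaf 6594) (.leaf 20161)) (.node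 1271 (.leaf 20304) (.leaf 6595)))) (.node 1276 (.node 1274 (.node 1273 (.leaf 6611) (.leaf 6609)) (.node 1275 (.leaf 6610) (.leaf 20384))) (.node 1278 (.node 1277 (.leaf 6627) (.leaf 6643)) (.node 1279 (.leaf 6641) (.leaf 6642))))))))

/-- block of `nd` -/
def nd_5 : Tr := .node 1408 (.node 1344 (.node 1312 (.node 1296 (.node 1288 (.node 1284 (.node 1282 (.node 1281 (.leaf 6657) (.leaf 20480)) (.node 1283 (.leaf 6658) (.leaf 20512))) (.node 1286 (.node 1285 (.leaf 6673) (.leaf 20544)) (.node 1287 (.leaf 6674) (.leaf 20576)))) (.node 1292 (.node 1290 (.node 1289 (.leaf 6689) (.leaf 20608)) (.node 1291 (.leaf 17667) (.leaf 20640))) (.node 1294 (.node 1293 (.leaf 6705) (.leaf 7618)) (.node 1295 (.leaf 6722) (.leaf 20704))))) (.node 1304 (.node 1300 (.node 1298 (.node 1297 (.leaf 20609) (.leaf 6723)) (.node 1299 (.leaf 6739) (.leaf 6738))) (.node 1302 (.node 1301 (.leaf 6769) (.leaf 6770)) (.node 1303 (.leaf 20816) (.leaf 18451))))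 (.node 1308 (.node 1306 (.node 1305 (.leaf 20848) (.leaf 6801)) (.node 1307 (.leaf 20880) (.leaf 6817))) (.node 1310 (.node 1309 (.leaf 6834) (.leaf 20881)) (.node 1311 (.leaf 20944) (.leaf 6849)))))) (.node 1328 (.node 1320 (.node 1316 (.node 1314 (.node 1313 (.leaf 20976) (.leaf 6850)) (.node 1315 (.leaf 21008) (.leaf 6865))) (.node 1318 (.node 1317 (.leaf 21040) (.leaf 6866)) (.node 1319 (.leaf 21072) (.leaf 6881)))) (.node 1324 (.node 1322 (.node 1321 (.leaf 21104) (.leaf 6897)) (.node 1323 (.leaf 21136) (.leaf 6898))) (.node 1326 (.node 1325 (.leaf 7074) (.leaf 6914)) (.node 1327 (.leaf 21105) (.leaf 21216))))) (.node 1336 (.node 1332 (.node 1330 (.node 1329 (.leaf 6929) (.leaf 6930)) (.node 1331 (.leaf 6945) (.leaf 21280))) (.node 1334 (.node 1333 (.leaf 6946) (.leaf 21312)) (.node 1335 (.leaf 6961) (.leaf 6962)))) (.node 1340 (.node 1338 (.node 1337 (.leaf 21360) (.leaf 6977)) (.node 1339 (.leaf 6994) (.leaf 21393)))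 (.node 1342 (.node 1341 (.leaf 21424) (.leaf 7026)) (.node 1343 (.leaf 7089) (.leaf 21472))))))) (.node 1376 (.node 1360 (.node 1352 (.node 1348 (.node 1346 (.node 1345 (.leaf 7090) (.leaf 21504)) (.node 1347 (.leaf 7105) (.leaf 7106))) (.node 1350 (.node 1349 (.leaf 21552) (.leaf 7121)) (.node 1351 (.leaf 21584) (.leaf 7123)))) (.node 1356 (.node 1354 (.node 1353 (.leaf 7139) (.leaf 7137)) (.node 1355 (.leaf 7138) (.leaf 7154))) (.node 1358 (.node 1357 (.leaf 21680) (.leaf 21585)) (.node 1359 (.leaf 7155) (.leaf 7171))))) (.node 1368 (.node 1364 (.node 1362 (.node 1361 (.leaf 7169) (.leaf 7170)) (.node 1363 (.leaf 21776) (.leaf 7185))) (.node 1366 (.node 1365 (.leaf 7187) (.leaf 7203)) (.node 1367 (.leaf 7201) (.leaf 7202)))) (.node 1372 (.node 1370 (.node 1369 (.leaf 7218) (.leaf 7233)) (.node 1371 (.leaf 7265) (.leaf 14689))) (.node 1374 (.node 1373 (.leaf 21921) (.leaf 21952)) (.node 1375 (.leaf 7298) (.leaf 21984))))))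 (.node 1392 (.node 1384 (.node 1380 (.node 1378 (.node 1377 (.leaf 7827) (.leaf 22016)) (.node 1379 (.leaf 7314) (.leaf 20913))) (.node 1382 (.node 1381 (.leaf 22064) (.leaf 7315)) (.node 1383 (.leaf 7329) (.leaf 7330)))) (.node 1388 (.node 1386 (.node 1385 (.leaf 7345) (.leaf 7361)) (.node 1387 (.leaf 22160) (.leaf 7363))) (.node 1390 (.node 1389 (.leaf 7377) (.leaf 7394)) (.node 1391 (.leaf 22161) (.leaf 22240))))) (.node 1400 (.node 1396 (.node 1394 (.node 1393 (.leaf 7409) (.leaf 7410)) (.node 1395 (.leaf 7425) (.leaf 22304))) (.node 1398 (.node 1397 (.leaf 7426) (.leaf 22336)) (.node 1399 (.leaf 7441) (.leaf 7442)))) (.node 1404 (.node 1402 (.node 1401 (.leaf 22384) (.leaf 7457)) (.node 1403 (.leaf 22416) (.leaf 7459))) (.node 1406 (.node 1405 (.leaf 7475) (.leaf 7473)) (.node 1407 (.leaf 22480) (.leaf 7474)))))))) (.node 1472 (.node 1440 (.node 1424 (.node 1416 (.node 1412 (.node 1410 (.node 1409 (.leaf 7490) (.leaf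 22417)) (.node 1411 (.leaf 7491) (.leaf 7523))) (.node 1414 (.node 1413 (.leaf 7539) (.leaf 7537)) (.node 1415 (.leaf 22608) (.leaf 7538)))) (.node 1420 (.node 1418 (.node 1417 (.leaf 22640) (.leaf 7553)) (.node 1419 (.leaf 22672) (.leaf 7554))) (.node 1422 (.node 1421 (.leaf 22704) (.leaf 7569)) (.node 1423 (.leaf 22736) (.leaf 7570))))) (.node 1432 (.node 1428 (.node 1426 (.node 1425 (.leaf 22768) (.leaf 7602)) (.node 1427 (.leaf 22800) (.leaf 7617))) (.node 1430 (.node 1429 (.leaf 22832) (.leaf 7649)) (.node 1431 (.leaf 22864) (.leaf 7650)))) (.node 1436 (.node 1434 (.node 1433 (.leaf 22896) (.leaf 7681)) (.node 1435 (.leaf 8050) (.leaf 7745))) (.node 1438 (.node 1437 (.leaf 22960) (.leaf 7746)) (.node 1439 (.leaf 22992) (.leaf 7777)))))) (.node 1456 (.node 1448 (.node 1444 (.node 1442 (.node 1441 (.leaf 23024) (.leaf 7793)) (.node 1443 (.leaf 11953) (.leaf 7809))) (.node 1446 (.node 1445 (.leaf 23088) (.leaf 7826)) (.node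 1447 (.leaf 23120) (.leaf 8801)))) (.node 1452 (.node 1450 (.node 1449 (.leaf 23152) (.leaf 7841)) (.node 1451 (.leaf 23184) (.leaf 7842))) (.node 1454 (.node 1453 (.leaf 7857) (.leaf 7874)) (.node 1455 (.leaf 7890) (.leaf 23264))))) (.node 1464 (.node 1460 (.node 1458 (.node 1457 (.leaf 23233) (.leaf 7921)) (.node 1459 (.leaf 23312) (.leaf 7922))) (.node 1462 (.node 1461 (.leaf 14385) (.leaf 14386)) (.node 1463 (.leaf 23376) (.leaf 23360)))) (.node 1468 (.node 1466 (.node 1465 (.leaf 7954) (.leaf 23424)) (.node 1467 (.leaf 23025) (.leaf 23456))) (.node 1470 (.node 1469 (.leaf 9746) (.leaf 23488)) (.node 1471 (.leaf 7971) (.leaf 7987))))))) (.node 1504 (.node 1488 (.node 1480 (.node 1476 (.node 1474 (.node 1473 (.leaf 7985) (.leaf 23552)) (.node 1475 (.leaf 7986) (.leaf 23584))) (.node 1478 (.node 1477 (.leaf 8001) (.leaf 8034)) (.node 1479 (.leaf 23617) (.leaf 23648)))) (.node 1484 (.node 1482 (.node 1481 (.leaf 8081) (.leaf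 23680)) (.node 1483 (.leaf 8082) (.leaf 23712))) (.node 1486 (.node 1485 (.leaf 8113) (.leaf 8114)) (.node 1487 (.leaf 8129) (.leaf 8145))))) (.node 1496 (.node 1492 (.node 1490 (.node 1489 (.leaf 8146) (.leaf 23808)) (.node 1491 (.leaf 8162) (.leaf 23840))) (.node 1494 (.node 1493 (.leaf 8177) (.leaf 8369)) (.node 1495 (.leaf 8178) (.leaf 23904)))) (.node 1500 (.node 1498 (.node 1497 (.leaf 8209) (.leaf 8210)) (.node 1499 (.leaf 23952) (.leaf 8241))) (.node 1502 (.node 1501 (.leaf 23984) (.leaf 8242)) (.node 1503 (.leaf 24016) (.leaf 8257)))))) (.node 1520 (.node 1512 (.node 1508 (.node 1506 (.node 1505 (.leaf 24048) (.leaf 8274)) (.node 1507 (.leaf 24049) (.leaf 24096))) (.node 1510 (.node 1509 (.leaf 8289) (.leaf 8290)) (.node 1511 (.leaf 24144) (.leaf 8338)))) (.node 1516 (.node 1514 (.node 1513 (.leaf 8354) (.leaf 24192)) (.node 1515 (.leaf 8401) (.leaf 8465))) (.node 1518 (.node 1517 (.leaf 8482) (.leaf 14849)) (.node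 1519 (.leaf 8513) (.leaf 8562))))) (.node 1528 (.node 1524 (.node 1522 (.node 1521 (.leaf 24304) (.leaf 8593)) (.node 1523 (.leaf 24336) (.leaf 8626))) (.node 1526 (.node 1525 (.leaf 24368) (.leaf 8642)) (.node 1527 (.leaf 24400) (.leaf 8657)))) (.node 1532 (.node 1530 (.node 1529 (.leaf 24432) (.leaf 8659)) (.node 1531 (.leaf 8673) (.leaf 24480))) (.node 1534 (.node 1533 (.leaf 8674) (.leaf 8930)) (.node 1535 (.leaf 8690) (.leaf 24544))))))))

/-- block of `nd` -/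
def nd_6 : Tr := .node 1664 (.node 1600 (.node 1568 (.node 1552 (.node 1544 (.node 1540 (.node 1538 (.node 1537 (.leaf 10129) (.leaf 24576)) (.node 1539 (.leaf 10162) (.leaf 24608))) (.node 1542 (.node 1541 (.leaf 24433) (.leaf 24640)) (.node 1543 (.leaf 13969) (.leaf 13986)))) (.node 1548 (.node 1546 (.node 1545 (.leaf 24688) (.leaf 13985)) (.node 1547 (.leaf 24720) (.leaf 24672))) (.node 1550 (.node 1549 (.leaf 14002) (.leaf 24768)) (.node 1551 (.leaf 8706) (.leaf 24800))))) (.node 1560 (.node 1556 (.node 1554 (.node 1553 (.leaf 11410) (.leaf 24832)) (.node 1555 (.leaf 8722) (.leaf 24864))) (.node 1558 (.node 1557 (.leaf 8753) (.leaf 24896)) (.node 1559 (.leaf 8754) (.leaf 24928)))) (.node 1564 (.node 1562 (.node 1561 (.leaf 8769) (.leaf 24960)) (.node 1563 (.leaf 8785) (.leaf 24992))) (.node 1566 (.node 1565 (.leaf 8817) (.leaf 25024)) (.node 1567 (.leaf 8818) (.leaf 25056)))))) (.node 1584 (.node 1576 (.node 1572 (.node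 1570 (.node 1569 (.leaf 8851) (.leaf 8849)) (.node 1571 (.leaf 25104) (.leaf 8850))) (.node 1574 (.node 1573 (.leaf 25136) (.leaf 8881)) (.node 1575 (.leaf 8882) (.leaf 25184)))) (.node 1580 (.node 1578 (.node 1577 (.leaf 8897) (.leaf 25216)) (.node 1579 (.leaf 8913) (.leaf 25248))) (.node 1582 (.node 1581 (.leaf 17874) (.leaf 25280)) (.node 1583 (.leaf 8962) (.leaf 25312))))) (.node 1592 (.node 1588 (.node 1586 (.node 1585 (.leaf 8977) (.leaf 25344)) (.node 1587 (.leaf 8978) (.leaf 25376))) (.node 1590 (.node 1589 (.leaf 8993) (.leaf 25408)) (.node 1591 (.leaf 8994) (.leaf 9009)))) (.node 1596 (.node 1594 (.node 1593 (.leaf 9026) (.leaf 25472)) (.node 1595 (.leaf 25457) (.leaf 9041))) (.node 1598 (.node 1597 (.leaf 9249) (.leaf 9042)) (.node 1599 (.leaf 25552) (.leaf 9073))))))) (.node 1632 (.node 1616 (.node 1608 (.node 1604 (.node 1602 (.node 1601 (.leaf 25584) (.leaf 9074)) (.node 1603 (.leaf 25616) (.leaf 9122))) (.node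 1606 (.node 1605 (.leaf 9346) (.leaf 9139)) (.node 1607 (.leaf 9154) (.leaf 25696)))) (.node 1612 (.node 1610 (.node 1609 (.leaf 9186) (.leaf 25728)) (.node 1611 (.leaf 9217) (.leaf 25760))) (.node 1614 (.node 1613 (.leaf 9234) (.leaf 25792)) (.node 1615 (.leaf 9281) (.leaf 25824))))) (.node 1624 (.node 1620 (.node 1618 (.node 1617 (.leaf 9282) (.leaf 25856)) (.node 1619 (.leaf 9297) (.leaf 25888))) (.node 1622 (.node 1621 (.leaf 9298) (.leaf 25920)) (.node 1623 (.leaf 9313) (.leaf 25952)))) (.node 1628 (.node 1626 (.node 1625 (.leaf 9314) (.leaf 25984)) (.node 1627 (.leaf 9329) (.leaf 9331))) (.node 1630 (.node 1629 (.leaf 9347) (.leaf 9345)) (.node 1631 (.leaf 26064) (.leaf 9362)))))) (.node 1648 (.node 1640 (.node 1636 (.node 1634 (.node 1633 (.leaf 9363) (.leaf 9379)) (.node 1635 (.leaf 9377) (.leaf 9378))) (.node 1638 (.node 1637 (.leaf 9393) (.leaf 26176)) (.node 1639 (.leaf 9409) (.leaf 26208)))) (.node 1644 (.node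 1642 (.node 1641 (.leaf 24178) (.leaf 26240)) (.node 1643 (.leaf 9441) (.leaf 24162))) (.node 1646 (.node 1645 (.leaf 9442) (.leaf 26304)) (.node 1647 (.leaf 9473) (.leaf 26336))))) (.node 1656 (.node 1652 (.node 1650 (.node 1649 (.leaf 9474) (.leaf 26290)) (.node 1651 (.leaf 9505) (.leaf 26400))) (.node 1654 (.node 1653 (.leaf 9506) (.leaf 26432)) (.node 1655 (.leaf 9539) (.leaf 9538)))) (.node 1660 (.node 1658 (.node 1657 (.leaf 26480) (.leaf 9569)) (.node 1659 (.leaf 26512) (.leaf 9570))) (.node 1662 (.node 1661 (.leaf 26418) (.leaf 9617)) (.node 1663 (.leaf 26576) (.leaf 9618)))))))) (.node 1728 (.node 1696 (.node 1680 (.node 1672 (.node 1668 (.node 1666 (.node 1665 (.leaf 9633) (.leaf 24337)) (.node 1667 (.leaf 9651) (.leaf 9667))) (.node 1670 (.node 1669 (.leaf 9665) (.leaf 26688)) (.node 1671 (.leaf 9666) (.leaf 24497)))) (.node 1676 (.node 1674 (.node 1673 (.leaf 9681) (.leaf 26752)) (.node 1675 (.leaf 9697) (.leaf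 26784))) (.node 1678 (.node 1677 (.leaf 9698) (.leaf 9729)) (.node 1679 (.leaf 9730) (.leaf 10258))))) (.node 1688 (.node 1684 (.node 1682 (.node 1681 (.leaf 9747) (.leaf 9763)) (.node 1683 (.leaf 9761) (.leaf 9762))) (.node 1686 (.node 1685 (.leaf 9777) (.leaf 26944)) (.node 1687 (.leaf 9793) (.leaf 26976)))) (.node 1692 (.node 1690 (.node 1689 (.leaf 9825) (.leaf 27008)) (.node 1691 (.leaf 9826) (.leaf 27040))) (.node 1694 (.node 1693 (.leaf 9842) (.leaf 27072)) (.node 1695 (.leaf 9843) (.leaf 9859)))))) (.node 1712 (.node 1704 (.node 1700 (.node 1698 (.node 1697 (.leaf 9857) (.leaf 9858)) (.node 1699 (.leaf 27152) (.leaf 9873))) (.node 1702 (.node 1701 (.leaf 27184) (.leaf 9889)) (.node 1703 (.leaf 27216) (.leaf 9890)))) (.node 1708 (.node 1706 (.node 1705 (.leaf 27248) (.leaf 9906)) (.node 1707 (.leaf 27280) (.leaf 27185))) (.node 1710 (.node 1709 (.leaf 27312) (.leaf 9907)) (.node 1711 (.leaf 9923) (.leaf 9921))))) (.node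 1720 (.node 1716 (.node 1714 (.node 1713 (.leaf 9922) (.leaf 27392)) (.node 1715 (.leaf 9937) (.leaf 27424))) (.node 1718 (.node 1717 (.leaf 9938) (.leaf 9953)) (.node 1719 (.leaf 27472) (.leaf 9954)))) (.node 1724 (.node 1722 (.node 1721 (.leaf 27504) (.leaf 9971)) (.node 1723 (.leaf 9987) (.leaf 9985))) (.node 1726 (.node 1725 (.leaf 9986) (.leaf 27584)) (.node 1727 (.leaf 10003) (.leaf 10019))))))) (.node 1760 (.node 1744 (.node 1736 (.node 1732 (.node 1730 (.node 1729 (.leaf 10017) (.leaf 11073)) (.node 1731 (.leaf 10018) (.leaf 27680))) (.node 1734 (.node 1733 (.leaf 10033) (.leaf 12034)) (.node 1735 (.leaf 10034) (.leaf 27744)))) (.node 1740 (.node 1738 (.node 1737 (.leaf 10049) (.leaf 27776)) (.node 1739 (.leaf 10050) (.leaf 10065))) (.node 1742 (.node 1741 (.leaf 27824) (.leaf 10066)) (.node 1743 (.leaf 27856) (.leaf 10081))))) (.node 1752 (.node 1748 (.node 1746 (.node 1745 (.leaf 27888) (.leaf 10097)) (.node 1747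 (.leaf 27920) (.leaf 10113))) (.node 1750 (.node 1749 (.leaf 27952) (.leaf 10114)) (.node 1751 (.leaf 27984) (.leaf 10131)))) (.node 1756 (.node 1754 (.node 1753 (.leaf 10145) (.leaf 28032)) (.node 1755 (.leaf 10163) (.leaf 10177))) (.node 1758 (.node 1757 (.leaf 27601) (.leaf 10178)) (.node 1759 (.leaf 10193) (.leaf 10195)))))) (.node 1776 (.node 1768 (.node 1764 (.node 1762 (.node 1761 (.leaf 10209) (.leaf 14754)) (.node 1763 (.leaf 10210) (.leaf 28192))) (.node 1766 (.node 1765 (.leaf 10226) (.leaf 28129)) (.node 1767 (.leaf 28240) (.leaf 10227)))) (.node 1772 (.node 1770 (.node 1769 (.leaf 10257) (.leaf 10275)) (.node 1771 (.leaf 10291) (.leaf 10289))) (.node 1774 (.node 1773 (.leaf 28209) (.leaf 10321)) (.node 1775 (.leaf 10322) (.leaf 10337))))) (.node 1784 (.node 1780 (.node 1778 (.node 1777 (.leaf 28400) (.leaf 10338)) (.node 1779 (.leaf 28432) (.leaf 10353))) (.node 1782 (.node 1781 (.leaf 10369) (.leaf 28480)) (.node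 1783 (.leaf 10370) (.leaf 10386)))) (.node 1788 (.node 1786 (.node 1785 (.leaf 28465) (.leaf 10387)) (.node 1787 (.leaf 10403) (.leaf 10401))) (.node 1790 (.node 1789 (.leaf 10673) (.leaf 10402)) (.node 1791 (.leaf 28624) (.leaf 10449))))))))

/-- block of `nd` -/
def nd_7 : Tr := .node 1920 (.node 1856 (.node 1824 (.node 1808 (.node 1800 (.node 1796 (.node 1794 (.node 1793 (.leaf 10465) (.leaf 28672)) (.node 1795 (.leaf 10466) (.leaf 10481))) (.node 1798 (.node 1797 (.leaf 28720) (.leaf 10482)) (.node 1799 (.leaf 10497) (.leaf 10499)))) (.node 1804 (.node 1802 (.node 1801 (.leaf 10515) (.leaf 10513)) (.node 1803 (.leaf 28816) (.leaf 10514))) (.node 1806 (.node 1805 (.leaf 10786) (.leaf 10546)) (.node 1807 (.leaf 28880) (.leaf 10577))))) (.node 1816 (.node 1812 (.node 1810 (.node 1809 (.leaf 10593) (.leaf 28928)) (.node 1811 (.leaf 10594) (.leaf 28960))) (.node 1814 (.node 1813 (.leaf 10609) (.leaf 28992)) (.node 1815 (.leaf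 10610) (.leaf 10625)))) (.node 1820 (.node 1818 (.node 1817 (.leaf 29040) (.leaf 10627)) (.node 1819 (.leaf 10643) (.leaf 10641))) (.node 1822 (.node 1821 (.leaf 29104) (.leaf 10642)) (.node 1823 (.leaf 29136) (.leaf 10658)))))) (.node 1840 (.node 1832 (.node 1828 (.node 1826 (.node 1825 (.leaf 29168) (.leaf 29041)) (.node 1827 (.leaf 29200) (.leaf 10659))) (.node 1830 (.node 1829 (.leaf 10675) (.leaf 10674)) (.node 1831 (.leaf 29264) (.leaf 10705)))) (.node 1836 (.node 1834 (.node 1833 (.leaf 10706) (.leaf 29312)) (.node 1835 (.leaf 10737) (.leaf 29344))) (.node 1838 (.node 1837 (.leaf 10738) (.leaf 29376)) (.node 1839 (.leaf 10753) (.leaf 29408))))) (.node 1848 (.node 1844 (.node 1842 (.node 1841 (.leaf 10754) (.leaf 29440)) (.node 1843 (.leaf 10769) (.leaf 29472))) (.node 1846 (.node 1845 (.leaf 10771) (.leaf 10787)) (.node 1847 (.leaf 10785) (.leaf 29536)))) (.node 1852 (.node 1850 (.node 1849 (.leaf 10818) (.leaf 29568))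 (.node 1851 (.leaf 10833) (.leaf 29600))) (.node 1854 (.node 1853 (.leaf 10835) (.leaf 10851)) (.node 1855 (.leaf 10849) (.leaf 10850))))))) (.node 1888 (.node 1872 (.node 1864 (.node 1860 (.node 1858 (.node 1857 (.leaf 29680) (.leaf 10866)) (.node 1859 (.leaf 29712) (.leaf 29601))) (.node 1862 (.node 1861 (.leaf 10882) (.leaf 29760)) (.node 1863 (.leaf 10897) (.leaf 29792)))) (.node 1868 (.node 1866 (.node 1865 (.leaf 10899) (.leaf 10915)) (.node 1867 (.leaf 10913) (.leaf 29856))) (.node 1870 (.node 1869 (.leaf 10914) (.leaf 29888)) (.node 1871 (.leaf 10930) (.leaf 29920))))) (.node 1880 (.node 1876 (.node 1874 (.node 1873 (.leaf 29793) (.leaf 29952)) (.node 1875 (.leaf 10931) (.leaf 10947))) (.node 1878 (.node 1877 (.leaf 10945) (.leaf 30016)) (.node 1879 (.leaf 10946) (.leaf 30048)))) (.node 1884 (.node 1882 (.node 1881 (.leaf 10977) (.leaf 30080)) (.node 1883 (.leaf 10978) (.leaf 30112))) (.node 1886 (.node 1885 (.leaf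 10993) (.leaf 30144)) (.node 1887 (.leaf 10994) (.leaf 30176)))))) (.node 1904 (.node 1896 (.node 1892 (.node 1890 (.node 1889 (.leaf 11009) (.leaf 30208)) (.node 1891 (.leaf 11010) (.leaf 30240))) (.node 1894 (.node 1893 (.leaf 11025) (.leaf 30272)) (.node 1895 (.leaf 11042) (.leaf 30304)))) (.node 1900 (.node 1898 (.node 1897 (.leaf 11059) (.leaf 11074)) (.node 1899 (.leaf 11091) (.leaf 11107))) (.node 1902 (.node 1901 (.leaf 11105) (.leaf 30400)) (.node 1903 (.leaf 11106) (.leaf 30432))))) (.node 1912 (.node 1908 (.node 1906 (.node 1905 (.leaf 11137) (.leaf 30464)) (.node 1907 (.leaf 14130) (.leaf 30496))) (.node 1910 (.node 1909 (.leaf 14097) (.leaf 30528)) (.node 1911 (.leaf 11138) (.leaf 28033)))) (.node 1916 (.node 1914 (.node 1913 (.leaf 24802) (.leaf 30592)) (.node 1915 (.leaf 11153) (.leaf 30624))) (.node 1918 (.node 1917 (.leaf 11154) (.leaf 30656)) (.node 1919 (.leaf 11169) (.leaf 30688)))))))) (.node 1984 (.node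 1952 (.node 1936 (.node 1928 (.node 1924 (.node 1922 (.node 1921 (.leaf 11170) (.leaf 11185)) (.node 1923 (.leaf 30736) (.leaf 11186))) (.node 1926 (.node 1925 (.leaf 30768) (.leaf 11201)) (.node 1927 (.leaf 30800) (.leaf 11202)))) (.node 1932 (.node 1930 (.node 1929 (.leaf 30832) (.leaf 11217)) (.node 1931 (.leaf 30864) (.leaf 11233))) (.node 1934 (.node 1933 (.leaf 11266) (.leaf 11250)) (.node 1935 (.leaf 30928) (.leaf 30865))))) (.node 1944 (.node 1940 (.node 1938 (.node 1937 (.leaf 11251) (.leaf 11265)) (.node 1939 (.leaf 11377) (.leaf 11281))) (.node 1942 (.node 1941 (.leaf 31024) (.leaf 11282)) (.node 1943 (.leaf 31056) (.leaf 11315)))) (.node 1948 (.node 1946 (.node 1945 (.leaf 11330) (.leaf 31104)) (.node 1947 (.leaf 11363) (.leaf 11379))) (.node 1950 (.node 1949 (.leaf 11378) (.leaf 31168)) (.node 1951 (.leaf 11409) (.leaf 31200)))))) (.node 1968 (.node 1960 (.node 1956 (.node 1954 (.node 1953 (.leaf 14882) (.leaf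 31232)) (.node 1955 (.leaf 11426) (.leaf 11427))) (.node 1958 (.node 1957 (.leaf 11443) (.leaf 11441)) (.node 1959 (.leaf 11442) (.leaf 31328)))) (.node 1964 (.node 1962 (.node 1961 (.leaf 11457) (.leaf 11459)) (.node 1963 (.leaf 11475) (.leaf 11473))) (.node 1966 (.node 1965 (.leaf 31408) (.leaf 11474)) (.node 1967 (.leaf 11490) (.leaf 11491))))) (.node 1976 (.node 1972 (.node 1970 (.node 1969 (.leaf 11507) (.leaf 11505)) (.node 1971 (.leaf 11506) (.leaf 11523))) (.node 1974 (.node 1973 (.leaf 11539) (.leaf 11538)) (.node 1975 (.leaf 31568) (.leaf 11554)))) (.node 1980 (.node 1978 (.node 1977 (.leaf 31600) (.leaf 11585)) (.node 1979 (.leaf 11617) (.leaf 31648))) (.node 1982 (.node 1981 (.leaf 11618) (.leaf 11649)) (.node 1983 (.leaf 31696) (.leaf 11665))))))) (.node 2016 (.node 2000 (.node 1992 (.node 1988 (.node 1986 (.node 1985 (.leaf 31728) (.leaf 11666)) (.node 1987 (.leaf 11681) (.leaf 31776))) (.node 1990 (.node 1989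 (.leaf 11682) (.leaf 31808)) (.node 1991 (.leaf 11697) (.leaf 31840)))) (.node 1996 (.node 1994 (.node 1993 (.leaf 11714) (.leaf 31841)) (.node 1995 (.leaf 11729) (.leaf 31904))) (.node 1998 (.node 1997 (.leaf 11745) (.leaf 31936)) (.node 1999 (.leaf 11746) (.leaf 31968))))) (.node 2008 (.node 2004 (.node 2002 (.node 2001 (.leaf 11761) (.leaf 32000)) (.node 2003 (.leaf 11762) (.leaf 11795))) (.node 2006 (.node 2005 (.leaf 11809) (.leaf 12001)) (.node 2007 (.leaf 11810) (.leaf 11825)))) (.node 2012 (.node 2010 (.node 2009 (.leaf 11841) (.leaf 32128)) (.node 2011 (.leaf 11842) (.leaf 11858))) (.node 2014 (.node 2013 (.leaf 32113) (.leaf 11889)) (.node 2015 (.leaf 32208) (.leaf 11921)))))) (.node 2032 (.node 2024 (.node 2020 (.node 2018 (.node 2017 (.leaf 32240) (.leaf 11937)) (.node 2019 (.leaf 32272) (.leaf 11969))) (.node 2022 (.node 2021 (.leaf 12978) (.leaf 23073)) (.node 2023 (.leaf 32336) (.leaf 12033)))) (.node 2028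 (.node 2026 (.node 2025 (.leaf 12065) (.leaf 32384)) (.node 2027 (.leaf 12066) (.leaf 32416))) (.node 2030 (.node 2029 (.leaf 12081) (.leaf 32448)) (.node 2031 (.leaf 12082) (.leaf 32480))))) (.node 2040 (.node 2036 (.node 2034 (.node 2033 (.leaf 12097) (.leaf 32512)) (.node 2035 (.leaf 12114) (.leaf 12514))) (.node 2038 (.node 2037 (.leaf 12145) (.leaf 32576)) (.node 2039 (.leaf 12146) (.leaf 12161)))) (.node 2044 (.node 2042 (.node 2041 (.leaf 12162) (.leaf 32640)) (.node 2043 (.leaf 12177) (.leaf 32672))) (.node 2046 (.node 2045 (.leaf 12178) (.leaf 32704)) (.node 2047 (.leaf 12209) (.leaf 12210))))))))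

/-- block of `nd` -/
def nd_8 : Tr := .node 2176 (.node 2112 (.node 2080 (.node 2064 (.node 2056 (.node 2052 (.node 2050 (.node 2049 (.leaf 32594) (.leaf 12242)) (.node 2051 (.leaf 12257) (.leaf 12273))) (.node 2054 (.node 2053 (.leaf 32816) (.leaf 12274)) (.node 2055 (.leaf 32848) (.leaf 12290)))) (.node 2060 (.node 2058 (.node 2057 (.leaf 32880) (.leaf 32801)) (.node 2059 (.leaf 32912) (.leaf 12291))) (.node 2062 (.node 2061 (.leaf 12307) (.leaf 12305)) (.node 2063 (.leaf 32976) (.leaf 12306))))) (.node 2072 (.node 2068 (.node 2066 (.node 2065 (.leaf 33008) (.leaf 12321)) (.node 2067 (.leaf 33040) (.leaf 12337))) (.node 2070 (.node 2069 (.leaf 33072) (.leaf 12338)) (.node 2071 (.leaf 33104) (.leaf 12354)))) (.node 2076 (.node 2074 (.node 2073 (.leaf 33136) (.leaf 33041)) (.node 2075 (.leaf 33168) (.leaf 12355))) (.node 2078 (.node 2077 (.leaf 12371) (.leaf 12369)) (.node 2079 (.leaf 12370) (.leaf 33248)))))) (.node 2096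 (.node 2088 (.node 2084 (.node 2082 (.node 2081 (.leaf 12419) (.leaf 12417)) (.node 2083 (.leaf 33296) (.leaf 12418))) (.node 2086 (.node 2085 (.leaf 12435) (.leaf 12451)) (.node 2087 (.leaf 12449) (.leaf 12465)))) (.node 2092 (.node 2090 (.node 2089 (.leaf 33392) (.leaf 12466)) (.node 2091 (.leaf 33424) (.leaf 12481))) (.node 2094 (.node 2093 (.leaf 33456) (.leaf 12482)) (.node 2095 (.leaf 33488) (.leaf 12497))))) (.node 2104 (.node 2100 (.node 2098 (.node 2097 (.leaf 33520) (.leaf 12499)) (.node 2099 (.leaf 12515) (.leaf 12513))) (.node 2102 (.node 2101 (.leaf 12545) (.leaf 33600)) (.node 2103 (.leaf 12546) (.leaf 12609)))) (.node 2108 (.node 2106 (.node 2105 (.leaf 12563) (.leaf 12579)) (.node 2107 (.leaf 12593) (.leaf 33696))) (.node 2110 (.node 2109 (.leaf 12611) (.leaf 33697)) (.node 2111 (.leaf 33744) (.leaf 12641))))))) (.node 2144 (.node 2128 (.node 2120 (.node 2116 (.node 2114 (.node 2113 (.leaf 12642) (.leaf 33792))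 (.node 2115 (.leaf 12657) (.leaf 33824))) (.node 2118 (.node 2117 (.leaf 12673) (.leaf 33856)) (.node 2119 (.leaf 12689) (.leaf 33888)))) (.node 2124 (.node 2122 (.node 2121 (.leaf 12690) (.leaf 12946)) (.node 2123 (.leaf 12707) (.leaf 12738))) (.node 2126 (.node 2125 (.leaf 12834) (.leaf 33984)) (.node 2127 (.leaf 12882) (.leaf 34016))))) (.node 2136 (.node 2132 (.node 2130 (.node 2129 (.leaf 12897) (.leaf 34048)) (.node 2131 (.leaf 12962) (.leaf 34080))) (.node 2134 (.node 2133 (.leaf 12977) (.leaf 13009)) (.node 2135 (.leaf 34128) (.leaf 13041)))) (.node 2140 (.node 2138 (.node 2137 (.leaf 34160) (.leaf 13042)) (.node 2139 (.leaf 13073) (.leaf 34208))) (.node 2142 (.node 2141 (.leaf 13074) (.leaf 34240)) (.node 2143 (.leaf 13089) (.leaf 34272)))))) (.node 2160 (.node 2152 (.node 2148 (.node 2146 (.node 2145 (.leaf 13105) (.leaf 13698)) (.node 2147 (.leaf 33810) (.leaf 13106))) (.node 2150 (.node 2149 (.leaf 34352) (.leaf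 13122)) (.node 2151 (.leaf 34384) (.leaf 34273)))) (.node 2156 (.node 2154 (.node 2153 (.leaf 34416) (.leaf 13138)) (.node 2155 (.leaf 13169) (.leaf 34464))) (.node 2158 (.node 2157 (.leaf 13170) (.leaf 34496)) (.node 2159 (.leaf 13187) (.leaf 13202))))) (.node 2168 (.node 2164 (.node 2162 (.node 2161 (.leaf 34544) (.leaf 13217)) (.node 2163 (.leaf 34576) (.leaf 27025))) (.node 2166 (.node 2165 (.leaf 34608) (.leaf 13233)) (.node 2167 (.leaf 34640) (.leaf 13249)))) (.node 2172 (.node 2170 (.node 2169 (.leaf 34672) (.leaf 13265)) (.node 2171 (.leaf 34704) (.leaf 13282))) (.node 2174 (.node 2173 (.leaf 34736) (.leaf 34673)) (.node 2175 (.leaf 34768) (.leaf 13297)))))))) (.node 2240 (.node 2208 (.node 2192 (.node 2184 (.node 2180 (.node 2178 (.node 2177 (.leaf 34800) (.leaf 13298)) (.node 2179 (.leaf 24737) (.leaf 13393))) (.node 2182 (.node 2181 (.leaf 13330) (.leaf 34880)) (.node 2183 (.leaf 13361) (.leaf 34912)))) (.node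 2188 (.node 2186 (.node 2185 (.leaf 13426) (.leaf 34944)) (.node 2187 (.leaf 13441) (.leaf 34976))) (.node 2190 (.node 2189 (.leaf 13457) (.leaf 35008)) (.node 2191 (.leaf 13474) (.leaf 35040))))) (.node 2200 (.node 2196 (.node 2194 (.node 2193 (.leaf 34977) (.leaf 35072)) (.node 2195 (.leaf 13489) (.leaf 13569))) (.node 2198 (.node 2197 (.leaf 13490) (.leaf 26529)) (.node 2199 (.leaf 26530) (.leaf 35168)))) (.node 2204 (.node 2202 (.node 2201 (.leaf 35152) (.leaf 13522)) (.node 2203 (.leaf 35216) (.leaf 33714))) (.node 2206 (.node 2205 (.leaf 35248) (.leaf 13537)) (.node 2207 (.leaf 35280) (.leaf 13554)))))) (.node 2224 (.node 2216 (.node 2212 (.node 2210 (.node 2209 (.leaf 35312) (.leaf 28337)) (.node 2211 (.leaf 35344) (.leaf 13603))) (.node 2214 (.node 2213 (.leaf 13619) (.leaf 13617)) (.node 2215 (.leaf 35408) (.leaf 13618)))) (.node 2220 (.node 2218 (.node 2217 (.leaf 13634) (.leaf 34705)) (.node 2219 (.leaf 35472)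 (.leaf 13649))) (.node 2222 (.node 2221 (.leaf 35504) (.leaf 13665)) (.node 2223 (.leaf 13682) (.leaf 35552))))) (.node 2232 (.node 2228 (.node 2226 (.node 2225 (.leaf 35505) (.leaf 35584)) (.node 2227 (.leaf 13683) (.leaf 13697))) (.node 2230 (.node 2229 (.leaf 13713) (.leaf 13729)) (.node 2231 (.leaf 19346) (.leaf 35680)))) (.node 2236 (.node 2234 (.node 2233 (.leaf 13730) (.leaf 19345)) (.node 2235 (.leaf 35728) (.leaf 13746))) (.node 2238 (.node 2237 (.leaf 35760) (.leaf 35649)) (.node 2239 (.leaf 35792) (.leaf 13761))))))) (.node 2272 (.node 2256 (.node 2248 (.node 2244 (.node 2242 (.node 2241 (.leaf 13762) (.leaf 35840)) (.node 2243 (.leaf 13793) (.leaf 35872))) (.node 2246 (.node 2245 (.leaf 13811) (.leaf 13825)) (.node 2247 (.leaf 35920) (.leaf 13841)))) (.node 2252 (.node 2250 (.node 2249 (.leaf 13857) (.leaf 35968)) (.node 2251 (.leaf 13874) (.leaf 36000))) (.node 2254 (.node 2253 (.leaf 35953) (.leaf 36032)) (.node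 2255 (.leaf 13875) (.leaf 13891))))) (.node 2264 (.node 2260 (.node 2258 (.node 2257 (.leaf 13889) (.leaf 36096)) (.node 2259 (.leaf 13890) (.leaf 14609))) (.node 2262 (.node 2261 (.leaf 13922) (.leaf 36160)) (.node 2263 (.leaf 14018) (.leaf 14081)))) (.node 2268 (.node 2266 (.node 2265 (.leaf 36208) (.leaf 14082)) (.node 2267 (.leaf 36240) (.leaf 14113))) (.node 2270 (.node 2269 (.leaf 36272) (.leaf 14131)) (.node 2271 (.leaf 14147) (.leaf 14145)))))) (.node 2288 (.node 2280 (.node 2276 (.node 2274 (.node 2273 (.leaf 36336) (.leaf 14146)) (.node 2275 (.leaf 26417) (.leaf 14178))) (.node 2278 (.node 2277 (.leaf 18801) (.leaf 14210)) (.node 2279 (.leaf 31745) (.leaf 14225)))) (.node 2284 (.node 2282 (.node 2281 (.leaf 14289) (.leaf 14226)) (.node 2283 (.leaf 14257) (.leaf 14258))) (.node 2286 (.node 2285 (.leaf 14274) (.leaf 36544)) (.node 2287 (.leaf 14305) (.leaf 36576))))) (.node 2296 (.node 2292 (.node 2290 (.node 2289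 (.leaf 22994) (.leaf 36608)) (.node 2291 (.leaf 22961) (.leaf 36640))) (.node 2294 (.node 2293 (.leaf 14321) (.leaf 36672)) (.node 2295 (.leaf 14322) (.leaf 36704)))) (.node 2300 (.node 2298 (.node 2297 (.leaf 14338) (.leaf 35969)) (.node 2299 (.leaf 36194) (.leaf 36577))) (.node 2302 (.node 2301 (.leaf 36784) (.leaf 36768)) (.node 2303 (.leaf 14449) (.leaf 36832))))))))

/-- block of `nd` -/
def nd_9 : Tr := .node 2432 (.node 2368 (.node 2336 (.node 2320 (.node 2312 (.node 2308 (.node 2306 (.node 2305 (.leaf 14482) (.leaf 36864)) (.node 2307 (.leaf 14515) (.leaf 14514))) (.node 2310 (.node 2309 (.leaf 36912) (.leaf 35089)) (.node 2311 (.leaf 36944) (.leaf 14547)))) (.node 2316 (.node 2314 (.node 2313 (.leaf 14545) (.leaf 36992)) (.node 2315 (.leaf 14546) (.leaf 37024))) (.node 2318 (.node 2317 (.leaf 14577) (.leaf 37056)) (.node 2319 (.leaf 14578) (.leaf 37088))))) (.node 2328 (.node 2324 (.node 2322 (.node 2321 (.leaf 14593)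 (.leaf 37120)) (.node 2323 (.leaf 14610) (.leaf 37152))) (.node 2326 (.node 2325 (.leaf 14673) (.leaf 14674)) (.node 2327 (.leaf 37200) (.leaf 14706)))) (.node 2332 (.node 2330 (.node 2329 (.leaf 37232) (.leaf 14721)) (.node 2331 (.leaf 37264) (.leaf 14738))) (.node 2334 (.node 2333 (.leaf 37296) (.leaf 37265)) (.node 2335 (.leaf 37328) (.leaf 14755)))))) (.node 2352 (.node 2344 (.node 2340 (.node 2338 (.node 2337 (.leaf 14753) (.leaf 37376)) (.node 2339 (.leaf 14769) (.leaf 37408))) (.node 2342 (.node 2341 (.leaf 14771) (.leaf 14785)) (.node 2343 (.leaf 37456) (.leaf 14786)))) (.node 2348 (.node 2346 (.node 2345 (.leaf 37394) (.leaf 14802)) (.node 2347 (.leaf 37520) (.leaf 37409))) (.node 2350 (.node 2349 (.leaf 37552) (.leaf 14817)) (.node 2351 (.leaf 36721) (.leaf 14818))))) (.node 2360 (.node 2356 (.node 2354 (.node 2353 (.leaf 17985) (.leaf 17986)) (.node 2355 (.leaf 37648) (.leaf 37632))) (.node 2358 (.node 2357 (.leaf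 37616) (.leaf 14850)) (.node 2359 (.leaf 37712) (.leaf 14881)))) (.node 2364 (.node 2362 (.node 2361 (.leaf 37744) (.leaf 14898)) (.node 2363 (.leaf 37776) (.leaf 14913))) (.node 2366 (.node 2365 (.leaf 37808) (.leaf 14929)) (.node 2367 (.leaf 14930) (.leaf 37856))))))) (.node 2400 (.node 2384 (.node 2376 (.node 2372 (.node 2370 (.node 2369 (.leaf 14946) (.leaf 37888)) (.node 2371 (.leaf 14947) (.leaf 14963))) (.node 2374 (.node 2373 (.leaf 14961) (.leaf 15217)) (.node 2375 (.leaf 14977) (.leaf 37984)))) (.node 2380 (.node 2378 (.node 2377 (.leaf 14979) (.leaf 14995)) (.node 2379 (.leaf 14993) (.leaf 38048))) (.node 2382 (.node 2381 (.leaf 14994) (.leaf 38080)) (.node 2383 (.leaf 15010) (.leaf 38112))))) (.node 2392 (.node 2388 (.node 2386 (.node 2385 (.leaf 37985) (.leaf 38144)) (.node 2387 (.leaf 15025) (.leaf 15026))) (.node 2390 (.node 2389 (.leaf 38192) (.leaf 15041)) (.node 2391 (.leaf 38224) (.leaf 15043)))) (.node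 2396 (.node 2394 (.node 2393 (.leaf 15059) (.leaf 15057)) (.node 2395 (.leaf 38288) (.leaf 15058))) (.node 2398 (.node 2397 (.leaf 38320) (.leaf 15074)) (.node 2399 (.leaf 38352) (.leaf 38225)))))) (.node 2416 (.node 2408 (.node 2404 (.node 2402 (.node 2401 (.leaf 38384) (.leaf 15075)) (.node 2403 (.leaf 15091) (.leaf 15089))) (.node 2406 (.node 2405 (.leaf 38448) (.leaf 15090)) (.node 2407 (.leaf 38480) (.leaf 15107)))) (.node 2412 (.node 2410 (.node 2409 (.leaf 15121) (.leaf 15122)) (.node 2411 (.leaf 38544) (.leaf 15137))) (.node 2414 (.node 2413 (.leaf 38576) (.leaf 15138)) (.node 2415 (.leaf 38608) (.leaf 15153))))) (.node 2424 (.node 2420 (.node 2418 (.node 2417 (.leaf 38640) (.leaf 15154)) (.node 2419 (.leaf 38672) (.leaf 15169))) (.node 2422 (.node 2421 (.leaf 38704) (.leaf 30115)) (.node 2423 (.leaf 38736) (.leaf 15171)))) (.node 2428 (.node 2426 (.node 2425 (.leaf 15187) (.leaf 15185)) (.node 2427 (.leaf 16754)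 (.leaf 15186))) (.node 2430 (.node 2429 (.leaf 38832) (.leaf 15202)) (.node 2431 (.leaf 38864) (.leaf 38705)))))))) (.node 2496 (.node 2464 (.node 2448 (.node 2440 (.node 2436 (.node 2434 (.node 2433 (.leaf 38896) (.leaf 15235)) (.node 2435 (.leaf 15249) (.leaf 15250))) (.node 2438 (.node 2437 (.leaf 38960) (.leaf 31107)) (.node 2439 (.leaf 15281) (.leaf 39008)))) (.node 2444 (.node 2442 (.node 2441 (.leaf 15282) (.leaf 15297)) (.node 2443 (.leaf 39056) (.leaf 15298))) (.node 2446 (.node 2445 (.leaf 39088) (.leaf 15313)) (.node 2447 (.leaf 39120) (.leaf 15314))))) (.node 2456 (.node 2452 (.node 2450 (.node 2449 (.leaf 15329) (.leaf 39168)) (.node 2451 (.leaf 15345) (.leaf 15362))) (.node 2454 (.node 2453 (.leaf 39169) (.leaf 39232)) (.node 2455 (.leaf 15377) (.leaf 39264)))) (.node 2460 (.node 2458 (.node 2457 (.leaf 15378) (.leaf 15409)) (.node 2459 (.leaf 39312) (.leaf 15425))) (.node 2462 (.node 2461 (.leaf 15426) (.leaf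 15858)) (.node 2463 (.leaf 15442) (.leaf 39392)))))) (.node 2480 (.node 2472 (.node 2468 (.node 2466 (.node 2465 (.leaf 39313) (.leaf 39424)) (.node 2467 (.leaf 15457) (.leaf 15458))) (.node 2470 (.node 2469 (.leaf 39472) (.leaf 15489)) (.node 2471 (.leaf 37873) (.leaf 15490)))) (.node 2476 (.node 2474 (.node 2473 (.leaf 15521) (.leaf 39552)) (.node 2475 (.leaf 15522) (.leaf 39584))) (.node 2478 (.node 2477 (.leaf 15538) (.leaf 15553)) (.node 2479 (.leaf 15554) (.leaf 15569))))) (.node 2488 (.node 2484 (.node 2482 (.node 2481 (.leaf 15585) (.leaf 39680)) (.node 2483 (.leaf 15586) (.leaf 39712))) (.node 2486 (.node 2485 (.leaf 39665) (.leaf 39744)) (.node 2487 (.leaf 15635) (.leaf 15633)))) (.node 2492 (.node 2490 (.node 2489 (.leaf 39792) (.leaf 15634)) (.node 2491 (.leaf 39824) (.leaf 15649))) (.node 2494 (.node 2493 (.leaf 15650) (.leaf 39872)) (.node 2495 (.leaf 15665) (.leaf 15666))))))) (.node 2528 (.node 2512 (.node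 2504 (.node 2500 (.node 2498 (.node 2497 (.leaf 15681) (.leaf 15697)) (.node 2499 (.leaf 39952) (.leaf 15698))) (.node 2502 (.node 2501 (.leaf 39984) (.leaf 15714)) (.node 2503 (.leaf 15761) (.leaf 40032)))) (.node 2508 (.node 2506 (.node 2505 (.leaf 15762) (.leaf 40064)) (.node 2507 (.leaf 15794) (.leaf 40096))) (.node 2510 (.node 2509 (.leaf 15809) (.leaf 40128)) (.node 2511 (.leaf 15825) (.leaf 40160))))) (.node 2520 (.node 2516 (.node 2514 (.node 2513 (.leaf 15841) (.leaf 40192)) (.node 2515 (.leaf 15843) (.leaf 15857))) (.node 2518 (.node 2517 (.leaf 40240) (.leaf 15874)) (.node 2519 (.leaf 40272) (.leaf 40193)))) (.node 2524 (.node 2522 (.node 2521 (.leaf 40304) (.leaf 15875)) (.node 2523 (.leaf 15889) (.leaf 40352))) (.node 2526 (.node 2525 (.leaf 15890) (.leaf 16209)) (.node 2527 (.leaf 15939) (.leaf 15953)))))) (.node 2544 (.node 2536 (.node 2532 (.node 2530 (.node 2529 (.leaf 15954) (.leaf 15971)) (.node 2531 (.leaf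 15987) (.leaf 16001))) (.node 2534 (.node 2533 (.leaf 16003) (.leaf 16019)) (.node 2535 (.leaf 16017) (.leaf 40544)))) (.node 2540 (.node 2538 (.node 2537 (.leaf 16018) (.leaf 40576)) (.node 2539 (.leaf 16034) (.leaf 40608))) (.node 2542 (.node 2541 (.leaf 40497) (.leaf 40640)) (.node 2543 (.leaf 16035) (.leaf 16051))))) (.node 2552 (.node 2548 (.node 2546 (.node 2545 (.leaf 16049) (.leaf 16050)) (.node 2547 (.leaf 40720) (.leaf 16081))) (.node 2550 (.node 2549 (.leaf 40752) (.leaf 16082)) (.node 2551 (.leaf 40784) (.leaf 16114)))) (.node 2556 (.node 2554 (.node 2553 (.leaf 40816) (.leaf 16131)) (.node 2555 (.leaf 16145) (.leaf 16146))) (.node 2558 (.node 2557 (.leaf 40880) (.leaf 16161)) (.node 2559 (.leaf 40912) (.leaf 16162))))))))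

/-- block of `nd` -/
def nd_10 : Tr := .node 2688 (.node 2624 (.node 2592 (.node 2576 (.node 2568 (.node 2564 (.node 2562 (.node 2561 (.leaf 16177) (.leaf 40960)) (.node 2563 (.leaf 16178) (.leaf 16193))) (.node 2566 (.node 2565 (.leaf 41008) (.leaf 16211)) (.node 2567 (.leaf 16210) (.leaf 41056)))) (.node 2572 (.node 2570 (.node 2569 (.leaf 16226) (.leaf 41009)) (.node 2571 (.leaf 41104) (.leaf 16257))) (.node 2574 (.node 2573 (.leaf 16258) (.leaf 41152)) (.node 2575 (.leaf 16305) (.leaf 41184))))) (.node 2584 (.node 2580 (.node 2578 (.node 2577 (.leaf 16306) (.leaf 41216)) (.node 2579 (.leaf 16321) (.leaf 41248))) (.node 2582 (.node 2581 (.leaf 16322) (.leaf 41280)) (.node 2583 (.leaf 16338) (.leaf 39201)))) (.node 2588 (.node 2586 (.node 2585 (.leaf 41328) (.leaf 16339)) (.node 2587 (.leaf 16355) (.leaf 16369))) (.node 2590 (.node 2589 (.leaf 41392) (.leaf 16385)) (.node 2591 (.leaf 41424) (.leaf 16386)))))) (.node 2608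 (.node 2600 (.node 2596 (.node 2594 (.node 2593 (.leaf 16722) (.leaf 16402)) (.node 2595 (.leaf 41393) (.leaf 16403))) (.node 2598 (.node 2597 (.leaf 16417) (.leaf 41536)) (.node 2599 (.leaf 16418) (.leaf 16449)))) (.node 2604 (.node 2602 (.node 2601 (.leaf 16450) (.leaf 41554)) (.node 2603 (.leaf 16467) (.leaf 16482))) (.node 2606 (.node 2605 (.leaf 41648) (.leaf 16497)) (.node 2607 (.leaf 16513) (.leaf 41696))))) (.node 2616 (.node 2612 (.node 2610 (.node 2609 (.leaf 16593) (.leaf 41728)) (.node 2611 (.leaf 16594) (.leaf 41760))) (.node 2614 (.node 2613 (.leaf 16626) (.leaf 16657)) (.node 2615 (.leaf 41808) (.leaf 16658)))) (.node 2620 (.node 2618 (.node 2617 (.leaf 41840) (.leaf 16673)) (.node 2619 (.leaf 41872) (.leaf 16690))) (.node 2622 (.node 2621 (.leaf 41904) (.leaf 16705)) (.node 2623 (.leaf 41936) (.leaf 16738))))))) (.node 2656 (.node 2640 (.node 2632 (.node 2628 (.node 2626 (.node 2625 (.leaf 41968) (.leaf 41937))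 (.node 2627 (.leaf 42000) (.leaf 16739))) (.node 2630 (.node 2629 (.leaf 16755) (.leaf 16753)) (.node 2631 (.leaf 42064) (.leaf 16769)))) (.node 2636 (.node 2634 (.node 2633 (.leaf 16785) (.leaf 42112)) (.node 2635 (.leaf 16786) (.leaf 42144))) (.node 2638 (.node 2637 (.leaf 16801) (.leaf 16817)) (.node 2639 (.leaf 42192) (.leaf 16818))))) (.node 2648 (.node 2644 (.node 2642 (.node 2641 (.leaf 42224) (.leaf 16834)) (.node 2643 (.leaf 42256) (.leaf 42177))) (.node 2646 (.node 2645 (.leaf 16849) (.leaf 16850)) (.node 2647 (.leaf 42320) (.leaf 16867)))) (.node 2652 (.node 2650 (.node 2649 (.leaf 16883) (.leaf 16881)) (.node 2651 (.leaf 42384) (.leaf 16882))) (.node 2654 (.node 2653 (.leaf 42416) (.leaf 16897)) (.node 2655 (.leaf 42448) (.leaf 16913)))))) (.node 2672 (.node 2664 (.node 2660 (.node 2658 (.node 2657 (.leaf 18274) (.leaf 16930)) (.node 2659 (.leaf 42512) (.leaf 42449))) (.node 2662 (.node 2661 (.leaf 42544) (.leaf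 16977)) (.node 2663 (.leaf 16978) (.leaf 42592)))) (.node 2668 (.node 2666 (.node 2665 (.leaf 17010) (.leaf 42624)) (.node 2667 (.leaf 35921) (.leaf 42656))) (.node 2670 (.node 2669 (.leaf 17027) (.leaf 17043)) (.node 2671 (.leaf 17041) (.leaf 17042))))) (.node 2680 (.node 2676 (.node 2674 (.node 2673 (.leaf 42736) (.leaf 17057)) (.node 2675 (.leaf 24241) (.leaf 17089))) (.node 2678 (.node 2677 (.leaf 17122) (.leaf 42801)) (.node 2679 (.leaf 42832) (.leaf 17139)))) (.node 2684 (.node 2682 (.node 2681 (.leaf 17155) (.leaf 17153)) (.node 2683 (.leaf 42896) (.leaf 17154))) (.node 2686 (.node 2685 (.leaf 42928) (.leaf 17169)) (.node 2687 (.leaf 42960) (.leaf 17170)))))))) (.node 2752 (.node 2720 (.node 2704 (.node 2696 (.node 2692 (.node 2690 (.node 2689 (.leaf 42992) (.leaf 17186)) (.node 2691 (.leaf 43024) (.leaf 17201))) (.node 2694 (.node 2693 (.leaf 43056) (.leaf 17203)) (.node 2695 (.leaf 17219) (.leaf 17217)))) (.node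 2700 (.node 2698 (.node 2697 (.leaf 43120) (.leaf 17218)) (.node 2699 (.leaf 17234) (.leaf 43168))) (.node 2702 (.node 2701 (.leaf 43057) (.leaf 43200)) (.node 2703 (.leaf 17249) (.leaf 17489))))) (.node 2712 (.node 2708 (.node 2706 (.node 2705 (.leaf 17250) (.leaf 43264)) (.node 2707 (.leaf 17281) (.leaf 17282))) (.node 2710 (.node 2709 (.leaf 17313) (.leaf 43328)) (.node 2711 (.leaf 17331) (.leaf 17329)))) (.node 2716 (.node 2714 (.node 2713 (.leaf 17330) (.leaf 17602)) (.node 2715 (.leaf 17346) (.leaf 43424))) (.node 2718 (.node 2717 (.leaf 17347) (.leaf 17361)) (.node 2719 (.leaf 43472) (.leaf 17362)))))) (.node 2736 (.node 2728 (.node 2724 (.node 2722 (.node 2721 (.leaf 43504) (.leaf 17379)) (.node 2723 (.leaf 17395) (.leaf 17393))) (.node 2726 (.node 2725 (.leaf 43568) (.leaf 17394)) (.node 2727 (.leaf 43600) (.leaf 17409)))) (.node 2732 (.node 2730 (.node 2729 (.leaf 43632) (.leaf 17410)) (.node 2731 (.leaf 43664)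 (.leaf 17425))) (.node 2734 (.node 2733 (.leaf 43696) (.leaf 17426)) (.node 2735 (.leaf 43728) (.leaf 17441))))) (.node 2744 (.node 2740 (.node 2738 (.node 2737 (.leaf 17457) (.leaf 43776)) (.node 2739 (.leaf 17458) (.leaf 43808))) (.node 2742 (.node 2741 (.leaf 17490) (.leaf 43840)) (.node 2743 (.leaf 17507) (.leaf 17523)))) (.node 2748 (.node 2746 (.node 2745 (.leaf 17521) (.leaf 43904)) (.node 2747 (.leaf 17522) (.leaf 17553))) (.node 2750 (.node 2749 (.leaf 17554) (.leaf 43968)) (.node 2751 (.leaf 17569) (.leaf 44000))))))) (.node 2784 (.node 2768 (.node 2760 (.node 2756 (.node 2754 (.node 2753 (.leaf 17570) (.leaf 44032)) (.node 2755 (.leaf 17585) (.leaf 17601))) (.node 2758 (.node 2757 (.leaf 17618) (.leaf 44065)) (.node 2759 (.leaf 44112) (.leaf 17619)))) (.node 2764 (.node 2762 (.node 2761 (.leaf 17633) (.leaf 44160)) (.node 2763 (.leaf 17634) (.leaf 44192))) (.node 2766 (.node 2765 (.leaf 17649) (.leaf 44224)) (.node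 2767 (.leaf 17666) (.leaf 44256))))) (.node 2776 (.node 2772 (.node 2770 (.node 2769 (.leaf 44225) (.leaf 44288)) (.node 2771 (.leaf 17681) (.leaf 17889))) (.node 2774 (.node 2773 (.leaf 17682) (.leaf 44352)) (.node 2775 (.leaf 17697) (.leaf 17713)))) (.node 2780 (.node 2778 (.node 2777 (.leaf 44400) (.leaf 17714)) (.node 2779 (.leaf 44432) (.leaf 17730))) (.node 2782 (.node 2781 (.leaf 44464) (.leaf 44385)) (.node 2783 (.leaf 44496) (.leaf 17745)))))) (.node 2800 (.node 2792 (.node 2788 (.node 2786 (.node 2785 (.leaf 17746) (.leaf 44544)) (.node 2787 (.leaf 17777) (.leaf 44576))) (.node 2790 (.node 2789 (.leaf 23106) (.leaf 44608)) (.node 2791 (.leaf 17778) (.leaf 44640)))) (.node 2796 (.node 2794 (.node 2793 (.leaf 17794) (.leaf 44672)) (.node 2795 (.leaf 17810) (.leaf 17842))) (.node 2798 (.node 2797 (.leaf 25122) (.leaf 41026)) (.node 2799 (.leaf 44752) (.leaf 17857))))) (.node 2808 (.node 2804 (.node 2802 (.node 2801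 (.leaf 44784) (.leaf 17890)) (.node 2803 (.leaf 44816) (.leaf 17905))) (.node 2806 (.node 2805 (.leaf 17922) (.leaf 18242)) (.node 2807 (.leaf 17938) (.leaf 44849)))) (.node 2812 (.node 2810 (.node 2809 (.leaf 44912) (.leaf 17953)) (.node 2811 (.leaf 37665) (.leaf 17954))) (.node 2814 (.node 2813 (.leaf 41170) (.leaf 44992)) (.node 2815 (.leaf 44976) (.leaf 17969))))))))

/-- block of `nd` -/
def nd_11 : Tr := .node 2944 (.node 2880 (.node 2848 (.node 2832 (.node 2824 (.node 2820 (.node 2818 (.node 2817 (.leaf 45040) (.leaf 18002)) (.node 2819 (.leaf 45072) (.leaf 45041))) (.node 2822 (.node 2821 (.leaf 45104) (.leaf 18017)) (.node 2823 (.leaf 18018) (.leaf 18033)))) (.node 2828 (.node 2826 (.node 2825 (.leaf 45168) (.leaf 18049)) (.node 2827 (.leaf 18050) (.leaf 18066))) (.node 2830 (.node 2829 (.leaf 45232) (.leaf 45169)) (.node 2831 (.leaf 45264) (.leaf 18081))))) (.node 2840 (.node 2836 (.node 2834 (.node 2833 (.leaf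 18082) (.leaf 45312)) (.node 2835 (.leaf 18097) (.leaf 45344))) (.node 2838 (.node 2837 (.leaf 18113) (.leaf 45376)) (.node 2839 (.leaf 18114) (.leaf 18130)))) (.node 2844 (.node 2842 (.node 2841 (.leaf 45424) (.leaf 45345)) (.node 2843 (.leaf 45456) (.leaf 18145))) (.node 2846 (.node 2845 (.leaf 45488) (.leaf 18146)) (.node 2847 (.leaf 45520) (.leaf 18193)))))) (.node 2864 (.node 2856 (.node 2852 (.node 2850 (.node 2849 (.leaf 45552) (.leaf 18210)) (.node 2851 (.leaf 45584) (.leaf 18225))) (.node 2854 (.node 2853 (.leaf 45616) (.leaf 18227)) (.node 2855 (.leaf 18243) (.leaf 18241)))) (.node 2860 (.node 2858 (.node 2857 (.leaf 45680) (.leaf 18258)) (.node 2859 (.leaf 45617) (.leaf 45728))) (.node 2862 (.node 2861 (.leaf 18305) (.leaf 45760)) (.node 2863 (.leaf 18323) (.leaf 18339))))) (.node 2872 (.node 2868 (.node 2866 (.node 2865 (.leaf 18338) (.leaf 45824)) (.node 2867 (.leaf 18370) (.leaf 45856))) (.node 2870 (.node 2869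 (.leaf 18401) (.leaf 45888)) (.node 2871 (.leaf 34546) (.leaf 45920)))) (.node 2876 (.node 2874 (.node 2873 (.leaf 18433) (.leaf 45952)) (.node 2875 (.leaf 18434) (.leaf 45984))) (.node 2878 (.node 2877 (.leaf 18466) (.leaf 19169)) (.node 2879 (.leaf 18530) (.leaf 46048))))))) (.node 2912 (.node 2896 (.node 2888 (.node 2884 (.node 2882 (.node 2881 (.leaf 18547) (.leaf 18563)) (.node 2883 (.leaf 18561) (.leaf 18577))) (.node 2886 (.node 2885 (.leaf 46128) (.leaf 18594)) (.node 2887 (.leaf 46160) (.leaf 46129)))) (.node 2892 (.node 2890 (.node 2889 (.leaf 46192) (.leaf 18595)) (.node 2891 (.leaf 18657) (.leaf 18658))) (.node 2894 (.node 2893 (.leaf 46256) (.leaf 18675)) (.node 2895 (.leaf 18705) (.leaf 24786))))) (.node 2904 (.node 2900 (.node 2898 (.node 2897 (.leaf 46320) (.leaf 18706)) (.node 2899 (.leaf 24785) (.leaf 46368))) (.node 2902 (.node 2901 (.leaf 46352) (.leaf 18721)) (.node 2903 (.leaf 35233) (.leaf 18737))))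 (.node 2908 (.node 2906 (.node 2905 (.leaf 46448) (.leaf 18755)) (.node 2907 (.leaf 18785) (.leaf 46496))) (.node 2910 (.node 2909 (.leaf 18786) (.leaf 46528)) (.node 2911 (.leaf 18817) (.leaf 46560)))))) (.node 2928 (.node 2920 (.node 2916 (.node 2914 (.node 2913 (.leaf 18818) (.leaf 46592)) (.node 2915 (.leaf 18835) (.leaf 18849))) (.node 2918 (.node 2917 (.leaf 46640) (.leaf 18850)) (.node 2919 (.leaf 46672) (.leaf 18881)))) (.node 2924 (.node 2922 (.node 2921 (.leaf 46704) (.leaf 18882)) (.node 2923 (.leaf 46736) (.leaf 18897))) (.node 2926 (.node 2925 (.leaf 46768) (.leaf 18913)) (.node 2927 (.leaf 18930) (.leaf 46816))))) (.node 2936 (.node 2932 (.node 2930 (.node 2929 (.leaf 46801) (.leaf 46848)) (.node 2931 (.leaf 18945) (.leaf 18946))) (.node 2934 (.node 2933 (.leaf 46896) (.leaf 18977)) (.node 2935 (.leaf 46928) (.leaf 19009)))) (.node 2940 (.node 2938 (.node 2937 (.leaf 46960) (.leaf 19042)) (.node 2939 (.leaf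 46992) (.leaf 19057))) (.node 2942 (.node 2941 (.leaf 19074) (.leaf 35746)) (.node 2943 (.leaf 19090) (.leaf 47025)))))))) (.node 3008 (.node 2976 (.node 2960 (.node 2952 (.node 2948 (.node 2946 (.node 2945 (.leaf 47088) (.leaf 19106)) (.node 2947 (.leaf 47120) (.leaf 19153))) (.node 2950 (.node 2949 (.leaf 47152) (.leaf 19154)) (.node 2951 (.leaf 47184) (.leaf 19170)))) (.node 2956 (.node 2954 (.node 2953 (.leaf 47216) (.leaf 19187)) (.node 2955 (.leaf 19203) (.leaf 19233))) (.node 2958 (.node 2957 (.leaf 47280) (.leaf 19234)) (.node 2959 (.leaf 31713) (.leaf 47312))))) (.node 2968 (.node 2964 (.node 2962 (.node 2961 (.leaf 19250) (.leaf 31697)) (.node 2963 (.leaf 47376) (.leaf 19265))) (.node 2966 (.node 2965 (.leaf 47408) (.leaf 19266)) (.node 2967 (.leaf 47440) (.leaf 19281)))) (.node 2972 (.node 2970 (.node 2969 (.leaf 47472) (.leaf 19282)) (.node 2971 (.leaf 19297) (.leaf 47520))) (.node 2974 (.node 2973 (.leaf 19313)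 (.leaf 47552)) (.node 2975 (.leaf 19314) (.leaf 47426)))))) (.node 2992 (.node 2984 (.node 2980 (.node 2978 (.node 2977 (.leaf 19330) (.leaf 47616)) (.node 2979 (.leaf 47521) (.leaf 19377))) (.node 2982 (.node 2981 (.leaf 27042) (.leaf 19410)) (.node 2983 (.leaf 47696) (.leaf 19441)))) (.node 2988 (.node 2986 (.node 2985 (.leaf 45826) (.leaf 47744)) (.node 2987 (.leaf 19457) (.leaf 47776))) (.node 2990 (.node 2989 (.leaf 19489) (.leaf 47808)) (.node 2991 (.leaf 19490) (.leaf 47840))))) (.node 3000 (.node 2996 (.node 2994 (.node 2993 (.leaf 19521) (.leaf 47872)) (.node 2995 (.leaf 19522) (.leaf 47904))) (.node 2998 (.node 2997 (.leaf 19537) (.leaf 47936)) (.node 2999 (.leaf 19553) (.leaf 45026)))) (.node 3004 (.node 3002 (.node 3001 (.leaf 30306) (.leaf 48000)) (.node 3003 (.leaf 19569) (.leaf 19585))) (.node 3006 (.node 3005 (.leaf 48048) (.leaf 19587)) (.node 3007 (.leaf 19603) (.leaf 19601))))))) (.node 3040 (.node 3024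 (.node 3016 (.node 3012 (.node 3010 (.node 3009 (.leaf 48112) (.leaf 19602)) (.node 3011 (.leaf 48144) (.leaf 19618))) (.node 3014 (.node 3013 (.leaf 48176) (.leaf 48049)) (.node 3015 (.leaf 48208) (.leaf 19633)))) (.node 3020 (.node 3018 (.node 3017 (.leaf 19634) (.leaf 48256)) (.node 3019 (.leaf 19649) (.leaf 48288))) (.node 3022 (.node 3021 (.leaf 19665) (.leaf 48320)) (.node 3023 (.leaf 19666) (.leaf 48352))))) (.node 3032 (.node 3028 (.node 3026 (.node 3025 (.leaf 19682) (.leaf 48384)) (.node 3027 (.leaf 48289) (.leaf 48416))) (.node 3030 (.node 3029 (.leaf 19683) (.leaf 19699)) (.node 3031 (.leaf 19697) (.leaf 19698)))) (.node 3036 (.node 3034 (.node 3033 (.leaf 48496) (.leaf 19729)) (.node 3035 (.leaf 48528) (.leaf 19762))) (.node 3038 (.node 3037 (.leaf 48560) (.leaf 19779)) (.node 3039 (.leaf 19795) (.leaf 19793)))))) (.node 3056 (.node 3048 (.node 3044 (.node 3042 (.node 3041 (.leaf 19794) (.leaf 19809)) (.node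 3043 (.leaf 48656) (.leaf 19810))) (.node 3046 (.node 3045 (.leaf 48688) (.leaf 19825)) (.node 3047 (.leaf 48720) (.leaf 19826)))) (.node 3052 (.node 3050 (.node 3049 (.leaf 48752) (.leaf 19841)) (.node 3051 (.leaf 19843) (.leaf 19859))) (.node 3054 (.node 3053 (.leaf 19857) (.leaf 19891)) (.node 3055 (.leaf 19907) (.leaf 19905))))) (.node 3064 (.node 3060 (.node 3058 (.node 3057 (.leaf 48880) (.leaf 19906)) (.node 3059 (.leaf 48912) (.leaf 19953))) (.node 3062 (.node 3061 (.leaf 48944) (.leaf 19969)) (.node 3063 (.leaf 48976) (.leaf 19970)))) (.node 3068 (.node 3066 (.node 3065 (.leaf 49008) (.leaf 19986)) (.node 3067 (.leaf 49040) (.leaf 48945))) (.node 3070 (.node 3069 (.leaf 49072) (.leaf 19987)) (.node 3071 (.leaf 20003) (.leaf 20001))))))))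

/-- block of `nd` -/
def nd_12 : Tr := .node 3200 (.node 3136 (.node 3104 (.node 3088 (.node 3080 (.node 3076 (.node 3074 (.node 3073 (.leaf 20273) (.leaf 20002)) (.node 3075 (.leaf 49168) (.leaf 20033))) (.node 3078 (.node 3077 (.leaf 20034) (.leaf 49216)) (.node 3079 (.leaf 20051) (.leaf 20067)))) (.node 3084 (.node 3082 (.node 3081 (.leaf 20065) (.leaf 49280)) (.node 3083 (.leaf 20066) (.leaf 20130))) (.node 3086 (.node 3085 (.leaf 49328) (.leaf 20146)) (.node 3087 (.leaf 49360) (.leaf 20163))))) (.node 3096 (.node 3092 (.node 3090 (.node 3089 (.leaf 20179) (.leaf 20177)) (.node 3091 (.leaf 20178) (.leaf 49440))) (.node 3094 (.node 3093 (.leaf 20225) (.leaf 20241)) (.node 3095 (.leaf 49488) (.leaf 20242)))) (.node 3100 (.node 3098 (.node 3097 (.leaf 49520) (.leaf 20258)) (.node 3099 (.leaf 49552) (.leaf 49473))) (.node 3102 (.node 3101 (.leaf 49584) (.leaf 20307)) (.node 3103 (.leaf 20323) (.leaf 20321)))))) (.node 3120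 (.node 3112 (.node 3108 (.node 3106 (.node 3105 (.leaf 49648) (.leaf 20322)) (.node 3107 (.leaf 20402) (.leaf 49696))) (.node 3110 (.node 3109 (.leaf 20417) (.leaf 49728)) (.node 3111 (.leaf 20418) (.leaf 20433)))) (.node 3116 (.node 3114 (.node 3113 (.leaf 49776) (.leaf 20434)) (.node 3115 (.leaf 20481) (.leaf 49824))) (.node 3118 (.node 3117 (.leaf 20497) (.leaf 49856)) (.node 3119 (.leaf 20498) (.leaf 49888))))) (.node 3128 (.node 3124 (.node 3122 (.node 3121 (.leaf 20514) (.leaf 49920)) (.node 3123 (.leaf 49825) (.leaf 49952))) (.node 3126 (.node 3125 (.leaf 20515) (.leaf 20531)) (.node 3127 (.leaf 20529) (.leaf 20530)))) (.node 3132 (.node 3130 (.node 3129 (.leaf 50032) (.leaf 20561)) (.node 3131 (.leaf 50064) (.leaf 20562))) (.node 3134 (.node 3133 (.leaf 50096) (.leaf 20594)) (.node 3135 (.leaf 50128) (.leaf 20642))))))) (.node 3168 (.node 3152 (.node 3144 (.node 3140 (.node 3138 (.node 3137 (.leaf 20657) (.leaf 50176))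 (.node 3139 (.leaf 20673) (.leaf 50208))) (.node 3142 (.node 3141 (.leaf 20690) (.leaf 50194)) (.node 3143 (.leaf 20722) (.leaf 50272)))) (.node 3148 (.node 3146 (.node 3145 (.leaf 20753) (.leaf 50304)) (.node 3147 (.leaf 20754) (.leaf 50336))) (.node 3150 (.node 3149 (.leaf 20769) (.leaf 50368)) (.node 3151 (.leaf 20770) (.leaf 50400))))) (.node 3160 (.node 3156 (.node 3154 (.node 3153 (.leaf 20801) (.leaf 20818)) (.node 3155 (.leaf 50433) (.leaf 50464))) (.node 3158 (.node 3157 (.leaf 20897) (.leaf 50496)) (.node 3159 (.leaf 20961) (.leaf 50528)))) (.node 3164 (.node 3162 (.node 3161 (.leaf 20962) (.leaf 50560)) (.node 3163 (.leaf 20977) (.leaf 50592))) (.node 3166 (.node 3165 (.leaf 20994) (.leaf 50624)) (.node 3167 (.leaf 21010) (.leaf 50593)))))) (.node 3184 (.node 3176 (.node 3172 (.node 3170 (.node 3169 (.leaf 50672) (.leaf 21011)) (.node 3171 (.leaf 21027) (.leaf 21025))) (.node 3174 (.node 3173 (.leaf 21026) (.leaf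 21041)) (.node 3175 (.leaf 50768) (.leaf 21057)))) (.node 3180 (.node 3178 (.node 3177 (.leaf 50800) (.leaf 21058)) (.node 3179 (.leaf 50832) (.leaf 21074))) (.node 3182 (.node 3181 (.leaf 50769) (.leaf 50880)) (.node 3183 (.leaf 21075) (.leaf 21091))))) (.node 3192 (.node 3188 (.node 3186 (.node 3185 (.leaf 21089) (.leaf 21090)) (.node 3187 (.leaf 21121) (.leaf 21122))) (.node 3190 (.node 3189 (.leaf 50992) (.leaf 21137)) (.node 3191 (.leaf 21153) (.leaf 21154)))) (.node 3196 (.node 3194 (.node 3193 (.leaf 51056) (.leaf 21170)) (.node 3195 (.leaf 51088) (.leaf 51025))) (.node 3198 (.node 3197 (.leaf 51120) (.leaf 21186)) (.node 3199 (.leaf 21233) (.leaf 21234)))))))) (.node 3264 (.node 3232 (.node 3216 (.node 3208 (.node 3204 (.node 3202 (.node 3201 (.leaf 21249) (.leaf 51200)) (.node 3203 (.leaf 21266) (.leaf 51201))) (.node 3206 (.node 3205 (.leaf 21297) (.leaf 51264)) (.node 3207 (.leaf 21314) (.leaf 21315)))) (.node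 3212 (.node 3210 (.node 3209 (.leaf 21331) (.leaf 21329)) (.node 3211 (.leaf 51344) (.leaf 21330))) (.node 3214 (.node 3213 (.leaf 51376) (.leaf 21378)) (.node 3215 (.leaf 51408) (.leaf 21427))))) (.node 3224 (.node 3220 (.node 3218 (.node 3217 (.leaf 21443) (.leaf 21441)) (.node 3219 (.leaf 21442) (.leaf 21458))) (.node 3222 (.node 3221 (.leaf 51504) (.leaf 21473)) (.node 3223 (.leaf 21475) (.leaf 21506)))) (.node 3228 (.node 3226 (.node 3225 (.leaf 21507) (.leaf 21523)) (.node 3227 (.leaf 21521) (.leaf 21522))) (.node 3230 (.node 3229 (.leaf 21554) (.leaf 51648)) (.node 3231 (.leaf 21569) (.leaf 21570)))))) (.node 3248 (.node 3240 (.node 3236 (.node 3234 (.node 3233 (.leaf 51696) (.leaf 21601)) (.node 3235 (.leaf 21602) (.leaf 21683))) (.node 3238 (.node 3237 (.leaf 21699) (.leaf 21697)) (.node 3239 (.leaf 21698) (.leaf 21729)))) (.node 3244 (.node 3242 (.node 3241 (.leaf 51824) (.leaf 21730)) (.node 3243 (.leaf 21745)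 (.leaf 51872))) (.node 3246 (.node 3245 (.leaf 21746) (.leaf 21778)) (.node 3247 (.leaf 21779) (.leaf 21795))))) (.node 3256 (.node 3252 (.node 3250 (.node 3249 (.leaf 21969) (.leaf 51968)) (.node 3251 (.leaf 21986) (.leaf 52000))) (.node 3254 (.node 3253 (.leaf 22034) (.leaf 50513)) (.node 3255 (.leaf 22081) (.leaf 52064)))) (.node 3260 (.node 3258 (.node 3257 (.leaf 22082) (.leaf 52096)) (.node 3259 (.leaf 22097) (.leaf 52128))) (.node 3262 (.node 3261 (.leaf 22177) (.leaf 52160)) (.node 3263 (.leaf 22193) (.leaf 52192))))))) (.node 3296 (.node 3280 (.node 3272 (.node 3268 (.node 3266 (.node 3265 (.leaf 22209) (.leaf 52225)) (.node 3267 (.leaf 52240) (.leaf 22257))) (.node 3270 (.node 3269 (.leaf 22258) (.leaf 52288)) (.node 3271 (.leaf 22273) (.leaf 22290)))) (.node 3276 (.node 3274 (.node 3273 (.leaf 52321) (.leaf 52352)) (.node 3275 (.leaf 22291) (.leaf 22321))) (.node 3278 (.node 3277 (.leaf 52400) (.leaf 22338)) (.node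 3279 (.leaf 22339) (.leaf 22353))))) (.node 3288 (.node 3284 (.node 3282 (.node 3281 (.leaf 22354) (.leaf 52480)) (.node 3283 (.leaf 22402) (.leaf 52512))) (.node 3286 (.node 3285 (.leaf 22433) (.leaf 22434)) (.node 3287 (.leaf 52560) (.leaf 22449)))) (.node 3292 (.node 3290 (.node 3289 (.leaf 52592) (.leaf 22450)) (.node 3291 (.leaf 22465) (.leaf 52640))) (.node 3294 (.node 3293 (.leaf 22466) (.leaf 22481)) (.node 3295 (.leaf 52688) (.leaf 22483)))))) (.node 3312 (.node 3304 (.node 3300 (.node 3298 (.node 3297 (.leaf 22499) (.leaf 22498)) (.node 3299 (.leaf 52752) (.leaf 52689))) (.node 3302 (.node 3301 (.leaf 22561) (.leaf 52800)) (.node 3303 (.leaf 22577) (.leaf 52832)))) (.node 3308 (.node 3306 (.node 3305 (.leaf 22593) (.leaf 52864)) (.node 3307 (.leaf 22609) (.leaf 22625))) (.node 3310 (.node 3309 (.leaf 22626) (.leaf 22850)) (.node 3311 (.leaf 22642) (.leaf 52897))))) (.node 3320 (.node 3316 (.node 3314 (.node 3313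 (.leaf 52976) (.leaf 22658)) (.node 3315 (.leaf 22689) (.leaf 53024))) (.node 3318 (.node 3317 (.leaf 48674) (.leaf 53056)) (.node 3319 (.leaf 22722) (.leaf 53088)))) (.node 3324 (.node 3322 (.node 3321 (.leaf 22753) (.leaf 53120)) (.node 3323 (.leaf 22754) (.leaf 22786))) (.node 3326 (.node 3325 (.leaf 53168) (.leaf 22817)) (.node 3327 (.leaf 53200) (.leaf 22833))))))))

/-- block of `nd` -/
def nd_13 : Tr := .node 3456 (.node 3392 (.node 3360 (.node 3344 (.node 3336 (.node 3332 (.node 3330 (.node 3329 (.leaf 50242) (.leaf 22849)) (.node 3331 (.leaf 22914) (.leaf 53280))) (.node 3334 (.node 3333 (.leaf 22977) (.leaf 25202)) (.node 3335 (.leaf 53328) (.leaf 22978)))) (.node 3340 (.node 3338 (.node 3337 (.leaf 23202) (.leaf 25201)) (.node 3339 (.leaf 53392) (.leaf 23009))) (.node 3342 (.node 3341 (.leaf 53424) (.leaf 23010)) (.node 3343 (.leaf 53456) (.leaf 23041))))) (.node 3352 (.node 3348 (.node 3346 (.node 3345 (.leaf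 23442) (.leaf 53488)) (.node 3347 (.leaf 23042) (.leaf 23441))) (.node 3350 (.node 3349 (.leaf 47233) (.leaf 53536)) (.node 3351 (.leaf 36626) (.leaf 53600)))) (.node 3356 (.node 3354 (.node 3353 (.leaf 23137) (.leaf 53632)) (.node 3355 (.leaf 23138) (.leaf 53664))) (.node 3358 (.node 3357 (.leaf 23169) (.leaf 53696)) (.node 3359 (.leaf 23170) (.leaf 53728)))))) (.node 3376 (.node 3368 (.node 3364 (.node 3362 (.node 3361 (.leaf 24481) (.leaf 53760)) (.node 3363 (.leaf 24514) (.leaf 53792))) (.node 3366 (.node 3365 (.leaf 23185) (.leaf 23187)) (.node 3367 (.leaf 23201) (.leaf 23218)))) (.node 3372 (.node 3370 (.node 3369 (.leaf 53825) (.leaf 53888)) (.node 3371 (.leaf 23250) (.leaf 25233))) (.node 3374 (.node 3373 (.leaf 23281) (.leaf 23329)) (.node 3375 (.leaf 23393) (.leaf 53984))))) (.node 3384 (.node 3380 (.node 3378 (.node 3377 (.leaf 23394) (.leaf 37473)) (.node 3379 (.leaf 23410) (.leaf 36818))) (.node 3382 (.node 3381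 (.leaf 23505) (.leaf 23506)) (.node 3383 (.leaf 23521) (.leaf 23793)))) (.node 3388 (.node 3386 (.node 3385 (.leaf 23553) (.leaf 23569)) (.node 3387 (.leaf 54160) (.leaf 23586))) (.node 3390 (.node 3389 (.leaf 54145) (.leaf 54208)) (.node 3391 (.leaf 23602) (.leaf 23681))))))) (.node 3424 (.node 3408 (.node 3400 (.node 3396 (.node 3394 (.node 3393 (.leaf 23697) (.leaf 54272)) (.node 3395 (.leaf 23698) (.leaf 54304))) (.node 3398 (.node 3397 (.leaf 54257) (.leaf 23729)) (.node 3399 (.leaf 23825) (.leaf 23745)))) (.node 3404 (.node 3402 (.node 3401 (.leaf 23762) (.leaf 54385)) (.node 3403 (.leaf 54416) (.leaf 23810))) (.node 3406 (.node 3405 (.leaf 54129) (.leaf 23858)) (.node 3407 (.leaf 54480) (.leaf 53459))))) (.node 3416 (.node 3412 (.node 3410 (.node 3409 (.leaf 23873) (.leaf 54528)) (.node 3411 (.leaf 23889) (.leaf 23906))) (.node 3414 (.node 3413 (.leaf 54529) (.leaf 54592)) (.node 3415 (.leaf 23907) (.leaf 23923))))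 (.node 3420 (.node 3418 (.node 3417 (.leaf 23921) (.leaf 54656)) (.node 3419 (.leaf 23922) (.leaf 54688))) (.node 3422 (.node 3421 (.leaf 23937) (.leaf 54720)) (.node 3423 (.leaf 23954) (.leaf 54752)))))) (.node 3440 (.node 3432 (.node 3428 (.node 3426 (.node 3425 (.leaf 54721) (.leaf 54784)) (.node 3427 (.leaf 23969) (.leaf 54816))) (.node 3430 (.node 3429 (.leaf 23970) (.leaf 23985)) (.node 3431 (.leaf 54864) (.leaf 24001)))) (.node 3436 (.node 3434 (.node 3433 (.leaf 24002) (.leaf 54834)) (.node 3435 (.leaf 24018) (.leaf 54865))) (.node 3438 (.node 3437 (.leaf 54960) (.leaf 24033)) (.node 3439 (.leaf 54321) (.leaf 24034))))) (.node 3448 (.node 3444 (.node 3442 (.node 3441 (.leaf 24065) (.leaf 24114)) (.node 3443 (.leaf 24129) (.leaf 24146))) (.node 3446 (.node 3445 (.leaf 55073) (.leaf 55104)) (.node 3447 (.leaf 24161) (.leaf 24209)))) (.node 3452 (.node 3450 (.node 3449 (.leaf 24210) (.leaf 55168)) (.node 3451 (.leaf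 24803) (.leaf 55200))) (.node 3454 (.node 3453 (.leaf 54561) (.leaf 55232)) (.node 3455 (.leaf 24225) (.leaf 55264)))))))) (.node 3520 (.node 3488 (.node 3472 (.node 3464 (.node 3460 (.node 3458 (.node 3457 (.leaf 24386) (.leaf 42785)) (.node 3459 (.leaf 55312) (.leaf 24289))) (.node 3462 (.node 3461 (.leaf 55344) (.leaf 24321)) (.node 3463 (.leaf 55376) (.leaf 24322)))) (.node 3468 (.node 3466 (.node 3465 (.leaf 24353) (.leaf 24418)) (.node 3467 (.leaf 55440) (.leaf 24449))) (.node 3470 (.node 3469 (.leaf 24450) (.leaf 55488)) (.node 3471 (.leaf 24465) (.leaf 55520))))) (.node 3480 (.node 3476 (.node 3474 (.node 3473 (.leaf 24483) (.leaf 24499)) (.node 3475 (.leaf 24498) (.leaf 24515))) (.node 3478 (.node 3477 (.leaf 24531) (.leaf 24593)) (.node 3479 (.leaf 46337) (.leaf 45090)))) (.node 3484 (.node 3482 (.node 3481 (.leaf 55664) (.leaf 24594)) (.node 3483 (.leaf 55681) (.leaf 24627))) (.node 3486 (.node 3485 (.leaf 24625)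 (.leaf 55744)) (.node 3487 (.leaf 24626) (.leaf 55776)))))) (.node 3504 (.node 3496 (.node 3492 (.node 3490 (.node 3489 (.leaf 24705) (.leaf 24738)) (.node 3491 (.leaf 55824) (.leaf 24754))) (.node 3494 (.node 3493 (.leaf 55856) (.leaf 24817)) (.node 3495 (.leaf 55793) (.leaf 24818)))) (.node 3500 (.node 3498 (.node 3497 (.leaf 25041) (.leaf 24849)) (.node 3499 (.leaf 24850) (.leaf 24881))) (.node 3502 (.node 3501 (.leaf 24897) (.leaf 56000)) (.node 3503 (.leaf 24913) (.leaf 53474))))) (.node 3512 (.node 3508 (.node 3506 (.node 3505 (.leaf 24914) (.leaf 53410)) (.node 3507 (.leaf 24930) (.leaf 56001))) (.node 3510 (.node 3509 (.leaf 56112) (.leaf 37570)) (.node 3511 (.leaf 56144) (.leaf 24945)))) (.node 3516 (.node 3514 (.node 3513 (.leaf 25073) (.leaf 24977)) (.node 3515 (.leaf 24978) (.leaf 25009))) (.node 3518 (.node 3517 (.leaf 25010) (.leaf 25025)) (.node 3519 (.leaf 56272) (.leaf 25042))))))) (.node 3552 (.node 3536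 (.node 3528 (.node 3524 (.node 3522 (.node 3521 (.leaf 53810) (.leaf 25058)) (.node 3523 (.leaf 56273) (.leaf 56352))) (.node 3526 (.node 3525 (.leaf 25059) (.leaf 25074)) (.node 3527 (.leaf 56400) (.leaf 25089)))) (.node 3532 (.node 3530 (.node 3529 (.leaf 25105) (.leaf 25107)) (.node 3531 (.leaf 25123) (.leaf 25121))) (.node 3534 (.node 3533 (.leaf 56496) (.leaf 25138)) (.node 3535 (.leaf 56528) (.leaf 56449))))) (.node 3544 (.node 3540 (.node 3538 (.node 3537 (.leaf 56560) (.leaf 25153)) (.node 3539 (.leaf 25171) (.leaf 25186))) (.node 3542 (.node 3541 (.leaf 56624) (.leaf 55473)) (.node 3543 (.leaf 56656) (.leaf 55490)))) (.node 3548 (.node 3546 (.node 3545 (.leaf 28257) (.leaf 56704)) (.node 3547 (.leaf 31170) (.leaf 56736))) (.node 3550 (.node 3549 (.leaf 31009) (.leaf 56768)) (.node 3551 (.leaf 25234) (.leaf 25265)))))) (.node 3568 (.node 3560 (.node 3556 (.node 3554 (.node 3553 (.leaf 56816) (.leaf 25266)) (.node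 3555 (.leaf 25297) (.leaf 56864))) (.node 3558 (.node 3557 (.leaf 25315) (.leaf 25361)) (.node 3559 (.leaf 25362) (.leaf 56928)))) (.node 3564 (.node 3562 (.node 3561 (.leaf 25378) (.leaf 25393)) (.node 3563 (.leaf 25394) (.leaf 25425))) (.node 3566 (.node 3565 (.leaf 57008) (.leaf 25426)) (.node 3567 (.leaf 57040) (.leaf 25459))))) (.node 3576 (.node 3572 (.node 3570 (.node 3569 (.leaf 25490) (.leaf 36065)) (.node 3571 (.leaf 25521) (.leaf 57120))) (.node 3574 (.node 3573 (.leaf 25537) (.leaf 57152)) (.node 3575 (.leaf 25554) (.leaf 25569)))) (.node 3580 (.node 3578 (.node 3577 (.leaf 25570) (.leaf 25585)) (.node 3579 (.leaf 57232) (.leaf 25603))) (.node 3582 (.node 3581 (.leaf 25601) (.leaf 57280)) (.node 3583 (.leaf 25602) (.leaf 25618))))))))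

/-- block of `nd` -/
def nd_14 : Tr := .node 3712 (.node 3648 (.node 3616 (.node 3600 (.node 3592 (.node 3588 (.node 3586 (.node 3585 (.leaf 57233) (.leaf 57344)) (.node 3587 (.leaf 25633) (.leaf 25634))) (.node 3590 (.node 3589 (.leaf 25681) (.leaf 57408)) (.node 3591 (.leaf 25714) (.leaf 25777)))) (.node 3596 (.node 3594 (.node 3593 (.leaf 25731) (.leaf 25747)) (.node 3595 (.leaf 25761) (.leaf 42689))) (.node 3598 (.node 3597 (.leaf 25810) (.leaf 57536)) (.node 3599 (.leaf 25825) (.leaf 57568))))) (.node 3608 (.node 3604 (.node 3602 (.node 3601 (.leaf 25841) (.leaf 25842)) (.node 3603 (.leaf 25858) (.leaf 57569))) (.node 3606 (.node 3605 (.leaf 25873) (.leaf 25874)) (.node 3607 (.leaf 25889) (.leaf 25906)))) (.node 3612 (.node 3610 (.node 3609 (.leaf 57712) (.leaf 25922)) (.node 3611 (.leaf 57744) (.leaf 57697))) (.node 3614 (.node 3613 (.leaf 57776) (.leaf 25937)) (.node 3615 (.leaf 25938) (.leaf 25953)))))) (.node 3632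 (.node 3624 (.node 3620 (.node 3618 (.node 3617 (.leaf 25969) (.leaf 57856)) (.node 3619 (.leaf 25970) (.leaf 57888))) (.node 3622 (.node 3621 (.leaf 25986) (.leaf 57841)) (.node 3623 (.leaf 26002) (.leaf 57952)))) (.node 3628 (.node 3626 (.node 3625 (.leaf 26033) (.leaf 57984)) (.node 3627 (.leaf 26034) (.leaf 26049))) (.node 3630 (.node 3629 (.leaf 58032) (.leaf 26050)) (.node 3631 (.leaf 26065) (.leaf 26067))))) (.node 3640 (.node 3636 (.node 3634 (.node 3633 (.leaf 26083) (.leaf 26113)) (.node 3635 (.leaf 58128) (.leaf 26114))) (.node 3638 (.node 3637 (.leaf 26129) (.leaf 58176)) (.node 3639 (.leaf 26130) (.leaf 26193)))) (.node 3644 (.node 3642 (.node 3641 (.leaf 58224) (.leaf 26225)) (.node 3643 (.leaf 58256) (.leaf 26258))) (.node 3646 (.node 3645 (.leaf 58288) (.leaf 26273)) (.node 3647 (.leaf 26306) (.leaf 58336))))))) (.node 3680 (.node 3664 (.node 3656 (.node 3652 (.node 3650 (.node 3649 (.leaf 26322) (.leaf 58368))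 (.node 3651 (.leaf 26337) (.leaf 26353))) (.node 3654 (.node 3653 (.leaf 58401) (.leaf 26386)) (.node 3655 (.leaf 55137) (.leaf 26401)))) (.node 3660 (.node 3658 (.node 3657 (.leaf 58480) (.leaf 26419)) (.node 3659 (.leaf 26434) (.leaf 58481))) (.node 3662 (.node 3661 (.leaf 58544) (.leaf 26435)) (.node 3663 (.leaf 26451) (.leaf 26449))))) (.node 3672 (.node 3668 (.node 3666 (.node 3665 (.leaf 26497) (.leaf 26450)) (.node 3667 (.leaf 35201) (.leaf 26465))) (.node 3670 (.node 3669 (.leaf 58672) (.leaf 26482)) (.node 3671 (.leaf 58704) (.leaf 31905)))) (.node 3676 (.node 3674 (.node 3673 (.leaf 58736) (.leaf 35602)) (.node 3675 (.leaf 58768) (.leaf 26498))) (.node 3678 (.node 3677 (.leaf 58800) (.leaf 26562)) (.node 3679 (.leaf 57554) (.leaf 58848)))))) (.node 3696 (.node 3688 (.node 3684 (.node 3682 (.node 3681 (.leaf 58832) (.leaf 26577)) (.node 3683 (.leaf 26593) (.leaf 56802))) (.node 3686 (.node 3685 (.leaf 26594) (.leaf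 55410)) (.node 3687 (.leaf 26610) (.leaf 58976)))) (.node 3692 (.node 3690 (.node 3689 (.leaf 58897) (.leaf 26658)) (.node 3691 (.leaf 59024) (.leaf 26673))) (.node 3694 (.node 3693 (.leaf 59056) (.leaf 26689)) (.node 3695 (.leaf 59088) (.leaf 26705))))) (.node 3704 (.node 3700 (.node 3698 (.node 3697 (.leaf 59120) (.leaf 26722)) (.node 3699 (.leaf 59152) (.leaf 59089))) (.node 3702 (.node 3701 (.leaf 59184) (.leaf 26737)) (.node 3703 (.leaf 26769) (.leaf 59232)))) (.node 3708 (.node 3706 (.node 3705 (.leaf 26770) (.leaf 59264)) (.node 3707 (.leaf 26818) (.leaf 59296))) (.node 3710 (.node 3709 (.leaf 26833) (.leaf 59328)) (.node 3711 (.leaf 26850) (.leaf 59360)))))))) (.node 3776 (.node 3744 (.node 3728 (.node 3720 (.node 3716 (.node 3714 (.node 3713 (.leaf 59329) (.leaf 59392)) (.node 3715 (.leaf 26866) (.leaf 26881))) (.node 3718 (.node 3717 (.leaf 51969) (.leaf 26882)) (.node 3719 (.leaf 26897) (.leaf 59488)))) (.node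 3724 (.node 3722 (.node 3721 (.leaf 26913) (.leaf 26930)) (.node 3723 (.leaf 59521) (.leaf 59552))) (.node 3726 (.node 3725 (.leaf 26962) (.leaf 59584)) (.node 3727 (.leaf 26993) (.leaf 26994))))) (.node 3736 (.node 3732 (.node 3730 (.node 3729 (.leaf 27057) (.leaf 27265)) (.node 3731 (.leaf 27089) (.leaf 27090))) (.node 3734 (.node 3733 (.leaf 27105) (.leaf 59712)) (.node 3735 (.leaf 27106) (.leaf 59744)))) (.node 3740 (.node 3738 (.node 3737 (.leaf 27121) (.leaf 59776)) (.node 3739 (.leaf 27122) (.leaf 59808))) (.node 3742 (.node 3741 (.leaf 27170) (.leaf 59840)) (.node 3743 (.leaf 27201) (.leaf 27217)))))) (.node 3760 (.node 3752 (.node 3748 (.node 3746 (.node 3745 (.leaf 27233) (.leaf 59904)) (.node 3747 (.leaf 27234) (.leaf 59936))) (.node 3750 (.node 3749 (.leaf 27250) (.leaf 59968)) (.node 3751 (.leaf 59889) (.leaf 27283)))) (.node 3756 (.node 3754 (.node 3753 (.leaf 27299) (.leaf 27297)) (.node 3755 (.leaf 27298)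 (.leaf 60064))) (.node 3758 (.node 3757 (.leaf 27329) (.leaf 60096)) (.node 3759 (.leaf 27330) (.leaf 27345))))) (.node 3768 (.node 3764 (.node 3762 (.node 3761 (.leaf 60144) (.leaf 27346)) (.node 3763 (.leaf 60176) (.leaf 27362))) (.node 3766 (.node 3765 (.leaf 60208) (.leaf 27410)) (.node 3767 (.leaf 60240) (.leaf 27425)))) (.node 3772 (.node 3770 (.node 3769 (.leaf 60272) (.leaf 27442)) (.node 3771 (.leaf 60304) (.leaf 27458))) (.node 3774 (.node 3773 (.leaf 60273) (.leaf 60352)) (.node 3775 (.leaf 27473) (.leaf 60384))))))) (.node 3808 (.node 3792 (.node 3784 (.node 3780 (.node 3778 (.node 3777 (.leaf 27489) (.leaf 60416)) (.node 3779 (.leaf 27490) (.leaf 60448))) (.node 3782 (.node 3781 (.leaf 27506) (.leaf 60480)) (.node 3783 (.leaf 60385) (.leaf 27522)))) (.node 3788 (.node 3786 (.node 3785 (.leaf 60528) (.leaf 27537)) (.node 3787 (.leaf 60560) (.leaf 27538))) (.node 3790 (.node 3789 (.leaf 60592) (.leaf 27569)) (.node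 3791 (.leaf 60624) (.leaf 27586))))) (.node 3800 (.node 3796 (.node 3794 (.node 3793 (.leaf 60656) (.leaf 60625)) (.node 3795 (.leaf 60688) (.leaf 27587))) (.node 3798 (.node 3797 (.leaf 27603) (.leaf 27602)) (.node 3799 (.leaf 60752) (.leaf 27617)))) (.node 3804 (.node 3802 (.node 3801 (.leaf 46561) (.leaf 27618)) (.node 3803 (.leaf 27633) (.leaf 60832))) (.node 3806 (.node 3805 (.leaf 27634) (.leaf 60864)) (.node 3807 (.leaf 27649) (.leaf 60896)))))) (.node 3824 (.node 3816 (.node 3812 (.node 3810 (.node 3809 (.leaf 27651) (.leaf 27665)) (.node 3811 (.leaf 60944) (.leaf 27683))) (.node 3814 (.node 3813 (.leaf 27699) (.leaf 27713)) (.node 3815 (.leaf 27730) (.leaf 61024)))) (.node 3820 (.node 3818 (.node 3817 (.leaf 27746) (.leaf 61056)) (.node 3819 (.leaf 61009) (.leaf 27762))) (.node 3822 (.node 3821 (.leaf 61104) (.leaf 27777)) (.node 3823 (.leaf 27793) (.leaf 61152))))) (.node 3832 (.node 3828 (.node 3826 (.node 3825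 (.leaf 27794) (.leaf 61184)) (.node 3827 (.leaf 27810) (.leaf 61216))) (.node 3830 (.node 3829 (.leaf 61137) (.leaf 27841)) (.node 3831 (.leaf 61264) (.leaf 27842)))) (.node 3836 (.node 3834 (.node 3833 (.leaf 27874) (.leaf 61312)) (.node 3835 (.leaf 27905) (.leaf 61344))) (.node 3838 (.node 3837 (.leaf 27921) (.leaf 61376)) (.node 3839 (.leaf 27937) (.leaf 27969))))))))

/-- block of `nd` -/
def nd_15 : Tr := .node 3968 (.node 3904 (.node 3872 (.node 3856 (.node 3848 (.node 3844 (.node 3842 (.node 3841 (.leaf 61424) (.leaf 28002)) (.node 3843 (.leaf 61456) (.leaf 28017))) (.node 3846 (.node 3845 (.leaf 61488) (.leaf 28035)) (.node 3847 (.leaf 28049) (.leaf 30450)))) (.node 3852 (.node 3850 (.node 3849 (.leaf 28065) (.leaf 61568)) (.node 3851 (.leaf 28081) (.leaf 28097))) (.node 3854 (.node 3853 (.leaf 61616) (.leaf 61601)) (.node 3855 (.leaf 28145) (.leaf 61664))))) (.node 3864 (.node 3860 (.node 3858 (.node 3857 (.leaf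 28161) (.leaf 61696)) (.node 3859 (.leaf 28194) (.leaf 61728))) (.node 3862 (.node 3861 (.leaf 61697) (.leaf 61760)) (.node 3863 (.leaf 28195) (.leaf 28211)))) (.node 3868 (.node 3866 (.node 3865 (.leaf 28210) (.leaf 61824)) (.node 3867 (.leaf 28273) (.leaf 61856))) (.node 3870 (.node 3869 (.leaf 28289) (.leaf 59426)) (.node 3871 (.leaf 61904) (.leaf 28305)))))) (.node 3888 (.node 3880 (.node 3876 (.node 3874 (.node 3873 (.leaf 61936) (.leaf 37761)) (.node 3875 (.leaf 28306) (.leaf 28353))) (.node 3878 (.node 3877 (.leaf 62000) (.leaf 28401)) (.node 3879 (.leaf 28417) (.leaf 62048)))) (.node 3884 (.node 3882 (.node 3881 (.leaf 28434) (.leaf 62033)) (.node 3883 (.leaf 28435) (.leaf 28451))) (.node 3886 (.node 3885 (.leaf 28449) (.leaf 28450)) (.node 3887 (.leaf 28481) (.leaf 58577))))) (.node 3896 (.node 3892 (.node 3890 (.node 3889 (.leaf 28497) (.leaf 29586)) (.node 3891 (.leaf 28514) (.leaf 62240))) (.node 3894 (.node 3893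 (.leaf 62177) (.leaf 28561)) (.node 3895 (.leaf 62288) (.leaf 28562)))) (.node 3900 (.node 3898 (.node 3897 (.leaf 62320) (.leaf 28577)) (.node 3899 (.leaf 62352) (.leaf 28578))) (.node 3902 (.node 3901 (.leaf 62384) (.leaf 28593)) (.node 3903 (.leaf 62416) (.leaf 28609))))))) (.node 3936 (.node 3920 (.node 3912 (.node 3908 (.node 3906 (.node 3905 (.leaf 28626) (.leaf 62464)) (.node 3907 (.leaf 62417) (.leaf 62496))) (.node 3910 (.node 3909 (.leaf 28627) (.leaf 28643)) (.node 3911 (.leaf 28641) (.leaf 62560)))) (.node 3916 (.node 3914 (.node 3913 (.leaf 28642) (.leaf 62592)) (.node 3915 (.leaf 28657) (.leaf 62624))) (.node 3918 (.node 3917 (.leaf 28673) (.leaf 28675)) (.node 3919 (.leaf 28691) (.leaf 28689))))) (.node 3928 (.node 3924 (.node 3922 (.node 3921 (.leaf 28690) (.leaf 28706)) (.node 3923 (.leaf 62736) (.leaf 62657))) (.node 3926 (.node 3925 (.leaf 62768) (.leaf 28721)) (.node 3927 (.leaf 28723) (.leaf 28739))))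 (.node 3932 (.node 3930 (.node 3929 (.leaf 28737) (.leaf 62848)) (.node 3931 (.leaf 28738) (.leaf 28754))) (.node 3934 (.node 3933 (.leaf 62801) (.leaf 62912)) (.node 3935 (.leaf 28785) (.leaf 62944)))))) (.node 3952 (.node 3944 (.node 3940 (.node 3938 (.node 3937 (.leaf 28786) (.leaf 62976)) (.node 3939 (.leaf 28801) (.leaf 63008))) (.node 3942 (.node 3941 (.leaf 28802) (.leaf 63040)) (.node 3943 (.leaf 28817) (.leaf 28819)))) (.node 3948 (.node 3946 (.node 3945 (.leaf 28835) (.leaf 28833)) (.node 3947 (.leaf 28834) (.leaf 29121))) (.node 3950 (.node 3949 (.leaf 29153) (.leaf 28929)) (.node 3951 (.leaf 28931) (.leaf 28945))))) (.node 3960 (.node 3956 (.node 3954 (.node 3953 (.leaf 28946) (.leaf 28962)) (.node 3955 (.leaf 63248) (.leaf 63185))) (.node 3958 (.node 3957 (.leaf 63280) (.leaf 28963)) (.node 3959 (.leaf 28979) (.leaf 28977)))) (.node 3964 (.node 3962 (.node 3961 (.leaf 28978) (.leaf 63360)) (.node 3963 (.leaf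 28993) (.leaf 29009))) (.node 3966 (.node 3965 (.leaf 29057) (.leaf 63424)) (.node 3967 (.leaf 29058) (.leaf 29105)))))))) (.node 4032 (.node 4000 (.node 3984 (.node 3976 (.node 3972 (.node 3970 (.node 3969 (.leaf 63472) (.leaf 29138)) (.node 3971 (.leaf 29154) (.leaf 63520))) (.node 3974 (.node 3973 (.leaf 29185) (.leaf 63552)) (.node 3975 (.leaf 29186) (.leaf 63584)))) (.node 3980 (.node 3978 (.node 3977 (.leaf 61555) (.leaf 63616)) (.node 3979 (.leaf 29217) (.leaf 63648))) (.node 3982 (.node 3981 (.leaf 29218) (.leaf 63680)) (.node 3983 (.leaf 29233) (.leaf 63712))))) (.node 3992 (.node 3988 (.node 3986 (.node 3985 (.leaf 29266) (.leaf 62449)) (.node 3987 (.leaf 63760) (.leaf 29281))) (.node 3990 (.node 3989 (.leaf 63792) (.leaf 29297)) (.node 3991 (.leaf 63824) (.leaf 29314)))) (.node 3996 (.node 3994 (.node 3993 (.leaf 63825) (.leaf 63872)) (.node 3995 (.leaf 29329) (.leaf 29330))) (.node 3998 (.node 3997 (.leaf 29345)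 (.leaf 29347)) (.node 3999 (.leaf 29363) (.leaf 29362)))))) (.node 4016 (.node 4008 (.node 4004 (.node 4002 (.node 4001 (.leaf 63984) (.leaf 29378)) (.node 4003 (.leaf 63937) (.leaf 64032))) (.node 4006 (.node 4005 (.leaf 29379) (.leaf 29393)) (.node 4007 (.leaf 29394) (.leaf 29425)))) (.node 4012 (.node 4010 (.node 4009 (.leaf 64112) (.leaf 29426)) (.node 4011 (.leaf 64144) (.leaf 29457))) (.node 4014 (.node 4013 (.leaf 29458) (.leaf 64192)) (.node 4015 (.leaf 29489) (.leaf 64224))))) (.node 4024 (.node 4020 (.node 4018 (.node 4017 (.leaf 29490) (.leaf 64256)) (.node 4019 (.leaf 29505) (.leaf 29506))) (.node 4022 (.node 4021 (.leaf 29521) (.leaf 64320)) (.node 4023 (.leaf 29522) (.leaf 29554)))) (.node 4028 (.node 4026 (.node 4025 (.leaf 64368) (.leaf 29618)) (.node 4027 (.leaf 64400) (.leaf 29633))) (.node 4030 (.node 4029 (.leaf 64432) (.leaf 29634)) (.node 4031 (.leaf 64464) (.leaf 29665))))))) (.node 4064 (.node 4048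 (.node 4040 (.node 4036 (.node 4034 (.node 4033 (.leaf 29682) (.leaf 64512)) (.node 4035 (.leaf 64497) (.leaf 64544))) (.node 4038 (.node 4037 (.leaf 29697) (.leaf 29905)) (.node 4039 (.leaf 29698) (.leaf 29729)))) (.node 4044 (.node 4042 (.node 4041 (.leaf 64624) (.leaf 29777)) (.node 4043 (.leaf 29778) (.leaf 64672))) (.node 4046 (.node 4045 (.leaf 29809) (.leaf 29810)) (.node 4047 (.leaf 64720) (.leaf 29841))))) (.node 4056 (.node 4052 (.node 4050 (.node 4049 (.leaf 64752) (.leaf 29857)) (.node 4051 (.leaf 29873) (.leaf 64800))) (.node 4054 (.node 4053 (.leaf 29874) (.leaf 64832)) (.node 4055 (.leaf 29890) (.leaf 29906)))) (.node 4060 (.node 4058 (.node 4057 (.leaf 64880) (.leaf 29923)) (.node 4059 (.leaf 29939) (.leaf 29937))) (.node 4062 (.node 4061 (.leaf 64944) (.leaf 29938)) (.node 4063 (.leaf 29985) (.leaf 64992)))))) (.node 4080 (.node 4072 (.node 4068 (.node 4066 (.node 4065 (.leaf 29986) (.leaf 65024)) (.node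 4067 (.leaf 30001) (.leaf 65056))) (.node 4070 (.node 4069 (.leaf 30002) (.leaf 65088)) (.node 4071 (.leaf 30017) (.leaf 30033)))) (.node 4076 (.node 4074 (.node 4073 (.leaf 30065) (.leaf 65152)) (.node 4075 (.leaf 30081) (.leaf 65184))) (.node 4078 (.node 4077 (.leaf 31682) (.leaf 31649)) (.node 4079 (.leaf 65232) (.leaf 30097))))) (.node 4088 (.node 4084 (.node 4082 (.node 4081 (.leaf 65264) (.leaf 30114)) (.node 4083 (.leaf 65296) (.leaf 30129))) (.node 4086 (.node 4085 (.leaf 30321) (.leaf 30130)) (.node 4087 (.leaf 65360) (.leaf 30145)))) (.node 4092 (.node 4090 (.node 4089 (.leaf 65392) (.leaf 30161)) (.node 4091 (.leaf 30162) (.leaf 65440))) (.node 4094 (.node 4093 (.leaf 30193) (.leaf 65472)) (.node 4095 (.leaf 30194) (.leaf 65504))))))))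

/-- block of `nd` -/
def nd_16 : Tr := .node 4224 (.node 4160 (.node 4128 (.node 4112 (.node 4104 (.node 4100 (.node 4098 (.node 4097 (.leaf 30209) (.leaf 65536)) (.node 4099 (.leaf 30225) (.leaf 65568))) (.node 4102 (.node 4101 (.leaf 30226) (.leaf 30242)) (.node 4103 (.leaf 65616) (.leaf 65537)))) (.node 4108 (.node 4106 (.node 4105 (.leaf 65648) (.leaf 30257)) (.node 4107 (.leaf 65680) (.leaf 30258))) (.node 4110 (.node 4109 (.leaf 65712) (.leaf 30290)) (.node 4111 (.leaf 47826) (.leaf 63490))))) (.node 4120 (.node 4116 (.node 4114 (.node 4113 (.leaf 30337) (.leaf 65792)) (.node 4115 (.leaf 30354) (.leaf 60945))) (.node 4118 (.node 4117 (.leaf 30369) (.leaf 65856)) (.node 4119 (.leaf 30385) (.leaf 65888)))) (.node 4124 (.node 4122 (.node 4121 (.leaf 30401) (.leaf 30434)) (.node 4123 (.leaf 65921) (.leaf 65952))) (.node 4126 (.node 4125 (.leaf 30449) (.leaf 30545)) (.node 4127 (.leaf 30465) (.leaf 66016)))))) (.node 4144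 (.node 4136 (.node 4132 (.node 4130 (.node 4129 (.leaf 47442) (.leaf 47409)) (.node 4131 (.leaf 66064) (.leaf 30513))) (.node 4134 (.node 4133 (.leaf 66096) (.leaf 30514)) (.node 4135 (.leaf 66128) (.leaf 30562)))) (.node 4140 (.node 4138 (.node 4137 (.leaf 66160) (.leaf 36673)) (.node 4139 (.leaf 66192) (.leaf 36706))) (.node 4142 (.node 4141 (.leaf 66224) (.leaf 66017)) (.node 4143 (.leaf 66256) (.leaf 30609))))) (.node 4152 (.node 4148 (.node 4146 (.node 4145 (.leaf 66288) (.leaf 30625)) (.node 4147 (.leaf 30643) (.leaf 30641))) (.node 4150 (.node 4149 (.leaf 66352) (.leaf 65874)) (.node 4151 (.leaf 66384) (.leaf 30642)))) (.node 4156 (.node 4154 (.node 4153 (.leaf 66416) (.leaf 30658)) (.node 4155 (.leaf 66448) (.leaf 66321))) (.node 4158 (.node 4157 (.leaf 66480) (.leaf 30674)) (.node 4159 (.leaf 66512) (.leaf 30705))))))) (.node 4192 (.node 4176 (.node 4168 (.node 4164 (.node 4162 (.node 4161 (.leaf 66544) (.leaf 30706))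 (.node 4163 (.leaf 66576) (.leaf 30737))) (.node 4166 (.node 4165 (.leaf 66608) (.leaf 30753)) (.node 4167 (.leaf 66640) (.leaf 30754)))) (.node 4172 (.node 4170 (.node 4169 (.leaf 66672) (.leaf 30770)) (.node 4171 (.leaf 66704) (.leaf 66609))) (.node 4174 (.node 4173 (.leaf 30786) (.leaf 66752)) (.node 4175 (.leaf 30801) (.leaf 30817))))) (.node 4184 (.node 4180 (.node 4178 (.node 4177 (.leaf 66800) (.leaf 30818)) (.node 4179 (.leaf 30834) (.leaf 66848))) (.node 4182 (.node 4181 (.leaf 66785) (.leaf 30850)) (.node 4183 (.leaf 66896) (.leaf 30881)))) (.node 4188 (.node 4186 (.node 4185 (.leaf 30882) (.leaf 66944)) (.node 4187 (.leaf 30915) (.leaf 30914))) (.node 4190 (.node 4189 (.leaf 56865) (.leaf 30946)) (.node 4191 (.leaf 67024) (.leaf 30977)))))) (.node 4208 (.node 4200 (.node 4196 (.node 4194 (.node 4193 (.leaf 67056) (.leaf 30993)) (.node 4195 (.leaf 66994) (.leaf 31042))) (.node 4198 (.node 4197 (.leaf 31074) (.leaf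 67136)) (.node 4199 (.leaf 31089) (.leaf 67168)))) (.node 4204 (.node 4202 (.node 4201 (.leaf 54002) (.leaf 31137)) (.node 4203 (.leaf 67216) (.leaf 66657))) (.node 4206 (.node 4205 (.leaf 67248) (.leaf 31153)) (.node 4207 (.leaf 67280) (.leaf 66817))))) (.node 4216 (.node 4212 (.node 4210 (.node 4209 (.leaf 67312) (.leaf 31185)) (.node 4211 (.leaf 31186) (.leaf 31249))) (.node 4214 (.node 4213 (.leaf 37729) (.leaf 31250)) (.node 4215 (.leaf 31281) (.leaf 67424)))) (.node 4220 (.node 4218 (.node 4217 (.leaf 31282) (.leaf 67456)) (.node 4219 (.leaf 31330) (.leaf 67488))) (.node 4222 (.node 4221 (.leaf 31346) (.leaf 67520)) (.node 4223 (.leaf 31377) (.leaf 67552)))))))) (.node 4288 (.node 4256 (.node 4240 (.node 4232 (.node 4228 (.node 4226 (.node 4225 (.leaf 31378) (.leaf 67584)) (.node 4227 (.leaf 31394) (.leaf 67616))) (.node 4230 (.node 4229 (.leaf 31425) (.leaf 67648)) (.node 4231 (.leaf 31442) (.leaf 67680)))) (.node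 4236 (.node 4234 (.node 4233 (.leaf 31537) (.leaf 67712)) (.node 4235 (.leaf 31553) (.leaf 64801))) (.node 4238 (.node 4237 (.leaf 48033) (.leaf 67776)) (.node 4239 (.leaf 60706) (.leaf 31571))))) (.node 4248 (.node 4244 (.node 4242 (.node 4241 (.leaf 31587) (.leaf 31618)) (.node 4243 (.leaf 31633) (.leaf 67872))) (.node 4246 (.node 4245 (.leaf 67873) (.leaf 67904)) (.node 4247 (.leaf 31665) (.leaf 35698)))) (.node 4252 (.node 4250 (.node 4249 (.leaf 31666) (.leaf 31922)) (.node 4251 (.leaf 31746) (.leaf 68000))) (.node 4254 (.node 4253 (.leaf 31762) (.leaf 68032)) (.node 4255 (.leaf 31794) (.leaf 68064)))))) (.node 4272 (.node 4264 (.node 4260 (.node 4258 (.node 4257 (.leaf 31826) (.leaf 68096)) (.node 4259 (.leaf 31857) (.leaf 68128))) (.node 4262 (.node 4261 (.leaf 31858) (.leaf 68160)) (.node 4263 (.leaf 31921) (.leaf 31937)))) (.node 4268 (.node 4266 (.node 4265 (.leaf 68208) (.leaf 31953)) (.node 4267 (.leaf 68240)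 (.leaf 31954))) (.node 4270 (.node 4269 (.leaf 68272) (.leaf 31970)) (.node 4271 (.leaf 68209) (.leaf 68320))))) (.node 4280 (.node 4276 (.node 4274 (.node 4273 (.leaf 31985) (.leaf 32001)) (.node 4275 (.leaf 68368) (.leaf 32019))) (.node 4278 (.node 4277 (.leaf 32017) (.leaf 68416)) (.node 4279 (.leaf 32018) (.leaf 68448)))) (.node 4284 (.node 4282 (.node 4281 (.leaf 68369) (.leaf 68480)) (.node 4283 (.leaf 32049) (.leaf 68512))) (.node 4286 (.node 4285 (.leaf 32065) (.leaf 32145)) (.node 4287 (.leaf 32225) (.leaf 32257))))))) (.node 4320 (.node 4304 (.node 4296 (.node 4292 (.node 4290 (.node 4289 (.leaf 68592) (.leaf 32289)) (.node 4291 (.leaf 68624) (.leaf 32305))) (.node 4294 (.node 4293 (.leaf 44562) (.leaf 32353)) (.node 4295 (.leaf 68688) (.leaf 32369)))) (.node 4300 (.node 4298 (.node 4297 (.leaf 61026) (.leaf 68736)) (.node 4299 (.leaf 32385) (.leaf 68768))) (.node 4302 (.node 4301 (.leaf 32401) (.leaf 68800)) (.node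 4303 (.leaf 32402) (.leaf 68832))))) (.node 4312 (.node 4308 (.node 4306 (.node 4305 (.leaf 32418) (.leaf 68769)) (.node 4307 (.leaf 68880) (.leaf 32434))) (.node 4310 (.node 4309 (.leaf 68912) (.leaf 32449)) (.node 4311 (.leaf 68944) (.leaf 32465)))) (.node 4316 (.node 4314 (.node 4313 (.leaf 68976) (.leaf 32466)) (.node 4315 (.leaf 69008) (.leaf 68945))) (.node 4318 (.node 4317 (.leaf 69040) (.leaf 32498)) (.node 4319 (.leaf 69072) (.leaf 32529)))))) (.node 4336 (.node 4328 (.node 4324 (.node 4322 (.node 4321 (.leaf 32530) (.leaf 32563)) (.node 4323 (.leaf 32577) (.leaf 32610))) (.node 4326 (.node 4325 (.leaf 69153) (.leaf 69184)) (.node 4327 (.leaf 32642) (.leaf 69216)))) (.node 4332 (.node 4330 (.node 4329 (.leaf 32657) (.leaf 32658)) (.node 4331 (.leaf 32673) (.leaf 69280))) (.node 4334 (.node 4333 (.leaf 32689) (.leaf 69312)) (.node 4335 (.leaf 32690) (.leaf 32706))))) (.node 4344 (.node 4340 (.node 4338 (.node 4337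 (.leaf 69360) (.leaf 69281)) (.node 4339 (.leaf 69392) (.leaf 32707))) (.node 4342 (.node 4341 (.leaf 32723) (.leaf 32721)) (.node 4343 (.leaf 69456) (.leaf 32722)))) (.node 4348 (.node 4346 (.node 4345 (.leaf 69488) (.leaf 32737)) (.node 4347 (.leaf 32754) (.leaf 69521))) (.node 4350 (.node 4349 (.leaf 69552) (.leaf 32770)) (.node 4351 (.leaf 32787) (.leaf 32865))))))))

/-- block of `nd` -/
def nd_17 : Tr := .node 4480 (.node 4416 (.node 4384 (.node 4368 (.node 4360 (.node 4356 (.node 4354 (.node 4353 (.leaf 33121) (.leaf 32883)) (.node 4355 (.leaf 32899) (.leaf 32929))) (.node 4358 (.node 4357 (.leaf 69680) (.leaf 32994)) (.node 4359 (.leaf 33025) (.leaf 33026)))) (.node 4364 (.node 4362 (.node 4361 (.leaf 69744) (.leaf 33058)) (.node 4363 (.leaf 69776) (.leaf 33073))) (.node 4366 (.node 4365 (.leaf 33090) (.leaf 69824)) (.node 4367 (.leaf 33106) (.leaf 69856))))) (.node 4376 (.node 4372 (.node 4370 (.node 4369 (.leaf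 69809) (.leaf 33139)) (.node 4371 (.leaf 33155) (.leaf 33153))) (.node 4374 (.node 4373 (.leaf 33154) (.leaf 69952)) (.node 4375 (.leaf 33185) (.leaf 69984)))) (.node 4380 (.node 4378 (.node 4377 (.leaf 33250) (.leaf 33265)) (.node 4379 (.leaf 70032) (.leaf 33266))) (.node 4382 (.node 4381 (.leaf 70064) (.leaf 33281)) (.node 4383 (.leaf 70096) (.leaf 33297)))))) (.node 4400 (.node 4392 (.node 4388 (.node 4386 (.node 4385 (.leaf 33313) (.leaf 33314)) (.node 4387 (.leaf 33618) (.leaf 33330))) (.node 4390 (.node 4389 (.leaf 70192) (.leaf 70129)) (.node 4391 (.leaf 33345) (.leaf 70240)))) (.node 4396 (.node 4394 (.node 4393 (.leaf 33361) (.leaf 70272)) (.node 4395 (.leaf 33393) (.leaf 70304))) (.node 4398 (.node 4397 (.leaf 33395) (.leaf 33409)) (.node 4399 (.leaf 70352) (.leaf 33410))))) (.node 4408 (.node 4404 (.node 4402 (.node 4401 (.leaf 70384) (.leaf 33426)) (.node 4403 (.leaf 70416) (.leaf 70305))) (.node 4406 (.node 4405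 (.leaf 70448) (.leaf 33441)) (.node 4407 (.leaf 70480) (.leaf 33442)))) (.node 4412 (.node 4410 (.node 4409 (.leaf 33457) (.leaf 70528)) (.node 4411 (.leaf 33473) (.leaf 70560))) (.node 4414 (.node 4413 (.leaf 33474) (.leaf 70592)) (.node 4415 (.leaf 70529) (.leaf 70624))))))) (.node 4448 (.node 4432 (.node 4424 (.node 4420 (.node 4418 (.node 4417 (.leaf 33505) (.leaf 70656)) (.node 4419 (.leaf 33506) (.leaf 70688))) (.node 4422 (.node 4421 (.leaf 33538) (.leaf 33553)) (.node 4423 (.leaf 70736) (.leaf 33554)))) (.node 4428 (.node 4426 (.node 4425 (.leaf 70768) (.leaf 33569)) (.node 4427 (.leaf 70800) (.leaf 33570))) (.node 4430 (.node 4429 (.leaf 70832) (.leaf 33601)) (.node 4431 (.leaf 33617) (.leaf 70880))))) (.node 4440 (.node 4436 (.node 4434 (.node 4433 (.leaf 33634) (.leaf 70912)) (.node 4435 (.leaf 70865) (.leaf 33665))) (.node 4438 (.node 4437 (.leaf 70960) (.leaf 70369)) (.node 4439 (.leaf 33729) (.leaf 71008))))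 (.node 4444 (.node 4442 (.node 4441 (.leaf 33761) (.leaf 71040)) (.node 4443 (.leaf 33777) (.leaf 33794))) (.node 4446 (.node 4445 (.leaf 71073) (.leaf 71104)) (.node 4447 (.leaf 33841) (.leaf 71136)))))) (.node 4464 (.node 4456 (.node 4452 (.node 4450 (.node 4449 (.leaf 33874) (.leaf 71168)) (.node 4451 (.leaf 33889) (.leaf 33905))) (.node 4454 (.node 4453 (.leaf 33906) (.leaf 71232)) (.node 4455 (.leaf 33953) (.leaf 71264)))) (.node 4460 (.node 4458 (.node 4457 (.leaf 33971) (.leaf 33987)) (.node 4459 (.leaf 34003) (.leaf 34034))) (.node 4462 (.node 4461 (.leaf 34065) (.leaf 71360)) (.node 4463 (.leaf 68530) (.leaf 34066))))) (.node 4472 (.node 4468 (.node 4466 (.node 4465 (.leaf 34097) (.leaf 71424)) (.node 4467 (.leaf 34145) (.leaf 71456))) (.node 4470 (.node 4469 (.leaf 34146) (.leaf 34177)) (.node 4471 (.leaf 34178) (.leaf 34194)))) (.node 4476 (.node 4474 (.node 4473 (.leaf 71536) (.leaf 34209)) (.node 4475 (.leaf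 34225) (.leaf 34242))) (.node 4478 (.node 4477 (.leaf 71600) (.leaf 71569)) (.node 4479 (.leaf 71632) (.leaf 37346)))))))) (.node 4544 (.node 4512 (.node 4496 (.node 4488 (.node 4484 (.node 4482 (.node 4481 (.leaf 71664) (.leaf 34257)) (.node 4483 (.leaf 34369) (.leaf 34275))) (.node 4486 (.node 4485 (.leaf 34290) (.leaf 71744)) (.node 4487 (.leaf 34305) (.leaf 71776)))) (.node 4492 (.node 4490 (.node 4489 (.leaf 34322) (.leaf 34354)) (.node 4491 (.leaf 71777) (.leaf 71840))) (.node 4494 (.node 4493 (.leaf 34370) (.leaf 34401)) (.node 4495 (.leaf 71888) (.leaf 34402))))) (.node 4504 (.node 4500 (.node 4498 (.node 4497 (.leaf 56834) (.leaf 34434)) (.node 4499 (.leaf 71952) (.leaf 67009))) (.node 4502 (.node 4501 (.leaf 71984) (.leaf 34465)) (.node 4503 (.leaf 34482) (.leaf 34818)))) (.node 4508 (.node 4506 (.node 4505 (.leaf 34498) (.leaf 72017)) (.node 4507 (.leaf 72080) (.leaf 36801))) (.node 4510 (.node 4509 (.leaf 72112)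 (.leaf 42385)) (.node 4511 (.leaf 72144) (.leaf 42418)))))) (.node 4528 (.node 4520 (.node 4516 (.node 4514 (.node 4513 (.leaf 37042) (.leaf 72192)) (.node 4515 (.leaf 34513) (.leaf 46001))) (.node 4518 (.node 4517 (.leaf 34514) (.leaf 72256)) (.node 4519 (.leaf 34529) (.leaf 72288)))) (.node 4524 (.node 4522 (.node 4521 (.leaf 34561) (.leaf 34625)) (.node 4523 (.leaf 60258) (.leaf 34658))) (.node 4526 (.node 4525 (.leaf 72354) (.leaf 34689)) (.node 4527 (.leaf 72400) (.leaf 34690))))) (.node 4536 (.node 4532 (.node 4530 (.node 4529 (.leaf 72432) (.leaf 34721)) (.node 4531 (.leaf 72464) (.leaf 34722))) (.node 4534 (.node 4533 (.leaf 34754) (.leaf 72512)) (.node 4535 (.leaf 34787) (.leaf 34786)))) (.node 4540 (.node 4538 (.node 4537 (.leaf 72560) (.leaf 34801)) (.node 4539 (.leaf 34817) (.leaf 34834))) (.node 4542 (.node 4541 (.leaf 72624) (.leaf 72593)) (.node 4543 (.leaf 72656) (.leaf 34851))))))) (.node 4576 (.node 4560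 (.node 4552 (.node 4548 (.node 4546 (.node 4545 (.leaf 34849) (.leaf 72704)) (.node 4547 (.leaf 34865) (.leaf 34898))) (.node 4550 (.node 4549 (.leaf 34929) (.leaf 34913)) (.node 4551 (.leaf 61809) (.leaf 34961)))) (.node 4556 (.node 4554 (.node 4553 (.leaf 34962) (.leaf 34993)) (.node 4555 (.leaf 72848) (.leaf 34994))) (.node 4558 (.node 4557 (.leaf 72880) (.leaf 35009)) (.node 4559 (.leaf 35027) (.leaf 72913))))) (.node 4568 (.node 4564 (.node 4562 (.node 4561 (.leaf 72944) (.leaf 35043)) (.node 4563 (.leaf 35059) (.leaf 35057))) (.node 4566 (.node 4565 (.leaf 73008) (.leaf 35058)) (.node 4567 (.leaf 73040) (.leaf 35090)))) (.node 4572 (.node 4570 (.node 4569 (.leaf 59409) (.leaf 35202)) (.node 4571 (.leaf 35265) (.leaf 70929))) (.node 4574 (.node 4573 (.leaf 35297) (.leaf 66578)) (.node 4575 (.leaf 35329) (.leaf 35330)))))) (.node 4592 (.node 4584 (.node 4580 (.node 4578 (.node 4577 (.leaf 73200) (.leaf 35361)) (.node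 4579 (.leaf 73232) (.leaf 35362))) (.node 4582 (.node 4581 (.leaf 35377) (.leaf 73280)) (.node 4583 (.leaf 35394) (.leaf 73312)))) (.node 4588 (.node 4586 (.node 4585 (.leaf 35409) (.leaf 73344)) (.node 4587 (.leaf 73042) (.leaf 73009))) (.node 4590 (.node 4589 (.leaf 73392) (.leaf 35425)) (.node 4591 (.leaf 35426) (.leaf 35442))))) (.node 4600 (.node 4596 (.node 4594 (.node 4593 (.leaf 73345) (.leaf 73472)) (.node 4595 (.leaf 35489) (.leaf 35490))) (.node 4598 (.node 4597 (.leaf 73520) (.leaf 35507)) (.node 4599 (.leaf 35523) (.leaf 35537)))) (.node 4604 (.node 4602 (.node 4601 (.leaf 73585) (.leaf 73600)) (.node 4603 (.leaf 35569) (.leaf 73632))) (.node 4606 (.node 4605 (.leaf 35617) (.leaf 73664)) (.node 4607 (.leaf 35633) (.leaf 73696))))))))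

/-- block of `nd` -/
def nd_18 : Tr := .node 4736 (.node 4672 (.node 4640 (.node 4624 (.node 4616 (.node 4612 (.node 4610 (.node 4609 (.leaf 71810) (.leaf 73728)) (.node 4611 (.leaf 37538) (.leaf 73760))) (.node 4614 (.node 4613 (.leaf 35777) (.leaf 35778)) (.node 4615 (.leaf 35809) (.leaf 73824)))) (.node 4620 (.node 4618 (.node 4617 (.leaf 35810) (.leaf 35825)) (.node 4619 (.leaf 35842) (.leaf 73873))) (.node 4622 (.node 4621 (.leaf 73904) (.leaf 35857)) (.node 4623 (.leaf 35858) (.leaf 35889))))) (.node 4632 (.node 4628 (.node 4626 (.node 4625 (.leaf 35890) (.leaf 36114)) (.node 4627 (.leaf 35905) (.leaf 74016))) (.node 4630 (.node 4629 (.leaf 35938) (.leaf 37010)) (.node 4631 (.leaf 56577) (.leaf 74080)))) (.node 4636 (.node 4634 (.node 4633 (.leaf 35985) (.leaf 72210)) (.node 4635 (.leaf 36017) (.leaf 74144))) (.node 4638 (.node 4637 (.leaf 36018) (.leaf 36050)) (.node 4639 (.leaf 74192) (.leaf 73425)))))) (.node 4656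 (.node 4648 (.node 4644 (.node 4642 (.node 4641 (.leaf 73442) (.leaf 36082)) (.node 4643 (.leaf 74256) (.leaf 36097))) (.node 4646 (.node 4645 (.leaf 36113) (.leaf 74304)) (.node 4647 (.leaf 36130) (.leaf 74289)))) (.node 4652 (.node 4650 (.node 4649 (.leaf 74352) (.leaf 36145)) (.node 4651 (.leaf 74384) (.leaf 36178))) (.node 4654 (.node 4653 (.leaf 36209) (.leaf 74432)) (.node 4655 (.leaf 73810) (.leaf 73793))))) (.node 4664 (.node 4660 (.node 4658 (.node 4657 (.leaf 36226) (.leaf 47170)) (.node 4659 (.leaf 36242) (.leaf 74528))) (.node 4662 (.node 4661 (.leaf 74433) (.leaf 74560)) (.node 4663 (.leaf 53730) (.leaf 74592)))) (.node 4668 (.node 4666 (.node 4665 (.leaf 53697) (.leaf 74624)) (.node 4667 (.leaf 36259) (.leaf 36257))) (.node 4670 (.node 4669 (.leaf 56546) (.leaf 74688)) (.node 4671 (.leaf 74672) (.leaf 36289))))))) (.node 4704 (.node 4688 (.node 4680 (.node 4676 (.node 4674 (.node 4673 (.leaf 74736) (.leaf 36290))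 (.node 4675 (.leaf 36305) (.leaf 74784))) (.node 4678 (.node 4677 (.leaf 36322) (.leaf 74816)) (.node 4679 (.leaf 36385) (.leaf 74848)))) (.node 4684 (.node 4682 (.node 4681 (.leaf 58834) (.leaf 72961)) (.node 4683 (.leaf 74896) (.leaf 58786))) (.node 4686 (.node 4685 (.leaf 74928) (.leaf 74880)) (.node 4687 (.leaf 36465) (.leaf 74976))))) (.node 4696 (.node 4692 (.node 4690 (.node 4689 (.leaf 36481) (.leaf 68114)) (.node 4691 (.leaf 36498) (.leaf 74977))) (.node 4694 (.node 4693 (.leaf 75056) (.leaf 36530)) (.node 4695 (.leaf 36562) (.leaf 55569)))) (.node 4700 (.node 4698 (.node 4697 (.leaf 36625) (.leaf 53586)) (.node 4699 (.leaf 36657) (.leaf 74610))) (.node 4702 (.node 4701 (.leaf 36658) (.leaf 74609)) (.node 4703 (.leaf 36707) (.leaf 36722)))))) (.node 4720 (.node 4712 (.node 4708 (.node 4706 (.node 4705 (.leaf 36802) (.leaf 47393)) (.node 4707 (.leaf 75280) (.leaf 75264))) (.node 4710 (.node 4709 (.leaf 36849) (.leaf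 36882)) (.node 4711 (.leaf 75344) (.leaf 36929)))) (.node 4716 (.node 4714 (.node 4713 (.leaf 37169) (.leaf 73074)) (.node 4715 (.leaf 75408) (.leaf 36962))) (.node 4718 (.node 4717 (.leaf 75440) (.leaf 36977)) (.node 4719 (.leaf 75472) (.leaf 36993))))) (.node 4728 (.node 4724 (.node 4722 (.node 4721 (.leaf 75504) (.leaf 37009)) (.node 4723 (.leaf 37218) (.leaf 37026))) (.node 4726 (.node 4725 (.leaf 75568) (.leaf 75505)) (.node 4727 (.leaf 37073) (.leaf 72578)))) (.node 4732 (.node 4730 (.node 4729 (.leaf 75616) (.leaf 72577)) (.node 4731 (.leaf 75664) (.leaf 37137))) (.node 4734 (.node 4733 (.leaf 37154) (.leaf 74385)) (.node 4735 (.leaf 37185) (.leaf 37202)))))))) (.node 4800 (.node 4768 (.node 4752 (.node 4744 (.node 4740 (.node 4738 (.node 4737 (.leaf 75760) (.leaf 75745)) (.node 4739 (.leaf 37250) (.leaf 75808))) (.node 4742 (.node 4741 (.leaf 37281) (.leaf 75840)) (.node 4743 (.leaf 37282) (.leaf 75872)))) (.node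 4748 (.node 4746 (.node 4745 (.leaf 37313) (.leaf 75904)) (.node 4747 (.leaf 58642) (.leaf 58609))) (.node 4750 (.node 4749 (.leaf 75952) (.leaf 37314)) (.node 4751 (.leaf 37345) (.leaf 76000))))) (.node 4760 (.node 4756 (.node 4754 (.node 4753 (.leaf 37361) (.leaf 76032)) (.node 4755 (.leaf 37377) (.leaf 37393))) (.node 4758 (.node 4757 (.leaf 37425) (.leaf 74546)) (.node 4759 (.leaf 76096) (.leaf 37426)))) (.node 4764 (.node 4762 (.node 4761 (.leaf 74545) (.leaf 37441)) (.node 4763 (.leaf 76176) (.leaf 37457))) (.node 4766 (.node 4765 (.leaf 76208) (.leaf 37474)) (.node 4767 (.leaf 37490) (.leaf 76256)))))) (.node 4784 (.node 4776 (.node 4772 (.node 4770 (.node 4769 (.leaf 76209) (.leaf 76288)) (.node 4771 (.leaf 37491) (.leaf 37507))) (.node 4774 (.node 4773 (.leaf 37506) (.leaf 76352)) (.node 4775 (.leaf 37569) (.leaf 76384)))) (.node 4780 (.node 4778 (.node 4777 (.leaf 37601) (.leaf 76416)) (.node 4779 (.leaf 37666)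 (.leaf 37681))) (.node 4782 (.node 4781 (.leaf 76464) (.leaf 37697)) (.node 4783 (.leaf 37698) (.leaf 75857))))) (.node 4792 (.node 4788 (.node 4786 (.node 4785 (.leaf 37714) (.leaf 74801)) (.node 4787 (.leaf 37794) (.leaf 76576))) (.node 4790 (.node 4789 (.leaf 37825) (.leaf 37826)) (.node 4791 (.leaf 37841) (.leaf 76641)))) (.node 4796 (.node 4794 (.node 4793 (.leaf 76656) (.leaf 37874)) (.node 4795 (.leaf 37905) (.leaf 37906))) (.node 4798 (.node 4797 (.leaf 76720) (.leaf 37921)) (.node 4799 (.leaf 76752) (.leaf 37937))))))) (.node 4832 (.node 4816 (.node 4808 (.node 4804 (.node 4802 (.node 4801 (.leaf 76784) (.leaf 37969)) (.node 4803 (.leaf 38001) (.leaf 76832))) (.node 4806 (.node 4805 (.leaf 38002) (.leaf 76864)) (.node 4807 (.leaf 38049) (.leaf 76896)))) (.node 4812 (.node 4810 (.node 4809 (.leaf 38065) (.leaf 76928)) (.node 4811 (.leaf 38066) (.leaf 76960))) (.node 4814 (.node 4813 (.leaf 38082) (.leaf 76992)) (.node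 4815 (.leaf 76897) (.leaf 38097))))) (.node 4824 (.node 4820 (.node 4818 (.node 4817 (.leaf 38337) (.leaf 38098)) (.node 4819 (.leaf 77072) (.leaf 38129))) (.node 4822 (.node 4821 (.leaf 77104) (.leaf 38130)) (.node 4823 (.leaf 77136) (.leaf 38161)))) (.node 4828 (.node 4826 (.node 4825 (.leaf 77168) (.leaf 38466)) (.node 4827 (.leaf 38209) (.leaf 77216))) (.node 4830 (.node 4829 (.leaf 38210) (.leaf 77248)) (.node 4831 (.leaf 38241) (.leaf 77280)))))) (.node 4848 (.node 4840 (.node 4836 (.node 4834 (.node 4833 (.leaf 38242) (.leaf 77312)) (.node 4835 (.leaf 38289) (.leaf 77344))) (.node 4838 (.node 4837 (.leaf 38305) (.leaf 77376)) (.node 4839 (.leaf 38306) (.leaf 77408)))) (.node 4844 (.node 4842 (.node 4841 (.leaf 38322) (.leaf 77440)) (.node 4843 (.leaf 77345) (.leaf 77472))) (.node 4846 (.node 4845 (.leaf 38338) (.leaf 38355)) (.node 4847 (.leaf 38371) (.leaf 38369))))) (.node 4856 (.node 4852 (.node 4850 (.node 4849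 (.leaf 38370) (.leaf 77568)) (.node 4851 (.leaf 38401) (.leaf 77600))) (.node 4854 (.node 4853 (.leaf 38402) (.leaf 38449)) (.node 4855 (.leaf 38465) (.leaf 38498)))) (.node 4860 (.node 4858 (.node 4857 (.leaf 77680) (.leaf 38513)) (.node 4859 (.leaf 77712) (.leaf 38529))) (.node 4862 (.node 4861 (.leaf 38546) (.leaf 77745)) (.node 4863 (.leaf 77776) (.leaf 38547))))))))

/-- block of `nd` -/
def nd_19 : Tr := .node 4992 (.node 4928 (.node 4896 (.node 4880 (.node 4872 (.node 4868 (.node 4866 (.node 4865 (.leaf 38563) (.leaf 38561)) (.node 4867 (.leaf 38849) (.leaf 38577))) (.node 4870 (.node 4869 (.leaf 77872) (.leaf 38593)) (.node 4871 (.leaf 38594) (.leaf 77873)))) (.node 4876 (.node 4874 (.node 4873 (.leaf 77936) (.leaf 38626)) (.node 4875 (.leaf 77968) (.leaf 38641))) (.node 4878 (.node 4877 (.leaf 78000) (.leaf 38643)) (.node 4879 (.leaf 38659) (.leaf 38657))))) (.node 4888 (.node 4884 (.node 4882 (.node 4881 (.leaf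 78064) (.leaf 38658)) (.node 4883 (.leaf 38674) (.leaf 78001))) (.node 4886 (.node 4885 (.leaf 78128) (.leaf 38689)) (.node 4887 (.leaf 38690) (.leaf 78176)))) (.node 4892 (.node 4890 (.node 4889 (.leaf 38753) (.leaf 78208)) (.node 4891 (.leaf 38801) (.leaf 78240))) (.node 4894 (.node 4893 (.leaf 38818) (.leaf 78226)) (.node 4895 (.leaf 38834) (.leaf 78304)))))) (.node 4912 (.node 4904 (.node 4900 (.node 4898 (.node 4897 (.leaf 78241) (.leaf 78336)) (.node 4899 (.leaf 38850) (.leaf 78368))) (.node 4902 (.node 4901 (.leaf 38882) (.leaf 78400)) (.node 4903 (.leaf 38913) (.leaf 78432)))) (.node 4908 (.node 4906 (.node 4905 (.leaf 38929) (.leaf 78464)) (.node 4907 (.leaf 38945) (.leaf 38962))) (.node 4910 (.node 4909 (.leaf 78497) (.leaf 78528)) (.node 4911 (.leaf 38977) (.leaf 78560))))) (.node 4920 (.node 4916 (.node 4914 (.node 4913 (.leaf 39009) (.leaf 78592)) (.node 4915 (.leaf 39026) (.leaf 78578))) (.node 4918 (.node 4917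 (.leaf 39042) (.leaf 78593)) (.node 4919 (.leaf 39057) (.leaf 78688)))) (.node 4924 (.node 4922 (.node 4921 (.leaf 39073) (.leaf 78720)) (.node 4923 (.leaf 39074) (.leaf 78752))) (.node 4926 (.node 4925 (.leaf 39090) (.leaf 78689)) (.node 4927 (.leaf 78800) (.leaf 39105))))))) (.node 4960 (.node 4944 (.node 4936 (.node 4932 (.node 4930 (.node 4929 (.leaf 39106) (.leaf 78848)) (.node 4931 (.leaf 39121) (.leaf 78880))) (.node 4934 (.node 4933 (.leaf 39137) (.leaf 78912)) (.node 4935 (.leaf 39138) (.leaf 78944)))) (.node 4940 (.node 4938 (.node 4937 (.leaf 78881) (.leaf 78976)) (.node 4939 (.leaf 39185) (.leaf 79008))) (.node 4942 (.node 4941 (.leaf 39250) (.leaf 79040)) (.node 4943 (.leaf 39281) (.leaf 39329))))) (.node 4952 (.node 4948 (.node 4946 (.node 4945 (.leaf 39330) (.leaf 39345)) (.node 4947 (.leaf 39362) (.leaf 79121))) (.node 4950 (.node 4949 (.leaf 79152) (.leaf 39379)) (.node 4951 (.leaf 39409) (.leaf 39410))))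 (.node 4956 (.node 4954 (.node 4953 (.leaf 79216) (.leaf 39441)) (.node 4955 (.leaf 39442) (.leaf 39457))) (.node 4958 (.node 4957 (.leaf 39474) (.leaf 79281)) (.node 4959 (.leaf 79312) (.leaf 39490)))))) (.node 4976 (.node 4968 (.node 4964 (.node 4962 (.node 4961 (.leaf 39969) (.leaf 39539)) (.node 4963 (.leaf 39553) (.leaf 79392))) (.node 4966 (.node 4965 (.leaf 39569) (.leaf 39570)) (.node 4967 (.leaf 79440) (.leaf 39586)))) (.node 4972 (.node 4970 (.node 4969 (.leaf 79472) (.leaf 79393)) (.node 4971 (.leaf 39601) (.leaf 39729))) (.node 4974 (.node 4973 (.leaf 39697) (.leaf 39698)) (.node 4975 (.leaf 79568) (.leaf 39730))))) (.node 4984 (.node 4980 (.node 4978 (.node 4977 (.leaf 39761) (.leaf 39777)) (.node 4979 (.leaf 79632) (.leaf 39793))) (.node 4982 (.node 4981 (.leaf 39810) (.leaf 79680)) (.node 4983 (.leaf 79665) (.leaf 79712)))) (.node 4988 (.node 4986 (.node 4985 (.leaf 39841) (.leaf 40001)) (.node 4987 (.leaf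 39874) (.leaf 39889))) (.node 4990 (.node 4989 (.leaf 79792) (.leaf 39890)) (.node 4991 (.leaf 39922) (.leaf 39953)))))))) (.node 5056 (.node 5024 (.node 5008 (.node 5000 (.node 4996 (.node 4994 (.node 4993 (.leaf 79856) (.leaf 39986)) (.node 4995 (.leaf 40033) (.leaf 40049))) (.node 4998 (.node 4997 (.leaf 79920) (.leaf 40050)) (.node 4999 (.leaf 40370) (.leaf 40066)))) (.node 5004 (.node 5002 (.node 5001 (.leaf 79984) (.leaf 79905)) (.node 5003 (.leaf 80016) (.leaf 40081))) (.node 5006 (.node 5005 (.leaf 40082) (.leaf 40098)) (.node 5007 (.leaf 80080) (.leaf 40113))))) (.node 5016 (.node 5012 (.node 5010 (.node 5009 (.leaf 79697) (.leaf 40114)) (.node 5011 (.leaf 80144) (.leaf 40145))) (.node 5014 (.node 5013 (.leaf 80176) (.leaf 40146)) (.node 5015 (.leaf 40178) (.leaf 40209)))) (.node 5020 (.node 5018 (.node 5017 (.leaf 80240) (.leaf 40210)) (.node 5019 (.leaf 80272) (.leaf 40225))) (.node 5022 (.node 5021 (.leaf 80304)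 (.leaf 40241)) (.node 5023 (.leaf 80336) (.leaf 40258)))))) (.node 5040 (.node 5032 (.node 5028 (.node 5026 (.node 5025 (.leaf 80368) (.leaf 40289)) (.node 5027 (.leaf 80400) (.leaf 40321))) (.node 5030 (.node 5029 (.leaf 40322) (.leaf 80448)) (.node 5031 (.leaf 40337) (.leaf 80480)))) (.node 5036 (.node 5034 (.node 5033 (.leaf 40386) (.leaf 80512)) (.node 5035 (.leaf 40401) (.leaf 80544))) (.node 5038 (.node 5037 (.leaf 40417) (.leaf 80576)) (.node 5039 (.leaf 40433) (.leaf 80608))))) (.node 5048 (.node 5044 (.node 5042 (.node 5041 (.leaf 40450) (.leaf 80609)) (.node 5043 (.leaf 80656) (.leaf 40465))) (.node 5046 (.node 5045 (.leaf 80688) (.leaf 80193)) (.node 5047 (.leaf 40529) (.leaf 80736)))) (.node 5052 (.node 5050 (.node 5049 (.leaf 40545) (.leaf 40561)) (.node 5051 (.leaf 80784) (.leaf 40562))) (.node 5054 (.node 5053 (.leaf 40593) (.leaf 40801)) (.node 5055 (.leaf 40594) (.leaf 40625))))))) (.node 5088 (.node 5072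 (.node 5064 (.node 5060 (.node 5058 (.node 5057 (.leaf 40626) (.leaf 80896)) (.node 5059 (.leaf 40657) (.leaf 80928))) (.node 5062 (.node 5061 (.leaf 40738) (.leaf 80960)) (.node 5063 (.leaf 40753) (.leaf 80992)))) (.node 5068 (.node 5066 (.node 5065 (.leaf 40769) (.leaf 81024)) (.node 5067 (.leaf 40770) (.leaf 81056))) (.node 5070 (.node 5069 (.leaf 80993) (.leaf 40833)) (.node 5071 (.leaf 40834) (.leaf 81120))))) (.node 5080 (.node 5076 (.node 5074 (.node 5073 (.leaf 40849) (.leaf 81152)) (.node 5075 (.leaf 40865) (.leaf 40883))) (.node 5078 (.node 5077 (.leaf 40897) (.leaf 41073)) (.node 5079 (.leaf 40913) (.leaf 81248)))) (.node 5084 (.node 5082 (.node 5081 (.leaf 40929) (.leaf 81280)) (.node 5083 (.leaf 40930) (.leaf 81312))) (.node 5086 (.node 5085 (.leaf 81249) (.leaf 81344)) (.node 5087 (.leaf 40961) (.leaf 40977)))))) (.node 5104 (.node 5096 (.node 5092 (.node 5090 (.node 5089 (.leaf 81392) (.leaf 40978)) (.node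 5091 (.leaf 81424) (.leaf 41041))) (.node 5094 (.node 5093 (.leaf 81456) (.leaf 41058)) (.node 5095 (.leaf 80545) (.leaf 81504)))) (.node 5100 (.node 5098 (.node 5097 (.leaf 41074) (.leaf 81536)) (.node 5099 (.leaf 41121) (.leaf 81568))) (.node 5102 (.node 5101 (.leaf 41137) (.leaf 41154)) (.node 5103 (.leaf 81601) (.leaf 81632))))) (.node 5112 (.node 5108 (.node 5106 (.node 5105 (.leaf 41185) (.leaf 81664)) (.node 5107 (.leaf 41201) (.leaf 41202))) (.node 5110 (.node 5109 (.leaf 81712) (.leaf 41218)) (.node 5111 (.leaf 81744) (.leaf 81665)))) (.node 5116 (.node 5114 (.node 5113 (.leaf 81776) (.leaf 41219)) (.node 5115 (.leaf 41234) (.leaf 81824))) (.node 5118 (.node 5117 (.leaf 41249) (.leaf 81856)) (.node 5119 (.leaf 41265) (.leaf 81888))))))))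

/-- block of `nd` -/
def nd_20 : Tr := .node 5248 (.node 5184 (.node 5152 (.node 5136 (.node 5128 (.node 5124 (.node 5122 (.node 5121 (.leaf 41266) (.leaf 81920)) (.node 5123 (.leaf 41282) (.leaf 81952))) (.node 5126 (.node 5125 (.leaf 81857) (.leaf 81984)) (.node 5127 (.leaf 41298) (.leaf 82016)))) (.node 5132 (.node 5130 (.node 5129 (.leaf 41346) (.leaf 82048)) (.node 5131 (.leaf 41361) (.leaf 82080))) (.node 5134 (.node 5133 (.leaf 41362) (.leaf 82112)) (.node 5135 (.leaf 41409) (.leaf 41410))))) (.node 5144 (.node 5140 (.node 5138 (.node 5137 (.leaf 82160) (.leaf 41425)) (.node 5139 (.leaf 41441) (.leaf 82208))) (.node 5142 (.node 5141 (.leaf 41442) (.leaf 82240)) (.node 5143 (.leaf 41458) (.leaf 82193)))) (.node 5148 (.node 5146 (.node 5145 (.leaf 82288) (.leaf 41459)) (.node 5147 (.leaf 41475) (.leaf 41521))) (.node 5150 (.node 5149 (.leaf 82352) (.leaf 41537)) (.node 5151 (.leaf 41570) (.leaf 82385)))))) (.node 5168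 (.node 5160 (.node 5156 (.node 5154 (.node 5153 (.leaf 82416) (.leaf 41571)) (.node 5155 (.leaf 41585) (.leaf 41602))) (.node 5158 (.node 5157 (.leaf 82465) (.leaf 82496)) (.node 5159 (.leaf 41633) (.leaf 82528)))) (.node 5164 (.node 5162 (.node 5161 (.leaf 41651) (.leaf 41666)) (.node 5163 (.leaf 82225) (.leaf 41713))) (.node 5166 (.node 5165 (.leaf 41746) (.leaf 82624)) (.node 5167 (.leaf 41763) (.leaf 41779))))) (.node 5176 (.node 5172 (.node 5170 (.node 5169 (.leaf 42082) (.leaf 41857)) (.node 5171 (.leaf 82641) (.leaf 41889))) (.node 5174 (.node 5173 (.leaf 82736) (.leaf 76770)) (.node 5175 (.leaf 82768) (.leaf 41890)))) (.node 5180 (.node 5178 (.node 5177 (.leaf 41922) (.leaf 82816)) (.node 5179 (.leaf 41953) (.leaf 41954))) (.node 5182 (.node 5181 (.leaf 41985) (.leaf 82880)) (.node 5183 (.leaf 42018) (.leaf 82912))))))) (.node 5216 (.node 5200 (.node 5192 (.node 5188 (.node 5186 (.node 5185 (.leaf 42033) (.leaf 82944))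 (.node 5187 (.leaf 42049) (.leaf 82976))) (.node 5190 (.node 5189 (.leaf 42065) (.leaf 78274)) (.node 5191 (.leaf 42067) (.leaf 42081)))) (.node 5196 (.node 5194 (.node 5193 (.leaf 83056) (.leaf 42113)) (.node 5195 (.leaf 42129) (.leaf 83104))) (.node 5198 (.node 5197 (.leaf 42146) (.leaf 83136)) (.node 5199 (.leaf 83089) (.leaf 42161))))) (.node 5208 (.node 5204 (.node 5202 (.node 5201 (.leaf 42241) (.leaf 42162)) (.node 5203 (.leaf 42209) (.leaf 83232))) (.node 5206 (.node 5205 (.leaf 42226) (.leaf 83264)) (.node 5207 (.leaf 42273) (.leaf 83296)))) (.node 5212 (.node 5210 (.node 5209 (.leaf 42274) (.leaf 83328)) (.node 5211 (.leaf 42305) (.leaf 42322))) (.node 5214 (.node 5213 (.leaf 83376) (.leaf 83361)) (.node 5215 (.leaf 83408) (.leaf 42337)))))) (.node 5232 (.node 5224 (.node 5220 (.node 5218 (.node 5217 (.leaf 83440) (.leaf 42338)) (.node 5219 (.leaf 83472) (.leaf 42402))) (.node 5222 (.node 5221 (.leaf 83504) (.leaf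 42419)) (.node 5223 (.leaf 42435) (.leaf 42465)))) (.node 5228 (.node 5226 (.node 5225 (.leaf 72529) (.leaf 42466)) (.node 5227 (.leaf 83600) (.leaf 42499))) (.node 5230 (.node 5229 (.leaf 42529) (.leaf 83648)) (.node 5231 (.leaf 42530) (.leaf 83680))))) (.node 5240 (.node 5236 (.node 5234 (.node 5233 (.leaf 42561) (.leaf 83712)) (.node 5235 (.leaf 42577) (.leaf 42594))) (.node 5238 (.node 5237 (.leaf 83745) (.leaf 83776)) (.node 5239 (.leaf 47105) (.leaf 83808)))) (.node 5244 (.node 5242 (.node 5241 (.leaf 42609) (.leaf 42753)) (.node 5243 (.leaf 42610) (.leaf 83872))) (.node 5246 (.node 5245 (.leaf 42641) (.leaf 83521)) (.node 5247 (.leaf 42642) (.leaf 83936)))))))) (.node 5312 (.node 5280 (.node 5264 (.node 5256 (.node 5252 (.node 5250 (.node 5249 (.leaf 42673) (.leaf 45938)) (.node 5251 (.leaf 83968) (.leaf 42705))) (.node 5254 (.node 5253 (.leaf 84016) (.leaf 42721)) (.node 5255 (.leaf 84048) (.leaf 42738)))) (.node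 5260 (.node 5258 (.node 5257 (.leaf 84049) (.leaf 84096)) (.node 5259 (.leaf 42754) (.leaf 42849))) (.node 5262 (.node 5261 (.leaf 84144) (.leaf 42850)) (.node 5263 (.leaf 84176) (.leaf 53969))))) (.node 5272 (.node 5268 (.node 5266 (.node 5265 (.leaf 42865) (.leaf 42866)) (.node 5267 (.leaf 84240) (.leaf 42881))) (.node 5270 (.node 5269 (.leaf 84272) (.leaf 42882)) (.node 5271 (.leaf 84304) (.leaf 42897)))) (.node 5276 (.node 5274 (.node 5273 (.leaf 42913) (.leaf 84352)) (.node 5275 (.leaf 42914) (.leaf 84384))) (.node 5278 (.node 5277 (.leaf 42930) (.leaf 42931)) (.node 5279 (.leaf 42946) (.leaf 42977)))))) (.node 5296 (.node 5288 (.node 5284 (.node 5282 (.node 5281 (.leaf 84464) (.leaf 42978)) (.node 5283 (.leaf 43009) (.leaf 43010))) (.node 5286 (.node 5285 (.leaf 84528) (.leaf 43074)) (.node 5287 (.leaf 84560) (.leaf 43089)))) (.node 5292 (.node 5290 (.node 5289 (.leaf 84592) (.leaf 43105)) (.node 5291 (.leaf 84624)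 (.leaf 43106))) (.node 5294 (.node 5293 (.leaf 84656) (.leaf 43121)) (.node 5295 (.leaf 84688) (.leaf 83603))))) (.node 5304 (.node 5300 (.node 5298 (.node 5297 (.leaf 84720) (.leaf 43137)) (.node 5299 (.leaf 44210) (.leaf 43138))) (.node 5302 (.node 5301 (.leaf 84784) (.leaf 43154)) (.node 5303 (.leaf 84689) (.leaf 43185)))) (.node 5308 (.node 5306 (.node 5305 (.leaf 84848) (.leaf 43186)) (.node 5307 (.leaf 84880) (.leaf 83875))) (.node 5310 (.node 5309 (.leaf 84912) (.leaf 43217)) (.node 5311 (.leaf 84944) (.leaf 43218))))))) (.node 5344 (.node 5328 (.node 5320 (.node 5316 (.node 5314 (.node 5313 (.leaf 43249) (.leaf 84992)) (.node 5315 (.leaf 43281) (.leaf 85024))) (.node 5318 (.node 5317 (.leaf 43282) (.leaf 85056)) (.node 5319 (.leaf 43346) (.leaf 85088)))) (.node 5324 (.node 5322 (.node 5321 (.leaf 43361) (.leaf 85120)) (.node 5323 (.leaf 43394) (.leaf 43441))) (.node 5326 (.node 5325 (.leaf 43457) (.leaf 85184)) (.node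 5327 (.leaf 43473) (.leaf 43521))))) (.node 5336 (.node 5332 (.node 5330 (.node 5329 (.leaf 43522) (.leaf 43793)) (.node 5331 (.leaf 43537) (.leaf 85280))) (.node 5334 (.node 5333 (.leaf 43553) (.leaf 85312)) (.node 5335 (.leaf 43585) (.leaf 85344)))) (.node 5340 (.node 5338 (.node 5337 (.leaf 43603) (.leaf 43619)) (.node 5339 (.leaf 43617) (.leaf 43825))) (.node 5342 (.node 5341 (.leaf 43633) (.leaf 43649)) (.node 5343 (.leaf 85456) (.leaf 43666)))))) (.node 5360 (.node 5352 (.node 5348 (.node 5346 (.node 5345 (.leaf 85488) (.leaf 85441)) (.node 5347 (.leaf 85520) (.leaf 43682))) (.node 5350 (.node 5349 (.leaf 43713) (.leaf 85568)) (.node 5351 (.leaf 43714) (.leaf 43745)))) (.node 5356 (.node 5354 (.node 5353 (.leaf 43746) (.leaf 85632)) (.node 5355 (.leaf 43777) (.leaf 55617))) (.node 5358 (.node 5357 (.leaf 43794) (.leaf 85696)) (.node 5359 (.leaf 43810) (.leaf 85665))))) (.node 5368 (.node 5364 (.node 5362 (.node 5361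 (.leaf 85744) (.leaf 43858)) (.node 5363 (.leaf 85776) (.leaf 43873))) (.node 5366 (.node 5365 (.leaf 85808) (.leaf 43889)) (.node 5367 (.leaf 85840) (.leaf 43905)))) (.node 5372 (.node 5370 (.node 5369 (.leaf 85872) (.leaf 43921)) (.node 5371 (.leaf 85904) (.leaf 43922))) (.node 5374 (.node 5373 (.leaf 44178) (.leaf 43938)) (.node 5375 (.leaf 43953) (.leaf 85985))))))))

/-- block of `nd` -/
def nd_21 : Tr := .node 5504 (.node 5440 (.node 5408 (.node 5392 (.node 5384 (.node 5380 (.node 5378 (.node 5377 (.leaf 86000) (.leaf 43985)) (.node 5379 (.leaf 43986) (.leaf 86048))) (.node 5382 (.node 5381 (.leaf 44001) (.leaf 86080)) (.node 5383 (.leaf 44017) (.leaf 86112)))) (.node 5388 (.node 5386 (.node 5385 (.leaf 44018) (.leaf 86081)) (.node 5387 (.leaf 86160) (.leaf 44049))) (.node 5390 (.node 5389 (.leaf 44050) (.leaf 44145)) (.node 5391 (.leaf 86224) (.leaf 44209))))) (.node 5400 (.node 5396 (.node 5394 (.node 5393 (.leaf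 44241) (.leaf 86272)) (.node 5395 (.leaf 44242) (.leaf 44273))) (.node 5398 (.node 5397 (.leaf 86320) (.leaf 44274)) (.node 5399 (.leaf 44306) (.leaf 86368)))) (.node 5404 (.node 5402 (.node 5401 (.leaf 44321) (.leaf 86400)) (.node 5403 (.leaf 44337) (.leaf 44354))) (.node 5406 (.node 5405 (.leaf 86401) (.leaf 44370)) (.node 5407 (.leaf 76481) (.leaf 44417)))))) (.node 5424 (.node 5416 (.node 5412 (.node 5410 (.node 5409 (.leaf 44418) (.leaf 44434)) (.node 5411 (.leaf 44449) (.leaf 44657))) (.node 5414 (.node 5413 (.leaf 44481) (.leaf 44482)) (.node 5415 (.leaf 44513) (.leaf 44546)))) (.node 5420 (.node 5418 (.node 5417 (.leaf 44642) (.leaf 86656)) (.node 5419 (.leaf 44689) (.leaf 44690))) (.node 5422 (.node 5421 (.leaf 44706) (.leaf 86720)) (.node 5423 (.leaf 44738) (.leaf 44769))))) (.node 5432 (.node 5428 (.node 5426 (.node 5425 (.leaf 80529) (.leaf 44801)) (.node 5427 (.leaf 86800) (.leaf 44802))) (.node 5430 (.node 5429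 (.leaf 44818) (.leaf 44930)) (.node 5431 (.leaf 86864) (.leaf 44945)))) (.node 5436 (.node 5434 (.node 5433 (.leaf 86896) (.leaf 45010)) (.node 5435 (.leaf 79025) (.leaf 45057))) (.node 5438 (.node 5437 (.leaf 47634) (.leaf 45058)) (.node 5439 (.leaf 47633) (.leaf 45089))))))) (.node 5472 (.node 5456 (.node 5448 (.node 5444 (.node 5442 (.node 5441 (.leaf 46338) (.leaf 45121)) (.node 5443 (.leaf 87056) (.leaf 45137))) (.node 5446 (.node 5445 (.leaf 45154) (.leaf 87089)) (.node 5447 (.leaf 87120) (.leaf 45185)))) (.node 5452 (.node 5450 (.node 5449 (.leaf 87152) (.leaf 45186)) (.node 5451 (.leaf 87184) (.leaf 45218))) (.node 5454 (.node 5453 (.leaf 47953) (.leaf 45267)) (.node 5455 (.leaf 45283) (.leaf 45281))))) (.node 5464 (.node 5460 (.node 5458 (.node 5457 (.leaf 87280) (.leaf 45282)) (.node 5459 (.leaf 45506) (.leaf 45329))) (.node 5462 (.node 5461 (.leaf 45330) (.leaf 87360)) (.node 5463 (.leaf 45361) (.leaf 45362))))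 (.node 5468 (.node 5466 (.node 5465 (.leaf 87408) (.leaf 45377)) (.node 5467 (.leaf 45393) (.leaf 45394))) (.node 5470 (.node 5469 (.leaf 87472) (.leaf 45410)) (.node 5471 (.leaf 58689) (.leaf 87441)))))) (.node 5488 (.node 5480 (.node 5476 (.node 5474 (.node 5473 (.leaf 45441) (.leaf 45442)) (.node 5475 (.leaf 45473) (.leaf 45505))) (.node 5478 (.node 5477 (.leaf 45537) (.leaf 45569)) (.node 5479 (.leaf 87632) (.leaf 46466)))) (.node 5484 (.node 5482 (.node 5481 (.leaf 45570) (.leaf 45602)) (.node 5483 (.leaf 87696) (.leaf 45649))) (.node 5486 (.node 5485 (.leaf 87728) (.leaf 45681)) (.node 5487 (.leaf 45683) (.leaf 45699))))) (.node 5496 (.node 5492 (.node 5490 (.node 5489 (.leaf 45697) (.leaf 87808)) (.node 5491 (.leaf 45698) (.leaf 45761))) (.node 5494 (.node 5493 (.leaf 45777) (.leaf 87872)) (.node 5495 (.leaf 45778) (.leaf 45970)))) (.node 5500 (.node 5498 (.node 5497 (.leaf 87857) (.leaf 87936)) (.node 5499 (.leaf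 45809) (.leaf 87968))) (.node 5502 (.node 5501 (.leaf 65585) (.leaf 45875)) (.node 5503 (.leaf 45905) (.leaf 45953)))))))) (.node 5568 (.node 5536 (.node 5520 (.node 5512 (.node 5508 (.node 5506 (.node 5505 (.leaf 45986) (.leaf 88049)) (.node 5507 (.leaf 88080) (.leaf 45987))) (.node 5510 (.node 5509 (.leaf 46002) (.leaf 88128)) (.node 5511 (.leaf 46050) (.leaf 88160)))) (.node 5516 (.node 5514 (.node 5513 (.leaf 46065) (.leaf 46401)) (.node 5515 (.leaf 46081) (.leaf 88224))) (.node 5518 (.node 5517 (.leaf 55329) (.leaf 88256)) (.node 5519 (.leaf 46113) (.leaf 88289))))) (.node 5528 (.node 5524 (.node 5522 (.node 5521 (.leaf 88304) (.leaf 65970)) (.node 5523 (.leaf 46146) (.leaf 54177))) (.node 5526 (.node 5525 (.leaf 46177) (.leaf 46225)) (.node 5527 (.leaf 78546) (.leaf 46241)))) (.node 5532 (.node 5530 (.node 5529 (.leaf 88433) (.leaf 88448)) (.node 5531 (.leaf 46259) (.leaf 46275))) (.node 5534 (.node 5533 (.leaf 46289)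 (.leaf 88512)) (.node 5535 (.leaf 46385) (.leaf 47538)))))) (.node 5552 (.node 5544 (.node 5540 (.node 5538 (.node 5537 (.leaf 46402) (.leaf 46481)) (.node 5539 (.leaf 88592) (.leaf 46497))) (.node 5542 (.node 5541 (.leaf 88624) (.leaf 46513)) (.node 5543 (.leaf 88656) (.leaf 46514)))) (.node 5548 (.node 5546 (.node 5545 (.leaf 88688) (.leaf 46530)) (.node 5547 (.leaf 88625) (.leaf 88736))) (.node 5550 (.node 5549 (.leaf 46545) (.leaf 46609)) (.node 5551 (.leaf 46546) (.leaf 88800))))) (.node 5560 (.node 5556 (.node 5554 (.node 5553 (.leaf 46577) (.leaf 47010)) (.node 5555 (.leaf 46578) (.leaf 88864))) (.node 5558 (.node 5557 (.leaf 46625) (.leaf 88896)) (.node 5559 (.leaf 46641) (.leaf 88928)))) (.node 5564 (.node 5562 (.node 5561 (.leaf 46657) (.leaf 46674)) (.node 5563 (.leaf 88976) (.leaf 88929))) (.node 5566 (.node 5565 (.leaf 89008) (.leaf 46689)) (.node 5567 (.leaf 89040) (.leaf 46690))))))) (.node 5600 (.node 5584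 (.node 5576 (.node 5572 (.node 5570 (.node 5569 (.leaf 46705) (.leaf 89088)) (.node 5571 (.leaf 46721) (.leaf 89120))) (.node 5574 (.node 5573 (.leaf 46722) (.leaf 89058)) (.node 5575 (.leaf 46738) (.leaf 89089)))) (.node 5580 (.node 5578 (.node 5577 (.leaf 89200) (.leaf 46753)) (.node 5579 (.leaf 88705) (.leaf 46754))) (.node 5582 (.node 5581 (.leaf 46785) (.leaf 89280)) (.node 5583 (.leaf 46833) (.leaf 46866))))) (.node 5592 (.node 5588 (.node 5586 (.node 5585 (.leaf 46881) (.leaf 46898)) (.node 5587 (.leaf 46913) (.leaf 46914))) (.node 5590 (.node 5589 (.leaf 46977) (.leaf 46945)) (.node 5591 (.leaf 89424) (.leaf 46961)))) (.node 5596 (.node 5594 (.node 5593 (.leaf 89456) (.leaf 47187)) (.node 5595 (.leaf 47106) (.leaf 47122))) (.node 5598 (.node 5597 (.leaf 73185) (.leaf 88385)) (.node 5599 (.leaf 47138) (.leaf 89568)))))) (.node 5616 (.node 5608 (.node 5604 (.node 5602 (.node 5601 (.leaf 47169) (.leaf 89600)) (.node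 5603 (.leaf 47202) (.leaf 74753))) (.node 5606 (.node 5605 (.leaf 47249) (.leaf 68689)) (.node 5607 (.leaf 47299) (.leaf 47346)))) (.node 5612 (.node 5610 (.node 5609 (.leaf 47457) (.leaf 47458)) (.node 5611 (.leaf 47793) (.leaf 47489))) (.node 5614 (.node 5613 (.leaf 89776) (.leaf 47490)) (.node 5615 (.leaf 47506) (.leaf 89824))))) (.node 5624 (.node 5620 (.node 5618 (.node 5617 (.leaf 47553) (.leaf 47569)) (.node 5619 (.leaf 89586) (.leaf 47570))) (.node 5622 (.node 5621 (.leaf 47586) (.leaf 89857)) (.node 5623 (.leaf 89936) (.leaf 47714)))) (.node 5628 (.node 5626 (.node 5625 (.leaf 59665) (.leaf 47762)) (.node 5627 (.leaf 47906) (.leaf 90016))) (.node 5630 (.node 5629 (.leaf 53985) (.leaf 54018)) (.node 5631 (.leaf 90064) (.leaf 88209))))))))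

/-- block of `nd` -/
def nd_22 : Tr := .node 5760 (.node 5696 (.node 5664 (.node 5648 (.node 5640 (.node 5636 (.node 5634 (.node 5633 (.leaf 90096) (.leaf 88578)) (.node 5635 (.leaf 88033) (.leaf 90144))) (.node 5638 (.node 5637 (.leaf 66962) (.leaf 90128)) (.node 5639 (.leaf 47921) (.leaf 47922)))) (.node 5644 (.node 5642 (.node 5641 (.leaf 83729) (.leaf 83730)) (.node 5643 (.leaf 90256) (.leaf 90224))) (.node 5646 (.node 5645 (.leaf 48018) (.leaf 90304)) (.node 5647 (.leaf 48051) (.leaf 48065))))) (.node 5656 (.node 5652 (.node 5650 (.node 5649 (.leaf 90352) (.leaf 48066)) (.node 5651 (.leaf 48113) (.leaf 90400))) (.node 5654 (.node 5653 (.leaf 48129) (.leaf 90432)) (.node 5655 (.leaf 48130) (.leaf 90464)))) (.node 5660 (.node 5658 (.node 5657 (.leaf 48146) (.leaf 90496)) (.node 5659 (.leaf 90401) (.leaf 90528))) (.node 5662 (.node 5661 (.leaf 48161) (.leaf 48369)) (.node 5663 (.leaf 48162) (.leaf 48193)))))) (.node 5680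 (.node 5672 (.node 5668 (.node 5666 (.node 5665 (.leaf 48211) (.leaf 48227)) (.node 5667 (.leaf 48225) (.leaf 48226))) (.node 5670 (.node 5669 (.leaf 48241) (.leaf 90688)) (.node 5671 (.leaf 48273) (.leaf 48274)))) (.node 5676 (.node 5674 (.node 5673 (.leaf 90736) (.leaf 48305)) (.node 5675 (.leaf 90768) (.leaf 48306))) (.node 5678 (.node 5677 (.leaf 90800) (.leaf 48321)) (.node 5679 (.leaf 90832) (.leaf 48337))))) (.node 5688 (.node 5684 (.node 5682 (.node 5681 (.leaf 48338) (.leaf 48354)) (.node 5683 (.leaf 90833) (.leaf 48402))) (.node 5686 (.node 5685 (.leaf 90928) (.leaf 48433)) (.node 5687 (.leaf 90960) (.leaf 48434)))) (.node 5692 (.node 5690 (.node 5689 (.leaf 90992) (.leaf 48481)) (.node 5691 (.leaf 91024) (.leaf 48498))) (.node 5694 (.node 5693 (.leaf 91025) (.leaf 91072)) (.node 5695 (.leaf 48513) (.leaf 48514))))))) (.node 5728 (.node 5712 (.node 5704 (.node 5700 (.node 5698 (.node 5697 (.leaf 91120) (.leaf 48546))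 (.node 5699 (.leaf 91152) (.leaf 48578))) (.node 5702 (.node 5701 (.leaf 48593) (.leaf 91200)) (.node 5703 (.leaf 48594) (.leaf 48609)))) (.node 5708 (.node 5706 (.node 5705 (.leaf 91248) (.leaf 48610)) (.node 5707 (.leaf 91280) (.leaf 48673))) (.node 5710 (.node 5709 (.leaf 91312) (.leaf 48690)) (.node 5711 (.leaf 91344) (.leaf 48705))))) (.node 5720 (.node 5716 (.node 5714 (.node 5713 (.leaf 91376) (.leaf 48706)) (.node 5715 (.leaf 48721) (.leaf 91424))) (.node 5718 (.node 5717 (.leaf 48737) (.leaf 91456)) (.node 5719 (.leaf 48738) (.leaf 91488)))) (.node 5724 (.node 5722 (.node 5721 (.leaf 48754) (.leaf 91425)) (.node 5723 (.leaf 91536) (.leaf 48769))) (.node 5726 (.node 5725 (.leaf 91568) (.leaf 48770)) (.node 5727 (.leaf 91600) (.leaf 48801)))))) (.node 5744 (.node 5736 (.node 5732 (.node 5730 (.node 5729 (.leaf 91632) (.leaf 48802)) (.node 5731 (.leaf 48817) (.leaf 91680))) (.node 5734 (.node 5733 (.leaf 48818) (.leaf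 48881)) (.node 5735 (.leaf 48897) (.leaf 91744)))) (.node 5740 (.node 5738 (.node 5737 (.leaf 48898) (.leaf 91776)) (.node 5739 (.leaf 48914) (.leaf 91729))) (.node 5742 (.node 5741 (.leaf 48929) (.leaf 49025)) (.node 5743 (.leaf 48961) (.leaf 91872))))) (.node 5752 (.node 5748 (.node 5746 (.node 5745 (.leaf 48962) (.leaf 48977)) (.node 5747 (.leaf 91920) (.leaf 91155))) (.node 5750 (.node 5749 (.leaf 48993) (.leaf 49714)) (.node 5751 (.leaf 49010) (.leaf 92000)))) (.node 5756 (.node 5754 (.node 5753 (.leaf 91921) (.leaf 92032)) (.node 5755 (.leaf 49026) (.leaf 49057))) (.node 5758 (.node 5757 (.leaf 92080) (.leaf 49058)) (.node 5759 (.leaf 92112) (.leaf 91187)))))))) (.node 5824 (.node 5792 (.node 5776 (.node 5768 (.node 5764 (.node 5762 (.node 5761 (.leaf 49089) (.leaf 92160)) (.node 5763 (.leaf 49090) (.leaf 49137))) (.node 5766 (.node 5765 (.leaf 92208) (.leaf 49153)) (.node 5767 (.leaf 92240) (.leaf 49170)))) (.node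 5772 (.node 5770 (.node 5769 (.leaf 49185) (.leaf 92288)) (.node 5771 (.leaf 49186) (.leaf 92320))) (.node 5774 (.node 5773 (.leaf 49201) (.leaf 92352)) (.node 5775 (.leaf 49218) (.leaf 92353))))) (.node 5784 (.node 5780 (.node 5778 (.node 5777 (.leaf 49233) (.leaf 92416)) (.node 5779 (.leaf 49297) (.leaf 92448))) (.node 5782 (.node 5781 (.leaf 49298) (.leaf 92434)) (.node 5783 (.leaf 49345) (.leaf 92512)))) (.node 5788 (.node 5786 (.node 5785 (.leaf 49377) (.leaf 92544)) (.node 5787 (.leaf 49378) (.leaf 49505))) (.node 5790 (.node 5789 (.leaf 49457) (.leaf 49537)) (.node 5791 (.leaf 49458) (.leaf 92640)))))) (.node 5808 (.node 5800 (.node 5796 (.node 5794 (.node 5793 (.leaf 49489) (.leaf 92672)) (.node 5795 (.leaf 49522) (.leaf 92673))) (.node 5798 (.node 5797 (.leaf 49569) (.leaf 49570)) (.node 5799 (.leaf 92752) (.leaf 49649)))) (.node 5804 (.node 5802 (.node 5801 (.leaf 49651) (.leaf 49667)) (.node 5803 (.leaf 49665)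 (.leaf 49666))) (.node 5806 (.node 5805 (.leaf 49713) (.leaf 49745)) (.node 5807 (.leaf 92880) (.leaf 49746))))) (.node 5816 (.node 5812 (.node 5810 (.node 5809 (.leaf 49793) (.leaf 92928)) (.node 5811 (.leaf 49842) (.leaf 92960))) (.node 5814 (.node 5813 (.leaf 49857) (.leaf 49873)) (.node 5815 (.leaf 49874) (.leaf 49890)))) (.node 5820 (.node 5818 (.node 5817 (.leaf 93040) (.leaf 92993)) (.node 5819 (.leaf 49905) (.leaf 50113))) (.node 5822 (.node 5821 (.leaf 49923) (.leaf 49939)) (.node 5823 (.leaf 49937) (.leaf 93152))))))) (.node 5856 (.node 5840 (.node 5832 (.node 5828 (.node 5826 (.node 5825 (.leaf 49938) (.leaf 93184)) (.node 5827 (.leaf 49955) (.leaf 49971))) (.node 5830 (.node 5829 (.leaf 49969) (.leaf 93248)) (.node 5831 (.leaf 49970) (.leaf 50049)))) (.node 5836 (.node 5834 (.node 5833 (.leaf 50050) (.leaf 50065)) (.node 5835 (.leaf 50081) (.leaf 93344))) (.node 5838 (.node 5837 (.leaf 50082) (.leaf 50098)) (.node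 5839 (.leaf 93392) (.leaf 93329))))) (.node 5848 (.node 5844 (.node 5842 (.node 5841 (.leaf 93424) (.leaf 50114)) (.node 5843 (.leaf 50145) (.leaf 93472))) (.node 5846 (.node 5845 (.leaf 50146) (.leaf 93504)) (.node 5847 (.leaf 50162) (.leaf 93536)))) (.node 5852 (.node 5850 (.node 5849 (.leaf 50225) (.leaf 93568)) (.node 5851 (.leaf 50226) (.leaf 53218))) (.node 5854 (.node 5853 (.leaf 92690) (.leaf 50258)) (.node 5855 (.leaf 50290) (.leaf 92770)))))) (.node 5872 (.node 5864 (.node 5860 (.node 5858 (.node 5857 (.leaf 50305) (.leaf 50321)) (.node 5859 (.leaf 93712) (.leaf 50322))) (.node 5862 (.node 5861 (.leaf 50338) (.leaf 93760)) (.node 5863 (.leaf 93697) (.leaf 50354)))) (.node 5868 (.node 5866 (.node 5865 (.leaf 93808) (.leaf 50386)) (.node 5867 (.leaf 93840) (.leaf 50418))) (.node 5870 (.node 5869 (.leaf 93872) (.leaf 50482)) (.node 5871 (.leaf 88113) (.leaf 50545))))) (.node 5880 (.node 5876 (.node 5874 (.node 5873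 (.leaf 50546) (.leaf 50577)) (.node 5875 (.leaf 50578) (.leaf 50610))) (.node 5878 (.node 5877 (.leaf 94000) (.leaf 50626)) (.node 5879 (.leaf 94032) (.leaf 50641)))) (.node 5884 (.node 5882 (.node 5881 (.leaf 50849) (.leaf 50689)) (.node 5883 (.leaf 94096) (.leaf 50786))) (.node 5886 (.node 5885 (.leaf 94128) (.leaf 50817)) (.node 5887 (.leaf 50834) (.leaf 94176))))))))

/-- block of `nd` -/
def nd_23 : Tr := .node 6016 (.node 5952 (.node 5920 (.node 5904 (.node 5896 (.node 5892 (.node 5890 (.node 5889 (.leaf 50913) (.leaf 94208)) (.node 5891 (.leaf 50914) (.leaf 50929))) (.node 5894 (.node 5893 (.leaf 50930) (.leaf 50977)) (.node 5895 (.leaf 50994) (.leaf 94289)))) (.node 5900 (.node 5898 (.node 5897 (.leaf 94320) (.leaf 51009)) (.node 5899 (.leaf 51073) (.leaf 51010))) (.node 5902 (.node 5901 (.leaf 51041) (.leaf 94400)) (.node 5903 (.leaf 51059) (.leaf 51075))))) (.node 5912 (.node 5908 (.node 5906 (.node 5905 (.leaf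 51074) (.leaf 51105)) (.node 5907 (.leaf 51137) (.leaf 94496))) (.node 5910 (.node 5909 (.leaf 93986) (.leaf 93969)) (.node 5911 (.leaf 51138) (.leaf 94560)))) (.node 5916 (.node 5914 (.node 5913 (.leaf 51169) (.leaf 51186)) (.node 5915 (.leaf 94608) (.leaf 52545))) (.node 5918 (.node 5917 (.leaf 52562) (.leaf 94593)) (.node 5919 (.leaf 94672) (.leaf 51217)))))) (.node 5936 (.node 5928 (.node 5924 (.node 5922 (.node 5921 (.leaf 94704) (.leaf 51282)) (.node 5923 (.leaf 51345) (.leaf 51347))) (.node 5926 (.node 5925 (.leaf 51363) (.leaf 51361)) (.node 5927 (.leaf 51362) (.leaf 51394)))) (.node 5932 (.node 5930 (.node 5929 (.leaf 51426) (.leaf 51457)) (.node 5931 (.leaf 94864) (.leaf 51522))) (.node 5934 (.node 5933 (.leaf 52385) (.leaf 51713)) (.node 5935 (.leaf 51714) (.leaf 51729))))) (.node 5944 (.node 5940 (.node 5938 (.node 5937 (.leaf 51746) (.leaf 94961)) (.node 5939 (.leaf 94992) (.leaf 52994))) (.node 5942 (.node 5941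 (.leaf 51761) (.leaf 95040)) (.node 5943 (.leaf 51777) (.leaf 95072)))) (.node 5948 (.node 5946 (.node 5945 (.leaf 51778) (.leaf 51841)) (.node 5947 (.leaf 95120) (.leaf 51873))) (.node 5950 (.node 5949 (.leaf 51890) (.leaf 95153)) (.node 5951 (.leaf 95184) (.leaf 51937))))))) (.node 5984 (.node 5968 (.node 5960 (.node 5956 (.node 5954 (.node 5953 (.leaf 95216) (.leaf 51938)) (.node 5955 (.leaf 95248) (.leaf 51985))) (.node 5958 (.node 5957 (.leaf 95280) (.leaf 51986)) (.node 5959 (.leaf 59457) (.leaf 95328)))) (.node 5964 (.node 5962 (.node 5961 (.leaf 61586) (.leaf 95360)) (.node 5963 (.leaf 69105) (.leaf 69122))) (.node 5966 (.node 5965 (.leaf 52017) (.leaf 52065)) (.node 5967 (.leaf 52081) (.leaf 52082))))) (.node 5976 (.node 5972 (.node 5970 (.node 5969 (.leaf 52098) (.leaf 95488)) (.node 5971 (.leaf 95441) (.leaf 52114))) (.node 5974 (.node 5973 (.leaf 95536) (.leaf 52145)) (.node 5975 (.leaf 95568) (.leaf 52818))))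 (.node 5980 (.node 5978 (.node 5977 (.leaf 52178) (.leaf 95616)) (.node 5979 (.leaf 52210) (.leaf 52257))) (.node 5982 (.node 5981 (.leaf 95664) (.leaf 95538)) (.node 5983 (.leaf 52258) (.leaf 52305)))))) (.node 6000 (.node 5992 (.node 5988 (.node 5986 (.node 5985 (.leaf 95633) (.leaf 52369)) (.node 5987 (.leaf 52370) (.leaf 95776))) (.node 5990 (.node 5989 (.leaf 95281) (.leaf 95314)) (.node 5991 (.leaf 61073) (.leaf 61074)))) (.node 5996 (.node 5994 (.node 5993 (.leaf 52417) (.leaf 52497)) (.node 5995 (.leaf 52498) (.leaf 52530))) (.node 5998 (.node 5997 (.leaf 52577) (.leaf 52769)) (.node 5999 (.leaf 52609) (.leaf 95968))))) (.node 6008 (.node 6004 (.node 6002 (.node 6001 (.leaf 52641) (.leaf 52657)) (.node 6003 (.leaf 96016) (.leaf 52658))) (.node 6006 (.node 6005 (.leaf 96048) (.leaf 96001)) (.node 6007 (.leaf 96080) (.leaf 52691)))) (.node 6012 (.node 6010 (.node 6009 (.leaf 52707) (.leaf 52705)) (.node 6011 (.leaf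 52706) (.leaf 52721))) (.node 6014 (.node 6013 (.leaf 96176) (.leaf 52722)) (.node 6015 (.leaf 96208) (.leaf 52849)))))))) (.node 6080 (.node 6048 (.node 6032 (.node 6024 (.node 6020 (.node 6018 (.node 6017 (.leaf 96240) (.leaf 52881)) (.node 6019 (.leaf 96272) (.leaf 52913))) (.node 6022 (.node 6021 (.leaf 52930) (.leaf 96320)) (.node 6023 (.leaf 96305) (.leaf 52946)))) (.node 6028 (.node 6026 (.node 6025 (.leaf 96368) (.leaf 53073)) (.node 6027 (.leaf 91505) (.leaf 53106))) (.node 6030 (.node 6029 (.leaf 96432) (.leaf 53154)) (.node 6031 (.leaf 96464) (.leaf 53186))))) (.node 6040 (.node 6036 (.node 6034 (.node 6033 (.leaf 96417) (.leaf 53297)) (.node 6035 (.leaf 72641) (.leaf 53298))) (.node 6038 (.node 6037 (.leaf 96560) (.leaf 53346)) (.node 6039 (.leaf 96592) (.leaf 55858)))) (.node 6044 (.node 6042 (.node 6041 (.leaf 96624) (.leaf 53521)) (.node 6043 (.leaf 74642) (.leaf 96656))) (.node 6046 (.node 6045 (.leaf 53617)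 (.leaf 75313)) (.node 6047 (.leaf 53618) (.leaf 96736)))))) (.node 6064 (.node 6056 (.node 6052 (.node 6050 (.node 6049 (.leaf 53633) (.leaf 96768)) (.node 6051 (.leaf 53649) (.leaf 71682))) (.node 6054 (.node 6053 (.leaf 71681) (.leaf 96832)) (.node 6055 (.leaf 53666) (.leaf 96864)))) (.node 6060 (.node 6058 (.node 6057 (.leaf 67345) (.leaf 67362)) (.node 6059 (.leaf 96769) (.leaf 96928))) (.node 6062 (.node 6061 (.leaf 53681) (.leaf 96960)) (.node 6063 (.leaf 53682) (.leaf 53713))))) (.node 6072 (.node 6068 (.node 6066 (.node 6065 (.leaf 66274) (.leaf 97008)) (.node 6067 (.leaf 53714) (.leaf 66273))) (.node 6070 (.node 6069 (.leaf 97056) (.leaf 53778)) (.node 6071 (.leaf 97104) (.leaf 53809)))) (.node 6076 (.node 6074 (.node 6073 (.leaf 97136) (.leaf 53841)) (.node 6075 (.leaf 97168) (.leaf 53906))) (.node 6078 (.node 6077 (.leaf 97200) (.leaf 53953)) (.node 6079 (.leaf 97233) (.leaf 97248))))))) (.node 6112 (.node 6096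 (.node 6088 (.node 6084 (.node 6082 (.node 6081 (.leaf 54001) (.leaf 97218)) (.node 6083 (.leaf 97217) (.leaf 54033))) (.node 6086 (.node 6085 (.leaf 54050) (.leaf 97344)) (.node 6087 (.leaf 54066) (.leaf 97376)))) (.node 6092 (.node 6090 (.node 6089 (.leaf 54081) (.leaf 54098)) (.node 6091 (.leaf 97409) (.leaf 97440))) (.node 6094 (.node 6093 (.leaf 58561) (.leaf 54242)) (.node 6095 (.leaf 97488) (.leaf 55809))))) (.node 6104 (.node 6100 (.node 6098 (.node 6097 (.leaf 96946) (.leaf 97520)) (.node 6099 (.leaf 97362) (.leaf 54273))) (.node 6102 (.node 6101 (.leaf 54289) (.leaf 54706)) (.node 6103 (.leaf 54290) (.leaf 54306)))) (.node 6108 (.node 6106 (.node 6105 (.leaf 97585) (.leaf 97664)) (.node 6107 (.leaf 54419) (.leaf 54435))) (.node 6110 (.node 6109 (.leaf 54433) (.leaf 54674)) (.node 6111 (.leaf 54545) (.leaf 97760)))))) (.node 6128 (.node 6120 (.node 6116 (.node 6114 (.node 6113 (.leaf 54546) (.leaf 54610)) (.node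 6115 (.leaf 54625) (.leaf 97824))) (.node 6118 (.node 6117 (.leaf 54657) (.leaf 54673)) (.node 6119 (.leaf 54690) (.leaf 97888)))) (.node 6124 (.node 6122 (.node 6121 (.leaf 97857) (.leaf 54737)) (.node 6123 (.leaf 54769) (.leaf 54770))) (.node 6126 (.node 6125 (.leaf 54801) (.leaf 54802)) (.node 6127 (.leaf 54817) (.leaf 54850))))) (.node 6136 (.node 6132 (.node 6130 (.node 6129 (.leaf 98017) (.leaf 54881)) (.node 6131 (.leaf 54882) (.leaf 98080))) (.node 6134 (.node 6133 (.leaf 54930) (.leaf 54977)) (.node 6135 (.leaf 54978) (.leaf 54993)))) (.node 6140 (.node 6138 (.node 6137 (.leaf 55009) (.leaf 55041)) (.node 6139 (.leaf 98193) (.leaf 98208))) (.node 6142 (.node 6141 (.leaf 55058) (.leaf 55122)) (.node 6143 (.leaf 98256) (.leaf 55153))))))))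

/-- block of `nd` -/
def nd_24 : Tr := .node 6272 (.node 6208 (.node 6176 (.node 6160 (.node 6152 (.node 6148 (.node 6146 (.node 6145 (.leaf 55170) (.leaf 98289)) (.node 6147 (.leaf 98320) (.leaf 55218))) (.node 6150 (.node 6149 (.leaf 97777) (.leaf 55250)) (.node 6151 (.leaf 55281) (.leaf 55282)))) (.node 6156 (.node 6154 (.node 6153 (.leaf 55361) (.leaf 55362)) (.node 6155 (.leaf 55394) (.leaf 55377))) (.node 6158 (.node 6157 (.leaf 58962) (.leaf 55458)) (.node 6159 (.leaf 98512) (.leaf 55491))))) (.node 6168 (.node 6164 (.node 6162 (.node 6161 (.leaf 55521) (.leaf 98560)) (.node 6163 (.leaf 55537) (.leaf 55554))) (.node 6166 (.node 6165 (.leaf 98608) (.leaf 55586)) (.node 6167 (.leaf 59217) (.leaf 55601)))) (.node 6172 (.node 6170 (.node 6169 (.leaf 98672) (.leaf 55633)) (.node 6171 (.leaf 55698) (.leaf 87074))) (.node 6174 (.node 6173 (.leaf 55745) (.leaf 55761)) (.node 6175 (.leaf 98768) (.leaf 55762)))))) (.node 6192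 (.node 6184 (.node 6180 (.node 6178 (.node 6177 (.leaf 55778) (.leaf 98816)) (.node 6179 (.leaf 89729) (.leaf 98753))) (.node 6182 (.node 6181 (.leaf 98864) (.leaf 88465)) (.node 6183 (.leaf 55826) (.leaf 98912)))) (.node 6188 (.node 6186 (.node 6185 (.leaf 72705) (.leaf 98944)) (.node 6187 (.leaf 56369) (.leaf 55841))) (.node 6190 (.node 6189 (.leaf 55873) (.leaf 55842)) (.node 6191 (.leaf 83825) (.leaf 83826))))) (.node 6200 (.node 6196 (.node 6194 (.node 6193 (.leaf 55859) (.leaf 55874)) (.node 6195 (.leaf 98785) (.leaf 55937))) (.node 6198 (.node 6197 (.leaf 99120) (.leaf 55953)) (.node 6199 (.leaf 55970) (.leaf 99153)))) (.node 6204 (.node 6202 (.node 6201 (.leaf 99184) (.leaf 55985)) (.node 6203 (.leaf 99216) (.leaf 56017))) (.node 6206 (.node 6205 (.leaf 99248) (.leaf 56130)) (.node 6207 (.leaf 99280) (.leaf 76385))))))) (.node 6240 (.node 6224 (.node 6216 (.node 6212 (.node 6210 (.node 6209 (.leaf 99312) (.leaf 56161))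 (.node 6211 (.leaf 56162) (.leaf 56193))) (.node 6214 (.node 6213 (.leaf 56209) (.leaf 56241)) (.node 6215 (.leaf 56258) (.leaf 99424)))) (.node 6220 (.node 6218 (.node 6217 (.leaf 99409) (.leaf 56306)) (.node 6219 (.leaf 99472) (.leaf 99121))) (.node 6222 (.node 6221 (.leaf 99504) (.leaf 56322)) (.node 6223 (.leaf 99536) (.leaf 56385))))) (.node 6232 (.node 6228 (.node 6226 (.node 6225 (.leaf 99568) (.leaf 56402)) (.node 6227 (.leaf 99600) (.leaf 99377))) (.node 6230 (.node 6229 (.leaf 56417) (.leaf 56418)) (.node 6231 (.leaf 56497) (.leaf 86754)))) (.node 6236 (.node 6234 (.node 6233 (.leaf 99696) (.leaf 56513)) (.node 6235 (.leaf 96610) (.leaf 56593))) (.node 6238 (.node 6237 (.leaf 99761) (.leaf 99776)) (.node 6239 (.leaf 56610) (.leaf 99808)))))) (.node 6256 (.node 6248 (.node 6244 (.node 6242 (.node 6241 (.leaf 56673) (.leaf 99840)) (.node 6243 (.leaf 56753) (.leaf 56754))) (.node 6246 (.node 6245 (.leaf 72721) (.leaf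 72722)) (.node 6247 (.leaf 99888) (.leaf 56786)))) (.node 6252 (.node 6250 (.node 6249 (.leaf 56833) (.leaf 99490)) (.node 6251 (.leaf 56881) (.leaf 56897))) (.node 6254 (.node 6253 (.leaf 100016) (.leaf 56930)) (.node 6255 (.leaf 100048) (.leaf 56945))))) (.node 6264 (.node 6260 (.node 6258 (.node 6257 (.leaf 57057) (.leaf 56977)) (.node 6259 (.leaf 56994) (.leaf 100113))) (.node 6262 (.node 6261 (.leaf 57009) (.leaf 57025)) (.node 6263 (.leaf 57026) (.leaf 100192)))) (.node 6268 (.node 6266 (.node 6265 (.leaf 57042) (.leaf 100161)) (.node 6267 (.leaf 57137) (.leaf 100256))) (.node 6270 (.node 6269 (.leaf 57169) (.leaf 74274)) (.node 6271 (.leaf 57249) (.leaf 57250)))))))) (.node 6336 (.node 6304 (.node 6288 (.node 6280 (.node 6276 (.node 6274 (.node 6273 (.leaf 100336) (.leaf 57265)) (.node 6275 (.leaf 57281) (.leaf 57298))) (.node 6278 (.node 6277 (.leaf 100400) (.leaf 100385)) (.node 6279 (.leaf 100432) (.leaf 57361))))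 (.node 6284 (.node 6282 (.node 6281 (.leaf 57362) (.leaf 57377)) (.node 6283 (.leaf 57394) (.leaf 100497))) (.node 6286 (.node 6285 (.leaf 57425) (.leaf 100544)) (.node 6287 (.leaf 57442) (.leaf 84034))))) (.node 6296 (.node 6292 (.node 6290 (.node 6289 (.leaf 57457) (.leaf 57473)) (.node 6291 (.leaf 100624) (.leaf 100561))) (.node 6294 (.node 6293 (.leaf 57601) (.leaf 57618)) (.node 6295 (.leaf 57665) (.leaf 57682)))) (.node 6300 (.node 6298 (.node 6297 (.leaf 100705) (.leaf 100736)) (.node 6299 (.leaf 57714) (.leaf 57729))) (.node 6302 (.node 6301 (.leaf 57905) (.leaf 57761)) (.node 6303 (.leaf 100816) (.leaf 57793)))))) (.node 6320 (.node 6312 (.node 6308 (.node 6306 (.node 6305 (.leaf 57809) (.leaf 57826)) (.node 6307 (.leaf 100865) (.leaf 57857))) (.node 6310 (.node 6309 (.leaf 57874) (.leaf 57890)) (.node 6311 (.leaf 100944) (.leaf 100913)))) (.node 6316 (.node 6314 (.node 6313 (.leaf 57906) (.leaf 57970)) (.node 6315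 (.leaf 57985) (.leaf 101024))) (.node 6318 (.node 6317 (.leaf 58001) (.leaf 101056)) (.node 6319 (.leaf 58002) (.leaf 101088))))) (.node 6328 (.node 6324 (.node 6322 (.node 6321 (.leaf 101025) (.leaf 101120)) (.node 6323 (.leaf 58033) (.leaf 101152))) (.node 6326 (.node 6325 (.leaf 58049) (.leaf 101184)) (.node 6327 (.leaf 58050) (.leaf 101216)))) (.node 6332 (.node 6330 (.node 6329 (.leaf 58066) (.leaf 101153)) (.node 6331 (.leaf 101264) (.leaf 58097))) (.node 6334 (.node 6333 (.leaf 101296) (.leaf 58098)) (.node 6335 (.leaf 101328) (.leaf 58145))))))) (.node 6368 (.node 6352 (.node 6344 (.node 6340 (.node 6338 (.node 6337 (.leaf 101360) (.leaf 100034)) (.node 6339 (.leaf 58146) (.leaf 101408))) (.node 6342 (.node 6341 (.leaf 58177) (.leaf 58193)) (.node 6343 (.leaf 101456) (.leaf 58194)))) (.node 6348 (.node 6346 (.node 6345 (.leaf 101488) (.leaf 58210)) (.node 6347 (.leaf 101520) (.leaf 101441))) (.node 6350 (.node 6349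 (.leaf 58241) (.leaf 101568)) (.node 6351 (.leaf 58257) (.leaf 98545))))) (.node 6360 (.node 6356 (.node 6354 (.node 6353 (.leaf 58274) (.leaf 101632)) (.node 6355 (.leaf 58305) (.leaf 101649))) (.node 6358 (.node 6357 (.leaf 58354) (.leaf 58386)) (.node 6359 (.leaf 101585) (.leaf 58417)))) (.node 6364 (.node 6362 (.node 6361 (.leaf 101744) (.leaf 67987)) (.node 6363 (.leaf 101745) (.leaf 101792))) (.node 6366 (.node 6365 (.leaf 58497) (.leaf 58513)) (.node 6367 (.leaf 58562) (.leaf 58593)))))) (.node 6384 (.node 6376 (.node 6372 (.node 6370 (.node 6369 (.leaf 101872) (.leaf 58722)) (.node 6371 (.leaf 65362) (.leaf 58785))) (.node 6374 (.node 6373 (.leaf 101936) (.leaf 58866)) (.node 6375 (.leaf 100273) (.leaf 58946)))) (.node 6380 (.node 6378 (.node 6377 (.leaf 61953) (.leaf 58993)) (.node 6379 (.leaf 59042) (.leaf 102048))) (.node 6382 (.node 6381 (.leaf 59073) (.leaf 102080)) (.node 6383 (.leaf 101890) (.leaf 102112)))))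 (.node 6392 (.node 6388 (.node 6386 (.node 6385 (.leaf 59105) (.leaf 73218)) (.node 6387 (.leaf 66305) (.leaf 102176))) (.node 6390 (.node 6389 (.leaf 59169) (.leaf 97121)) (.node 6391 (.leaf 59170) (.leaf 59202)))) (.node 6396 (.node 6394 (.node 6393 (.leaf 102256) (.leaf 59249)) (.node 6395 (.leaf 59282) (.leaf 59313))) (.node 6398 (.node 6397 (.leaf 59314) (.leaf 59346)) (.node 6399 (.leaf 102352) (.leaf 59378))))))))

/-- block of `nd` -/
def nd_25 : Tr := .node 6528 (.node 6464 (.node 6432 (.node 6416 (.node 6408 (.node 6404 (.node 6402 (.node 6401 (.leaf 102384) (.leaf 59441)) (.node 6403 (.leaf 95506) (.leaf 59506))) (.node 6406 (.node 6405 (.leaf 95298) (.leaf 59570)) (.node 6407 (.leaf 102480) (.leaf 73969)))) (.node 6412 (.node 6410 (.node 6409 (.leaf 102512) (.leaf 75986)) (.node 6411 (.leaf 75905) (.leaf 73986))) (.node 6414 (.node 6413 (.leaf 74321) (.leaf 59601)) (.node 6415 (.leaf 59729) (.leaf 102624)))))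 (.node 6424 (.node 6420 (.node 6418 (.node 6417 (.leaf 59730) (.leaf 59762)) (.node 6419 (.leaf 102672) (.leaf 59777))) (.node 6422 (.node 6421 (.leaf 59793) (.leaf 102720)) (.node 6423 (.leaf 59794) (.leaf 102705)))) (.node 6428 (.node 6426 (.node 6425 (.leaf 102768) (.leaf 59826)) (.node 6427 (.leaf 102800) (.leaf 59858))) (.node 6430 (.node 6429 (.leaf 59921) (.leaf 59953)) (.node 6431 (.leaf 59905) (.leaf 102880)))))) (.node 6448 (.node 6440 (.node 6436 (.node 6434 (.node 6433 (.leaf 59922) (.leaf 59938)) (.node 6435 (.leaf 102928) (.leaf 102881))) (.node 6438 (.node 6437 (.leaf 102960) (.leaf 59986)) (.node 6439 (.leaf 66977) (.leaf 60017)))) (.node 6444 (.node 6442 (.node 6441 (.leaf 60033) (.leaf 103040)) (.node 6443 (.leaf 60081) (.leaf 103072))) (.node 6446 (.node 6445 (.leaf 60082) (.leaf 60114)) (.node 6447 (.leaf 103090) (.leaf 60161))))) (.node 6456 (.node 6452 (.node 6450 (.node 6449 (.leaf 103152) (.leaf 60194))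 (.node 6451 (.leaf 60210) (.leaf 103200))) (.node 6454 (.node 6453 (.leaf 60226) (.leaf 60257)) (.node 6455 (.leaf 60306) (.leaf 103264)))) (.node 6460 (.node 6458 (.node 6457 (.leaf 60321) (.leaf 60465)) (.node 6459 (.leaf 60369) (.leaf 60370))) (.node 6462 (.node 6461 (.leaf 60401) (.leaf 60417)) (.node 6463 (.leaf 60433) (.leaf 60450))))))) (.node 6496 (.node 6480 (.node 6472 (.node 6468 (.node 6466 (.node 6465 (.leaf 103408) (.leaf 103377)) (.node 6467 (.leaf 60498) (.leaf 60530))) (.node 6470 (.node 6469 (.leaf 60546) (.leaf 103488)) (.node 6471 (.leaf 60561) (.leaf 60577)))) (.node 6476 (.node 6474 (.node 6473 (.leaf 103536) (.leaf 60578)) (.node 6475 (.leaf 60594) (.leaf 103584))) (.node 6478 (.node 6477 (.leaf 103521) (.leaf 60610)) (.node 6479 (.leaf 103632) (.leaf 60642))))) (.node 6488 (.node 6484 (.node 6482 (.node 6481 (.leaf 103664) (.leaf 102898)) (.node 6483 (.leaf 60705) (.leaf 60721))) (.node 6486 (.node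 6485 (.leaf 103728) (.leaf 60737)) (.node 6487 (.leaf 60738) (.leaf 60755)))) (.node 6492 (.node 6490 (.node 6489 (.leaf 60769) (.leaf 103808)) (.node 6491 (.leaf 60770) (.leaf 103840))) (.node 6494 (.node 6493 (.leaf 60785) (.leaf 60818)) (.node 6495 (.leaf 103888) (.leaf 103873)))))) (.node 6512 (.node 6504 (.node 6500 (.node 6498 (.node 6497 (.leaf 75074) (.leaf 60850)) (.node 6499 (.leaf 88850) (.leaf 60882))) (.node 6502 (.node 6501 (.leaf 60913) (.leaf 97042)) (.node 6503 (.leaf 60914) (.leaf 97041)))) (.node 6508 (.node 6506 (.node 6505 (.leaf 60929) (.leaf 104064)) (.node 6507 (.leaf 60961) (.leaf 103858))) (.node 6510 (.node 6509 (.leaf 60977) (.leaf 102289)) (.node 6511 (.leaf 60978) (.leaf 104160))))) (.node 6520 (.node 6516 (.node 6514 (.node 6513 (.leaf 61041) (.leaf 61201)) (.node 6515 (.leaf 61042) (.leaf 61169))) (.node 6518 (.node 6517 (.leaf 61186) (.leaf 61234)) (.node 6519 (.leaf 104272) (.leaf 61281))))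 (.node 6524 (.node 6522 (.node 6521 (.leaf 61282) (.leaf 61361)) (.node 6523 (.leaf 61394) (.leaf 104352))) (.node 6526 (.node 6525 (.leaf 61441) (.leaf 61506)) (.node 6527 (.leaf 61521) (.leaf 104416)))))))) (.node 6592 (.node 6560 (.node 6544 (.node 6536 (.node 6532 (.node 6530 (.node 6529 (.leaf 61537) (.leaf 104448)) (.node 6531 (.leaf 61554) (.leaf 66242))) (.node 6534 (.node 6533 (.leaf 104449) (.leaf 61633)) (.node 6535 (.leaf 61634) (.leaf 104544)))) (.node 6540 (.node 6538 (.node 6537 (.leaf 61682) (.leaf 61746)) (.node 6539 (.leaf 104592) (.leaf 61777))) (.node 6542 (.node 6541 (.leaf 101922) (.leaf 65329)) (.node 6543 (.leaf 104656) (.leaf 61793))))) (.node 6552 (.node 6548 (.node 6546 (.node 6545 (.leaf 104688) (.leaf 62001)) (.node 6547 (.leaf 61841) (.leaf 61873))) (.node 6550 (.node 6549 (.leaf 104752) (.leaf 61921)) (.node 6551 (.leaf 61922) (.leaf 61937)))) (.node 6556 (.node 6554 (.node 6553 (.leaf 61986)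 (.leaf 104832)) (.node 6555 (.leaf 104817) (.leaf 99202))) (.node 6558 (.node 6557 (.leaf 62610) (.leaf 62065)) (.node 6559 (.leaf 62209) (.leaf 102066)))))) (.node 6576 (.node 6568 (.node 6564 (.node 6562 (.node 6561 (.leaf 62258) (.leaf 104960)) (.node 6563 (.leaf 62289) (.leaf 62305))) (.node 6566 (.node 6565 (.leaf 105008) (.leaf 62306)) (.node 6567 (.leaf 62322) (.leaf 104993)))) (.node 6572 (.node 6570 (.node 6569 (.leaf 105072) (.leaf 62338)) (.node 6571 (.leaf 62369) (.leaf 105120))) (.node 6574 (.node 6573 (.leaf 62370) (.leaf 62402)) (.node 6575 (.leaf 105168) (.leaf 62433))))) (.node 6584 (.node 6580 (.node 6578 (.node 6577 (.leaf 105200) (.leaf 62481)) (.node 6579 (.leaf 62482) (.leaf 62530))) (.node 6582 (.node 6581 (.leaf 105264) (.leaf 62545)) (.node 6583 (.leaf 105296) (.leaf 62546)))) (.node 6588 (.node 6586 (.node 6585 (.leaf 105328) (.leaf 62594)) (.node 6587 (.leaf 62641) (.leaf 62785))) (.node 6590 (.node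 6589 (.leaf 62865) (.leaf 62929)) (.node 6591 (.leaf 105424) (.leaf 62945))))))) (.node 6624 (.node 6608 (.node 6600 (.node 6596 (.node 6594 (.node 6593 (.leaf 62961) (.leaf 62962)) (.node 6595 (.leaf 62994) (.leaf 63009))) (.node 6598 (.node 6597 (.leaf 63025) (.leaf 105536)) (.node 6599 (.leaf 63026) (.leaf 63042)))) (.node 6604 (.node 6602 (.node 6601 (.leaf 105584) (.leaf 105521)) (.node 6603 (.leaf 63058) (.leaf 105632))) (.node 6606 (.node 6605 (.leaf 63089) (.leaf 105664)) (.node 6607 (.leaf 63090) (.leaf 63105))))) (.node 6616 (.node 6612 (.node 6610 (.node 6609 (.leaf 105712) (.leaf 63217)) (.node 6611 (.leaf 105745) (.leaf 63265))) (.node 6614 (.node 6613 (.leaf 105776) (.leaf 63297)) (.node 6615 (.leaf 105808) (.leaf 63345)))) (.node 6620 (.node 6618 (.node 6617 (.leaf 63362) (.leaf 105856)) (.node 6619 (.leaf 105841) (.leaf 105888))) (.node 6622 (.node 6621 (.leaf 63377) (.leaf 63378)) (.node 6623 (.leaf 63425)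 (.leaf 63442)))))) (.node 6640 (.node 6632 (.node 6628 (.node 6626 (.node 6625 (.leaf 105968) (.leaf 63522)) (.node 6627 (.leaf 63553) (.leaf 63555))) (.node 6630 (.node 6629 (.leaf 63569) (.leaf 63570)) (.node 6631 (.leaf 63810) (.leaf 63601)))) (.node 6636 (.node 6634 (.node 6633 (.leaf 106096) (.leaf 63634)) (.node 6635 (.leaf 105217) (.leaf 63666))) (.node 6638 (.node 6637 (.leaf 106114) (.leaf 63697)) (.node 6639 (.leaf 105985) (.leaf 63729))))) (.node 6648 (.node 6644 (.node 6642 (.node 6641 (.leaf 106224) (.leaf 63778)) (.node 6643 (.leaf 63841) (.leaf 63842))) (.node 6646 (.node 6645 (.leaf 63889) (.leaf 63890)) (.node 6647 (.leaf 63905) (.leaf 63922)))) (.node 6652 (.node 6650 (.node 6649 (.leaf 106337) (.leaf 106368)) (.node 6651 (.leaf 63986) (.leaf 64001))) (.node 6654 (.node 6653 (.leaf 64161) (.leaf 64049)) (.node 6655 (.leaf 106448) (.leaf 64081))))))))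

/-- block of `nd` -/
def nd_26 : Tr := .node 6784 (.node 6720 (.node 6688 (.node 6672 (.node 6664 (.node 6660 (.node 6658 (.node 6657 (.leaf 64098) (.leaf 106481)) (.node 6659 (.leaf 64113) (.leaf 64146))) (.node 6662 (.node 6661 (.leaf 106529) (.leaf 64209)) (.node 6663 (.leaf 106576) (.leaf 64210)))) (.node 6668 (.node 6666 (.node 6665 (.leaf 64273) (.leaf 64274)) (.node 6667 (.leaf 64321) (.leaf 106656))) (.node 6670 (.node 6669 (.leaf 64337) (.leaf 106688)) (.node 6671 (.leaf 64338) (.leaf 64354))))) (.node 6680 (.node 6676 (.node 6674 (.node 6673 (.leaf 106657) (.leaf 106752)) (.node 6675 (.leaf 64449) (.leaf 106784))) (.node 6678 (.node 6677 (.leaf 64450) (.leaf 64482)) (.node 6679 (.leaf 64529) (.leaf 64530)))) (.node 6684 (.node 6682 (.node 6681 (.leaf 103793) (.leaf 64561)) (.node 6683 (.leaf 106896) (.leaf 64562))) (.node 6686 (.node 6685 (.leaf 64577) (.leaf 64593)) (.node 6687 (.leaf 64610) (.leaf 106976))))))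 (.node 6704 (.node 6696 (.node 6692 (.node 6690 (.node 6689 (.leaf 106945) (.leaf 107008)) (.node 6691 (.leaf 64625) (.leaf 107040))) (.node 6694 (.node 6693 (.leaf 64641) (.leaf 107072)) (.node 6695 (.leaf 64689) (.leaf 64690)))) (.node 6700 (.node 6698 (.node 6697 (.leaf 64817) (.leaf 64737)) (.node 6699 (.leaf 64849) (.leaf 64818))) (.node 6702 (.node 6701 (.leaf 107184) (.leaf 64834)) (.node 6703 (.leaf 107216) (.leaf 67761))))) (.node 6712 (.node 6708 (.node 6706 (.node 6705 (.leaf 107248) (.leaf 64850)) (.node 6707 (.leaf 64882) (.leaf 106961))) (.node 6710 (.node 6709 (.leaf 107312) (.leaf 64898)) (.node 6711 (.leaf 64913) (.leaf 107360)))) (.node 6716 (.node 6714 (.node 6713 (.leaf 64962) (.leaf 65170)) (.node 6715 (.leaf 64993) (.leaf 65010))) (.node 6718 (.node 6717 (.leaf 107440) (.leaf 65026)) (.node 6719 (.leaf 107425) (.leaf 65042))))))) (.node 6752 (.node 6736 (.node 6728 (.node 6724 (.node 6722 (.node 6721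 (.leaf 107504) (.leaf 65057)) (.node 6723 (.leaf 65073) (.leaf 65074))) (.node 6726 (.node 6725 (.leaf 65090) (.leaf 107537)) (.node 6727 (.leaf 65249) (.leaf 107616)))) (.node 6732 (.node 6730 (.node 6729 (.leaf 65282) (.leaf 107634)) (.node 6731 (.leaf 65313) (.leaf 65314))) (.node 6734 (.node 6733 (.leaf 65409) (.leaf 65410)) (.node 6735 (.leaf 65425) (.leaf 65442))))) (.node 6744 (.node 6740 (.node 6738 (.node 6737 (.leaf 107745) (.leaf 107776)) (.node 6739 (.leaf 65490) (.leaf 65698))) (.node 6742 (.node 6741 (.leaf 65522) (.leaf 65633)) (.node 6743 (.leaf 65634) (.leaf 65665)))) (.node 6748 (.node 6746 (.node 6745 (.leaf 107888) (.leaf 65666)) (.node 6747 (.leaf 107920) (.leaf 65697))) (.node 6750 (.node 6749 (.leaf 65714) (.leaf 65729)) (.node 6751 (.leaf 107984) (.leaf 65730)))))) (.node 6768 (.node 6760 (.node 6756 (.node 6754 (.node 6753 (.leaf 65810) (.leaf 65906)) (.node 6755 (.leaf 108048) (.leaf 65985))) (.node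 6758 (.node 6757 (.leaf 104482) (.leaf 86913)) (.node 6759 (.leaf 108080) (.leaf 66067)))) (.node 6764 (.node 6762 (.node 6761 (.leaf 66081) (.leaf 66145)) (.node 6763 (.leaf 66097) (.leaf 66130))) (.node 6766 (.node 6765 (.leaf 108193) (.leaf 108224)) (.node 6767 (.leaf 66146) (.leaf 66211))))) (.node 6776 (.node 6772 (.node 6770 (.node 6769 (.leaf 66210) (.leaf 108288)) (.node 6771 (.leaf 66241) (.leaf 108320))) (.node 6774 (.node 6773 (.leaf 66307) (.leaf 66306)) (.node 6775 (.leaf 99138) (.leaf 73217)))) (.node 6780 (.node 6778 (.node 6777 (.leaf 108400) (.leaf 66337)) (.node 6779 (.leaf 108432) (.leaf 66401))) (.node 6782 (.node 6781 (.leaf 108065) (.leaf 66402)) (.node 6783 (.leaf 66433) (.leaf 66593)))))))) (.node 6848 (.node 6816 (.node 6800 (.node 6792 (.node 6788 (.node 6786 (.node 6785 (.leaf 66434) (.leaf 66465)) (.node 6787 (.leaf 66514) (.leaf 108576))) (.node 6790 (.node 6789 (.leaf 66530) (.leaf 108608)) (.node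 6791 (.leaf 66545) (.leaf 66562)))) (.node 6796 (.node 6794 (.node 6793 (.leaf 66594) (.leaf 66626)) (.node 6795 (.leaf 66674) (.leaf 104433))) (.node 6798 (.node 6797 (.leaf 66721) (.leaf 66754)) (.node 6799 (.leaf 108752) (.leaf 66770))))) (.node 6808 (.node 6804 (.node 6802 (.node 6801 (.leaf 108784) (.leaf 66865)) (.node 6803 (.leaf 66914) (.leaf 108832))) (.node 6806 (.node 6805 (.leaf 67073) (.leaf 108034)) (.node 6807 (.leaf 67122) (.leaf 67185)))) (.node 6812 (.node 6810 (.node 6809 (.leaf 108912) (.leaf 67186)) (.node 6811 (.leaf 67265) (.leaf 108850))) (.node 6814 (.node 6813 (.leaf 67377) (.leaf 108992)) (.node 6815 (.leaf 67410) (.leaf 108993)))))) (.node 6832 (.node 6824 (.node 6820 (.node 6818 (.node 6817 (.leaf 109040) (.leaf 67425)) (.node 6819 (.leaf 109072) (.leaf 67441))) (.node 6822 (.node 6821 (.leaf 109104) (.leaf 67442)) (.node 6823 (.leaf 109073) (.leaf 109152)))) (.node 6828 (.node 6826 (.node 6825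 (.leaf 67474) (.leaf 67505)) (.node 6827 (.leaf 109200) (.leaf 67537))) (.node 6830 (.node 6829 (.leaf 67538) (.leaf 67665)) (.node 6831 (.leaf 67553) (.leaf 109280))))) (.node 6840 (.node 6836 (.node 6834 (.node 6833 (.leaf 67569) (.leaf 67570)) (.node 6835 (.leaf 67586) (.leaf 109344))) (.node 6838 (.node 6837 (.leaf 109281) (.leaf 67601)) (.node 6839 (.leaf 67602) (.leaf 109408)))) (.node 6844 (.node 6842 (.node 6841 (.leaf 67634) (.leaf 67649)) (.node 6843 (.leaf 109456) (.leaf 109457))) (.node 6846 (.node 6845 (.leaf 109488) (.leaf 67698)) (.node 6847 (.leaf 83633) (.leaf 67730))))))) (.node 6880 (.node 6864 (.node 6856 (.node 6852 (.node 6850 (.node 6849 (.leaf 107122) (.leaf 67794)) (.node 6851 (.leaf 103713) (.leaf 109600))) (.node 6854 (.node 6853 (.leaf 107698) (.leaf 107681)) (.node 6855 (.leaf 67825) (.leaf 109664)))) (.node 6860 (.node 6858 (.node 6857 (.leaf 108929) (.leaf 67858)) (.node 6859 (.leaf 109712)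 (.leaf 67890))) (.node 6862 (.node 6861 (.leaf 109744) (.leaf 109474)) (.node 6863 (.leaf 67921) (.leaf 67986))))) (.node 6872 (.node 6868 (.node 6866 (.node 6865 (.leaf 68017) (.leaf 68018)) (.node 6867 (.leaf 88945) (.leaf 88946))) (.node 6870 (.node 6869 (.leaf 68049) (.leaf 68145)) (.node 6871 (.leaf 68178) (.leaf 68193)))) (.node 6876 (.node 6874 (.node 6873 (.leaf 109810) (.leaf 109952)) (.node 6875 (.leaf 68226) (.leaf 68257))) (.node 6878 (.node 6877 (.leaf 68258) (.leaf 110016)) (.node 6879 (.leaf 68274) (.leaf 110048)))))) (.node 6896 (.node 6888 (.node 6884 (.node 6882 (.node 6881 (.leaf 68289) (.leaf 68465)) (.node 6883 (.leaf 68337) (.leaf 68338))) (.node 6886 (.node 6885 (.leaf 68353) (.leaf 68386)) (.node 6887 (.leaf 110160) (.leaf 68401)))) (.node 6892 (.node 6890 (.node 6889 (.leaf 110192) (.leaf 68417)) (.node 6891 (.leaf 68433) (.leaf 68450))) (.node 6894 (.node 6893 (.leaf 110256) (.leaf 110225)) (.node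 6895 (.leaf 68497) (.leaf 68577))))) (.node 6904 (.node 6900 (.node 6898 (.node 6897 (.leaf 110320) (.leaf 68609)) (.node 6899 (.leaf 68641) (.leaf 68674))) (.node 6902 (.node 6901 (.leaf 71442) (.leaf 110338)) (.node 6903 (.leaf 68705) (.leaf 68786)))) (.node 6908 (.node 6906 (.node 6905 (.leaf 110448) (.leaf 68801)) (.node 6907 (.leaf 68817) (.leaf 68834))) (.node 6910 (.node 6909 (.leaf 110481) (.leaf 68849)) (.node 6911 (.leaf 69025) (.leaf 68850))))))))

/-- block of `nd` -/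
def nd_27 : Tr := .node 7040 (.node 6976 (.node 6944 (.node 6928 (.node 6920 (.node 6916 (.node 6914 (.node 6913 (.leaf 68897) (.leaf 68898)) (.node 6915 (.leaf 110608) (.leaf 68929))) (.node 6918 (.node 6917 (.leaf 68930) (.leaf 68961)) (.node 6919 (.leaf 110672) (.leaf 68962)))) (.node 6924 (.node 6922 (.node 6921 (.leaf 68977) (.leaf 68993)) (.node 6923 (.leaf 110736) (.leaf 69010))) (.node 6926 (.node 6925 (.leaf 110721) (.leaf 69089)) (.node 6927 (.leaf 69090) (.leaf 110816))))) (.node 6936 (.node 6932 (.node 6930 (.node 6929 (.leaf 69137) (.leaf 110848)) (.node 6931 (.leaf 69586) (.leaf 110880))) (.node 6934 (.node 6933 (.leaf 69201) (.leaf 69202)) (.node 6935 (.leaf 110928) (.leaf 110433)))) (.node 6940 (.node 6938 (.node 6937 (.leaf 69233) (.leaf 69234)) (.node 6939 (.leaf 69298) (.leaf 111008))) (.node 6942 (.node 6941 (.leaf 69330) (.leaf 69346)) (.node 6943 (.leaf 111056) (.leaf 69377)))))) (.node 6960 (.node 6952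 (.node 6948 (.node 6946 (.node 6945 (.leaf 69378) (.leaf 69409)) (.node 6947 (.leaf 69457) (.leaf 69473))) (.node 6950 (.node 6949 (.leaf 69506) (.leaf 69569)) (.node 6951 (.leaf 111184) (.leaf 71346)))) (.node 6956 (.node 6954 (.node 6953 (.leaf 69601) (.leaf 111232)) (.node 6955 (.leaf 69697) (.leaf 111264))) (.node 6958 (.node 6957 (.leaf 69761) (.leaf 111296)) (.node 6959 (.leaf 69762) (.leaf 69793))))) (.node 6968 (.node 6964 (.node 6962 (.node 6961 (.leaf 69841) (.leaf 69794)) (.node 6963 (.leaf 111376) (.leaf 69873))) (.node 6966 (.node 6965 (.leaf 69874) (.leaf 69969)) (.node 6967 (.leaf 111440) (.leaf 70001)))) (.node 6972 (.node 6970 (.node 6969 (.leaf 111472) (.leaf 70002)) (.node 6971 (.leaf 111458) (.leaf 70066))) (.node 6974 (.node 6973 (.leaf 111536) (.leaf 70081)) (.node 6975 (.leaf 70145) (.leaf 111584))))))) (.node 7008 (.node 6992 (.node 6984 (.node 6980 (.node 6978 (.node 6977 (.leaf 70162) (.leaf 111585))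 (.node 6979 (.leaf 70178) (.leaf 111648))) (.node 6982 (.node 6981 (.leaf 70210) (.leaf 70257)) (.node 6983 (.leaf 70289) (.leaf 111712)))) (.node 6988 (.node 6986 (.node 6985 (.leaf 70322) (.leaf 111744)) (.node 6987 (.leaf 70386) (.leaf 111249))) (.node 6990 (.node 6989 (.leaf 70401) (.leaf 70609)) (.node 6991 (.leaf 70402) (.leaf 70433))))) (.node 7000 (.node 6996 (.node 6994 (.node 6993 (.leaf 111856) (.leaf 70434)) (.node 6995 (.leaf 70451) (.leaf 70467))) (.node 6998 (.node 6997 (.leaf 70465) (.leaf 111936)) (.node 6999 (.leaf 70498) (.leaf 70674)))) (.node 7004 (.node 7002 (.node 7001 (.leaf 70546) (.leaf 70561)) (.node 7003 (.leaf 70577) (.leaf 70594))) (.node 7006 (.node 7005 (.leaf 112017) (.leaf 70641)) (.node 7007 (.leaf 112080) (.leaf 70706)))))) (.node 7024 (.node 7016 (.node 7012 (.node 7010 (.node 7009 (.leaf 70737) (.leaf 112128)) (.node 7011 (.leaf 70770) (.leaf 112129))) (.node 7014 (.node 7013 (.leaf 112176)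 (.leaf 70786)) (.node 7015 (.leaf 112208) (.leaf 70817)))) (.node 7020 (.node 7018 (.node 7017 (.leaf 112240) (.leaf 70818)) (.node 7019 (.leaf 112272) (.leaf 70850))) (.node 7022 (.node 7021 (.leaf 70897) (.leaf 71025)) (.node 7023 (.leaf 112336) (.leaf 110866))))) (.node 7032 (.node 7028 (.node 7026 (.node 7025 (.leaf 71041) (.leaf 112384)) (.node 7027 (.leaf 73395) (.leaf 71057))) (.node 7030 (.node 7029 (.leaf 71153) (.leaf 71185)) (.node 7031 (.leaf 71249) (.leaf 71281)))) (.node 7036 (.node 7034 (.node 7033 (.leaf 112496) (.leaf 71297)) (.node 7035 (.leaf 112528) (.leaf 71313))) (.node 7038 (.node 7037 (.leaf 112560) (.leaf 112513)) (.node 7039 (.leaf 71410) (.leaf 112545)))))))) (.node 7104 (.node 7072 (.node 7056 (.node 7048 (.node 7044 (.node 7042 (.node 7041 (.leaf 71457) (.leaf 99073)) (.node 7043 (.leaf 71474) (.leaf 71473))) (.node 7046 (.node 7045 (.leaf 71490) (.leaf 71505)) (.node 7047 (.leaf 112720) (.leaf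 71522)))) (.node 7052 (.node 7050 (.node 7049 (.leaf 112721) (.leaf 71554)) (.node 7051 (.leaf 112784) (.leaf 71585))) (.node 7054 (.node 7053 (.leaf 112817) (.leaf 71618)) (.node 7055 (.leaf 71650) (.leaf 76001))))) (.node 7064 (.node 7060 (.node 7058 (.node 7057 (.leaf 112880) (.leaf 71729)) (.node 7059 (.leaf 86674) (.leaf 71746))) (.node 7062 (.node 7061 (.leaf 112944) (.leaf 71761)) (.node 7063 (.leaf 71762) (.leaf 86417)))) (.node 7068 (.node 7066 (.node 7065 (.leaf 71794) (.leaf 73650)) (.node 7067 (.leaf 112738) (.leaf 71889))) (.node 7070 (.node 7069 (.leaf 71905) (.leaf 113073)) (.node 7071 (.leaf 113104) (.leaf 71938)))))) (.node 7088 (.node 7080 (.node 7076 (.node 7074 (.node 7073 (.leaf 112802) (.leaf 113136)) (.node 7075 (.leaf 71969) (.leaf 96786))) (.node 7078 (.node 7077 (.leaf 72001) (.leaf 90162)) (.node 7079 (.leaf 72034) (.leaf 72225)))) (.node 7084 (.node 7082 (.node 7081 (.leaf 72258) (.leaf 113265))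 (.node 7083 (.leaf 72274) (.leaf 72481))) (.node 7086 (.node 7085 (.leaf 72305) (.leaf 74498)) (.node 7087 (.leaf 113360) (.leaf 72450))))) (.node 7096 (.node 7092 (.node 7090 (.node 7089 (.leaf 113392) (.leaf 72482)) (.node 7091 (.leaf 113424) (.leaf 72498))) (.node 7094 (.node 7093 (.leaf 72545) (.leaf 113472)) (.node 7095 (.leaf 72562) (.leaf 113504)))) (.node 7100 (.node 7098 (.node 7097 (.leaf 100001) (.leaf 83713)) (.node 7099 (.leaf 72689) (.leaf 113568))) (.node 7102 (.node 7101 (.leaf 72754) (.leaf 104706)) (.node 7103 (.leaf 72817) (.leaf 72834))))))) (.node 7136 (.node 7120 (.node 7112 (.node 7108 (.node 7106 (.node 7105 (.leaf 113633) (.leaf 72849)) (.node 7107 (.leaf 72866) (.leaf 113696))) (.node 7110 (.node 7109 (.leaf 72882) (.leaf 113681)) (.node 7111 (.leaf 113744) (.leaf 72897)))) (.node 7116 (.node 7114 (.node 7113 (.leaf 72929) (.leaf 73025)) (.node 7115 (.leaf 102370) (.leaf 73057))) (.node 7118 (.node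 7117 (.leaf 75457) (.leaf 73089)) (.node 7119 (.leaf 113713) (.leaf 73106))))) (.node 7128 (.node 7124 (.node 7122 (.node 7121 (.leaf 73202) (.leaf 89537)) (.node 7123 (.leaf 73233) (.leaf 113952))) (.node 7126 (.node 7125 (.leaf 73249) (.leaf 113984)) (.node 7127 (.leaf 73250) (.leaf 108418)))) (.node 7132 (.node 7130 (.node 7129 (.leaf 73266) (.leaf 114048)) (.node 7131 (.leaf 113953) (.leaf 73297))) (.node 7134 (.node 7133 (.leaf 73298) (.leaf 114112)) (.node 7135 (.leaf 73330) (.leaf 114144)))))) (.node 7152 (.node 7144 (.node 7140 (.node 7138 (.node 7137 (.leaf 73489) (.leaf 114176)) (.node 7139 (.leaf 73490) (.leaf 73681))) (.node 7142 (.node 7141 (.leaf 73505) (.leaf 114240)) (.node 7143 (.leaf 73522) (.leaf 114241)))) (.node 7148 (.node 7146 (.node 7145 (.leaf 73537) (.leaf 113441)) (.node 7147 (.leaf 73538) (.leaf 73553))) (.node 7150 (.node 7149 (.leaf 114352) (.leaf 101809)) (.node 7151 (.leaf 73617) (.leaf 114400)))))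 (.node 7160 (.node 7156 (.node 7154 (.node 7153 (.leaf 114338) (.leaf 114432)) (.node 7155 (.leaf 73746) (.leaf 114464))) (.node 7158 (.node 7157 (.leaf 113985) (.leaf 114018)) (.node 7159 (.leaf 73777) (.leaf 114528)))) (.node 7164 (.node 7162 (.node 7161 (.leaf 73825) (.leaf 113762)) (.node 7163 (.leaf 114576) (.leaf 73842))) (.node 7166 (.node 7165 (.leaf 73937) (.leaf 74002)) (.node 7167 (.leaf 114640) (.leaf 74034))))))))

/-- block of `nd` -/
def nd_28 : Tr := .node 7296 (.node 7232 (.node 7200 (.node 7184 (.node 7176 (.node 7172 (.node 7170 (.node 7169 (.leaf 74066) (.leaf 99329)) (.node 7171 (.leaf 114688) (.leaf 74098))) (.node 7174 (.node 7173 (.leaf 114736) (.leaf 74145)) (.node 7175 (.leaf 74161) (.leaf 74162)))) (.node 7180 (.node 7178 (.node 7177 (.leaf 74402) (.leaf 114177)) (.node 7179 (.leaf 114769) (.leaf 114848))) (.node 7182 (.node 7181 (.leaf 109969) (.leaf 114880)) (.node 7183 (.leaf 74305) (.leaf 114642)))))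 (.node 7192 (.node 7188 (.node 7186 (.node 7185 (.leaf 74369) (.leaf 114944)) (.node 7187 (.leaf 74370) (.leaf 114976))) (.node 7190 (.node 7189 (.leaf 109905) (.leaf 74657)) (.node 7191 (.leaf 115024) (.leaf 74705)))) (.node 7196 (.node 7194 (.node 7193 (.leaf 114753) (.leaf 74737)) (.node 7195 (.leaf 74770) (.leaf 115104))) (.node 7198 (.node 7197 (.leaf 115089) (.leaf 74802)) (.node 7199 (.leaf 115152) (.leaf 98433)))))) (.node 7216 (.node 7208 (.node 7204 (.node 7202 (.node 7201 (.leaf 98450) (.leaf 74834)) (.node 7203 (.leaf 109009) (.leaf 74961))) (.node 7206 (.node 7205 (.leaf 108305) (.leaf 74993)) (.node 7207 (.leaf 98626) (.leaf 75233)))) (.node 7212 (.node 7210 (.node 7209 (.leaf 75297) (.leaf 112898)) (.node 7211 (.leaf 75298) (.leaf 112897))) (.node 7214 (.node 7213 (.leaf 75314) (.leaf 75329)) (.node 7215 (.leaf 115408) (.leaf 108291))))) (.node 7224 (.node 7220 (.node 7218 (.node 7217 (.leaf 75362) (.leaf 75393))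 (.node 7219 (.leaf 115472) (.leaf 114658))) (.node 7222 (.node 7221 (.leaf 75425) (.leaf 115520)) (.node 7223 (.leaf 75458) (.leaf 75649)))) (.node 7228 (.node 7226 (.node 7225 (.leaf 75489) (.leaf 115584)) (.node 7227 (.leaf 115042) (.leaf 75521))) (.node 7230 (.node 7229 (.leaf 75522) (.leaf 75585)) (.node 7231 (.leaf 75586) (.leaf 75650))))))) (.node 7264 (.node 7248 (.node 7240 (.node 7236 (.node 7234 (.node 7233 (.leaf 75681) (.leaf 108241)) (.node 7235 (.leaf 115728) (.leaf 102242))) (.node 7238 (.node 7237 (.leaf 102258) (.leaf 115776)) (.node 7239 (.leaf 75841) (.leaf 115808)))) (.node 7244 (.node 7242 (.node 7241 (.leaf 75874) (.leaf 75777)) (.node 7243 (.leaf 76401) (.leaf 75778))) (.node 7246 (.node 7245 (.leaf 75826) (.leaf 95297)) (.node 7247 (.leaf 75858) (.leaf 96850))))) (.node 7256 (.node 7252 (.node 7250 (.node 7249 (.leaf 75889) (.leaf 75890)) (.node 7251 (.leaf 76017) (.leaf 88146))) (.node 7254 (.node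 7253 (.leaf 76018) (.leaf 88145)) (.node 7255 (.leaf 76050) (.leaf 76081)))) (.node 7260 (.node 7258 (.node 7257 (.leaf 76354) (.leaf 76129)) (.node 7259 (.leaf 76130) (.leaf 76193))) (.node 7262 (.node 7261 (.leaf 89810) (.leaf 76226)) (.node 7263 (.leaf 90194) (.leaf 76242)))))) (.node 7280 (.node 7272 (.node 7268 (.node 7266 (.node 7265 (.leaf 116208) (.leaf 97329)) (.node 7267 (.leaf 76273) (.leaf 116256))) (.node 7270 (.node 7269 (.leaf 76337) (.leaf 104337)) (.node 7271 (.leaf 76370) (.leaf 104609)))) (.node 7276 (.node 7274 (.node 7273 (.leaf 116336) (.leaf 104610)) (.node 7275 (.leaf 76529) (.leaf 115938))) (.node 7278 (.node 7277 (.leaf 116368) (.leaf 76402)) (.node 7279 (.leaf 114546) (.leaf 76417))))) (.node 7288 (.node 7284 (.node 7282 (.node 7281 (.leaf 76465) (.leaf 76497)) (.node 7283 (.leaf 76514) (.leaf 116497))) (.node 7286 (.node 7285 (.leaf 116528) (.leaf 98738)) (.node 7287 (.leaf 76593) (.leaf 76594))))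 (.node 7292 (.node 7290 (.node 7289 (.leaf 97265) (.leaf 97266)) (.node 7291 (.leaf 76609) (.leaf 76626))) (.node 7294 (.node 7293 (.leaf 116641) (.leaf 116672)) (.node 7295 (.leaf 80034) (.leaf 76673)))))))) (.node 7360 (.node 7328 (.node 7312 (.node 7304 (.node 7300 (.node 7298 (.node 7297 (.leaf 116720) (.leaf 76691)) (.node 7299 (.leaf 76705) (.leaf 76722))) (.node 7302 (.node 7301 (.leaf 116769) (.leaf 116800)) (.node 7303 (.leaf 79729) (.leaf 76738)))) (.node 7308 (.node 7306 (.node 7305 (.leaf 76802) (.leaf 116864)) (.node 7307 (.leaf 76833) (.leaf 116896))) (.node 7310 (.node 7309 (.leaf 76850) (.leaf 76866)) (.node 7311 (.leaf 116944) (.leaf 116897))))) (.node 7320 (.node 7316 (.node 7314 (.node 7313 (.leaf 116976) (.leaf 76881)) (.node 7315 (.leaf 76977) (.leaf 76882))) (.node 7318 (.node 7317 (.leaf 117040) (.leaf 76913)) (.node 7319 (.leaf 117072) (.leaf 76914)))) (.node 7324 (.node 7322 (.node 7321 (.leaf 76929)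 (.leaf 76945)) (.node 7323 (.leaf 77698) (.leaf 76946))) (.node 7326 (.node 7325 (.leaf 76962) (.leaf 117121)) (.node 7327 (.leaf 77010) (.leaf 117216)))))) (.node 7344 (.node 7336 (.node 7332 (.node 7330 (.node 7329 (.leaf 116851) (.leaf 77041)) (.node 7331 (.leaf 117264) (.leaf 77057))) (.node 7334 (.node 7333 (.leaf 117296) (.leaf 77074)) (.node 7335 (.leaf 117265) (.leaf 117344)))) (.node 7340 (.node 7338 (.node 7337 (.leaf 77089) (.leaf 77090)) (.node 7339 (.leaf 77105) (.leaf 117408))) (.node 7342 (.node 7341 (.leaf 77122) (.leaf 77234)) (.node 7343 (.leaf 77138) (.leaf 117409))))) (.node 7352 (.node 7348 (.node 7346 (.node 7345 (.leaf 77153) (.leaf 117504)) (.node 7347 (.leaf 77154) (.leaf 77185))) (.node 7350 (.node 7349 (.leaf 117552) (.leaf 77186)) (.node 7351 (.leaf 117522) (.leaf 77265)))) (.node 7356 (.node 7354 (.node 7353 (.leaf 77266) (.leaf 77393)) (.node 7355 (.leaf 77297) (.leaf 77298))) (.node 7358 (.node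 7357 (.leaf 77329) (.leaf 77425)) (.node 7359 (.leaf 77361) (.leaf 77377))))))) (.node 7392 (.node 7376 (.node 7368 (.node 7364 (.node 7362 (.node 7361 (.leaf 117744) (.leaf 77410)) (.node 7363 (.leaf 117745) (.leaf 77457))) (.node 7366 (.node 7365 (.leaf 77458) (.leaf 117824)) (.node 7367 (.leaf 77489) (.leaf 117856)))) (.node 7372 (.node 7370 (.node 7369 (.leaf 77553) (.leaf 117888)) (.node 7371 (.leaf 77585) (.leaf 117920))) (.node 7374 (.node 7373 (.leaf 77601) (.leaf 77617)) (.node 7375 (.leaf 117968) (.leaf 77618))))) (.node 7384 (.node 7380 (.node 7378 (.node 7377 (.leaf 117938) (.leaf 77634)) (.node 7379 (.leaf 117953) (.leaf 77729))) (.node 7382 (.node 7381 (.leaf 77793) (.leaf 77794)) (.node 7383 (.leaf 77809) (.leaf 82609)))) (.node 7388 (.node 7386 (.node 7385 (.leaf 77889) (.leaf 118144)) (.node 7387 (.leaf 77890) (.leaf 118176))) (.node 7390 (.node 7389 (.leaf 77905) (.leaf 77922)) (.node 7391 (.leaf 118224)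 (.leaf 118209)))))) (.node 7408 (.node 7400 (.node 7396 (.node 7394 (.node 7393 (.leaf 77953) (.leaf 118272)) (.node 7395 (.leaf 77985) (.leaf 77986))) (.node 7398 (.node 7397 (.leaf 78017) (.leaf 118336)) (.node 7399 (.leaf 78018) (.leaf 78033)))) (.node 7404 (.node 7402 (.node 7401 (.leaf 118384) (.leaf 78065)) (.node 7403 (.leaf 118416) (.leaf 78081))) (.node 7406 (.node 7405 (.leaf 118448) (.leaf 78082)) (.node 7407 (.leaf 118480) (.leaf 78098))))) (.node 7416 (.node 7412 (.node 7410 (.node 7409 (.leaf 118512) (.leaf 118417)) (.node 7411 (.leaf 118544) (.leaf 78145))) (.node 7414 (.node 7413 (.leaf 78194) (.leaf 78258)) (.node 7415 (.leaf 82898) (.leaf 117762)))) (.node 7420 (.node 7418 (.node 7417 (.leaf 78290) (.leaf 78354)) (.node 7419 (.leaf 78370) (.leaf 78386))) (.node 7422 (.node 7421 (.leaf 78418) (.leaf 117842)) (.node 7423 (.leaf 78433) (.leaf 108145))))))))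

/-- block of `nd` -/
def nd_29 : Tr := .node 7552 (.node 7488 (.node 7456 (.node 7440 (.node 7432 (.node 7428 (.node 7426 (.node 7425 (.leaf 78449) (.leaf 78481)) (.node 7427 (.leaf 78609) (.leaf 80098))) (.node 7430 (.node 7429 (.leaf 78610) (.leaf 80097)) (.node 7431 (.leaf 78706) (.leaf 118880)))) (.node 7436 (.node 7434 (.node 7433 (.leaf 78721) (.leaf 78737)) (.node 7435 (.leaf 78738) (.leaf 78754))) (.node 7438 (.node 7437 (.leaf 80497) (.leaf 118913)) (.node 7439 (.leaf 78769) (.leaf 78961))))) (.node 7448 (.node 7444 (.node 7442 (.node 7441 (.leaf 78817) (.leaf 78866)) (.node 7443 (.leaf 78913) (.leaf 78929))) (.node 7446 (.node 7445 (.leaf 78946) (.leaf 119104)) (.node 7447 (.leaf 119073) (.leaf 78993)))) (.node 7452 (.node 7450 (.node 7449 (.leaf 119152) (.leaf 79026)) (.node 7451 (.leaf 119184) (.leaf 79042))) (.node 7454 (.node 7453 (.leaf 119216) (.leaf 79057)) (.node 7455 (.leaf 119201) (.leaf 79058)))))) (.node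 7472 (.node 7464 (.node 7460 (.node 7458 (.node 7457 (.leaf 79089) (.leaf 79106)) (.node 7459 (.leaf 119297) (.leaf 119328))) (.node 7462 (.node 7461 (.leaf 79169) (.leaf 119360)) (.node 7463 (.leaf 119282) (.leaf 119249)))) (.node 7468 (.node 7466 (.node 7465 (.leaf 79170) (.leaf 119424)) (.node 7467 (.leaf 79185) (.leaf 119456))) (.node 7470 (.node 7469 (.leaf 79201) (.leaf 79218)) (.node 7471 (.leaf 119489) (.leaf 119520))))) (.node 7480 (.node 7476 (.node 7474 (.node 7473 (.leaf 79249) (.leaf 79266)) (.node 7475 (.leaf 79330) (.leaf 119584))) (.node 7478 (.node 7477 (.leaf 118785) (.leaf 119616)) (.node 7479 (.leaf 79377) (.leaf 119648)))) (.node 7484 (.node 7482 (.node 7481 (.leaf 79409) (.leaf 119680)) (.node 7483 (.leaf 79425) (.leaf 81201))) (.node 7486 (.node 7485 (.leaf 79442) (.leaf 119713)) (.node 7487 (.leaf 79458) (.leaf 79490))))))) (.node 7520 (.node 7504 (.node 7496 (.node 7492 (.node 7490 (.node 7489 (.leaf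 82449) (.leaf 79585)) (.node 7491 (.leaf 79553) (.leaf 119840))) (.node 7494 (.node 7493 (.leaf 79570) (.leaf 119841)) (.node 7495 (.leaf 79650) (.leaf 79761)))) (.node 7500 (.node 7498 (.node 7497 (.leaf 79793) (.leaf 79874)) (.node 7499 (.leaf 119952) (.leaf 119858))) (.node 7502 (.node 7501 (.leaf 79937) (.leaf 120000)) (.node 7503 (.leaf 80001) (.leaf 120032))))) (.node 7512 (.node 7508 (.node 7506 (.node 7505 (.leaf 80113) (.leaf 80146)) (.node 7507 (.leaf 120065) (.leaf 120096))) (.node 7510 (.node 7509 (.leaf 80162) (.leaf 120017)) (.node 7511 (.leaf 80210) (.leaf 119665)))) (.node 7516 (.node 7514 (.node 7513 (.leaf 80226) (.leaf 120192)) (.node 7515 (.leaf 80258) (.leaf 120224))) (.node 7518 (.node 7517 (.leaf 80289) (.leaf 80385)) (.node 7519 (.leaf 80322) (.leaf 80353)))))) (.node 7536 (.node 7528 (.node 7524 (.node 7522 (.node 7521 (.leaf 80418) (.leaf 80562)) (.node 7523 (.leaf 80451) (.leaf 80467))) (.node 7526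 (.node 7525 (.leaf 80465) (.leaf 120241)) (.node 7527 (.leaf 80466) (.leaf 116737)))) (.node 7532 (.node 7530 (.node 7529 (.leaf 116738) (.leaf 80561)) (.node 7531 (.leaf 80626) (.leaf 120480))) (.node 7534 (.node 7533 (.leaf 80673) (.leaf 120512)) (.node 7535 (.leaf 80753) (.leaf 120544))))) (.node 7544 (.node 7540 (.node 7538 (.node 7537 (.leaf 80785) (.leaf 120576)) (.node 7539 (.leaf 120483) (.leaf 80801))) (.node 7542 (.node 7541 (.leaf 81138) (.leaf 80818)) (.node 7543 (.leaf 120577) (.leaf 80833)))) (.node 7548 (.node 7546 (.node 7545 (.leaf 80866) (.leaf 120689)) (.node 7547 (.leaf 80881) (.leaf 80898))) (.node 7550 (.node 7549 (.leaf 120737) (.leaf 80913)) (.node 7551 (.leaf 120784) (.leaf 80914)))))))) (.node 7616 (.node 7584 (.node 7568 (.node 7560 (.node 7556 (.node 7554 (.node 7553 (.leaf 120816) (.leaf 80945)) (.node 7555 (.leaf 120848) (.leaf 80946))) (.node 7558 (.node 7557 (.leaf 120802) (.leaf 80962)) (.node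 7559 (.leaf 80978) (.leaf 81041)))) (.node 7564 (.node 7562 (.node 7561 (.leaf 81025) (.leaf 120960)) (.node 7563 (.leaf 120339) (.leaf 81058))) (.node 7566 (.node 7565 (.leaf 120961) (.leaf 81105)) (.node 7567 (.leaf 81122) (.leaf 121041))))) (.node 7576 (.node 7572 (.node 7570 (.node 7569 (.leaf 81170) (.leaf 81266)) (.node 7571 (.leaf 121104) (.leaf 81281))) (.node 7574 (.node 7573 (.leaf 81297) (.leaf 81314)) (.node 7575 (.leaf 121168) (.leaf 121137)))) (.node 7580 (.node 7578 (.node 7577 (.leaf 81329) (.leaf 81441)) (.node 7579 (.leaf 81409) (.leaf 81426))) (.node 7582 (.node 7581 (.leaf 121264) (.leaf 81473)) (.node 7583 (.leaf 121296) (.leaf 119474)))))) (.node 7600 (.node 7592 (.node 7588 (.node 7586 (.node 7585 (.leaf 81522) (.leaf 81554)) (.node 7587 (.leaf 121360) (.leaf 81585))) (.node 7590 (.node 7589 (.leaf 81650) (.leaf 81682)) (.node 7591 (.leaf 121424) (.leaf 81714)))) (.node 7596 (.node 7594 (.node 7593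 (.leaf 82961) (.leaf 81729)) (.node 7595 (.leaf 81937) (.leaf 81761))) (.node 7598 (.node 7597 (.leaf 121520) (.leaf 81793)) (.node 7599 (.leaf 121552) (.leaf 81841))))) (.node 7608 (.node 7604 (.node 7602 (.node 7601 (.leaf 81874) (.leaf 81889)) (.node 7603 (.leaf 81905) (.leaf 81922))) (.node 7606 (.node 7605 (.leaf 121617) (.leaf 81938)) (.node 7607 (.leaf 81970) (.leaf 82001)))) (.node 7612 (.node 7610 (.node 7609 (.leaf 82002) (.leaf 121728)) (.node 7611 (.leaf 82066) (.leaf 82097))) (.node 7614 (.node 7613 (.leaf 121776) (.leaf 82546)) (.node 7615 (.leaf 82098) (.leaf 82130))))))) (.node 7648 (.node 7632 (.node 7624 (.node 7620 (.node 7618 (.node 7617 (.leaf 121840) (.leaf 82145)) (.node 7619 (.leaf 82162) (.leaf 121873))) (.node 7622 (.node 7621 (.leaf 121904) (.leaf 82177)) (.node 7623 (.leaf 82257) (.leaf 82305)))) (.node 7628 (.node 7626 (.node 7625 (.leaf 121968) (.leaf 121762)) (.node 7627 (.leaf 82306) (.leaf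 122016))) (.node 7630 (.node 7629 (.leaf 82369) (.leaf 122048)) (.node 7631 (.leaf 82434) (.leaf 122080))))) (.node 7640 (.node 7636 (.node 7634 (.node 7633 (.leaf 121393) (.leaf 82561)) (.node 7635 (.leaf 122128) (.leaf 82657))) (.node 7638 (.node 7637 (.leaf 122160) (.leaf 122065)) (.node 7639 (.leaf 82690) (.leaf 122208)))) (.node 7644 (.node 7642 (.node 7641 (.leaf 82721) (.leaf 82785)) (.node 7643 (.leaf 116881) (.leaf 82802))) (.node 7646 (.node 7645 (.leaf 122145) (.leaf 82834)) (.node 7647 (.leaf 122273) (.leaf 82866)))))) (.node 7664 (.node 7656 (.node 7652 (.node 7650 (.node 7649 (.leaf 82897) (.leaf 82929)) (.node 7651 (.leaf 82930) (.leaf 120529))) (.node 7654 (.node 7653 (.leaf 120530) (.leaf 82993)) (.node 7655 (.leaf 122448) (.leaf 83041)))) (.node 7660 (.node 7658 (.node 7657 (.leaf 83057) (.leaf 122210)) (.node 7659 (.leaf 83074) (.leaf 83105))) (.node 7662 (.node 7661 (.leaf 122544) (.leaf 88355)) (.node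 7663 (.leaf 83121) (.leaf 83490))))) (.node 7672 (.node 7668 (.node 7666 (.node 7665 (.leaf 83154) (.leaf 88481)) (.node 7667 (.leaf 104769) (.leaf 83249))) (.node 7670 (.node 7669 (.leaf 83282) (.leaf 122688)) (.node 7671 (.leaf 83314) (.leaf 83458)))) (.node 7676 (.node 7674 (.node 7673 (.leaf 83330) (.leaf 83345)) (.node 7675 (.leaf 83346) (.leaf 83393))) (.node 7678 (.node 7677 (.leaf 122800) (.leaf 83394)) (.node 7679 (.leaf 122832) (.leaf 83411))))))))

/-- block of `nd` -/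
def nd_30 : Tr := .node 7808 (.node 7744 (.node 7712 (.node 7696 (.node 7688 (.node 7684 (.node 7682 (.node 7681 (.leaf 83427) (.leaf 83489)) (.node 7683 (.leaf 83665) (.leaf 113410))) (.node 7686 (.node 7685 (.leaf 83697) (.leaf 90273)) (.node 7687 (.leaf 83698) (.leaf 122706)))) (.node 7692 (.node 7690 (.node 7689 (.leaf 83793) (.leaf 123008)) (.node 7691 (.leaf 116434) (.leaf 115873))) (.node 7694 (.node 7693 (.leaf 89506) (.leaf 123072)) (.node 7695 (.leaf 115394) (.leaf 96721))))) (.node 7704 (.node 7700 (.node 7698 (.node 7697 (.leaf 123120) (.leaf 83857)) (.node 7699 (.leaf 83905) (.leaf 83938))) (.node 7702 (.node 7701 (.leaf 123169) (.leaf 123200)) (.node 7703 (.leaf 99714) (.leaf 83953)))) (.node 7708 (.node 7706 (.node 7705 (.leaf 123248) (.leaf 84001)) (.node 7707 (.leaf 84002) (.leaf 114721))) (.node 7710 (.node 7709 (.leaf 114722) (.leaf 115633)) (.node 7711 (.leaf 87137) (.leaf 123296)))))) (.node 7728 (.node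 7720 (.node 7716 (.node 7714 (.node 7713 (.leaf 84066) (.leaf 84145)) (.node 7715 (.leaf 123408) (.leaf 114738))) (.node 7718 (.node 7717 (.leaf 123440) (.leaf 101825)) (.node 7719 (.leaf 84161) (.leaf 98930)))) (.node 7724 (.node 7722 (.node 7721 (.leaf 123504) (.leaf 84162)) (.node 7723 (.leaf 98929) (.leaf 123409))) (.node 7726 (.node 7725 (.leaf 123568) (.leaf 99954)) (.node 7727 (.leaf 84225) (.leaf 84242))))) (.node 7736 (.node 7732 (.node 7730 (.node 7729 (.leaf 123632) (.leaf 123617)) (.node 7731 (.leaf 84257) (.leaf 84258))) (.node 7734 (.node 7733 (.leaf 123696) (.leaf 84289)) (.node 7735 (.leaf 84290) (.leaf 84322)))) (.node 7740 (.node 7738 (.node 7737 (.leaf 84353) (.leaf 84369)) (.node 7739 (.leaf 85074) (.leaf 84386))) (.node 7742 (.node 7741 (.leaf 123777) (.leaf 84433)) (.node 7743 (.leaf 123856) (.leaf 84465))))))) (.node 7776 (.node 7760 (.node 7752 (.node 7748 (.node 7746 (.node 7745 (.leaf 84482) (.leaf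 84498)) (.node 7747 (.leaf 123889) (.leaf 84513))) (.node 7750 (.node 7749 (.leaf 123952) (.leaf 84530)) (.node 7751 (.leaf 123953) (.leaf 124000)))) (.node 7756 (.node 7754 (.node 7753 (.leaf 84545) (.leaf 84546)) (.node 7755 (.leaf 84577) (.leaf 84801))) (.node 7758 (.node 7757 (.leaf 84593) (.leaf 124096)) (.node 7759 (.leaf 84609) (.leaf 124128))))) (.node 7768 (.node 7764 (.node 7762 (.node 7761 (.leaf 124097) (.leaf 84625)) (.node 7763 (.leaf 84641) (.leaf 124192))) (.node 7766 (.node 7765 (.leaf 84642) (.leaf 84658)) (.node 7767 (.leaf 124177) (.leaf 84673)))) (.node 7772 (.node 7770 (.node 7769 (.leaf 84674) (.leaf 124288)) (.node 7771 (.leaf 84737) (.leaf 124320))) (.node 7774 (.node 7773 (.leaf 84770) (.leaf 124338)) (.node 7775 (.leaf 84866) (.leaf 85042)))))) (.node 7792 (.node 7784 (.node 7780 (.node 7778 (.node 7777 (.leaf 84897) (.leaf 124416)) (.node 7779 (.leaf 84930) (.leaf 124448))) (.node 7782 (.node 7781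 (.leaf 84945) (.leaf 84962)) (.node 7783 (.leaf 124434) (.leaf 84978)))) (.node 7788 (.node 7786 (.node 7785 (.leaf 85009) (.leaf 124466)) (.node 7787 (.leaf 85041) (.leaf 85137))) (.node 7790 (.node 7789 (.leaf 124592) (.leaf 85201)) (.node 7791 (.leaf 124624) (.leaf 85233))))) (.node 7800 (.node 7796 (.node 7794 (.node 7793 (.leaf 85250) (.leaf 98690)) (.node 7795 (.leaf 124657) (.leaf 85265))) (.node 7798 (.node 7797 (.leaf 85298) (.leaf 85329)) (.node 7799 (.leaf 124752) (.leaf 85330)))) (.node 7804 (.node 7802 (.node 7801 (.leaf 85361) (.leaf 85794)) (.node 7803 (.leaf 85377) (.leaf 124832))) (.node 7806 (.node 7805 (.leaf 124641) (.leaf 85425)) (.node 7807 (.leaf 85457) (.leaf 85473)))))))) (.node 7872 (.node 7840 (.node 7824 (.node 7816 (.node 7812 (.node 7810 (.node 7809 (.leaf 85537) (.leaf 124928)) (.node 7811 (.leaf 85569) (.leaf 85617))) (.node 7814 (.node 7813 (.leaf 85650) (.leaf 85714)) (.node 7815 (.leaf 124881)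 (.leaf 125024)))) (.node 7820 (.node 7818 (.node 7817 (.leaf 85809) (.leaf 85825)) (.node 7819 (.leaf 125072) (.leaf 85826))) (.node 7822 (.node 7821 (.leaf 125057) (.leaf 125120)) (.node 7823 (.leaf 85857) (.leaf 125152))))) (.node 7832 (.node 7828 (.node 7826 (.node 7825 (.leaf 85858) (.leaf 85889)) (.node 7827 (.leaf 85890) (.leaf 85922))) (.node 7830 (.node 7829 (.leaf 125232) (.leaf 86018)) (.node 7831 (.leaf 86066) (.leaf 86097)))) (.node 7836 (.node 7834 (.node 7833 (.leaf 86098) (.leaf 125312)) (.node 7835 (.leaf 86113) (.leaf 86129))) (.node 7838 (.node 7837 (.leaf 86130) (.leaf 86177)) (.node 7839 (.leaf 125392) (.leaf 86241)))))) (.node 7856 (.node 7848 (.node 7844 (.node 7842 (.node 7841 (.leaf 125424) (.leaf 123874)) (.node 7843 (.leaf 86273) (.leaf 86289))) (.node 7846 (.node 7845 (.leaf 86290) (.leaf 125504)) (.node 7847 (.leaf 86306) (.leaf 125536)))) (.node 7852 (.node 7850 (.node 7849 (.leaf 125473) (.leaf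 86321)) (.node 7851 (.leaf 86337) (.leaf 125600))) (.node 7854 (.node 7853 (.leaf 86354) (.leaf 125585)) (.node 7855 (.leaf 125648) (.leaf 86385))))) (.node 7864 (.node 7860 (.node 7858 (.node 7857 (.leaf 125521) (.leaf 86386)) (.node 7859 (.leaf 86482) (.leaf 90322))) (.node 7862 (.node 7861 (.leaf 113970) (.leaf 102273)) (.node 7863 (.leaf 125776) (.leaf 99090)))) (.node 7868 (.node 7866 (.node 7865 (.leaf 104290) (.leaf 119361)) (.node 7867 (.leaf 106866) (.leaf 107057))) (.node 7870 (.node 7869 (.leaf 125856) (.leaf 106273)) (.node 7871 (.leaf 106290) (.leaf 106849))))))) (.node 7904 (.node 7888 (.node 7880 (.node 7876 (.node 7874 (.node 7873 (.leaf 89297) (.leaf 103553)) (.node 7875 (.leaf 97682) (.leaf 97681))) (.node 7878 (.node 7877 (.leaf 126000) (.leaf 98065)) (.node 7879 (.leaf 126032) (.leaf 98082)))) (.node 7884 (.node 7882 (.node 7881 (.leaf 89138) (.leaf 105186)) (.node 7883 (.leaf 126096) (.leaf 109121)))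 (.node 7886 (.node 7885 (.leaf 126128) (.leaf 92049)) (.node 7887 (.leaf 94882) (.leaf 93890))))) (.node 7896 (.node 7892 (.node 7890 (.node 7889 (.leaf 96033) (.leaf 124769)) (.node 7891 (.leaf 96113) (.leaf 126240))) (.node 7894 (.node 7893 (.leaf 96114) (.leaf 100194)) (.node 7895 (.leaf 120561) (.leaf 110578)))) (.node 7900 (.node 7898 (.node 7897 (.leaf 111297) (.leaf 117425)) (.node 7899 (.leaf 117426) (.leaf 126368))) (.node 7902 (.node 7901 (.leaf 87249) (.leaf 124913)) (.node 7903 (.leaf 90369) (.leaf 93186)))))) (.node 7920 (.node 7912 (.node 7908 (.node 7906 (.node 7905 (.leaf 90417) (.leaf 126464)) (.node 7907 (.leaf 90418) (.leaf 90433))) (.node 7910 (.node 7909 (.leaf 90466) (.leaf 126528)) (.node 7911 (.leaf 90449) (.leaf 91138)))) (.node 7916 (.node 7914 (.node 7913 (.leaf 126258) (.leaf 90481)) (.node 7915 (.leaf 90482) (.leaf 90513))) (.node 7918 (.node 7917 (.leaf 90514) (.leaf 90546)) (.node 7919 (.leaf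 90561) (.leaf 105906))))) (.node 7928 (.node 7924 (.node 7922 (.node 7921 (.leaf 90594) (.leaf 106593)) (.node 7923 (.leaf 90609) (.leaf 126752))) (.node 7926 (.node 7925 (.leaf 93169) (.leaf 90705)) (.node 7927 (.leaf 90706) (.leaf 90753)))) (.node 7932 (.node 7930 (.node 7929 (.leaf 90754) (.leaf 117106)) (.node 7931 (.leaf 126864) (.leaf 126801))) (.node 7934 (.node 7933 (.leaf 126818) (.leaf 90769)) (.node 7935 (.leaf 90786) (.leaf 90802))))))))

/-- block of `nd` -/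
def nd_31 : Tr := .node 7966 (.node 7951 (.node 7943 (.node 7939 (.node 7937 (.leaf 126929) (.node 7938 (.leaf 90817) (.leaf 90945))) (.node 7941 (.node 7940 (.leaf 91361) (.leaf 90994)) (.node 7942 (.leaf 91377) (.leaf 91009)))) (.node 7947 (.node 7945 (.node 7944 (.leaf 105793) (.leaf 91266)) (.node 7946 (.leaf 118882) (.leaf 91298))) (.node 7949 (.node 7948 (.leaf 127136) (.leaf 91329)) (.node 7950 (.leaf 91394) (.leaf 91586))))) (.node 7958 (.node 7954 (.node 7952 (.leaf 91442) (.node 7953 (.leaf 91569) (.leaf 127232))) (.node 7956 (.node 7955 (.leaf 124018) (.leaf 91585)) (.node 7957 (.leaf 91649) (.leaf 105490)))) (.node 7962 (.node 7960 (.node 7959 (.leaf 91650) (.leaf 126769)) (.node 7961 (.leaf 126770) (.leaf 91745))) (.node 7964 (.node 7963 (.leaf 91761) (.leaf 127392)) (.node 7965 (.leaf 91762) (.leaf 127089)))))) (.node 7981 (.node 7973 (.node 7969 (.node 7967 (.leaf 91778) (.node 7968 (.leaf 93778) (.leaf 91794)))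 (.node 7971 (.node 7970 (.leaf 123650) (.leaf 91841)) (.node 7972 (.leaf 127520) (.leaf 93458)))) (.node 7977 (.node 7975 (.node 7974 (.leaf 109361) (.leaf 91873)) (.node 7976 (.leaf 91889) (.leaf 127202))) (.node 7979 (.node 7978 (.leaf 127616) (.leaf 93489)) (.node 7980 (.leaf 127600) (.leaf 91906))))) (.node 7989 (.node 7985 (.node 7983 (.node 7982 (.leaf 127585) (.leaf 127696)) (.node 7984 (.leaf 101537) (.leaf 91986))) (.node 7987 (.node 7986 (.leaf 92098) (.leaf 92306)) (.node 7988 (.leaf 92178) (.leaf 109298)))) (.node 7993 (.node 7991 (.node 7990 (.leaf 92225) (.leaf 92257)) (.node 7992 (.leaf 92369) (.leaf 93362))) (.node 7995 (.node 7994 (.leaf 92370) (.leaf 93361)) (.node 7996 (.leaf 127904) (.leaf 124290))))))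

/-- node table -/
def nd : Tr := (.node 4096 (.node 2048 (.node 1024 (.node 512 (.node 256 nd_0 nd_1) (.node 768 nd_2 nd_3)) (.node 1536 (.node 1280 nd_4 nd_5) (.node 1792 nd_6 nd_7))) (.node 3072 (.node 2560 (.node 2304 nd_8 nd_9) (.node 2816 nd_10 nd_11)) (.node 3584 (.node 3328 nd_12 nd_13) (.node 3840 nd_14 nd_15)))) (.node 6144 (.node 5120 (.node 4608 (.node 4352 nd_16 nd_17) (.node 4864 nd_18 nd_19)) (.node 5632 (.node 5376 nd_20 nd_21) (.node 5888 nd_22 nd_23))) (.node 7168 (.node 6656 (.node 6400 nd_24 nd_25) (.node 6912 nd_26 nd_27)) (.node 7680 (.node 7424 nd_28 nd_29) (.node 7936 nd_30 nd_31)))))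

/-- fact table -/
def fct : Tr := (.node 12000 fct0 fct1)

/-- block of `live` -/
def live_0 : Tr := .node 128 (.node 64 (.node 32 (.node 16 (.node 8 (.node 4 (.node 2 (.node 1 (.leaf 0) (.leaf 1)) (.node 3 (.leaf 2) (.leaf 3))) (.node 6 (.node 5 (.leaf 4) (.leaf 5)) (.node 7 (.leaf 6) (.leaf 7)))) (.node 12 (.node 10 (.node 9 (.leaf 8) (.leaf 9)) (.node 11 (.leaf 10) (.leaf 14))) (.node 14 (.node 13 (.leaf 15) (.leaf 16)) (.node 15 (.leaf 17) (.leaf 18))))) (.node 24 (.node 20 (.node 18 (.node 17 (.leaf 19) (.leaf 24)) (.node 19 (.leaf 25) (.leaf 26))) (.node 22 (.node 21 (.leaf 27) (.leaf 28)) (.node 23 (.leaf 30) (.leaf 31)))) (.node 28 (.node 26 (.node 25 (.leaf 32) (.leaf 34)) (.node 27 (.leaf 35) (.leaf 42))) (.node 30 (.node 29 (.leaf 49) (.leaf 50)) (.node 31 (.leaf 53) (.leaf 54)))))) (.node 48 (.node 40 (.node 36 (.node 34 (.node 33 (.leaf 55) (.leaf 56)) (.node 35 (.leaf 57) (.leaf 58))) (.node 38 (.node 37 (.leaf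 59) (.leaf 60)) (.node 39 (.leaf 61) (.leaf 63)))) (.node 44 (.node 42 (.node 41 (.leaf 64) (.leaf 67)) (.node 43 (.leaf 68) (.leaf 86))) (.node 46 (.node 45 (.leaf 87) (.leaf 88)) (.node 47 (.leaf 89) (.leaf 90))))) (.node 56 (.node 52 (.node 50 (.node 49 (.leaf 91) (.leaf 92)) (.node 51 (.leaf 93) (.leaf 94))) (.node 54 (.node 53 (.leaf 95) (.leaf 96)) (.node 55 (.leaf 97) (.leaf 98)))) (.node 60 (.node 58 (.node 57 (.leaf 99) (.leaf 100)) (.node 59 (.leaf 101) (.leaf 106))) (.node 62 (.node 61 (.leaf 112) (.leaf 113)) (.node 63 (.leaf 114) (.leaf 115))))))) (.node 96 (.node 80 (.node 72 (.node 68 (.node 66 (.node 65 (.leaf 116) (.leaf 117)) (.node 67 (.leaf 120) (.leaf 121))) (.node 70 (.node 69 (.leaf 122) (.leaf 123)) (.node 71 (.leaf 124) (.leaf 128)))) (.node 76 (.node 74 (.node 73 (.leaf 129) (.leaf 130)) (.node 75 (.leaf 131) (.leaf 138))) (.node 78 (.node 77 (.leaf 139) (.leaf 150)) (.node 79 (.leaf 151) (.leaf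 174))))) (.node 88 (.node 84 (.node 82 (.node 81 (.leaf 175) (.leaf 180)) (.node 83 (.leaf 181) (.leaf 192))) (.node 86 (.node 85 (.leaf 193) (.leaf 194)) (.node 87 (.leaf 195) (.leaf 196)))) (.node 92 (.node 90 (.node 89 (.leaf 201) (.leaf 202)) (.node 91 (.leaf 203) (.leaf 204))) (.node 94 (.node 93 (.leaf 205) (.leaf 206)) (.node 95 (.leaf 207) (.leaf 208)))))) (.node 112 (.node 104 (.node 100 (.node 98 (.node 97 (.leaf 209) (.leaf 212)) (.node 99 (.leaf 213) (.leaf 214))) (.node 102 (.node 101 (.leaf 215) (.leaf 216)) (.node 103 (.leaf 217) (.leaf 218)))) (.node 108 (.node 106 (.node 105 (.leaf 219) (.leaf 224)) (.node 107 (.leaf 225) (.leaf 230))) (.node 110 (.node 109 (.leaf 231) (.leaf 232)) (.node 111 (.leaf 237) (.leaf 238))))) (.node 120 (.node 116 (.node 114 (.node 113 (.leaf 239) (.leaf 240)) (.node 115 (.leaf 241) (.leaf 242))) (.node 118 (.node 117 (.leaf 244) (.leaf 245)) (.node 119 (.leaf 255) (.leaf 256))))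 (.node 124 (.node 122 (.node 121 (.leaf 306) (.leaf 307)) (.node 123 (.leaf 308) (.leaf 309))) (.node 126 (.node 125 (.leaf 310) (.leaf 311)) (.node 127 (.leaf 312) (.leaf 316)))))))) (.node 192 (.node 160 (.node 144 (.node 136 (.node 132 (.node 130 (.node 129 (.leaf 317) (.leaf 322)) (.node 131 (.leaf 323) (.leaf 324))) (.node 134 (.node 133 (.leaf 325) (.leaf 326)) (.node 135 (.leaf 327) (.leaf 328)))) (.node 140 (.node 138 (.node 137 (.leaf 329) (.leaf 334)) (.node 139 (.leaf 335) (.leaf 346))) (.node 142 (.node 141 (.leaf 347) (.leaf 350)) (.node 143 (.leaf 351) (.leaf 352))))) (.node 152 (.node 148 (.node 146 (.node 145 (.leaf 353) (.leaf 356)) (.node 147 (.leaf 357) (.leaf 366))) (.node 150 (.node 149 (.leaf 367) (.leaf 368)) (.node 151 (.leaf 369) (.leaf 400)))) (.node 156 (.node 154 (.node 153 (.leaf 401) (.leaf 404)) (.node 155 (.leaf 405) (.leaf 406))) (.node 158 (.node 157 (.leaf 407) (.leaf 408)) (.node 159 (.leaf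 409) (.leaf 410)))))) (.node 176 (.node 168 (.node 164 (.node 162 (.node 161 (.leaf 411) (.leaf 412)) (.node 163 (.leaf 413) (.leaf 414))) (.node 166 (.node 165 (.leaf 415) (.leaf 416)) (.node 167 (.leaf 417) (.leaf 420)))) (.node 172 (.node 170 (.node 169 (.leaf 421) (.leaf 428)) (.node 171 (.leaf 429) (.leaf 434))) (.node 174 (.node 173 (.leaf 435) (.leaf 443)) (.node 175 (.leaf 444) (.leaf 445))))) (.node 184 (.node 180 (.node 178 (.node 177 (.leaf 446) (.leaf 447)) (.node 179 (.leaf 448) (.leaf 449))) (.node 182 (.node 181 (.leaf 450) (.leaf 464)) (.node 183 (.leaf 465) (.leaf 466)))) (.node 188 (.node 186 (.node 185 (.leaf 467) (.leaf 581)) (.node 187 (.leaf 582) (.leaf 583))) (.node 190 (.node 189 (.leaf 584) (.leaf 585)) (.node 191 (.leaf 586) (.leaf 615))))))) (.node 224 (.node 208 (.node 200 (.node 196 (.node 194 (.node 193 (.leaf 616) (.leaf 619)) (.node 195 (.leaf 620) (.leaf 621))) (.node 198 (.node 197 (.leaf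 622) (.leaf 627)) (.node 199 (.leaf 628) (.leaf 645)))) (.node 204 (.node 202 (.node 201 (.leaf 646) (.leaf 649)) (.node 203 (.leaf 650) (.leaf 654))) (.node 206 (.node 205 (.leaf 655) (.leaf 656)) (.node 207 (.leaf 657) (.leaf 662))))) (.node 216 (.node 212 (.node 210 (.node 209 (.leaf 663) (.leaf 666)) (.node 211 (.leaf 667) (.leaf 671))) (.node 214 (.node 213 (.leaf 672) (.leaf 673)) (.node 215 (.leaf 674) (.leaf 677)))) (.node 220 (.node 218 (.node 217 (.leaf 681) (.leaf 682)) (.node 219 (.leaf 683) (.leaf 684))) (.node 222 (.node 221 (.leaf 697) (.leaf 698)) (.node 223 (.leaf 699) (.leaf 700)))))) (.node 240 (.node 232 (.node 228 (.node 226 (.node 225 (.leaf 714) (.leaf 716)) (.node 227 (.leaf 717) (.leaf 718))) (.node 230 (.node 229 (.leaf 719) (.leaf 734)) (.node 231 (.leaf 735) (.leaf 754)))) (.node 236 (.node 234 (.node 233 (.leaf 755) (.leaf 760)) (.node 235 (.leaf 761) (.leaf 768))) (.node 238 (.node 237 (.leaf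 769) (.leaf 772)) (.node 239 (.leaf 773) (.leaf 779))))) (.node 248 (.node 244 (.node 242 (.node 241 (.leaf 780) (.leaf 781)) (.node 243 (.leaf 782) (.leaf 936))) (.node 246 (.node 245 (.leaf 937) (.leaf 940)) (.node 247 (.leaf 941) (.leaf 942)))) (.node 252 (.node 250 (.node 249 (.leaf 943) (.leaf 946)) (.node 251 (.leaf 947) (.leaf 956))) (.node 254 (.node 253 (.leaf 957) (.leaf 961)) (.node 255 (.leaf 1000) (.leaf 1001))))))))

/-- block of `live` -/
def live_1 : Tr := .node 304 (.node 280 (.node 268 (.node 262 (.node 259 (.node 257 (.leaf 1002) (.node 258 (.leaf 1003) (.leaf 1010))) (.node 260 (.leaf 1011) (.node 261 (.leaf 1019) (.leaf 1020)))) (.node 265 (.node 263 (.leaf 1021) (.node 264 (.leaf 1071) (.leaf 1072))) (.node 266 (.leaf 1075) (.node 267 (.leaf 1076) (.leaf 1086))))) (.node 274 (.node 271 (.node 269 (.leaf 1087) (.node 270 (.leaf 1088) (.leaf 1089))) (.node 272 (.leaf 1094) (.node 273 (.leaf 1095) (.leaf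 1224)))) (.node 277 (.node 275 (.leaf 1225) (.node 276 (.leaf 1230) (.leaf 1231))) (.node 278 (.leaf 1236) (.node 279 (.leaf 1237) (.leaf 1240)))))) (.node 292 (.node 286 (.node 283 (.node 281 (.leaf 1241) (.node 282 (.leaf 1243) (.leaf 1244))) (.node 284 (.leaf 1249) (.node 285 (.leaf 1250) (.leaf 1253)))) (.node 289 (.node 287 (.leaf 1254) (.node 288 (.leaf 1260) (.leaf 1261))) (.node 290 (.leaf 1269) (.node 291 (.leaf 1270) (.leaf 1276))))) (.node 298 (.node 295 (.node 293 (.leaf 1277) (.node 294 (.leaf 1282) (.leaf 1283))) (.node 296 (.leaf 1317) (.node 297 (.leaf 1318) (.leaf 1332)))) (.node 301 (.node 299 (.leaf 1333) (.node 300 (.leaf 1339) (.leaf 1340))) (.node 302 (.leaf 1342) (.node 303 (.leaf 1344) (.leaf 1345))))))) (.node 328 (.node 316 (.node 310 (.node 307 (.node 305 (.leaf 1355) (.node 306 (.leaf 1356) (.leaf 1358))) (.node 308 (.leaf 1359) (.node 309 (.leaf 1361) (.leaf 1396)))) (.node 313 (.node 311 (.leaf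 1403) (.node 312 (.leaf 1404) (.leaf 1405))) (.node 314 (.leaf 1629) (.node 315 (.leaf 1632) (.leaf 1633))))) (.node 322 (.node 319 (.node 317 (.leaf 1705) (.node 318 (.leaf 1706) (.leaf 1777))) (.node 320 (.leaf 1778) (.node 321 (.leaf 1789) (.leaf 1790)))) (.node 325 (.node 323 (.leaf 1792) (.node 324 (.leaf 1793) (.leaf 1795))) (.node 326 (.leaf 1796) (.node 327 (.leaf 1801) (.leaf 1802)))))) (.node 340 (.node 334 (.node 331 (.node 329 (.leaf 1808) (.node 330 (.leaf 1836) (.leaf 1844))) (.node 332 (.leaf 1845) (.node 333 (.leaf 1870) (.leaf 1871)))) (.node 337 (.node 335 (.leaf 2071) (.node 336 (.leaf 2072) (.leaf 2576))) (.node 338 (.leaf 2829) (.node 339 (.leaf 2830) (.leaf 3003))))) (.node 346 (.node 343 (.node 341 (.leaf 3013) (.node 342 (.leaf 3014) (.leaf 3103))) (.node 344 (.leaf 3104) (.node 345 (.leaf 3120) (.leaf 3121)))) (.node 349 (.node 347 (.leaf 3182) (.node 348 (.leaf 3183) (.leaf 3209))) (.node 350 (.leaf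 3210) (.node 351 (.leaf 3293) (.leaf 3294)))))))

/-- live nodes -/
def live : Tr := (.node 256 live_0 live_1)

/-- block of `tab` -/
def tab_0 : Tr := .node 128 (.node 64 (.node 32 (.node 16 (.node 8 (.node 4 (.node 2 (.node 1 (.leaf 0x3d220000) (.leaf 0x3d230000)) (.node 3 (.leaf 0x3d240000) (.leaf 0x3d250001))) (.node 6 (.node 5 (.leaf 0x3d260001) (.leaf 0x3d270002)) (.node 7 (.leaf 0x3d280004) (.leaf 0x3d290000)))) (.node 12 (.node 10 (.node 9 (.leaf 0x3d2a0003) (.leaf 0x3d2b0006)) (.node 11 (.leaf 0x3d2c0001) (.leaf 0x3d2d0008))) (.node 14 (.node 13 (.leaf 0x3d2e0002) (.leaf 0x3d2f000a)) (.node 15 (.leaf 0x3d300005) (.leaf 0x3d310009))))) (.node 24 (.node 20 (.node 18 (.node 17 (.leaf 0x3d320005) (.leaf 0x3d330001)) (.node 19 (.leaf 0x3d34000b) (.leaf 0x3d35000f))) (.node 22 (.node 21 (.leaf 0x3d360004) (.leaf 0x3d370003)) (.node 23 (.leaf 0x3d38000a) (.leaf 0x3d390010)))) (.node 28 (.node 26 (.node 25 (.leaf 0x3d3a0007)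 (.leaf 0x3d3b000d)) (.node 27 (.leaf 0x3d3c0002) (.leaf 0x3d3d0011))) (.node 30 (.node 29 (.leaf 0x3d3e0006) (.leaf 0x3d3f0013)) (.node 31 (.leaf 0x3d400015) (.leaf 0x3d410012)))))) (.node 48 (.node 40 (.node 36 (.node 34 (.node 33 (.leaf 0x3d420009) (.leaf 0x3d430016)) (.node 35 (.leaf 0x3d440018) (.leaf 0x3d450002))) (.node 38 (.node 37 (.leaf 0x3d460008) (.leaf 0x3d470019)) (.node 39 (.leaf 0x3d480010) (.leaf 0x3d490003)))) (.node 44 (.node 42 (.node 41 (.leaf 0x3d4a000a) (.leaf 0x3d4b0005)) (.node 43 (.leaf 0x3d4c0003) (.leaf 0x3d4d001b))) (.node 46 (.node 45 (.leaf 0x3d4e000c) (.leaf 0x3d4f0004)) (.node 47 (.leaf 0x3d50000d) (.leaf 0x3d51001c))))) (.node 56 (.node 52 (.node 50 (.node 49 (.leaf 0x3d52000b) (.leaf 0x3d530015)) (.node 51 (.leaf 0x3d54001e) (.leaf 0x3d55001d))) (.node 54 (.node 53 (.leaf 0x3d56000e) (.leaf 0x3d57000b)) (.node 55 (.leaf 0x3d580006) (.leaf 0x3d590020)))) (.node 60 (.node 58 (.node 57 (.leaf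 0x3d5a000d) (.leaf 0x3d5b0022)) (.node 59 (.leaf 0x3d5c0024) (.leaf 0x3d5d0021))) (.node 62 (.node 61 (.leaf 0x3d5e0010) (.leaf 0x3d5f0026)) (.node 63 (.leaf 0x3d600027) (.leaf 0x3d610004))))))) (.node 96 (.node 80 (.node 72 (.node 68 (.node 66 (.node 65 (.leaf 0x3d62000f) (.leaf 0x3d630009)) (.node 67 (.leaf 0x3d640029) (.leaf 0x3d650005))) (.node 70 (.node 69 (.leaf 0x3d660012) (.leaf 0x3d67002b)) (.node 71 (.leaf 0x3d68002d) (.leaf 0x3d690006)))) (.node 76 (.node 74 (.node 73 (.leaf 0x3d6a0011) (.leaf 0x3d6b002f)) (.node 75 (.leaf 0x3d6c0031) (.leaf 0x3d6d0007))) (.node 78 (.node 77 (.leaf 0x3d6e0014) (.leaf 0x3d6f0033)) (.node 79 (.leaf 0x3d700007) (.leaf 0x3d710035))))) (.node 88 (.node 84 (.node 82 (.node 81 (.leaf 0x3d720013) (.leaf 0x3d730037)) (.node 83 (.leaf 0x3d740039) (.leaf 0x3d750036))) (.node 86 (.node 85 (.leaf 0x3d760015) (.leaf 0x3d770007)) (.node 87 (.leaf 0x3d78000c) (.leaf 0x3d79003b)))) (.node 92 (.node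 90 (.node 89 (.leaf 0x3d7a0017) (.leaf 0x3d7b003c)) (.node 91 (.leaf 0x3d7c0008) (.leaf 0x3d7d003e))) (.node 94 (.node 93 (.leaf 0x3d7e0016) (.leaf 0x3d7f0040)) (.node 95 (.leaf 0x3d800032) (.leaf 0x3d81003f)))))) (.node 112 (.node 104 (.node 100 (.node 98 (.node 97 (.leaf 0x3d820018) (.leaf 0x3d830008)) (.node 99 (.leaf 0x3d840042) (.leaf 0x3d850046))) (.node 102 (.node 101 (.leaf 0x3d86001a) (.leaf 0x3d870047)) (.node 103 (.leaf 0x3d880009) (.leaf 0x3d890049)))) (.node 108 (.node 106 (.node 105 (.leaf 0x3d8a0019) (.leaf 0x3d8b0043)) (.node 107 (.leaf 0x3d8c002e) (.leaf 0x3d8d004a))) (.node 110 (.node 109 (.leaf 0x3d8e001b) (.leaf 0x3d8f004d)) (.node 111 (.leaf 0x3d90004e) (.leaf 0x3d91000a))))) (.node 120 (.node 116 (.node 114 (.node 113 (.leaf 0x3d92001d) (.leaf 0x3d93004f)) (.node 115 (.leaf 0x3d94002b) (.leaf 0x3d95000b))) (.node 118 (.node 117 (.leaf 0x3d96001c) (.leaf 0x3d970031)) (.node 119 (.leaf 0x3d980051) (.leaf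 0x3d99000c)))) (.node 124 (.node 122 (.node 121 (.leaf 0x3d9a001f) (.leaf 0x3d9b000c)) (.node 123 (.leaf 0x3d9c0033) (.leaf 0x3d9d0053))) (.node 126 (.node 125 (.leaf 0x3d9e001e) (.leaf 0x3d9f0055)) (.node 127 (.leaf 0x3da00057) (.leaf 0x3da10054)))))))) (.node 192 (.node 160 (.node 144 (.node 136 (.node 132 (.node 130 (.node 129 (.leaf 0x3da20021) (.leaf 0x3da30059)) (.node 131 (.leaf 0x3da4005b) (.leaf 0x3da5000d))) (.node 134 (.node 133 (.leaf 0x3da60020) (.leaf 0x3da7005d)) (.node 135 (.leaf 0x3da8005f) (.leaf 0x3da9000e)))) (.node 140 (.node 138 (.node 137 (.leaf 0x3daa0023) (.leaf 0x3dab0024)) (.node 139 (.leaf 0x3dac000e) (.leaf 0x3dad0061))) (.node 142 (.node 141 (.leaf 0x3dae0022) (.leaf 0x3daf0063)) (.node 143 (.leaf 0x3db00065) (.leaf 0x3db10062))))) (.node 152 (.node 148 (.node 146 (.node 145 (.leaf 0x3db20025) (.leaf 0x3db3000e)) (.node 147 (.leaf 0x3db40022) (.leaf 0x3db50069))) (.node 150 (.node 149 (.leaf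 0x3db60024) (.leaf 0x3db70067)) (.node 151 (.leaf 0x3db80064) (.leaf 0x3db9006a)))) (.node 156 (.node 154 (.node 153 (.leaf 0x3dba0026) (.leaf 0x3dbb006b)) (.node 155 (.leaf 0x3dbc000f) (.leaf 0x3dbd006d))) (.node 158 (.node 157 (.leaf 0x3dbe0028) (.leaf 0x3dbf000f)) (.node 159 (.leaf 0x3dc0006e) (.leaf 0x3dc10072)))))) (.node 176 (.node 168 (.node 164 (.node 162 (.node 161 (.leaf 0x3dc20027) (.leaf 0x3dc30032)) (.node 163 (.leaf 0x3dc40074) (.leaf 0x3dc50073))) (.node 166 (.node 165 (.leaf 0x3dc6002a) (.leaf 0x3dc70010)) (.node 167 (.leaf 0x3dc8004b) (.leaf 0x3dc90076)))) (.node 172 (.node 170 (.node 169 (.leaf 0x3dca0029) (.leaf 0x3dcb0050)) (.node 171 (.leaf 0x3dcc006c) (.leaf 0x3dcd0077))) (.node 174 (.node 173 (.leaf 0x3dce002c) (.leaf 0x3dcf001c)) (.node 175 (.leaf 0x3dd00011) (.leaf 0x3dd10078))))) (.node 184 (.node 180 (.node 178 (.node 177 (.leaf 0x3dd2002b) (.leaf 0x3dd3007a)) (.node 179 (.leaf 0x3dd4007c) (.leaf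 0x3dd50079))) (.node 182 (.node 181 (.leaf 0x3dd6002e) (.leaf 0x3dd70011)) (.node 183 (.leaf 0x3dd8007e) (.leaf 0x3dd9007f)))) (.node 188 (.node 186 (.node 185 (.leaf 0x3dda002d) (.leaf 0x3ddb001a)) (.node 187 (.leaf 0x3ddc0043) (.leaf 0x3ddd0080))) (.node 190 (.node 189 (.leaf 0x3dde0030) (.leaf 0x3ddf0081)) (.node 191 (.leaf 0x3de00012) (.leaf 0x3de10083))))))) (.node 224 (.node 208 (.node 200 (.node 196 (.node 194 (.node 193 (.leaf 0x3de2002f) (.leaf 0x3de30085)) (.node 195 (.leaf 0x3de40087) (.leaf 0x3de50084))) (.node 198 (.node 197 (.leaf 0x3de60032) (.leaf 0x3de70012)) (.node 199 (.leaf 0x3de8001d) (.leaf 0x3de90089)))) (.node 204 (.node 202 (.node 201 (.leaf 0x3dea0031) (.leaf 0x3deb0017)) (.node 203 (.leaf 0x3dec0028) (.leaf 0x3ded008a))) (.node 206 (.node 205 (.leaf 0x3dee0034) (.leaf 0x3def001e)) (.node 207 (.leaf 0x3df00013) (.leaf 0x3df10081))))) (.node 216 (.node 212 (.node 210 (.node 209 (.leaf 0x3df20033)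 (.leaf 0x3df30034)) (.node 211 (.leaf 0x3df40034) (.leaf 0x3df50082))) (.node 214 (.node 213 (.leaf 0x3df60036) (.leaf 0x3df7008b)) (.node 215 (.leaf 0x3df80071) (.leaf 0x3df90013)))) (.node 220 (.node 218 (.node 217 (.leaf 0x3dfa0035) (.leaf 0x3dfb008d)) (.node 219 (.leaf 0x3dfc008f) (.leaf 0x3dfd0014))) (.node 222 (.node 221 (.leaf 0x3dfe0038) (.leaf 0x3dff0057)) (.node 223 (.leaf 0x3e000014) (.leaf 0x3e010091)))))) (.node 240 (.node 232 (.node 228 (.node 226 (.node 225 (.leaf 0x3e020037) (.leaf 0x3e030058)) (.node 227 (.leaf 0x3e040058) (.leaf 0x3e050092))) (.node 230 (.node 229 (.leaf 0x3e06003a) (.leaf 0x3e070014)) (.node 231 (.leaf 0x3e080055) (.leaf 0x3e090093)))) (.node 236 (.node 234 (.node 233 (.leaf 0x3e0a0039) (.leaf 0x3e0b0068)) (.node 235 (.leaf 0x3e0c0095) (.leaf 0x3e0d0094))) (.node 238 (.node 237 (.leaf 0x3e0e003b) (.leaf 0x3e0f005c)) (.node 239 (.leaf 0x3e10005a) (.leaf 0x3e110015))))) (.node 248 (.node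 244 (.node 242 (.node 241 (.leaf 0x3e12003d) (.leaf 0x3e130044)) (.node 243 (.leaf 0x3e140016) (.leaf 0x3e150097))) (.node 246 (.node 245 (.leaf 0x3e16003c) (.leaf 0x3e170061)) (.node 247 (.leaf 0x3e180099) (.leaf 0x3e190098)))) (.node 252 (.node 250 (.node 249 (.leaf 0x3e1a003f) (.leaf 0x3e1b009b)) (.node 251 (.leaf 0x3e1c009d) (.leaf 0x3e1d0016))) (.node 254 (.node 253 (.leaf 0x3e1e003e) (.leaf 0x3e1f009f)) (.node 255 (.leaf 0x3e2000a1) (.leaf 0x3e210017))))))))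

/-- block of `tab` -/
def tab_1 : Tr := .node 384 (.node 320 (.node 288 (.node 272 (.node 264 (.node 260 (.node 258 (.node 257 (.leaf 0x3e220041) (.leaf 0x3e2300a3)) (.node 259 (.leaf 0x3e240017) (.leaf 0x3e2500a5))) (.node 262 (.node 261 (.leaf 0x3e260040) (.leaf 0x3e270091)) (.node 263 (.leaf 0x3e2800a7) (.leaf 0x3e2900a6)))) (.node 268 (.node 266 (.node 265 (.leaf 0x3e2a0043) (.leaf 0x3e2b0018)) (.node 267 (.leaf 0x3e2c0044) (.leaf 0x3e2d00a9))) (.node 270 (.node 269 (.leaf 0x3e2e0042) (.leaf 0x3e2f002e)) (.node 271 (.leaf 0x3e30001a) (.leaf 0x3e3100aa))))) (.node 280 (.node 276 (.node 274 (.node 273 (.leaf 0x3e320045) (.leaf 0x3e330042)) (.node 275 (.leaf 0x3e34003c) (.leaf 0x3e3500ab))) (.node 278 (.node 277 (.leaf 0x3e360044) (.leaf 0x3e370094)) (.node 279 (.leaf 0x3e380053) (.leaf 0x3e3900ac)))) (.node 284 (.node 282 (.node 281 (.leaf 0x3e3a0046) (.leaf 0x3e3b006d)) (.node 283 (.leaf 0x3e3c0076) (.leaf 0x3e3d0018)))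 (.node 286 (.node 285 (.leaf 0x3e3e0048) (.leaf 0x3e3f004b)) (.node 287 (.leaf 0x3e400019) (.leaf 0x3e4100ad)))))) (.node 304 (.node 296 (.node 292 (.node 290 (.node 289 (.leaf 0x3e420047) (.leaf 0x3e4300af)) (.node 291 (.leaf 0x3e4400b1) (.leaf 0x3e4500ae))) (.node 294 (.node 293 (.leaf 0x3e46004a) (.leaf 0x3e4700b3)) (.node 295 (.leaf 0x3e48006d) (.leaf 0x3e490019)))) (.node 300 (.node 298 (.node 297 (.leaf 0x3e4a0049) (.leaf 0x3e4b0077)) (.node 299 (.leaf 0x3e4c008a) (.leaf 0x3e4d001a))) (.node 302 (.node 301 (.leaf 0x3e4e004c) (.leaf 0x3e4f0029)) (.node 303 (.leaf 0x3e500047) (.leaf 0x3e5100b5))))) (.node 312 (.node 308 (.node 306 (.node 305 (.leaf 0x3e52004b) (.leaf 0x3e5300b7)) (.node 307 (.leaf 0x3e5400b0) (.leaf 0x3e5500b6))) (.node 310 (.node 309 (.leaf 0x3e56004e) (.leaf 0x3e57005b)) (.node 311 (.leaf 0x3e58001b) (.leaf 0x3e5900a1)))) (.node 316 (.node 314 (.node 313 (.leaf 0x3e5a004d) (.leaf 0x3e5b001b)) (.node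 315 (.leaf 0x3e5c0059) (.leaf 0x3e5d00a2))) (.node 318 (.node 317 (.leaf 0x3e5e0050) (.leaf 0x3e5f007e)) (.node 319 (.leaf 0x3e60001c) (.leaf 0x3e61009e))))))) (.node 352 (.node 336 (.node 328 (.node 324 (.node 322 (.node 321 (.leaf 0x3e62004f) (.leaf 0x3e63006c)) (.node 323 (.leaf 0x3e64002a) (.leaf 0x3e65009d))) (.node 326 (.node 325 (.leaf 0x3e660052) (.leaf 0x3e67001d)) (.node 327 (.leaf 0x3e680081) (.leaf 0x3e6900b9)))) (.node 332 (.node 330 (.node 329 (.leaf 0x3e6a0051) (.leaf 0x3e6b00bb)) (.node 331 (.leaf 0x3e6c00bd) (.leaf 0x3e6d00ba))) (.node 334 (.node 333 (.leaf 0x3e6e0054) (.leaf 0x3e6f0045)) (.node 335 (.leaf 0x3e7000bf) (.leaf 0x3e71001e))))) (.node 344 (.node 340 (.node 338 (.node 337 (.leaf 0x3e720053) (.leaf 0x3e73009a)) (.node 339 (.leaf 0x3e7400c1) (.leaf 0x3e75001f))) (.node 342 (.node 341 (.leaf 0x3e760056) (.leaf 0x3e770039)) (.node 343 (.leaf 0x3e78001f) (.leaf 0x3e7900c3)))) (.node 348 (.node 346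 (.node 345 (.leaf 0x3e7a0055) (.leaf 0x3e7b00b4)) (.node 347 (.leaf 0x3e7c0066) (.leaf 0x3e7d00c4))) (.node 350 (.node 349 (.leaf 0x3e7e0058) (.leaf 0x3e7f001f)) (.node 351 (.leaf 0x3e800037) (.leaf 0x3e8100c5)))))) (.node 368 (.node 360 (.node 356 (.node 354 (.node 353 (.leaf 0x3e820057) (.leaf 0x3e830038)) (.node 355 (.leaf 0x3e840038) (.leaf 0x3e8500c6))) (.node 358 (.node 357 (.leaf 0x3e86005a) (.leaf 0x3e87004e)) (.node 359 (.leaf 0x3e880020) (.leaf 0x3e8900c7)))) (.node 364 (.node 362 (.node 361 (.leaf 0x3e8a0059) (.leaf 0x3e8b003b)) (.node 363 (.leaf 0x3e8c00c9) (.leaf 0x3e8d00c8))) (.node 366 (.node 365 (.leaf 0x3e8e005c) (.leaf 0x3e8f0020)) (.node 367 (.leaf 0x3e90004d) (.leaf 0x3e9100cb))))) (.node 376 (.node 372 (.node 370 (.node 369 (.leaf 0x3e92005b) (.leaf 0x3e9300cd)) (.node 371 (.leaf 0x3e94003b) (.leaf 0x3e9500cc))) (.node 374 (.node 373 (.leaf 0x3e96005e) (.leaf 0x3e97005f)) (.node 375 (.leaf 0x3e980021)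 (.leaf 0x3e9900cf)))) (.node 380 (.node 378 (.node 377 (.leaf 0x3e9a005d) (.leaf 0x3e9b00b0)) (.node 379 (.leaf 0x3e9c00d1) (.leaf 0x3e9d00d0))) (.node 382 (.node 381 (.leaf 0x3e9e0060) (.leaf 0x3e9f0021)) (.node 383 (.leaf 0x3ea0005d) (.leaf 0x3ea100d3)))))))) (.node 448 (.node 416 (.node 400 (.node 392 (.node 388 (.node 386 (.node 385 (.leaf 0x3ea2005f) (.leaf 0x3ea300d5)) (.node 387 (.leaf 0x3ea400af) (.leaf 0x3ea500d4))) (.node 390 (.node 389 (.leaf 0x3ea60062) (.leaf 0x3ea700d7)) (.node 391 (.leaf 0x3ea8003d) (.leaf 0x3ea90022)))) (.node 396 (.node 394 (.node 393 (.leaf 0x3eaa0061) (.leaf 0x3eab00d8)) (.node 395 (.leaf 0x3eac00da) (.leaf 0x3ead0023))) (.node 398 (.node 397 (.leaf 0x3eae0064) (.leaf 0x3eaf0095)) (.node 399 (.leaf 0x3eb00023) (.leaf 0x3eb100b0))))) (.node 408 (.node 404 (.node 402 (.node 401 (.leaf 0x3eb20063) (.leaf 0x3eb30025)) (.node 403 (.leaf 0x3eb400b4) (.leaf 0x3eb500af))) (.node 406 (.node 405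 (.leaf 0x3eb60066) (.leaf 0x3eb70023)) (.node 407 (.leaf 0x3eb80068) (.leaf 0x3eb900dc)))) (.node 412 (.node 410 (.node 409 (.leaf 0x3eba0065) (.leaf 0x3ebb0056)) (.node 411 (.leaf 0x3ebc0067) (.leaf 0x3ebd00dd))) (.node 414 (.node 413 (.leaf 0x3ebe0068) (.leaf 0x3ebf0066)) (.node 415 (.leaf 0x3ec00025) (.leaf 0x3ec100de)))))) (.node 432 (.node 424 (.node 420 (.node 418 (.node 417 (.leaf 0x3ec20067) (.leaf 0x3ec30065)) (.node 419 (.leaf 0x3ec4003a) (.leaf 0x3ec500df))) (.node 422 (.node 421 (.leaf 0x3ec6006a) (.leaf 0x3ec7006f)) (.node 423 (.leaf 0x3ec800e0) (.leaf 0x3ec90024)))) (.node 428 (.node 426 (.node 425 (.leaf 0x3eca0069) (.leaf 0x3ecb00e1)) (.node 427 (.leaf 0x3ecc00e3) (.leaf 0x3ecd0025))) (.node 430 (.node 429 (.leaf 0x3ece006c) (.leaf 0x3ecf0070)) (.node 431 (.leaf 0x3ed00026) (.leaf 0x3ed100e5))))) (.node 440 (.node 436 (.node 434 (.node 433 (.leaf 0x3ed2006b) (.leaf 0x3ed3002a)) (.node 435 (.leaf 0x3ed40050)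 (.leaf 0x3ed500e6))) (.node 438 (.node 437 (.leaf 0x3ed6006d) (.leaf 0x3ed70049)) (.node 439 (.leaf 0x3ed80046) (.leaf 0x3ed90026)))) (.node 444 (.node 442 (.node 441 (.leaf 0x3eda006f) (.leaf 0x3edb0027)) (.node 443 (.leaf 0x3edc0070) (.leaf 0x3edd00e7))) (.node 446 (.node 445 (.leaf 0x3ede006e) (.leaf 0x3edf0090)) (.node 447 (.leaf 0x3ee00069) (.leaf 0x3ee100e8))))))) (.node 480 (.node 464 (.node 456 (.node 452 (.node 450 (.node 449 (.leaf 0x3ee20071) (.leaf 0x3ee3006e)) (.node 451 (.leaf 0x3ee4006b) (.leaf 0x3ee500e9))) (.node 454 (.node 453 (.leaf 0x3ee60070) (.leaf 0x3ee70035)) (.node 455 (.leaf 0x3ee800c4) (.leaf 0x3ee900ea)))) (.node 460 (.node 458 (.node 457 (.leaf 0x3eea0073) (.leaf 0x3eeb0080)) (.node 459 (.leaf 0x3eec00eb) (.leaf 0x3eed0027))) (.node 462 (.node 461 (.leaf 0x3eee0072) (.leaf 0x3eef00a2)) (.node 463 (.leaf 0x3ef000ed) (.leaf 0x3ef10028))))) (.node 472 (.node 468 (.node 466 (.node 465 (.leaf 0x3ef20075)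 (.leaf 0x3ef30028)) (.node 467 (.leaf 0x3ef400a3) (.leaf 0x3ef500ef))) (.node 470 (.node 469 (.leaf 0x3ef60074) (.leaf 0x3ef700f1)) (.node 471 (.leaf 0x3ef800c5) (.leaf 0x3ef900f0)))) (.node 476 (.node 474 (.node 473 (.leaf 0x3efa0077) (.leaf 0x3efb0046)) (.node 475 (.leaf 0x3efc0096) (.leaf 0x3efd0029))) (.node 478 (.node 477 (.leaf 0x3efe0076) (.leaf 0x3eff008a)) (.node 479 (.leaf 0x3f00004a) (.leaf 0x3f01002a)))))) (.node 496 (.node 488 (.node 484 (.node 482 (.node 481 (.leaf 0x3f020079) (.leaf 0x3f0300f3)) (.node 483 (.leaf 0x3f0400f4) (.leaf 0x3f05002b))) (.node 486 (.node 485 (.leaf 0x3f060078) (.leaf 0x3f0700f5)) (.node 487 (.leaf 0x3f0800f7) (.leaf 0x3f09002c)))) (.node 492 (.node 490 (.node 489 (.leaf 0x3f0a007b) (.leaf 0x3f0b007c)) (.node 491 (.leaf 0x3f0c002c) (.leaf 0x3f0d00f9))) (.node 494 (.node 493 (.leaf 0x3f0e007a) (.leaf 0x3f0f00e4)) (.node 495 (.leaf 0x3f1000dc) (.leaf 0x3f1100fa))))) (.node 504 (.node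 500 (.node 498 (.node 497 (.leaf 0x3f12007d) (.leaf 0x3f13002c)) (.node 499 (.leaf 0x3f14007a) (.leaf 0x3f1500fb))) (.node 502 (.node 501 (.leaf 0x3f16007c) (.leaf 0x3f1700de)) (.node 503 (.leaf 0x3f1800d9) (.leaf 0x3f1900fc)))) (.node 508 (.node 506 (.node 505 (.leaf 0x3f1a007e) (.leaf 0x3f1b002d)) (.node 507 (.leaf 0x3f1c004f) (.leaf 0x3f1d00fd))) (.node 510 (.node 509 (.leaf 0x3f1e0080) (.leaf 0x3f1f00e6)) (.node 511 (.leaf 0x3f2000c8) (.leaf 0x3f21002d))))))))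

/-- block of `tab` -/
def tab_2 : Tr := .node 640 (.node 576 (.node 544 (.node 528 (.node 520 (.node 516 (.node 514 (.node 513 (.leaf 0x3f22007f) (.leaf 0x3f2300cb)) (.node 515 (.leaf 0x3f240072) (.leaf 0x3f25002e))) (.node 518 (.node 517 (.leaf 0x3f260082) (.leaf 0x3f270051)) (.node 519 (.leaf 0x3f28002f) (.leaf 0x3f290033)))) (.node 524 (.node 522 (.node 521 (.leaf 0x3f2a0081) (.leaf 0x3f2b00a4)) (.node 523 (.leaf 0x3f2c00a4) (.leaf 0x3f2d0034))) (.node 526 (.node 525 (.leaf 0x3f2e0084) (.leaf 0x3f2f00fe)) (.node 527 (.leaf 0x3f300100) (.leaf 0x3f31002f))))) (.node 536 (.node 532 (.node 530 (.node 529 (.leaf 0x3f320083) (.leaf 0x3f3300ba)) (.node 531 (.leaf 0x3f3400d4) (.leaf 0x3f350030))) (.node 534 (.node 533 (.leaf 0x3f360086) (.leaf 0x3f3700bd)) (.node 535 (.leaf 0x3f380030) (.leaf 0x3f390102)))) (.node 540 (.node 538 (.node 537 (.leaf 0x3f3a0085) (.leaf 0x3f3b00c2)) (.node 539 (.leaf 0x3f3c00c6) (.leaf 0x3f3d0103)))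 (.node 542 (.node 541 (.leaf 0x3f3e0088) (.leaf 0x3f3f0030)) (.node 543 (.leaf 0x3f4000bb) (.leaf 0x3f410104)))))) (.node 560 (.node 552 (.node 548 (.node 546 (.node 545 (.leaf 0x3f420087) (.leaf 0x3f4300df)) (.node 547 (.leaf 0x3f440106) (.leaf 0x3f450105))) (.node 550 (.node 549 (.leaf 0x3f46008a) (.leaf 0x3f4700fd)) (.node 551 (.leaf 0x3f4800fd) (.leaf 0x3f490031)))) (.node 556 (.node 554 (.node 553 (.leaf 0x3f4a0089) (.leaf 0x3f4b004a)) (.node 555 (.leaf 0x3f4c0077) (.leaf 0x3f4d0032))) (.node 558 (.node 557 (.leaf 0x3f4e008c) (.leaf 0x3f4f0107)) (.node 559 (.leaf 0x3f500035) (.leaf 0x3f5100ed))))) (.node 568 (.node 564 (.node 562 (.node 561 (.leaf 0x3f52008b) (.leaf 0x3f530109)) (.node 563 (.leaf 0x3f5400c0) (.leaf 0x3f5500ee))) (.node 566 (.node 565 (.leaf 0x3f56008e) (.leaf 0x3f57010b)) (.node 567 (.leaf 0x3f580036) (.leaf 0x3f59010d)))) (.node 572 (.node 570 (.node 569 (.leaf 0x3f5a008d) (.leaf 0x3f5b00be)) (.node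 571 (.leaf 0x3f5c00c2) (.leaf 0x3f5d010e))) (.node 574 (.node 573 (.leaf 0x3f5e0090) (.leaf 0x3f5f0036)) (.node 575 (.leaf 0x3f60010f) (.leaf 0x3f6100f8))))))) (.node 608 (.node 592 (.node 584 (.node 580 (.node 578 (.node 577 (.leaf 0x3f62008f) (.leaf 0x3f6300e2)) (.node 579 (.leaf 0x3f64006f) (.leaf 0x3f6500f7))) (.node 582 (.node 581 (.leaf 0x3f660092) (.leaf 0x3f6700c5)) (.node 583 (.leaf 0x3f680041) (.leaf 0x3f690037)))) (.node 588 (.node 586 (.node 585 (.leaf 0x3f6a0091) (.leaf 0x3f6b00c6)) (.node 587 (.leaf 0x3f6c00be) (.leaf 0x3f6d0038))) (.node 590 (.node 589 (.leaf 0x3f6e0094) (.leaf 0x3f6f00ce)) (.node 591 (.leaf 0x3f7000b2) (.leaf 0x3f710039))))) (.node 600 (.node 596 (.node 594 (.node 593 (.leaf 0x3f720093) (.leaf 0x3f7300d6)) (.node 595 (.leaf 0x3f740045) (.leaf 0x3f75003a))) (.node 598 (.node 597 (.leaf 0x3f760096) (.leaf 0x3f77003a)) (.node 599 (.leaf 0x3f780063) (.leaf 0x3f7900d8)))) (.node 604 (.node 602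 (.node 601 (.leaf 0x3f7a0095) (.leaf 0x3f7b0076)) (.node 603 (.leaf 0x3f7c00b3) (.leaf 0x3f7d00d9))) (.node 606 (.node 605 (.leaf 0x3f7e0098) (.leaf 0x3f7f0111)) (.node 607 (.leaf 0x3f8000f6) (.leaf 0x3f81003c)))))) (.node 624 (.node 616 (.node 612 (.node 610 (.node 609 (.leaf 0x3f820097) (.leaf 0x3f8300f4)) (.node 611 (.leaf 0x3f840113) (.leaf 0x3f85003d))) (.node 614 (.node 613 (.leaf 0x3f86009a) (.leaf 0x3f87003d)) (.node 615 (.leaf 0x3f8800db) (.leaf 0x3f8900f5)))) (.node 620 (.node 618 (.node 617 (.leaf 0x3f8a0099) (.leaf 0x3f8b0117)) (.node 619 (.leaf 0x3f8c0054) (.leaf 0x3f8d00f6))) (.node 622 (.node 621 (.leaf 0x3f8e009c) (.leaf 0x3f8f0119)) (.node 623 (.leaf 0x3f90003e) (.leaf 0x3f9100ca))))) (.node 632 (.node 628 (.node 626 (.node 625 (.leaf 0x3f92009b) (.leaf 0x3f9300f9)) (.node 627 (.leaf 0x3f94011b) (.leaf 0x3f9500c9))) (.node 630 (.node 629 (.leaf 0x3f96009e) (.leaf 0x3f97003e)) (.node 631 (.leaf 0x3f9800c7)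 (.leaf 0x3f990050)))) (.node 636 (.node 634 (.node 633 (.leaf 0x3f9a009d) (.leaf 0x3f9b00cc)) (.node 635 (.leaf 0x3f9c00aa) (.leaf 0x3f9d004f))) (.node 638 (.node 637 (.leaf 0x3f9e00a0) (.leaf 0x3f9f011f)) (.node 639 (.leaf 0x3fa0003f) (.leaf 0x3fa100bf)))))))) (.node 704 (.node 672 (.node 656 (.node 648 (.node 644 (.node 642 (.node 641 (.leaf 0x3fa2009f) (.leaf 0x3fa30102)) (.node 643 (.leaf 0x3fa4011a) (.leaf 0x3fa500c0))) (.node 646 (.node 645 (.leaf 0x3fa600a2) (.leaf 0x3fa7003f)) (.node 647 (.leaf 0x3fa800a9) (.leaf 0x3fa9004d)))) (.node 652 (.node 650 (.node 649 (.leaf 0x3faa00a1) (.leaf 0x3fab00e5)) (.node 651 (.leaf 0x3fac0073) (.leaf 0x3fad004e))) (.node 654 (.node 653 (.leaf 0x3fae00a4) (.leaf 0x3faf0074)) (.node 655 (.leaf 0x3fb00040) (.leaf 0x3fb10123))))) (.node 664 (.node 660 (.node 658 (.node 657 (.leaf 0x3fb200a3) (.leaf 0x3fb30082)) (.node 659 (.leaf 0x3fb40082) (.leaf 0x3fb50124))) (.node 662 (.node 661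 (.leaf 0x3fb600a6) (.leaf 0x3fb700ef)) (.node 663 (.leaf 0x3fb80125) (.leaf 0x3fb90040)))) (.node 668 (.node 666 (.node 665 (.leaf 0x3fba00a5) (.leaf 0x3fbb00ff)) (.node 667 (.leaf 0x3fbc0114) (.leaf 0x3fbd0041))) (.node 670 (.node 669 (.leaf 0x3fbe00a8) (.leaf 0x3fbf0041)) (.node 671 (.leaf 0x3fc000f1) (.leaf 0x3fc10126)))))) (.node 688 (.node 680 (.node 676 (.node 674 (.node 673 (.leaf 0x3fc200a7) (.leaf 0x3fc30118)) (.node 675 (.leaf 0x3fc400d8) (.leaf 0x3fc50125))) (.node 678 (.node 677 (.leaf 0x3fc600aa) (.leaf 0x3fc700a1)) (.node 679 (.leaf 0x3fc80121) (.leaf 0x3fc90042)))) (.node 684 (.node 682 (.node 681 (.leaf 0x3fca00a9) (.leaf 0x3fcb009e)) (.node 683 (.leaf 0x3fcc0127) (.leaf 0x3fcd0043))) (.node 686 (.node 685 (.leaf 0x3fce00ac) (.leaf 0x3fcf00e9)) (.node 687 (.leaf 0x3fd00129) (.leaf 0x3fd10044))))) (.node 696 (.node 692 (.node 690 (.node 689 (.leaf 0x3fd200ab) (.leaf 0x3fd3011c)) (.node 691 (.leaf 0x3fd4011e)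 (.leaf 0x3fd50045))) (.node 694 (.node 693 (.leaf 0x3fd600ae) (.leaf 0x3fd7012d)) (.node 695 (.leaf 0x3fd8012e) (.leaf 0x3fd90047)))) (.node 700 (.node 698 (.node 697 (.leaf 0x3fda00ad) (.leaf 0x3fdb00d4)) (.node 699 (.leaf 0x3fdc00b6) (.leaf 0x3fdd0048))) (.node 702 (.node 701 (.leaf 0x3fde00b0) (.leaf 0x3fdf0060)) (.node 703 (.leaf 0x3fe00048) (.leaf 0x3fe10064))))))) (.node 736 (.node 720 (.node 712 (.node 708 (.node 706 (.node 705 (.leaf 0x3fe200af) (.leaf 0x3fe3004c)) (.node 707 (.leaf 0x3fe4005e) (.leaf 0x3fe50063))) (.node 710 (.node 709 (.leaf 0x3fe600b2) (.leaf 0x3fe70048)) (.node 711 (.leaf 0x3fe80130) (.leaf 0x3fe90132)))) (.node 716 (.node 714 (.node 713 (.leaf 0x3fea00b1) (.leaf 0x3feb0093)) (.node 715 (.leaf 0x3fec0134) (.leaf 0x3fed0133))) (.node 718 (.node 717 (.leaf 0x3fee00b4) (.leaf 0x3fef0096)) (.node 719 (.leaf 0x3ff00049) (.leaf 0x3ff100e4))))) (.node 728 (.node 724 (.node 722 (.node 721 (.leaf 0x3ff200b3)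 (.leaf 0x3ff30064)) (.node 723 (.leaf 0x3ff40056) (.leaf 0x3ff500e3))) (.node 726 (.node 725 (.leaf 0x3ff600b6) (.leaf 0x3ff7011b)) (.node 727 (.leaf 0x3ff80135) (.leaf 0x3ff9004b)))) (.node 732 (.node 730 (.node 729 (.leaf 0x3ffa00b5) (.leaf 0x3ffb00ae)) (.node 731 (.leaf 0x3ffc00d0) (.leaf 0x3ffd004c))) (.node 734 (.node 733 (.leaf 0x3ffe00b8) (.leaf 0x3fff0116)) (.node 735 (.leaf 0x4000004c) (.leaf 0x40010136)))))) (.node 752 (.node 744 (.node 740 (.node 738 (.node 737 (.leaf 0x400200b7) (.leaf 0x40030138)) (.node 739 (.leaf 0x400400c3) (.leaf 0x40050137))) (.node 742 (.node 741 (.leaf 0x400600ba) (.leaf 0x4007011a)) (.node 743 (.leaf 0x4008010d) (.leaf 0x40090051)))) (.node 748 (.node 746 (.node 745 (.leaf 0x400a00b9) (.leaf 0x400b00d0)) (.node 747 (.leaf 0x400c0084) (.leaf 0x400d0052))) (.node 750 (.node 749 (.leaf 0x400e00bc) (.leaf 0x400f0087)) (.node 751 (.leaf 0x40100052) (.leaf 0x40110111))))) (.node 760 (.node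 756 (.node 754 (.node 753 (.leaf 0x401200bb) (.leaf 0x40130139)) (.node 755 (.leaf 0x401400dd) (.leaf 0x40150112))) (.node 758 (.node 757 (.leaf 0x401600be) (.leaf 0x40170052)) (.node 759 (.leaf 0x40180085) (.leaf 0x4019013a)))) (.node 764 (.node 762 (.node 761 (.leaf 0x401a00bd) (.leaf 0x401b0092)) (.node 763 (.leaf 0x401c008e) (.leaf 0x401d013b))) (.node 766 (.node 765 (.leaf 0x401e00c0) (.leaf 0x401f0053)) (.node 767 (.leaf 0x4020012b) (.leaf 0x4021009f))))))))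

/-- block of `tab` -/
def tab_3 : Tr := .node 896 (.node 832 (.node 800 (.node 784 (.node 776 (.node 772 (.node 770 (.node 769 (.leaf 0x402200bf) (.leaf 0x4023008c)) (.node 771 (.leaf 0x40240109) (.leaf 0x402500a0))) (.node 774 (.node 773 (.leaf 0x402600c2) (.leaf 0x40270054)) (.node 775 (.leaf 0x4028013c) (.leaf 0x402900fe)))) (.node 780 (.node 778 (.node 777 (.leaf 0x402a00c1) (.leaf 0x402b008e)) (.node 779 (.leaf 0x402c0086) (.leaf 0x402d00ff))) (.node 782 (.node 781 (.leaf 0x402e00c4) (.leaf 0x402f00b8)) (.node 783 (.leaf 0x403000ca) (.leaf 0x40310055))))) (.node 792 (.node 788 (.node 786 (.node 785 (.leaf 0x403200c3) (.leaf 0x40330071)) (.node 787 (.leaf 0x403400d2) (.leaf 0x40350056))) (.node 790 (.node 789 (.leaf 0x403600c6) (.leaf 0x40370075)) (.node 791 (.leaf 0x40380091) (.leaf 0x40390057)))) (.node 796 (.node 794 (.node 793 (.leaf 0x403a00c5) (.leaf 0x403b0086)) (.node 795 (.leaf 0x403c0092) (.leaf 0x403d0058)))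 (.node 798 (.node 797 (.leaf 0x403e00c8) (.leaf 0x403f009d)) (.node 799 (.leaf 0x4040011d) (.leaf 0x40410059)))))) (.node 816 (.node 808 (.node 804 (.node 802 (.node 801 (.leaf 0x404200c7) (.leaf 0x4043007f)) (.node 803 (.leaf 0x4044013e) (.leaf 0x4045005a))) (.node 806 (.node 805 (.leaf 0x404600ca) (.leaf 0x4047005a)) (.node 807 (.leaf 0x4048010a) (.leaf 0x4049009c)))) (.node 812 (.node 810 (.node 809 (.leaf 0x404a00c9) (.leaf 0x404b00c3)) (.node 811 (.leaf 0x404c0140) (.leaf 0x404d009b))) (.node 814 (.node 813 (.leaf 0x404e00cc) (.leaf 0x404f0142)) (.node 815 (.leaf 0x40500080) (.leaf 0x4051005b))))) (.node 824 (.node 820 (.node 818 (.node 817 (.leaf 0x405200cb) (.leaf 0x40530144)) (.node 819 (.leaf 0x4054009e) (.leaf 0x4055005c))) (.node 822 (.node 821 (.leaf 0x405600ce) (.leaf 0x4057010a)) (.node 823 (.leaf 0x4058005c) (.leaf 0x405900ec)))) (.node 828 (.node 826 (.node 825 (.leaf 0x405a00cd) (.leaf 0x405b0146)) (.node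 827 (.leaf 0x405c0093) (.leaf 0x405d00eb))) (.node 830 (.node 829 (.leaf 0x405e00d0) (.leaf 0x405f0148)) (.node 831 (.leaf 0x40600145) (.leaf 0x4061005d))))))) (.node 864 (.node 848 (.node 840 (.node 836 (.node 834 (.node 833 (.leaf 0x406200cf) (.leaf 0x406300b6)) (.node 835 (.leaf 0x406400ba) (.leaf 0x4065005e))) (.node 838 (.node 837 (.leaf 0x406600d2) (.leaf 0x4067005e)) (.node 839 (.leaf 0x40680116) (.leaf 0x40690129)))) (.node 844 (.node 842 (.node 841 (.leaf 0x406a00d1) (.leaf 0x406b00c4)) (.node 843 (.leaf 0x406c0107) (.leaf 0x406d012a))) (.node 846 (.node 845 (.leaf 0x406e00d4) (.leaf 0x406f013f)) (.node 847 (.leaf 0x40700149) (.leaf 0x4071005f))))) (.node 856 (.node 852 (.node 850 (.node 849 (.leaf 0x407200d3) (.leaf 0x40730084)) (.node 851 (.leaf 0x407400ae) (.leaf 0x40750060))) (.node 854 (.node 853 (.leaf 0x407600d6) (.leaf 0x40770130)) (.node 855 (.leaf 0x40780060) (.leaf 0x4079014a)))) (.node 860 (.node 858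 (.node 857 (.leaf 0x407a00d5) (.leaf 0x407b012b)) (.node 859 (.leaf 0x407c0094) (.leaf 0x407d014b))) (.node 862 (.node 861 (.leaf 0x407e00d7) (.leaf 0x407f0115)) (.node 863 (.leaf 0x40800061) (.leaf 0x4081012d)))))) (.node 880 (.node 872 (.node 868 (.node 866 (.node 865 (.leaf 0x408200d9) (.leaf 0x408300a8)) (.node 867 (.leaf 0x40840062) (.leaf 0x40850095))) (.node 870 (.node 869 (.leaf 0x408600d8) (.leaf 0x4087007d)) (.node 871 (.leaf 0x40880139) (.leaf 0x40890096)))) (.node 876 (.node 874 (.node 873 (.leaf 0x408a00db) (.leaf 0x408b0062)) (.node 875 (.leaf 0x408c014c) (.leaf 0x408d013f))) (.node 878 (.node 877 (.leaf 0x408e00da) (.leaf 0x408f0099)) (.node 879 (.leaf 0x40900115) (.leaf 0x4091013e))))) (.node 888 (.node 884 (.node 882 (.node 881 (.leaf 0x409200dd) (.leaf 0x4093007b)) (.node 883 (.leaf 0x409400df) (.leaf 0x40950065))) (.node 886 (.node 885 (.leaf 0x409600dc) (.leaf 0x409700bc)) (.node 887 (.leaf 0x409800de)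 (.leaf 0x40990066)))) (.node 892 (.node 890 (.node 889 (.leaf 0x409a00df) (.leaf 0x409b00dd)) (.node 891 (.leaf 0x409c007d) (.leaf 0x409d0067))) (.node 894 (.node 893 (.leaf 0x409e00de) (.leaf 0x409f00dc)) (.node 895 (.leaf 0x40a00088) (.leaf 0x40a10068)))))))) (.node 960 (.node 928 (.node 912 (.node 904 (.node 900 (.node 898 (.node 897 (.leaf 0x40a200e0) (.leaf 0x40a30069)) (.node 899 (.leaf 0x40a40131) (.leaf 0x40a50135))) (.node 902 (.node 901 (.leaf 0x40a600e2) (.leaf 0x40a7014d)) (.node 903 (.leaf 0x40a8006a) (.leaf 0x40a90145)))) (.node 908 (.node 906 (.node 905 (.leaf 0x40aa00e1) (.leaf 0x40ab0131)) (.node 907 (.leaf 0x40ac0090) (.leaf 0x40ad0144))) (.node 910 (.node 909 (.leaf 0x40ae00e4) (.leaf 0x40af006a)) (.node 911 (.leaf 0x40b000f2) (.leaf 0x40b100b4))))) (.node 920 (.node 916 (.node 914 (.node 913 (.leaf 0x40b200e3) (.leaf 0x40b30106)) (.node 915 (.leaf 0x40b4007b) (.leaf 0x40b500b3))) (.node 918 (.node 917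 (.leaf 0x40b600e6) (.leaf 0x40b70126)) (.node 919 (.leaf 0x40b800a2) (.leaf 0x40b9006b)))) (.node 924 (.node 922 (.node 921 (.leaf 0x40ba00e5) (.leaf 0x40bb0128)) (.node 923 (.leaf 0x40bc007f) (.leaf 0x40bd006c))) (.node 926 (.node 925 (.leaf 0x40be00e8) (.leaf 0x40bf00f8)) (.node 927 (.leaf 0x40c00104) (.leaf 0x40c1006e)))))) (.node 944 (.node 936 (.node 932 (.node 930 (.node 929 (.leaf 0x40c200e7) (.leaf 0x40c30113)) (.node 931 (.leaf 0x40c400f3) (.leaf 0x40c5006f))) (.node 934 (.node 933 (.leaf 0x40c600ea) (.leaf 0x40c7014a)) (.node 935 (.leaf 0x40c800ab) (.leaf 0x40c90070)))) (.node 940 (.node 938 (.node 937 (.leaf 0x40ca00e9) (.leaf 0x40cb0143)) (.node 939 (.leaf 0x40cc012f) (.leaf 0x40cd0071))) (.node 942 (.node 941 (.leaf 0x40ce00ec) (.leaf 0x40cf0072)) (.node 943 (.leaf 0x40d00101) (.leaf 0x40d100ce))))) (.node 952 (.node 948 (.node 946 (.node 945 (.leaf 0x40d200eb) (.leaf 0x40d3012e)) (.node 947 (.leaf 0x40d400fb)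 (.leaf 0x40d500cd))) (.node 950 (.node 949 (.leaf 0x40d600ee) (.leaf 0x40d70073)) (.node 951 (.leaf 0x40d8014e) (.leaf 0x40d9008b)))) (.node 956 (.node 954 (.node 953 (.leaf 0x40da00ed) (.leaf 0x40db0100)) (.node 955 (.leaf 0x40dc013a) (.leaf 0x40dd008c))) (.node 958 (.node 957 (.leaf 0x40de00f0) (.leaf 0x40df0122)) (.node 959 (.leaf 0x40e000a5) (.leaf 0x40e10074))))))) (.node 992 (.node 976 (.node 968 (.node 964 (.node 962 (.node 961 (.leaf 0x40e200ef) (.leaf 0x40e30114)) (.node 963 (.leaf 0x40e4010e) (.leaf 0x40e50075))) (.node 966 (.node 965 (.leaf 0x40e600f2) (.leaf 0x40e700a7)) (.node 967 (.leaf 0x40e80075) (.leaf 0x40e90121)))) (.node 972 (.node 970 (.node 969 (.leaf 0x40ea00f1) (.leaf 0x40eb00e3)) (.node 971 (.leaf 0x40ec0110) (.leaf 0x40ed0122))) (.node 974 (.node 973 (.leaf 0x40ee00f4) (.leaf 0x40ef00e8)) (.node 975 (.leaf 0x40f00078) (.leaf 0x40f1014c))))) (.node 984 (.node 980 (.node 978 (.node 977 (.leaf 0x40f200f3)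 (.leaf 0x40f30078)) (.node 979 (.leaf 0x40f40098) (.leaf 0x40f5014d))) (.node 982 (.node 981 (.leaf 0x40f600f6) (.leaf 0x40f7014f)) (.node 983 (.leaf 0x40f80079) (.leaf 0x40f90099)))) (.node 988 (.node 986 (.node 985 (.leaf 0x40fa00f5) (.leaf 0x40fb0097)) (.node 987 (.leaf 0x40fc014b) (.leaf 0x40fd009a))) (.node 990 (.node 989 (.leaf 0x40fe00f8) (.leaf 0x40ff0079)) (.node 991 (.leaf 0x41000120) (.leaf 0x41010090)))))) (.node 1008 (.node 1000 (.node 996 (.node 994 (.node 993 (.leaf 0x410200f7) (.leaf 0x4103012a)) (.node 995 (.leaf 0x410400e7) (.leaf 0x4105008f))) (.node 998 (.node 997 (.leaf 0x410600fa) (.leaf 0x41070136)) (.node 999 (.leaf 0x4108009c) (.leaf 0x4109007a)))) (.node 1004 (.node 1002 (.node 1001 (.leaf 0x410a00f9) (.leaf 0x410b0127)) (.node 1003 (.leaf 0x410c0144) (.leaf 0x410d007b))) (.node 1006 (.node 1005 (.leaf 0x410e00fc) (.leaf 0x410f00ec)) (.node 1007 (.leaf 0x41100132) (.leaf 0x4111007c))))) (.node 1016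 (.node 1012 (.node 1010 (.node 1009 (.leaf 0x411200fb) (.leaf 0x4113013e)) (.node 1011 (.leaf 0x41140128) (.leaf 0x4115007d))) (.node 1014 (.node 1013 (.leaf 0x411600fd) (.leaf 0x41170089)) (.node 1015 (.leaf 0x41180089) (.leaf 0x4119007e)))) (.node 1020 (.node 1018 (.node 1017 (.leaf 0x411a00ff) (.leaf 0x411b013b)) (.node 1019 (.leaf 0x411c0083) (.leaf 0x411d00c1))) (.node 1022 (.node 1021 (.leaf 0x411e00fe) (.leaf 0x411f0123)) (.node 1023 (.leaf 0x412000a6) (.leaf 0x412100c2))))))))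

/-- block of `tab` -/
def tab_4 : Tr := .node 1152 (.node 1088 (.node 1056 (.node 1040 (.node 1032 (.node 1028 (.node 1026 (.node 1025 (.leaf 0x41220101) (.leaf 0x41230083)) (.node 1027 (.leaf 0x412400ee) (.leaf 0x41250108))) (.node 1030 (.node 1029 (.leaf 0x41260100) (.leaf 0x412700eb)) (.node 1031 (.leaf 0x41280142) (.leaf 0x41290107)))) (.node 1036 (.node 1034 (.node 1033 (.leaf 0x412a0103) (.leaf 0x412b0103)) (.node 1035 (.leaf 0x412c00a0) (.leaf 0x412d0085))) (.node 1038 (.node 1037 (.leaf 0x412e0102) (.leaf 0x412f010d)) (.node 1039 (.leaf 0x41300102) (.leaf 0x41310086))))) (.node 1048 (.node 1044 (.node 1042 (.node 1041 (.leaf 0x41320105) (.leaf 0x413300e7)) (.node 1043 (.leaf 0x41340150) (.leaf 0x41350087))) (.node 1046 (.node 1045 (.leaf 0x41360104) (.leaf 0x41370129)) (.node 1047 (.leaf 0x41380112) (.leaf 0x41390088)))) (.node 1052 (.node 1050 (.node 1049 (.leaf 0x413a0106) (.leaf 0x413b0088)) (.node 1051 (.leaf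 0x413c00e4) (.leaf 0x413d0148))) (.node 1054 (.node 1053 (.leaf 0x413e0108) (.leaf 0x413f00d2)) (.node 1055 (.leaf 0x4140008b) (.leaf 0x41410101)))))) (.node 1072 (.node 1064 (.node 1060 (.node 1058 (.node 1057 (.leaf 0x41420107) (.leaf 0x4143010f)) (.node 1059 (.leaf 0x4144010b) (.leaf 0x41450100))) (.node 1062 (.node 1061 (.leaf 0x4146010a) (.leaf 0x414700c0)) (.node 1063 (.leaf 0x4148008c) (.leaf 0x41490114)))) (.node 1068 (.node 1066 (.node 1065 (.leaf 0x414a0109) (.leaf 0x414b00c9)) (.node 1067 (.leaf 0x414c00cd) (.leaf 0x414d0113))) (.node 1070 (.node 1069 (.leaf 0x414e010c) (.leaf 0x414f0108)) (.node 1071 (.leaf 0x4150008d) (.leaf 0x4151011f))))) (.node 1080 (.node 1076 (.node 1074 (.node 1073 (.leaf 0x4152010b) (.leaf 0x41530147)) (.node 1075 (.leaf 0x4154013d) (.leaf 0x41550120))) (.node 1078 (.node 1077 (.leaf 0x4156010e) (.leaf 0x415700b9)) (.node 1079 (.leaf 0x41580103) (.leaf 0x4159008d)))) (.node 1084 (.node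 1082 (.node 1081 (.leaf 0x415a010d) (.leaf 0x415b00f0)) (.node 1083 (.leaf 0x415c0123) (.leaf 0x415d008e))) (.node 1086 (.node 1085 (.leaf 0x415e0110) (.leaf 0x415f008f)) (.node 1087 (.leaf 0x41600108) (.leaf 0x41610143))))))) (.node 1120 (.node 1104 (.node 1096 (.node 1092 (.node 1090 (.node 1089 (.leaf 0x4162010f) (.leaf 0x416300f2)) (.node 1091 (.leaf 0x4164014d) (.leaf 0x41650142))) (.node 1094 (.node 1093 (.leaf 0x41660112) (.leaf 0x41670153)) (.node 1095 (.leaf 0x41680097) (.leaf 0x416900bb)))) (.node 1100 (.node 1098 (.node 1097 (.leaf 0x416a0111) (.leaf 0x416b0105)) (.node 1099 (.leaf 0x416c014a) (.leaf 0x416d00bc))) (.node 1102 (.node 1101 (.leaf 0x416e0114) (.leaf 0x416f0098)) (.node 1103 (.leaf 0x417000e8) (.leaf 0x4171010a))))) (.node 1112 (.node 1108 (.node 1106 (.node 1105 (.leaf 0x41720113) (.leaf 0x417300a6)) (.node 1107 (.leaf 0x417400f0) (.leaf 0x41750109))) (.node 1110 (.node 1109 (.leaf 0x41760116) (.leaf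 0x417700db)) (.node 1111 (.leaf 0x417800d7) (.leaf 0x41790155)))) (.node 1116 (.node 1114 (.node 1113 (.leaf 0x417a0115) (.leaf 0x417b00d1)) (.node 1115 (.leaf 0x417c00b7) (.leaf 0x417d0154))) (.node 1118 (.node 1117 (.leaf 0x417e0118) (.leaf 0x417f012c)) (.node 1119 (.leaf 0x4180009a) (.leaf 0x4181011e)))))) (.node 1136 (.node 1128 (.node 1124 (.node 1122 (.node 1121 (.leaf 0x41820117) (.leaf 0x4183014c)) (.node 1123 (.leaf 0x418400a8) (.leaf 0x4185011d))) (.node 1126 (.node 1125 (.leaf 0x4186011a) (.leaf 0x4187011d)) (.node 1127 (.leaf 0x4188009b) (.leaf 0x4189012b)))) (.node 1132 (.node 1130 (.node 1129 (.leaf 0x418a0119) (.leaf 0x418b00a0)) (.node 1131 (.leaf 0x418c00b9) (.leaf 0x418d012c))) (.node 1134 (.node 1133 (.leaf 0x418e011c) (.leaf 0x418f009c)) (.node 1135 (.leaf 0x419000b5) (.leaf 0x41910141))))) (.node 1144 (.node 1140 (.node 1138 (.node 1137 (.leaf 0x4192011b) (.leaf 0x4193011e)) (.node 1139 (.leaf 0x419400ac)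 (.leaf 0x41950140))) (.node 1142 (.node 1141 (.leaf 0x4196011e) (.leaf 0x419700c7)) (.node 1143 (.leaf 0x41980119) (.leaf 0x41990118)))) (.node 1148 (.node 1146 (.node 1145 (.leaf 0x419a011d) (.leaf 0x419b00ac)) (.node 1147 (.leaf 0x419c011c) (.leaf 0x419d0117))) (.node 1150 (.node 1149 (.leaf 0x419e0120) (.leaf 0x419f0121)) (.node 1151 (.leaf 0x41a0009f) (.leaf 0x41a1010b)))))))) (.node 1216 (.node 1184 (.node 1168 (.node 1160 (.node 1156 (.node 1154 (.node 1153 (.leaf 0x41a2011f) (.leaf 0x41a300f7)) (.node 1155 (.leaf 0x41a40124) (.leaf 0x41a5010c))) (.node 1158 (.node 1157 (.leaf 0x41a60122) (.leaf 0x41a700a9)) (.node 1159 (.leaf 0x41a8011f) (.leaf 0x41a900f1)))) (.node 1164 (.node 1162 (.node 1161 (.leaf 0x41aa0121) (.leaf 0x41ab0156)) (.node 1163 (.leaf 0x41ac00ef) (.leaf 0x41ad00f2))) (.node 1166 (.node 1165 (.leaf 0x41ae0124) (.leaf 0x41af010e)) (.node 1167 (.leaf 0x41b000ff) (.leaf 0x41b100a3))))) (.node 1176 (.node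 1172 (.node 1170 (.node 1169 (.leaf 0x41b20123) (.leaf 0x41b30120)) (.node 1171 (.leaf 0x41b4014f) (.leaf 0x41b500a4))) (.node 1174 (.node 1173 (.leaf 0x41b60126) (.leaf 0x41b700a5)) (.node 1175 (.leaf 0x41b80158) (.leaf 0x41b900a8)))) (.node 1180 (.node 1178 (.node 1177 (.leaf 0x41ba0125) (.leaf 0x41bb014e)) (.node 1179 (.leaf 0x41bc00e5) (.leaf 0x41bd00a7))) (.node 1182 (.node 1181 (.leaf 0x41be0128) (.leaf 0x41bf00aa)) (.node 1183 (.leaf 0x41c000fa) (.leaf 0x41c1015a)))))) (.node 1200 (.node 1192 (.node 1188 (.node 1186 (.node 1185 (.leaf 0x41c20127) (.leaf 0x41c300fc)) (.node 1187 (.leaf 0x41c400e6) (.leaf 0x41c5015b))) (.node 1190 (.node 1189 (.leaf 0x41c6012a) (.leaf 0x41c700ab)) (.node 1191 (.leaf 0x41c80105) (.leaf 0x41c900d1)))) (.node 1196 (.node 1194 (.node 1193 (.leaf 0x41ca0129) (.leaf 0x41cb015c)) (.node 1195 (.leaf 0x41cc00f8) (.leaf 0x41cd00d2))) (.node 1198 (.node 1197 (.leaf 0x41ce012c) (.leaf 0x41cf00bf))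 (.node 1199 (.leaf 0x41d000d6) (.leaf 0x41d10119))))) (.node 1208 (.node 1204 (.node 1202 (.node 1201 (.leaf 0x41d2012b) (.leaf 0x41d3013c)) (.node 1203 (.leaf 0x41d40117) (.leaf 0x41d5011a))) (.node 1206 (.node 1205 (.leaf 0x41d6012d) (.leaf 0x41d70132)) (.node 1207 (.leaf 0x41d800ad) (.leaf 0x41d900d7)))) (.node 1212 (.node 1210 (.node 1209 (.leaf 0x41da012f) (.leaf 0x41db00ad)) (.node 1211 (.leaf 0x41dc00ec) (.leaf 0x41dd0147))) (.node 1214 (.node 1213 (.leaf 0x41de012e) (.leaf 0x41df00ea)) (.node 1215 (.leaf 0x41e00143) (.leaf 0x41e10146))))))) (.node 1248 (.node 1232 (.node 1224 (.node 1220 (.node 1218 (.node 1217 (.leaf 0x41e20131) (.leaf 0x41e300b1)) (.node 1219 (.leaf 0x41e400d5) (.leaf 0x41e5015c))) (.node 1222 (.node 1221 (.leaf 0x41e60130) (.leaf 0x41e700e0)) (.node 1223 (.leaf 0x41e800e2) (.leaf 0x41e9015d)))) (.node 1228 (.node 1226 (.node 1225 (.leaf 0x41ea0133) (.leaf 0x41eb00fb)) (.node 1227 (.leaf 0x41ec012d)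 (.leaf 0x41ed00b1))) (.node 1230 (.node 1229 (.leaf 0x41ee0132) (.leaf 0x41ef0157)) (.node 1231 (.leaf 0x41f0015d) (.leaf 0x41f100b2))))) (.node 1240 (.node 1236 (.node 1234 (.node 1233 (.leaf 0x41f20134) (.leaf 0x41f300b2)) (.node 1235 (.leaf 0x41f40151) (.leaf 0x41f50153))) (.node 1238 (.node 1237 (.leaf 0x41f60135) (.leaf 0x41f700b5)) (.node 1239 (.leaf 0x41f80136) (.leaf 0x41f900e0)))) (.node 1244 (.node 1242 (.node 1241 (.leaf 0x41fa0137) (.leaf 0x41fb0135)) (.node 1243 (.leaf 0x41fc00f9) (.leaf 0x41fd00b7))) (.node 1246 (.node 1245 (.leaf 0x41fe0136) (.leaf 0x41ff0155)) (.node 1247 (.leaf 0x42000159) (.leaf 0x420100b8)))))) (.node 1264 (.node 1256 (.node 1252 (.node 1250 (.node 1249 (.leaf 0x42020138) (.leaf 0x4203015e)) (.node 1251 (.leaf 0x420400b8) (.leaf 0x42050150))) (.node 1254 (.node 1253 (.leaf 0x42060139) (.leaf 0x420700d9)) (.node 1255 (.leaf 0x420800bc) (.leaf 0x42090149)))) (.node 1260 (.node 1258 (.node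 1257 (.leaf 0x420a013b) (.leaf 0x420b00ee)) (.node 1259 (.leaf 0x420c013b) (.leaf 0x420d00bd))) (.node 1262 (.node 1261 (.leaf 0x420e013a) (.leaf 0x420f013a)) (.node 1263 (.leaf 0x421000fe) (.leaf 0x421100be))))) (.node 1272 (.node 1268 (.node 1266 (.node 1265 (.leaf 0x4212013d) (.leaf 0x421300c1)) (.node 1267 (.leaf 0x4214012c) (.leaf 0x4215014e))) (.node 1270 (.node 1269 (.leaf 0x4216013c) (.leaf 0x4217010c)) (.node 1271 (.leaf 0x42180141) (.leaf 0x4219014f)))) (.node 1276 (.node 1274 (.node 1273 (.leaf 0x421a013f) (.leaf 0x421b00c8)) (.node 1275 (.leaf 0x421c00fc) (.leaf 0x421d00db))) (.node 1278 (.node 1277 (.leaf 0x421e013e) (.leaf 0x421f015d)) (.node 1279 (.leaf 0x422000d3) (.leaf 0x422100da))))))))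

/-- block of `tab` -/
def tab_5 : Tr := .node 1344 (.node 1312 (.node 1296 (.node 1288 (.node 1284 (.node 1282 (.node 1281 (.leaf 0x42220141) (.leaf 0x422300ca)) (.node 1283 (.leaf 0x4224015e) (.leaf 0x4225011c))) (.node 1286 (.node 1285 (.leaf 0x42260140) (.leaf 0x4227013d)) (.node 1287 (.leaf 0x4228015b) (.leaf 0x4229011b)))) (.node 1292 (.node 1290 (.node 1289 (.leaf 0x422a0143) (.leaf 0x422b0101)) (.node 1291 (.leaf 0x422c00cb) (.leaf 0x422d0110))) (.node 1294 (.node 1293 (.leaf 0x422e0142) (.leaf 0x422f012f)) (.node 1295 (.leaf 0x423000ea) (.leaf 0x4231010f))))) (.node 1304 (.node 1300 (.node 1298 (.node 1297 (.leaf 0x42320145) (.leaf 0x423300fa)) (.node 1299 (.leaf 0x423400cc) (.leaf 0x423500e2))) (.node 1302 (.node 1301 (.leaf 0x42360144) (.leaf 0x423700cf)) (.node 1303 (.leaf 0x42380155) (.leaf 0x423900e1)))) (.node 1308 (.node 1306 (.node 1305 (.leaf 0x423a0147) (.leaf 0x423b0151)) (.node 1307 (.leaf 0x423c00ce)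 (.leaf 0x423d012f))) (.node 1310 (.node 1309 (.leaf 0x423e0146) (.leaf 0x423f015a)) (.node 1311 (.leaf 0x4240010c) (.leaf 0x4241012e)))))) (.node 1328 (.node 1320 (.node 1316 (.node 1314 (.node 1313 (.leaf 0x42420148) (.leaf 0x42430159)) (.node 1315 (.leaf 0x424400cf) (.leaf 0x42450106))) (.node 1318 (.node 1317 (.leaf 0x42460149) (.leaf 0x424700d3)) (.node 1319 (.leaf 0x42480157) (.leaf 0x42490139)))) (.node 1324 (.node 1322 (.node 1321 (.leaf 0x424a014b) (.leaf 0x424b0112)) (.node 1323 (.leaf 0x424c00e9) (.leaf 0x424d00d5))) (.node 1326 (.node 1325 (.leaf 0x424e014a) (.leaf 0x424f00f6)) (.node 1327 (.leaf 0x42500154) (.leaf 0x425100d6))))) (.node 1336 (.node 1332 (.node 1330 (.node 1329 (.leaf 0x4252014d) (.leaf 0x425300da)) (.node 1331 (.leaf 0x42540118) (.leaf 0x425500f3))) (.node 1334 (.node 1333 (.leaf 0x4256014c) (.leaf 0x42570110)) (.node 1335 (.leaf 0x425800e1) (.leaf 0x425900f4)))) (.node 1340 (.node 1338 (.node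 1337 (.leaf 0x425a014f) (.leaf 0x425b00ed)) (.node 1339 (.leaf 0x425c0126) (.leaf 0x425d013c))) (.node 1342 (.node 1341 (.leaf 0x425e014e) (.leaf 0x425f0124)) (.node 1343 (.leaf 0x426000f5) (.leaf 0x4261013d))))))) (.node 1376 (.node 1360 (.node 1352 (.node 1348 (.node 1346 (.node 1345 (.leaf 0x42620150) (.leaf 0x42630104)) (.node 1347 (.leaf 0x4264015c) (.leaf 0x42650138))) (.node 1350 (.node 1349 (.leaf 0x42660152) (.leaf 0x42670134)) (.node 1351 (.leaf 0x42680146) (.leaf 0x42690156)))) (.node 1356 (.node 1354 (.node 1353 (.leaf 0x426a0151) (.leaf 0x426b015f)) (.node 1355 (.leaf 0x426c015f) (.leaf 0x426d0157))) (.node 1358 (.node 1357 (.leaf 0x426e0153) (.leaf 0x426f0154)) (.node 1359 (.leaf 0x42700111) (.leaf 0x42710134))))) (.node 1368 (.node 1364 (.node 1362 (.node 1361 (.leaf 0x42720155) (.leaf 0x4273014b)) (.node 1363 (.leaf 0x42740153) (.leaf 0x42750116))) (.node 1366 (.node 1365 (.leaf 0x42760154) (.leaf 0x42770145))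 (.node 1367 (.leaf 0x42780137) (.leaf 0x42790115)))) (.node 1372 (.node 1370 (.node 1369 (.leaf 0x427a0157) (.leaf 0x427b0158)) (.node 1371 (.leaf 0x427c0122) (.leaf 0x427d0151))) (.node 1374 (.node 1373 (.leaf 0x427e0156) (.leaf 0x427f0149)) (.node 1375 (.leaf 0x42800133) (.leaf 0x42810152)))))) (.node 1392 (.node 1384 (.node 1380 (.node 1378 (.node 1377 (.leaf 0x42820159) (.leaf 0x42830125)) (.node 1379 (.leaf 0x42840156) (.leaf 0x4285015e))) (.node 1382 (.node 1381 (.leaf 0x42860158) (.leaf 0x42870137)) (.node 1383 (.leaf 0x42880148) (.leaf 0x4289015f)))) (.node 1388 (.node 1386 (.node 1385 (.leaf 0x428a015b) (.leaf 0x428b015b)) (.node 1387 (.leaf 0x428c0147) (.leaf 0x428d0127))) (.node 1390 (.node 1389 (.leaf 0x428e015a) (.leaf 0x428f0141)) (.node 1391 (.leaf 0x4290015a) (.leaf 0x42910128))))) (.node 1400 (.node 1396 (.node 1394 (.node 1393 (.leaf 0x4292015d) (.leaf 0x42930150)) (.node 1395 (.leaf 0x4294012a) (.leaf 0x42950130)))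 (.node 1398 (.node 1397 (.leaf 0x4296015c) (.leaf 0x42970133)) (.node 1399 (.leaf 0x4298013f) (.leaf 0x42990131)))) (.node 1404 (.node 1402 (.node 1401 (.leaf 0x429a015f) (.leaf 0x429b0140)) (.node 1403 (.leaf 0x429c0138) (.leaf 0x429d0158))) (.node 1406 (.node 1405 (.leaf 0x429e015e) (.leaf 0x429f0152)) (.node 1407 (.leaf 0x42a00152) (.leaf 0x42a10159)))))))

/-- closed table -/
def tab : Tr := (.node 768 (.node 256 tab_0 (.node 512 tab_1 tab_2)) (.node 1024 tab_3 (.node 1280 tab_4 tab_5)))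

/-- the certificate -/
def cert : Cert := ⟨4, 12576, W, S, nd, fct⟩

/-- the closed table -/
def fin : Fin' := ⟨352, 17058, live, tab⟩

end Cfsg.Agent.H67.HN.T1
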