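import Cfsg.Agent.H67.HN.T2Facts0
import Cfsg.Agent.H67.HN.T2Facts1
import Cfsg.Agent.H67.HN.T2Facts2
import Cfsg.Agent.H67.HN.Bound

/-!
Certificate data: x, y over the cosets of ⟨xyxy, y²⟩.
-/

set_option autoImplicit false

namespace Cfsg.Agent.H67.HN.T2


/-- relators, rotated -/
def W : List (List ℕ) := [[1,1,1,1,1,1],
  [2,2,2,2,2,2],
  [0,0,1,0,0,2],
  [0,1,0,0,2,0],
  [1,0,0,2,0,0],
  [0,0,2,0,0,1],
  [0,2,0,0,1,0],
  [2,0,0,1,0,0],
  [0,2,0,1,0,2,0,1,0,2,0,1],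
  [2,0,1,0,2,0,1,0,2,0,1,0],
  [0,1,0,2,0,1,0,2,0,1,0,2],
  [1,0,2,0,1,0,2,0,1,0,2,0],
  [0,1,1,0,1,1,1,0,1,1,0,1,1,1,0,1,1,0,1,1,1],
  [1,1,0,1,1,1,0,1,1,0,1,1,1,0,1,1,0,1,1,1,0],
  [1,0,1,1,1,0,1,1,0,1,1,1,0,1,1,0,1,1,1,0,1],
  [0,1,1,1,0,1,1,0,1,1,1,0,1,1,0,1,1,1,0,1,1],
  [1,1,1,0,1,1,0,1,1,1,0,1,1,0,1,1,1,0,1,1,0],
  [1,1,0,1,1,0,1,1,1,0,1,1,0,1,1,1,0,1,1,0,1],
  [1,0,1,1,0,1,1,1,0,1,1,0,1,1,1,0,1,1,0,1,1],
  [2,2,2,0,2,2,0,2,2,2,0,2,2,0,2,2,2,0,2,2,0],
  [2,2,0,2,2,0,2,2,2,0,2,2,0,2,2,2,0,2,2,0,2],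
  [2,0,2,2,0,2,2,2,0,2,2,0,2,2,2,0,2,2,0,2,2],
  [0,2,2,0,2,2,2,0,2,2,0,2,2,2,0,2,2,0,2,2,2],
  [2,2,0,2,2,2,0,2,2,0,2,2,2,0,2,2,0,2,2,2,0],
  [2,0,2,2,2,0,2,2,0,2,2,2,0,2,2,0,2,2,2,0,2],
  [0,2,2,2,0,2,2,0,2,2,2,0,2,2,0,2,2,2,0,2,2],
  [0,1,0,1,0,1,0,1,0,1,0,1,0,1,0,1],
  [1,0,1,0,1,0,1,0,1,0,1,0,1,0,1,0],
  [2,0,2,0,2,0,2,0,2,0,2,0,2,0,2,0],
  [0,2,0,2,0,2,0,2,0,2,0,2,0,2,0,2],
  [0,1,0,1,1,1,0,1,0,1,1,1,0,1,0,1,1,1,0,1,0,1,1,1],
  [1,0,1,1,1,0,1,0,1,1,1,0,1,0,1,1,1,0,1,0,1,1,1,0],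
  [0,1,1,1,0,1,0,1,1,1,0,1,0,1,1,1,0,1,0,1,1,1,0,1],
  [1,1,1,0,1,0,1,1,1,0,1,0,1,1,1,0,1,0,1,1,1,0,1,0],
  [1,1,0,1,0,1,1,1,0,1,0,1,1,1,0,1,0,1,1,1,0,1,0,1],
  [1,0,1,0,1,1,1,0,1,0,1,1,1,0,1,0,1,1,1,0,1,0,1,1],
  [2,2,2,0,2,0,2,2,2,0,2,0,2,2,2,0,2,0,2,2,2,0,2,0],
  [2,2,0,2,0,2,2,2,0,2,0,2,2,2,0,2,0,2,2,2,0,2,0,2],
  [2,0,2,0,2,2,2,0,2,0,2,2,2,0,2,0,2,2,2,0,2,0,2,2],
  [0,2,0,2,2,2,0,2,0,2,2,2,0,2,0,2,2,2,0,2,0,2,2,2],
  [2,0,2,2,2,0,2,0,2,2,2,0,2,0,2,2,2,0,2,0,2,2,2,0],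
  [0,2,2,2,0,2,0,2,2,2,0,2,0,2,2,2,0,2,0,2,2,2,0,2],
  [0,0],
  [1,2],
  [2,1]]

/-- subgroup words -/
def S : List (List ℕ) := [[0, 1, 0, 1], [2, 0, 2, 0], [1, 1], [2, 2]]

/-- block of `nd` -/
def nd_0 : Tr := .node 128 (.node 64 (.node 32 (.node 16 (.node 8 (.node 4 (.node 2 (.node 1 (.leaf 0) (.leaf 0)) (.node 3 (.leaf 17) (.leaf 32))) (.node 6 (.node 5 (.leaf 18) (.leaf 64)) (.node 7 (.leaf 33) (.leaf 96)))) (.node 12 (.node 10 (.node 9 (.leaf 66) (.leaf 128)) (.node 11 (.leaf 97) (.leaf 160))) (.node 14 (.node 13 (.leaf 81) (.leaf 192)) (.node 15 (.leaf 82) (.leaf 224))))) (.node 24 (.node 20 (.node 18 (.node 17 (.leaf 113) (.leaf 256)) (.node 19 (.leaf 114) (.leaf 210))) (.node 22 (.node 21 (.leaf 145) (.leaf 320)) (.node 23 (.leaf 146) (.leaf 352)))) (.node 28 (.node 26 (.node 25 (.leaf 177) (.leaf 384)) (.node 27 (.leaf 178) (.leaf 416))) (.node 30 (.node 29 (.leaf 193) (.leaf 448)) (.node 31 (.leaf 209) (.leaf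 480)))))) (.node 48 (.node 40 (.node 36 (.node 34 (.node 33 (.leaf 226) (.leaf 512)) (.node 35 (.leaf 449) (.leaf 544))) (.node 38 (.node 37 (.leaf 241) (.leaf 576)) (.node 39 (.leaf 242) (.leaf 608)))) (.node 44 (.node 42 (.node 41 (.leaf 257) (.leaf 640)) (.node 43 (.leaf 273) (.leaf 626))) (.node 46 (.node 45 (.leaf 274) (.leaf 704)) (.node 47 (.leaf 290) (.leaf 736))))) (.node 56 (.node 52 (.node 50 (.node 49 (.leaf 641) (.leaf 768)) (.node 51 (.leaf 562) (.leaf 800))) (.node 54 (.node 53 (.leaf 306) (.leaf 832)) (.node 55 (.leaf 321) (.leaf 864)))) (.node 60 (.node 58 (.node 57 (.leaf 337) (.leaf 896)) (.node 59 (.leaf 338) (.leaf 594))) (.node 62 (.node 61 (.leaf 354) (.leaf 960)) (.node 63 (.leaf 865) (.leaf 992))))))) (.node 96 (.node 80 (.node 72 (.node 68 (.node 66 (.node 65 (.leaf 369) (.leaf 1024)) (.node 67 (.leaf 370) (.leaf 1056))) (.node 70 (.node 69 (.leaf 385) (.leaf 1088)) (.node 71 (.leaf 401) (.leaf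 1120)))) (.node 76 (.node 74 (.node 73 (.leaf 402) (.leaf 1042)) (.node 75 (.leaf 418) (.leaf 1184))) (.node 78 (.node 77 (.leaf 1089) (.leaf 1216)) (.node 79 (.leaf 1010) (.leaf 1248))))) (.node 88 (.node 84 (.node 82 (.node 81 (.leaf 433) (.leaf 721)) (.node 83 (.leaf 434) (.leaf 1312))) (.node 86 (.node 85 (.leaf 465) (.leaf 1344)) (.node 87 (.leaf 466) (.leaf 1376)))) (.node 92 (.node 90 (.node 89 (.leaf 481) (.leaf 1408)) (.node 91 (.leaf 834) (.leaf 1440))) (.node 94 (.node 93 (.leaf 497) (.leaf 1472)) (.node 95 (.leaf 498) (.leaf 1504)))))) (.node 112 (.node 104 (.node 100 (.node 98 (.node 97 (.leaf 529) (.leaf 1536)) (.node 99 (.leaf 530) (.leaf 1568))) (.node 102 (.node 101 (.leaf 561) (.leaf 1600)) (.node 103 (.leaf 577) (.leaf 1632)))) (.node 108 (.node 106 (.node 105 (.leaf 593) (.leaf 1664)) (.node 107 (.leaf 610) (.leaf 1696))) (.node 110 (.node 109 (.leaf 1633) (.leaf 1728)) (.node 111 (.leaf 625) (.leaf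 1760))))) (.node 120 (.node 116 (.node 114 (.node 113 (.leaf 657) (.leaf 1792)) (.node 115 (.leaf 658) (.leaf 1824))) (.node 118 (.node 117 (.leaf 673) (.leaf 1856)) (.node 119 (.leaf 690) (.leaf 1888)))) (.node 124 (.node 122 (.node 121 (.leaf 706) (.leaf 1920)) (.node 123 (.leaf 1857) (.leaf 1952))) (.node 126 (.node 125 (.leaf 722) (.leaf 1984)) (.node 127 (.leaf 753) (.leaf 2016)))))))) (.node 192 (.node 160 (.node 144 (.node 136 (.node 132 (.node 130 (.node 129 (.leaf 754) (.leaf 2048)) (.node 131 (.leaf 786) (.leaf 2080))) (.node 134 (.node 133 (.leaf 1601) (.leaf 2112)) (.node 135 (.leaf 817) (.leaf 818)))) (.node 140 (.node 138 (.node 137 (.leaf 2160) (.leaf 2144)) (.node 139 (.leaf 849) (.leaf 2208))) (.node 142 (.node 141 (.leaf 850) (.leaf 2240)) (.node 143 (.leaf 881) (.leaf 978))))) (.node 152 (.node 148 (.node 146 (.node 145 (.leaf 2288) (.leaf 2272)) (.node 147 (.leaf 882) (.leaf 2336))) (.node 150 (.node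 149 (.leaf 977) (.leaf 2368)) (.node 151 (.leaf 897) (.leaf 2400)))) (.node 156 (.node 154 (.node 153 (.leaf 913) (.leaf 2432)) (.node 155 (.leaf 914) (.leaf 2464))) (.node 158 (.node 157 (.leaf 930) (.leaf 2496)) (.node 159 (.leaf 2401) (.leaf 2528)))))) (.node 176 (.node 168 (.node 164 (.node 162 (.node 161 (.leaf 946) (.leaf 2560)) (.node 163 (.leaf 1009) (.leaf 2592))) (.node 166 (.node 165 (.leaf 1025) (.leaf 2624)) (.node 167 (.leaf 1041) (.leaf 2656)))) (.node 172 (.node 170 (.node 169 (.leaf 1058) (.leaf 2688)) (.node 171 (.leaf 2625) (.leaf 2720))) (.node 174 (.node 173 (.leaf 1073) (.leaf 2752)) (.node 175 (.leaf 1074) (.leaf 1489))))) (.node 184 (.node 180 (.node 178 (.node 177 (.leaf 1105) (.leaf 1202)) (.node 179 (.leaf 2832) (.leaf 2816))) (.node 182 (.node 181 (.leaf 1106) (.leaf 2880)) (.node 183 (.leaf 1201) (.leaf 2912)))) (.node 188 (.node 186 (.node 185 (.leaf 1121) (.leaf 2944)) (.node 187 (.leaf 1137)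 (.leaf 2258))) (.node 190 (.node 189 (.leaf 1138) (.leaf 3008)) (.node 191 (.leaf 1154) (.leaf 3040))))))) (.node 224 (.node 208 (.node 200 (.node 196 (.node 194 (.node 193 (.leaf 2945) (.leaf 3072)) (.node 195 (.leaf 1170) (.leaf 3104))) (.node 198 (.node 197 (.leaf 1234) (.leaf 3136)) (.node 199 (.leaf 2593) (.leaf 3168)))) (.node 204 (.node 202 (.node 201 (.leaf 1265) (.leaf 3200)) (.node 203 (.leaf 1266) (.leaf 3232))) (.node 206 (.node 205 (.leaf 1281) (.leaf 3264)) (.node 207 (.leaf 1297) (.leaf 3296))))) (.node 216 (.node 212 (.node 210 (.node 209 (.leaf 1314) (.leaf 3328)) (.node 211 (.leaf 3265) (.leaf 3360))) (.node 214 (.node 213 (.leaf 1329) (.leaf 3392)) (.node 215 (.leaf 1330) (.leaf 2449)))) (.node 220 (.node 218 (.node 217 (.leaf 1345) (.leaf 3456)) (.node 219 (.leaf 1361) (.leaf 3488))) (.node 222 (.node 221 (.leaf 1362) (.leaf 2194)) (.node 223 (.leaf 1378) (.leaf 3552)))))) (.node 240 (.node 232 (.node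 228 (.node 226 (.node 225 (.leaf 3457) (.leaf 3584)) (.node 227 (.leaf 1393) (.leaf 1521))) (.node 230 (.node 229 (.leaf 1394) (.leaf 3648)) (.node 231 (.leaf 1425) (.leaf 3680)))) (.node 236 (.node 234 (.node 233 (.leaf 1426) (.leaf 3712)) (.node 235 (.leaf 1457) (.leaf 3744))) (.node 238 (.node 237 (.leaf 1458) (.leaf 3776)) (.node 239 (.leaf 1473) (.leaf 3808))))) (.node 248 (.node 244 (.node 242 (.node 241 (.leaf 1490) (.leaf 3840)) (.node 243 (.leaf 1506) (.leaf 3872))) (.node 246 (.node 245 (.leaf 3809) (.leaf 3904)) (.node 247 (.leaf 1522) (.leaf 3936)))) (.node 252 (.node 250 (.node 249 (.leaf 1537) (.leaf 3968)) (.node 251 (.leaf 1553) (.leaf 4000))) (.node 254 (.node 253 (.leaf 1554) (.leaf 1778)) (.node 255 (.leaf 1570) (.leaf 4064))))))))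

/-- block of `nd` -/
def nd_1 : Tr := .node 384 (.node 320 (.node 288 (.node 272 (.node 264 (.node 260 (.node 258 (.node 257 (.leaf 3969) (.leaf 4096)) (.node 259 (.leaf 1585) (.leaf 4128))) (.node 262 (.node 261 (.leaf 1586) (.leaf 4160)) (.node 263 (.leaf 1617) (.leaf 4192)))) (.node 268 (.node 266 (.node 265 (.leaf 1618) (.leaf 4146)) (.node 267 (.leaf 1649) (.leaf 4256))) (.node 270 (.node 269 (.leaf 1650) (.leaf 4288)) (.node 271 (.leaf 1665) (.leaf 4320))))) (.node 280 (.node 276 (.node 274 (.node 273 (.leaf 2562) (.leaf 4352)) (.node 275 (.leaf 1681) (.leaf 4384))) (.node 278 (.node 277 (.leaf 1682) (.leaf 4416)) (.node 279 (.leaf 1713) (.leaf 4448)))) (.node 284 (.node 282 (.node 281 (.leaf 1714) (.leaf 4480)) (.node 283 (.leaf 1745) (.leaf 4512))) (.node 286 (.node 285 (.leaf 1746) (.leaf 4544)) (.node 287 (.leaf 1761) (.leaf 4576)))))) (.node 304 (.node 296 (.node 292 (.node 290 (.node 289 (.leaf 1890) (.leaf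 4608)) (.node 291 (.leaf 1777) (.leaf 1793))) (.node 294 (.node 293 (.leaf 4656) (.leaf 1809)) (.node 295 (.leaf 4688) (.leaf 1810)))) (.node 300 (.node 298 (.node 297 (.leaf 4720) (.leaf 1826)) (.node 299 (.leaf 4752) (.leaf 4657))) (.node 302 (.node 301 (.leaf 4784) (.leaf 4114)) (.node 303 (.leaf 4816) (.leaf 1841))))) (.node 312 (.node 308 (.node 306 (.node 305 (.leaf 1905) (.leaf 1842)) (.node 307 (.leaf 4880) (.leaf 1873))) (.node 310 (.node 309 (.leaf 4912) (.leaf 1874)) (.node 311 (.leaf 4466) (.leaf 1906)))) (.node 316 (.node 314 (.node 313 (.leaf 4976) (.leaf 1937)) (.node 315 (.leaf 5008) (.leaf 1938))) (.node 318 (.node 317 (.leaf 5040) (.leaf 1969)) (.node 319 (.leaf 5072) (.leaf 1970))))))) (.node 352 (.node 336 (.node 328 (.node 324 (.node 322 (.node 321 (.leaf 5104) (.leaf 1986)) (.node 323 (.leaf 5136) (.leaf 3297))) (.node 326 (.node 325 (.leaf 5168) (.leaf 2001)) (.node 327 (.leaf 5200) (.leaf 2002))))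 (.node 332 (.node 330 (.node 329 (.leaf 5232) (.leaf 2017)) (.node 331 (.leaf 5264) (.leaf 2033))) (.node 334 (.node 333 (.leaf 5296) (.leaf 2034)) (.node 335 (.leaf 2226) (.leaf 2050))))) (.node 344 (.node 340 (.node 338 (.node 337 (.leaf 5360) (.leaf 5265)) (.node 339 (.leaf 5392) (.leaf 3601))) (.node 342 (.node 341 (.leaf 5424) (.leaf 2065)) (.node 343 (.leaf 2177) (.leaf 2066)))) (.node 348 (.node 346 (.node 345 (.leaf 3505) (.leaf 2097)) (.node 347 (.leaf 4737) (.leaf 2098))) (.node 350 (.node 349 (.leaf 5552) (.leaf 2129)) (.node 351 (.leaf 3186) (.leaf 5600)))))) (.node 368 (.node 360 (.node 356 (.node 354 (.node 353 (.leaf 5584) (.leaf 2130)) (.node 355 (.leaf 3185) (.leaf 5664))) (.node 358 (.node 357 (.leaf 5648) (.leaf 2178)) (.node 359 (.leaf 5712) (.leaf 2193)))) (.node 364 (.node 362 (.node 361 (.leaf 5744) (.leaf 2209)) (.node 363 (.leaf 5776) (.leaf 2225))) (.node 366 (.node 365 (.leaf 5808) (.leaf 2242))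 (.node 367 (.leaf 5840) (.leaf 5777))))) (.node 376 (.node 372 (.node 370 (.node 369 (.leaf 5872) (.leaf 2257)) (.node 371 (.leaf 5904) (.leaf 2305))) (.node 374 (.node 373 (.leaf 5936) (.leaf 2306)) (.node 375 (.leaf 5968) (.leaf 2321)))) (.node 380 (.node 378 (.node 377 (.leaf 6000) (.leaf 2322)) (.node 379 (.leaf 3218) (.leaf 2353))) (.node 382 (.node 381 (.leaf 2481) (.leaf 2354)) (.node 383 (.leaf 6096) (.leaf 2385)))))))) (.node 448 (.node 416 (.node 400 (.node 392 (.node 388 (.node 386 (.node 385 (.leaf 6128) (.leaf 2386)) (.node 387 (.leaf 2770) (.leaf 2417))) (.node 390 (.node 389 (.leaf 6192) (.leaf 2418)) (.node 391 (.leaf 6224) (.leaf 2433)))) (.node 396 (.node 394 (.node 393 (.leaf 6256) (.leaf 2450)) (.node 395 (.leaf 6288) (.leaf 2466))) (.node 398 (.node 397 (.leaf 6320) (.leaf 6257)) (.node 399 (.leaf 6352) (.leaf 2482))))) (.node 408 (.node 404 (.node 402 (.node 401 (.leaf 6384) (.leaf 2513)) (.node 403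 (.leaf 6416) (.leaf 2514))) (.node 406 (.node 405 (.leaf 6448) (.leaf 2546)) (.node 407 (.leaf 6480) (.leaf 2577)))) (.node 412 (.node 410 (.node 409 (.leaf 6512) (.leaf 2578)) (.node 411 (.leaf 6544) (.leaf 2609))) (.node 414 (.node 413 (.leaf 6576) (.leaf 2610)) (.node 415 (.leaf 5954) (.leaf 2641)))))) (.node 432 (.node 424 (.node 420 (.node 418 (.node 417 (.leaf 6640) (.leaf 2642)) (.node 419 (.leaf 6672) (.leaf 2657))) (.node 422 (.node 421 (.leaf 6704) (.leaf 3106)) (.node 423 (.leaf 6736) (.leaf 2673)))) (.node 428 (.node 426 (.node 425 (.leaf 6768) (.leaf 2674)) (.node 427 (.leaf 6800) (.leaf 2705))) (.node 430 (.node 429 (.leaf 6832) (.leaf 2706)) (.node 431 (.leaf 6864) (.leaf 2737))))) (.node 440 (.node 436 (.node 434 (.node 433 (.leaf 6896) (.leaf 2753)) (.node 435 (.leaf 6928) (.leaf 2769))) (.node 438 (.node 437 (.leaf 6960) (.leaf 2786)) (.node 439 (.leaf 6992) (.leaf 6929)))) (.node 444 (.node 442 (.node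 441 (.leaf 7024) (.leaf 2801)) (.node 443 (.leaf 7056) (.leaf 2849))) (.node 446 (.node 445 (.leaf 3249) (.leaf 2850)) (.node 447 (.leaf 7120) (.leaf 2865))))))) (.node 480 (.node 464 (.node 456 (.node 452 (.node 450 (.node 449 (.leaf 7152) (.leaf 2866)) (.node 451 (.leaf 7184) (.leaf 2897))) (.node 454 (.node 453 (.leaf 3025) (.leaf 2898)) (.node 455 (.leaf 7248) (.leaf 2929)))) (.node 460 (.node 458 (.node 457 (.leaf 7280) (.leaf 2930)) (.node 459 (.leaf 3410) (.leaf 2961))) (.node 462 (.node 461 (.leaf 7344) (.leaf 2962)) (.node 463 (.leaf 7376) (.leaf 2977))))) (.node 472 (.node 468 (.node 466 (.node 465 (.leaf 7408) (.leaf 2994)) (.node 467 (.leaf 7440) (.leaf 3010))) (.node 470 (.node 469 (.leaf 7472) (.leaf 7409)) (.node 471 (.leaf 7504) (.leaf 3026)))) (.node 476 (.node 474 (.node 473 (.leaf 7536) (.leaf 3057)) (.node 475 (.leaf 7568) (.leaf 3058))) (.node 478 (.node 477 (.leaf 6658) (.leaf 3090)) (.node 479 (.leaf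 7632) (.leaf 3121)))))) (.node 496 (.node 488 (.node 484 (.node 482 (.node 481 (.leaf 7664) (.leaf 3122)) (.node 483 (.leaf 7696) (.leaf 3153))) (.node 486 (.node 485 (.leaf 7201) (.leaf 3154)) (.node 487 (.leaf 7760) (.leaf 3201)))) (.node 492 (.node 490 (.node 489 (.leaf 7792) (.leaf 3217)) (.node 491 (.leaf 7824) (.leaf 3234))) (.node 494 (.node 493 (.leaf 7856) (.leaf 7793)) (.node 495 (.leaf 7888) (.leaf 3250))))) (.node 504 (.node 500 (.node 498 (.node 497 (.leaf 7920) (.leaf 3281)) (.node 499 (.leaf 6465) (.leaf 3282))) (.node 502 (.node 501 (.leaf 7984) (.leaf 3313)) (.node 503 (.leaf 8016) (.leaf 3314)))) (.node 508 (.node 506 (.node 505 (.leaf 8048) (.leaf 3345)) (.node 507 (.leaf 8080) (.leaf 3346))) (.node 510 (.node 509 (.leaf 8112) (.leaf 3377)) (.node 511 (.leaf 8144) (.leaf 3393))))))))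

/-- block of `nd` -/
def nd_2 : Tr := .node 640 (.node 576 (.node 544 (.node 528 (.node 520 (.node 516 (.node 514 (.node 513 (.leaf 8176) (.leaf 3409)) (.node 515 (.leaf 8208) (.leaf 3426))) (.node 518 (.node 517 (.leaf 8240) (.leaf 8177)) (.node 519 (.leaf 8272) (.leaf 3441)))) (.node 524 (.node 522 (.node 521 (.leaf 8304) (.leaf 3473)) (.node 523 (.leaf 8336) (.leaf 3474))) (.node 526 (.node 525 (.leaf 8368) (.leaf 3489)) (.node 527 (.leaf 8400) (.leaf 3506))))) (.node 536 (.node 532 (.node 530 (.node 529 (.leaf 8432) (.leaf 3522)) (.node 531 (.leaf 8464) (.leaf 8401))) (.node 534 (.node 533 (.leaf 8496) (.leaf 3538)) (.node 535 (.leaf 8528) (.leaf 3569)))) (.node 540 (.node 538 (.node 537 (.leaf 8560) (.leaf 3570)) (.node 539 (.leaf 8592) (.leaf 3602))) (.node 542 (.node 541 (.leaf 8624) (.leaf 3617)) (.node 543 (.leaf 8656) (.leaf 3633)))))) (.node 560 (.node 552 (.node 548 (.node 546 (.node 545 (.leaf 8688) (.leaf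 3650)) (.node 547 (.leaf 8720) (.leaf 8657))) (.node 550 (.node 549 (.leaf 8752) (.leaf 3665)) (.node 551 (.leaf 8784) (.leaf 3666)))) (.node 556 (.node 554 (.node 553 (.leaf 8816) (.leaf 3681)) (.node 555 (.leaf 8848) (.leaf 3697))) (.node 558 (.node 557 (.leaf 8880) (.leaf 3698)) (.node 559 (.leaf 8912) (.leaf 3714))))) (.node 568 (.node 564 (.node 562 (.node 561 (.leaf 8944) (.leaf 8849)) (.node 563 (.leaf 8976) (.leaf 3729))) (.node 566 (.node 565 (.leaf 3857) (.leaf 3730)) (.node 567 (.leaf 3761) (.leaf 3762)))) (.node 572 (.node 570 (.node 569 (.leaf 9072) (.leaf 9056)) (.node 571 (.leaf 9040) (.leaf 3745))) (.node 574 (.node 573 (.leaf 9136) (.leaf 3778)) (.node 575 (.leaf 9168) (.leaf 9137))))))) (.node 608 (.node 592 (.node 584 (.node 580 (.node 578 (.node 577 (.leaf 9200) (.leaf 3793)) (.node 579 (.leaf 8929) (.leaf 3794))) (.node 582 (.node 581 (.leaf 9264) (.leaf 3825)) (.node 583 (.leaf 9296) (.leaf 3826))))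 (.node 588 (.node 586 (.node 585 (.leaf 9328) (.leaf 3842)) (.node 587 (.leaf 9360) (.leaf 7057))) (.node 590 (.node 589 (.leaf 9392) (.leaf 3858)) (.node 591 (.leaf 9424) (.leaf 3889))))) (.node 600 (.node 596 (.node 594 (.node 593 (.leaf 9456) (.leaf 3890)) (.node 595 (.leaf 9488) (.leaf 3921))) (.node 598 (.node 597 (.leaf 9520) (.leaf 3922)) (.node 599 (.leaf 9552) (.leaf 3938)))) (.node 604 (.node 602 (.node 601 (.leaf 9584) (.leaf 8689)) (.node 603 (.leaf 9616) (.leaf 3953))) (.node 606 (.node 605 (.leaf 9648) (.leaf 3954)) (.node 607 (.leaf 9680) (.leaf 3985)))))) (.node 624 (.node 616 (.node 612 (.node 610 (.node 609 (.leaf 9712) (.leaf 3986)) (.node 611 (.leaf 9744) (.leaf 4001))) (.node 614 (.node 613 (.leaf 9776) (.leaf 4017)) (.node 615 (.leaf 5730) (.leaf 4018)))) (.node 620 (.node 618 (.node 617 (.leaf 9840) (.leaf 4034)) (.node 619 (.leaf 9872) (.leaf 9777))) (.node 622 (.node 621 (.leaf 9904) (.leaf 4050))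 (.node 623 (.leaf 9936) (.leaf 4081))))) (.node 632 (.node 628 (.node 626 (.node 625 (.leaf 9968) (.leaf 4082)) (.node 627 (.leaf 10000) (.leaf 4113))) (.node 630 (.node 629 (.leaf 10032) (.leaf 4129)) (.node 631 (.leaf 10064) (.leaf 4145)))) (.node 636 (.node 634 (.node 633 (.leaf 10096) (.leaf 4162)) (.node 635 (.leaf 10128) (.leaf 10065))) (.node 638 (.node 637 (.leaf 10160) (.leaf 4177)) (.node 639 (.leaf 10192) (.leaf 4178)))))))) (.node 704 (.node 672 (.node 656 (.node 648 (.node 644 (.node 642 (.node 641 (.leaf 4401) (.leaf 4193)) (.node 643 (.leaf 10256) (.leaf 4209))) (.node 646 (.node 645 (.leaf 8834) (.leaf 4210)) (.node 647 (.leaf 10320) (.leaf 4226)))) (.node 652 (.node 650 (.node 649 (.leaf 10352) (.leaf 10257)) (.node 651 (.leaf 10384) (.leaf 4242))) (.node 654 (.node 653 (.leaf 10416) (.leaf 4257)) (.node 655 (.leaf 10448) (.leaf 4273))))) (.node 664 (.node 660 (.node 658 (.node 657 (.leaf 10480) (.leaf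 4274)) (.node 659 (.leaf 10512) (.leaf 4290))) (.node 662 (.node 661 (.leaf 10544) (.leaf 10449)) (.node 663 (.leaf 10576) (.leaf 4305)))) (.node 668 (.node 666 (.node 665 (.leaf 4433) (.leaf 4306)) (.node 667 (.leaf 10640) (.leaf 4337))) (.node 670 (.node 669 (.leaf 10672) (.leaf 4338)) (.node 671 (.leaf 10704) (.leaf 4369)))))) (.node 688 (.node 680 (.node 676 (.node 674 (.node 673 (.leaf 10736) (.leaf 4370)) (.node 675 (.leaf 10768) (.leaf 4385))) (.node 678 (.node 677 (.leaf 10800) (.leaf 4402)) (.node 679 (.leaf 10832) (.leaf 4418)))) (.node 684 (.node 682 (.node 681 (.leaf 10864) (.leaf 10801)) (.node 683 (.leaf 10896) (.leaf 4434))) (.node 686 (.node 685 (.leaf 10928) (.leaf 4449)) (.node 687 (.leaf 10960) (.leaf 4465))))) (.node 696 (.node 692 (.node 690 (.node 689 (.leaf 10992) (.leaf 4482)) (.node 691 (.leaf 11024) (.leaf 10961))) (.node 694 (.node 693 (.leaf 11056) (.leaf 4497)) (.node 695 (.leaf 11088) (.leaf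 4498)))) (.node 700 (.node 698 (.node 697 (.leaf 4513) (.leaf 11136)) (.node 699 (.leaf 4529) (.leaf 11168))) (.node 702 (.node 701 (.leaf 4530) (.leaf 11106)) (.node 703 (.leaf 4546) (.leaf 11232))))))) (.node 736 (.node 720 (.node 712 (.node 708 (.node 706 (.node 705 (.leaf 11137) (.leaf 11264)) (.node 707 (.leaf 4561) (.leaf 10529))) (.node 710 (.node 709 (.leaf 4562) (.leaf 5089)) (.node 711 (.leaf 5090) (.leaf 11360)))) (.node 716 (.node 714 (.node 713 (.leaf 11344) (.leaf 11328)) (.node 715 (.leaf 4593) (.leaf 11424))) (.node 718 (.node 717 (.leaf 4594) (.leaf 11456)) (.node 719 (.leaf 4625) (.leaf 11488))))) (.node 728 (.node 724 (.node 722 (.node 721 (.leaf 4626) (.leaf 11520)) (.node 723 (.leaf 4641) (.leaf 11552))) (.node 726 (.node 725 (.leaf 9938) (.leaf 11584)) (.node 727 (.leaf 4673) (.leaf 11616)))) (.node 732 (.node 730 (.node 729 (.leaf 4674) (.leaf 11648)) (.node 731 (.leaf 4689) (.leaf 11680))) (.node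 734 (.node 733 (.leaf 4705) (.leaf 5250)) (.node 735 (.leaf 4722) (.leaf 11744)))))) (.node 752 (.node 744 (.node 740 (.node 738 (.node 737 (.leaf 11681) (.leaf 11776)) (.node 739 (.leaf 4738) (.leaf 11808))) (.node 742 (.node 741 (.leaf 4769) (.leaf 11840)) (.node 743 (.leaf 4770) (.leaf 11872)))) (.node 748 (.node 746 (.node 745 (.leaf 4802) (.leaf 11904)) (.node 747 (.leaf 10033) (.leaf 11936))) (.node 750 (.node 749 (.leaf 4833) (.leaf 11968)) (.node 751 (.leaf 4834) (.leaf 12000))))) (.node 760 (.node 756 (.node 754 (.node 753 (.leaf 4849) (.leaf 12032)) (.node 755 (.leaf 4865) (.leaf 12064))) (.node 758 (.node 757 (.leaf 4882) (.leaf 12096)) (.node 759 (.leaf 12033) (.leaf 12128)))) (.node 764 (.node 762 (.node 761 (.leaf 4897) (.leaf 12160)) (.node 763 (.leaf 4898) (.leaf 5761))) (.node 766 (.node 765 (.leaf 4913) (.leaf 12224)) (.node 767 (.leaf 4929) (.leaf 4930))))))))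

/-- block of `nd` -/
def nd_3 : Tr := .node 896 (.node 832 (.node 800 (.node 784 (.node 776 (.node 772 (.node 770 (.node 769 (.leaf 12272) (.leaf 4946)) (.node 771 (.leaf 12304) (.leaf 12225))) (.node 774 (.node 773 (.leaf 12336) (.leaf 4962)) (.node 775 (.leaf 12368) (.leaf 4978)))) (.node 780 (.node 778 (.node 777 (.leaf 12400) (.leaf 12065)) (.node 779 (.leaf 12432) (.leaf 4993))) (.node 782 (.node 781 (.leaf 12464) (.leaf 4994)) (.node 783 (.leaf 5009) (.leaf 12512))))) (.node 792 (.node 788 (.node 786 (.node 785 (.leaf 5025) (.leaf 12544)) (.node 787 (.leaf 5026) (.leaf 5218))) (.node 790 (.node 789 (.leaf 5042) (.leaf 12608)) (.node 791 (.leaf 12513) (.leaf 12640)))) (.node 796 (.node 794 (.node 793 (.leaf 5057) (.leaf 11377)) (.node 795 (.leaf 5058) (.leaf 12704))) (.node 798 (.node 797 (.leaf 5073) (.leaf 12736)) (.node 799 (.leaf 5106) (.leaf 12768)))))) (.node 816 (.node 808 (.node 804 (.node 802 (.node 801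 (.leaf 12737) (.leaf 12800)) (.node 803 (.leaf 5121) (.leaf 12289))) (.node 806 (.node 805 (.leaf 5122) (.leaf 12864)) (.node 807 (.leaf 5153) (.leaf 12896)))) (.node 812 (.node 810 (.node 809 (.leaf 5154) (.leaf 12928)) (.node 811 (.leaf 5185) (.leaf 12960))) (.node 814 (.node 813 (.leaf 5186) (.leaf 12992)) (.node 815 (.leaf 5201) (.leaf 13024))))) (.node 824 (.node 820 (.node 818 (.node 817 (.leaf 5217) (.leaf 13056)) (.node 819 (.leaf 5234) (.leaf 13088))) (.node 822 (.node 821 (.leaf 13025) (.leaf 13120)) (.node 823 (.leaf 5249) (.leaf 13152)))) (.node 828 (.node 826 (.node 825 (.leaf 5281) (.leaf 13184)) (.node 827 (.leaf 5282) (.leaf 13216))) (.node 830 (.node 829 (.leaf 5297) (.leaf 13248)) (.node 831 (.leaf 5313) (.leaf 13280))))))) (.node 864 (.node 848 (.node 840 (.node 836 (.node 834 (.node 833 (.leaf 5314) (.leaf 13312)) (.node 835 (.leaf 5330) (.leaf 13344))) (.node 838 (.node 837 (.leaf 13249) (.leaf 13376))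 (.node 839 (.leaf 5346) (.leaf 13408)))) (.node 844 (.node 842 (.node 841 (.leaf 5377) (.leaf 13440)) (.node 843 (.leaf 5378) (.leaf 13472))) (.node 846 (.node 845 (.leaf 5409) (.leaf 13504)) (.node 847 (.leaf 8626) (.leaf 13536))))) (.node 856 (.node 852 (.node 850 (.node 849 (.leaf 5441) (.leaf 13568)) (.node 851 (.leaf 5442) (.leaf 13600))) (.node 854 (.node 853 (.leaf 5457) (.leaf 13632)) (.node 855 (.leaf 5473) (.leaf 13664)))) (.node 860 (.node 858 (.node 857 (.leaf 5490) (.leaf 13696)) (.node 859 (.leaf 13633) (.leaf 5505))) (.node 862 (.node 861 (.leaf 13744) (.leaf 5521)) (.node 863 (.leaf 13776) (.leaf 5537)))))) (.node 880 (.node 872 (.node 868 (.node 866 (.node 865 (.leaf 13808) (.leaf 5554)) (.node 867 (.leaf 13840) (.leaf 13777))) (.node 870 (.node 869 (.leaf 13872) (.leaf 5569)) (.node 871 (.leaf 13904) (.leaf 5570)))) (.node 876 (.node 874 (.node 873 (.leaf 13297) (.leaf 5617)) (.node 875 (.leaf 13968)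 (.leaf 5618))) (.node 878 (.node 877 (.leaf 14000) (.leaf 5633)) (.node 879 (.leaf 14032) (.leaf 5634))))) (.node 888 (.node 884 (.node 882 (.node 881 (.leaf 13922) (.leaf 5681)) (.node 883 (.leaf 14096) (.leaf 5682))) (.node 886 (.node 885 (.leaf 14128) (.leaf 5697)) (.node 887 (.leaf 10337) (.leaf 5698)))) (.node 892 (.node 890 (.node 889 (.leaf 14192) (.leaf 5714)) (.node 891 (.leaf 14224) (.leaf 13665))) (.node 894 (.node 893 (.leaf 14256) (.leaf 5729)) (.node 895 (.leaf 14288) (.leaf 5745)))))))) (.node 960 (.node 928 (.node 912 (.node 904 (.node 900 (.node 898 (.node 897 (.leaf 14320) (.leaf 8530)) (.node 899 (.leaf 14352) (.leaf 5762))) (.node 902 (.node 901 (.leaf 14306) (.leaf 5793)) (.node 903 (.leaf 14416) (.leaf 5794)))) (.node 908 (.node 906 (.node 905 (.leaf 14448) (.leaf 5809)) (.node 907 (.leaf 14480) (.leaf 13410))) (.node 910 (.node 909 (.leaf 14512) (.leaf 5825)) (.node 911 (.leaf 14544) (.leaf 5826)))))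 (.node 920 (.node 916 (.node 914 (.node 913 (.leaf 14576) (.leaf 5857)) (.node 915 (.leaf 14608) (.leaf 5858))) (.node 918 (.node 917 (.leaf 14640) (.leaf 5889)) (.node 919 (.leaf 14672) (.leaf 5890)))) (.node 924 (.node 922 (.node 921 (.leaf 14704) (.leaf 5905)) (.node 923 (.leaf 14736) (.leaf 7442))) (.node 926 (.node 925 (.leaf 5921) (.leaf 14784)) (.node 927 (.leaf 5937) (.leaf 14816)))))) (.node 944 (.node 936 (.node 932 (.node 930 (.node 929 (.leaf 5953) (.leaf 14848)) (.node 931 (.leaf 5970) (.leaf 14880))) (.node 934 (.node 933 (.leaf 14817) (.leaf 14912)) (.node 935 (.leaf 5985) (.leaf 14944)))) (.node 940 (.node 938 (.node 937 (.leaf 5986) (.leaf 6785)) (.node 939 (.leaf 6001) (.leaf 15008))) (.node 942 (.node 941 (.leaf 6017) (.leaf 6562)) (.node 943 (.leaf 6018) (.leaf 14962))))) (.node 952 (.node 948 (.node 946 (.node 945 (.leaf 6034) (.leaf 15104)) (.node 947 (.leaf 15009) (.leaf 15136))) (.node 950 (.node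 949 (.leaf 6050) (.leaf 15168)) (.node 951 (.leaf 6065) (.leaf 15200)))) (.node 956 (.node 954 (.node 953 (.leaf 6081) (.leaf 15232)) (.node 955 (.leaf 6098) (.leaf 15264))) (.node 958 (.node 957 (.leaf 15201) (.leaf 15296)) (.node 959 (.leaf 6113) (.leaf 15328))))))) (.node 992 (.node 976 (.node 968 (.node 964 (.node 962 (.node 961 (.leaf 6114) (.leaf 15360)) (.node 963 (.leaf 6129) (.leaf 15392))) (.node 966 (.node 965 (.leaf 6145) (.leaf 7938)) (.node 967 (.leaf 6146) (.leaf 15346)))) (.node 972 (.node 970 (.node 969 (.leaf 6162) (.leaf 15488)) (.node 971 (.leaf 15393) (.leaf 15520))) (.node 974 (.node 973 (.leaf 6178) (.leaf 15552)) (.node 975 (.leaf 6193) (.leaf 15584))))) (.node 984 (.node 980 (.node 978 (.node 977 (.leaf 6209) (.leaf 15616)) (.node 979 (.leaf 6210) (.leaf 15648))) (.node 982 (.node 981 (.leaf 6226) (.leaf 15680)) (.node 983 (.leaf 15585) (.leaf 15712)))) (.node 988 (.node 986 (.node 985 (.leaf 15154)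 (.leaf 15744)) (.node 987 (.leaf 6241) (.leaf 6305))) (.node 990 (.node 989 (.leaf 6242) (.leaf 15808)) (.node 991 (.leaf 6273) (.leaf 15840)))))) (.node 1008 (.node 1000 (.node 996 (.node 994 (.node 993 (.leaf 6274) (.leaf 15872)) (.node 995 (.leaf 6290) (.leaf 6306))) (.node 998 (.node 997 (.leaf 6337) (.leaf 15936)) (.node 999 (.leaf 6338) (.leaf 15968)))) (.node 1004 (.node 1002 (.node 1001 (.leaf 6369) (.leaf 16000)) (.node 1003 (.leaf 6370) (.leaf 16032))) (.node 1006 (.node 1005 (.leaf 6386) (.leaf 16064)) (.node 1007 (.leaf 15233) (.leaf 16096))))) (.node 1016 (.node 1012 (.node 1010 (.node 1009 (.leaf 6401) (.leaf 16128)) (.node 1011 (.leaf 6402) (.leaf 16160))) (.node 1014 (.node 1013 (.leaf 6417) (.leaf 16192)) (.node 1015 (.leaf 6433) (.leaf 16224)))) (.node 1020 (.node 1018 (.node 1017 (.leaf 6434) (.leaf 6530)) (.node 1019 (.leaf 6450) (.leaf 16288))) (.node 1022 (.node 1021 (.leaf 16193) (.leaf 16320)) (.node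 1023 (.leaf 15313) (.leaf 16352))))))))

/-- block of `nd` -/
def nd_4 : Tr := .node 1152 (.node 1088 (.node 1056 (.node 1040 (.node 1032 (.node 1028 (.node 1026 (.node 1025 (.leaf 6466) (.leaf 10497)) (.node 1027 (.leaf 6482) (.leaf 16416))) (.node 1030 (.node 1029 (.leaf 8145) (.leaf 16448)) (.node 1031 (.leaf 6497) (.leaf 15665)))) (.node 1036 (.node 1034 (.node 1033 (.leaf 6498) (.leaf 6913)) (.node 1035 (.leaf 6914) (.leaf 16544))) (.node 1038 (.node 1037 (.leaf 16528) (.leaf 16512)) (.node 1039 (.leaf 6513) (.leaf 16608))))) (.node 1048 (.node 1044 (.node 1042 (.node 1041 (.leaf 6529) (.leaf 16640)) (.node 1043 (.leaf 6546) (.leaf 16672))) (.node 1046 (.node 1045 (.leaf 16609) (.leaf 16704)) (.node 1047 (.leaf 6561) (.leaf 16736)))) (.node 1052 (.node 1050 (.node 1049 (.leaf 6577) (.leaf 16768)) (.node 1051 (.leaf 6593) (.leaf 6626))) (.node 1054 (.node 1053 (.leaf 16816) (.leaf 16800)) (.node 1055 (.leaf 6610) (.leaf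 16864)))))) (.node 1072 (.node 1064 (.node 1060 (.node 1058 (.node 1057 (.leaf 16769) (.leaf 16896)) (.node 1059 (.leaf 6641) (.leaf 16928))) (.node 1062 (.node 1061 (.leaf 6657) (.leaf 16960)) (.node 1063 (.leaf 6674) (.leaf 16992)))) (.node 1068 (.node 1066 (.node 1065 (.leaf 16929) (.leaf 17024)) (.node 1067 (.leaf 15538) (.leaf 17056))) (.node 1070 (.node 1069 (.leaf 6689) (.leaf 6817)) (.node 1071 (.leaf 6690) (.leaf 17120))))) (.node 1080 (.node 1076 (.node 1074 (.node 1073 (.leaf 6721) (.leaf 17152)) (.node 1075 (.leaf 6722) (.leaf 17184))) (.node 1078 (.node 1077 (.leaf 6753) (.leaf 17216)) (.node 1079 (.leaf 6754) (.leaf 17248)))) (.node 1084 (.node 1082 (.node 1081 (.leaf 6769) (.leaf 17280)) (.node 1083 (.leaf 6786) (.leaf 17312))) (.node 1086 (.node 1085 (.leaf 6802) (.leaf 17344)) (.node 1087 (.leaf 17281) (.leaf 17376))))))) (.node 1120 (.node 1104 (.node 1096 (.node 1092 (.node 1090 (.node 1089 (.leaf 6818)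 (.leaf 17408)) (.node 1091 (.leaf 6833) (.leaf 17440))) (.node 1094 (.node 1093 (.leaf 6849) (.leaf 17472)) (.node 1095 (.leaf 6850) (.leaf 7074)))) (.node 1100 (.node 1098 (.node 1097 (.leaf 6866) (.leaf 17536)) (.node 1099 (.leaf 17441) (.leaf 17568))) (.node 1102 (.node 1101 (.leaf 14929) (.leaf 17600)) (.node 1103 (.leaf 6881) (.leaf 16561))))) (.node 1112 (.node 1108 (.node 1106 (.node 1105 (.leaf 6882) (.leaf 17664)) (.node 1107 (.leaf 6897) (.leaf 17696))) (.node 1110 (.node 1109 (.leaf 7634) (.leaf 17728)) (.node 1111 (.leaf 6945) (.leaf 17760)))) (.node 1116 (.node 1114 (.node 1113 (.leaf 6946) (.leaf 17792)) (.node 1115 (.leaf 6961) (.leaf 17824))) (.node 1118 (.node 1117 (.leaf 15554) (.leaf 17856)) (.node 1119 (.leaf 6977) (.leaf 17888)))))) (.node 1136 (.node 1128 (.node 1124 (.node 1122 (.node 1121 (.leaf 6978) (.leaf 17920)) (.node 1123 (.leaf 7009) (.leaf 9345))) (.node 1126 (.node 1125 (.leaf 7010) (.leaf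 17984)) (.node 1127 (.leaf 7041) (.leaf 18016)))) (.node 1132 (.node 1130 (.node 1129 (.leaf 7042) (.leaf 18048)) (.node 1131 (.leaf 7073) (.leaf 7089))) (.node 1134 (.node 1133 (.leaf 18096) (.leaf 7105)) (.node 1135 (.leaf 18128) (.leaf 7122))))) (.node 1144 (.node 1140 (.node 1138 (.node 1137 (.leaf 18160) (.leaf 18097)) (.node 1139 (.leaf 18192) (.leaf 7137))) (.node 1142 (.node 1141 (.leaf 18224) (.leaf 7138)) (.node 1143 (.leaf 8033) (.leaf 7153)))) (.node 1148 (.node 1146 (.node 1145 (.leaf 18288) (.leaf 7169)) (.node 1147 (.leaf 7714) (.leaf 7170))) (.node 1150 (.node 1149 (.leaf 18242) (.leaf 7186)) (.node 1151 (.leaf 18289) (.leaf 18400)))))))) (.node 1216 (.node 1184 (.node 1168 (.node 1160 (.node 1156 (.node 1154 (.node 1153 (.leaf 7202) (.leaf 18432)) (.node 1155 (.leaf 7217) (.leaf 18464))) (.node 1158 (.node 1157 (.leaf 7233) (.leaf 18496)) (.node 1159 (.leaf 7250) (.leaf 18528)))) (.node 1164 (.node 1162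 (.node 1161 (.leaf 18465) (.leaf 18560)) (.node 1163 (.leaf 7265) (.leaf 18592))) (.node 1166 (.node 1165 (.leaf 7266) (.leaf 7841)) (.node 1167 (.leaf 7281) (.leaf 18656))))) (.node 1176 (.node 1172 (.node 1170 (.node 1169 (.leaf 7297) (.leaf 18688)) (.node 1171 (.leaf 7298) (.leaf 18610))) (.node 1174 (.node 1173 (.leaf 7314) (.leaf 18752)) (.node 1175 (.leaf 18657) (.leaf 18784)))) (.node 1180 (.node 1178 (.node 1177 (.leaf 7330) (.leaf 18816)) (.node 1179 (.leaf 7345) (.leaf 18848))) (.node 1182 (.node 1181 (.leaf 7361) (.leaf 18880)) (.node 1183 (.leaf 7362) (.leaf 18912)))))) (.node 1200 (.node 1192 (.node 1188 (.node 1186 (.node 1185 (.leaf 7378) (.leaf 18944)) (.node 1187 (.leaf 18849) (.leaf 18976))) (.node 1190 (.node 1189 (.leaf 18418) (.leaf 19008)) (.node 1191 (.leaf 7393) (.leaf 7457)))) (.node 1196 (.node 1194 (.node 1193 (.leaf 7394) (.leaf 17489)) (.node 1195 (.leaf 7425) (.leaf 19104))) (.node 1198 (.node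 1197 (.leaf 7426) (.leaf 14626)) (.node 1199 (.leaf 7458) (.leaf 19168))))) (.node 1208 (.node 1204 (.node 1202 (.node 1201 (.leaf 7489) (.leaf 19200)) (.node 1203 (.leaf 7490) (.leaf 19232))) (.node 1206 (.node 1205 (.leaf 7521) (.leaf 19264)) (.node 1207 (.leaf 7522) (.leaf 19296)))) (.node 1212 (.node 1210 (.node 1209 (.leaf 7538) (.leaf 19328)) (.node 1211 (.leaf 18497) (.leaf 19360))) (.node 1214 (.node 1213 (.leaf 7553) (.leaf 19392)) (.node 1215 (.leaf 7554) (.leaf 19424))))))) (.node 1248 (.node 1232 (.node 1224 (.node 1220 (.node 1218 (.node 1217 (.leaf 7569) (.leaf 19456)) (.node 1219 (.leaf 7585) (.leaf 19488))) (.node 1222 (.node 1221 (.leaf 7586) (.leaf 7682)) (.node 1223 (.leaf 7602) (.leaf 19552)))) (.node 1228 (.node 1226 (.node 1225 (.leaf 19457) (.leaf 19584)) (.node 1227 (.leaf 18577) (.leaf 19616))) (.node 1230 (.node 1229 (.leaf 7618) (.leaf 16977)) (.node 1231 (.leaf 7649) (.leaf 18929))))) (.node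 1240 (.node 1236 (.node 1234 (.node 1233 (.leaf 7650) (.leaf 8161)) (.node 1235 (.leaf 8162) (.leaf 19744))) (.node 1238 (.node 1237 (.leaf 19728) (.leaf 19712)) (.node 1239 (.leaf 7665) (.leaf 19808)))) (.node 1244 (.node 1242 (.node 1241 (.leaf 7681) (.leaf 7698)) (.node 1243 (.leaf 19856) (.leaf 19809))) (.node 1246 (.node 1245 (.leaf 19888) (.leaf 7713)) (.node 1247 (.leaf 19920) (.leaf 7729)))))) (.node 1264 (.node 1256 (.node 1252 (.node 1250 (.node 1249 (.leaf 19952) (.leaf 7745)) (.node 1251 (.leaf 7778) (.leaf 18705))) (.node 1254 (.node 1253 (.leaf 19984) (.leaf 7762)) (.node 1255 (.leaf 20048) (.leaf 19953)))) (.node 1260 (.node 1258 (.node 1257 (.leaf 20080) (.leaf 7809)) (.node 1259 (.leaf 20112) (.leaf 7810))) (.node 1262 (.node 1261 (.leaf 20144) (.leaf 7825)) (.node 1263 (.leaf 20176) (.leaf 15170))))) (.node 1272 (.node 1268 (.node 1266 (.node 1265 (.leaf 20208) (.leaf 7842)) (.node 1267 (.leaf 20240)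 (.leaf 7873))) (.node 1270 (.node 1269 (.leaf 20272) (.leaf 7874)) (.node 1271 (.leaf 20304) (.leaf 7922)))) (.node 1276 (.node 1274 (.node 1273 (.leaf 20336) (.leaf 18129)) (.node 1275 (.leaf 20368) (.leaf 7937))) (.node 1278 (.node 1277 (.leaf 20400) (.leaf 7953)) (.node 1279 (.leaf 7969) (.leaf 12722))))))))

/-- block of `nd` -/
def nd_5 : Tr := .node 1408 (.node 1344 (.node 1312 (.node 1296 (.node 1288 (.node 1284 (.node 1282 (.node 1281 (.leaf 7986) (.leaf 20480)) (.node 1283 (.leaf 20433) (.leaf 20512))) (.node 1286 (.node 1285 (.leaf 18802) (.leaf 20544)) (.node 1287 (.leaf 8001) (.leaf 8065)))) (.node 1292 (.node 1290 (.node 1289 (.leaf 8002) (.leaf 20608)) (.node 1291 (.leaf 8017) (.leaf 20640))) (.node 1294 (.node 1293 (.leaf 8034) (.leaf 20672)) (.node 1295 (.leaf 8050) (.leaf 20704))))) (.node 1304 (.node 1300 (.node 1298 (.node 1297 (.leaf 20641) (.leaf 20736)) (.node 1299 (.leaf 8066) (.leaf 20768))) (.node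 1302 (.node 1301 (.leaf 8081) (.leaf 20800)) (.node 1303 (.leaf 8097) (.leaf 15826)))) (.node 1308 (.node 1306 (.node 1305 (.leaf 8098) (.leaf 8322)) (.node 1307 (.leaf 8114) (.leaf 20896))) (.node 1310 (.node 1309 (.leaf 20801) (.leaf 20928)) (.node 1311 (.leaf 18209) (.leaf 20960)))))) (.node 1328 (.node 1320 (.node 1316 (.node 1314 (.node 1313 (.leaf 8129) (.leaf 19761)) (.node 1315 (.leaf 8130) (.leaf 21024))) (.node 1318 (.node 1317 (.leaf 8193) (.leaf 21056)) (.node 1319 (.leaf 8194) (.leaf 21088)))) (.node 1324 (.node 1322 (.node 1321 (.leaf 8209) (.leaf 21120)) (.node 1323 (.leaf 18818) (.leaf 21152))) (.node 1326 (.node 1325 (.leaf 8225) (.leaf 21184)) (.node 1327 (.leaf 8226) (.leaf 21216))))) (.node 1336 (.node 1332 (.node 1330 (.node 1329 (.leaf 8257) (.leaf 15889)) (.node 1331 (.leaf 8258) (.leaf 21280))) (.node 1334 (.node 1333 (.leaf 8289) (.leaf 21312)) (.node 1335 (.leaf 8290) (.leaf 21344)))) (.node 1340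 (.node 1338 (.node 1337 (.leaf 8321) (.leaf 8337)) (.node 1339 (.leaf 21392) (.leaf 8353))) (.node 1342 (.node 1341 (.leaf 8354) (.leaf 21440)) (.node 1343 (.leaf 8370) (.leaf 21472))))))) (.node 1376 (.node 1360 (.node 1352 (.node 1348 (.node 1346 (.node 1345 (.leaf 21393) (.leaf 21504)) (.node 1347 (.leaf 11074) (.leaf 21536))) (.node 1350 (.node 1349 (.leaf 8385) (.leaf 8449)) (.node 1351 (.leaf 8386) (.leaf 21600)))) (.node 1356 (.node 1354 (.node 1353 (.leaf 8417) (.leaf 21632)) (.node 1355 (.leaf 8418) (.leaf 21664))) (.node 1358 (.node 1357 (.leaf 8434) (.leaf 21696)) (.node 1359 (.leaf 13745) (.leaf 21728))))) (.node 1368 (.node 1364 (.node 1362 (.node 1361 (.leaf 8450) (.leaf 21760)) (.node 1363 (.leaf 8481) (.leaf 21792))) (.node 1366 (.node 1365 (.leaf 8482) (.leaf 21824)) (.node 1367 (.leaf 8513) (.leaf 21856)))) (.node 1372 (.node 1370 (.node 1369 (.leaf 8514) (.leaf 21888)) (.node 1371 (.leaf 8545) (.leaf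 21920))) (.node 1374 (.node 1373 (.leaf 8546) (.leaf 21952)) (.node 1375 (.leaf 8561) (.leaf 21984)))))) (.node 1392 (.node 1384 (.node 1380 (.node 1378 (.node 1377 (.leaf 8577) (.leaf 22016)) (.node 1379 (.leaf 8578) (.leaf 8802))) (.node 1382 (.node 1381 (.leaf 8594) (.leaf 22080)) (.node 1383 (.leaf 21985) (.leaf 22112)))) (.node 1388 (.node 1386 (.node 1385 (.leaf 10593) (.leaf 22144)) (.node 1387 (.leaf 8609) (.leaf 13617))) (.node 1390 (.node 1389 (.leaf 8610) (.leaf 22208)) (.node 1391 (.leaf 8641) (.leaf 21457))))) (.node 1400 (.node 1396 (.node 1394 (.node 1393 (.leaf 8642) (.leaf 22272)) (.node 1395 (.leaf 8673) (.leaf 22304))) (.node 1398 (.node 1397 (.leaf 8674) (.leaf 22336)) (.node 1399 (.leaf 8705) (.leaf 22368)))) (.node 1404 (.node 1402 (.node 1401 (.leaf 8706) (.leaf 22400)) (.node 1403 (.leaf 8737) (.leaf 22432))) (.node 1406 (.node 1405 (.leaf 8738) (.leaf 22464)) (.node 1407 (.leaf 8769) (.leaf 22496))))))))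 (.node 1472 (.node 1440 (.node 1424 (.node 1416 (.node 1412 (.node 1410 (.node 1409 (.leaf 8770) (.leaf 22528)) (.node 1411 (.leaf 8785) (.leaf 22560))) (.node 1414 (.node 1413 (.leaf 8801) (.leaf 22592)) (.node 1415 (.leaf 8818) (.leaf 22624)))) (.node 1420 (.node 1418 (.node 1417 (.leaf 22561) (.leaf 22656)) (.node 1419 (.leaf 8833) (.leaf 22688))) (.node 1422 (.node 1421 (.leaf 8865) (.leaf 10370)) (.node 1423 (.leaf 20130) (.leaf 22720))))) (.node 1432 (.node 1428 (.node 1426 (.node 1425 (.leaf 8866) (.leaf 22784)) (.node 1427 (.leaf 10369) (.leaf 22816))) (.node 1430 (.node 1429 (.leaf 8881) (.leaf 22848)) (.node 1431 (.leaf 8897) (.leaf 9698)))) (.node 1436 (.node 1434 (.node 1433 (.leaf 8898) (.leaf 22912)) (.node 1435 (.leaf 8914) (.leaf 22944))) (.node 1438 (.node 1437 (.leaf 22849) (.leaf 22976)) (.node 1439 (.leaf 8930) (.leaf 23008)))))) (.node 1456 (.node 1448 (.node 1444 (.node 1442 (.node 1441 (.leaf 8961)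 (.leaf 23040)) (.node 1443 (.leaf 8962) (.leaf 12753))) (.node 1446 (.node 1445 (.leaf 12754) (.leaf 23104)) (.node 1447 (.leaf 23088) (.leaf 23072)))) (.node 1452 (.node 1450 (.node 1449 (.leaf 8993) (.leaf 23168)) (.node 1451 (.leaf 8994) (.leaf 23200))) (.node 1454 (.node 1453 (.leaf 9025) (.leaf 23232)) (.node 1455 (.leaf 9090) (.leaf 23264))))) (.node 1464 (.node 1460 (.node 1458 (.node 1457 (.leaf 9105) (.leaf 23296)) (.node 1459 (.leaf 9106) (.leaf 23328))) (.node 1462 (.node 1461 (.leaf 9121) (.leaf 23360)) (.node 1463 (.leaf 9122) (.leaf 23313)))) (.node 1468 (.node 1466 (.node 1465 (.leaf 9153) (.leaf 11250)) (.node 1467 (.leaf 23440) (.leaf 23424))) (.node 1470 (.node 1469 (.leaf 9154) (.leaf 23488)) (.node 1471 (.leaf 11249) (.leaf 23520))))))) (.node 1504 (.node 1488 (.node 1480 (.node 1476 (.node 1474 (.node 1473 (.leaf 9185) (.leaf 23552)) (.node 1475 (.leaf 9186) (.leaf 13793))) (.node 1478 (.node 1477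 (.leaf 13794) (.leaf 23616)) (.node 1479 (.leaf 20321) (.leaf 23584)))) (.node 1484 (.node 1482 (.node 1481 (.leaf 9217) (.leaf 23680)) (.node 1483 (.leaf 9218) (.leaf 23712))) (.node 1486 (.node 1485 (.leaf 9233) (.leaf 23744)) (.node 1487 (.leaf 9249) (.leaf 23776))))) (.node 1496 (.node 1492 (.node 1490 (.node 1489 (.leaf 9266) (.leaf 23808)) (.node 1491 (.leaf 23745) (.leaf 23840))) (.node 1494 (.node 1493 (.leaf 22993) (.leaf 23872)) (.node 1495 (.leaf 13602) (.leaf 23904)))) (.node 1500 (.node 1498 (.node 1497 (.leaf 13569) (.leaf 23936)) (.node 1499 (.leaf 9281) (.leaf 23968))) (.node 1502 (.node 1501 (.leaf 9282) (.leaf 14561)) (.node 1503 (.leaf 9297) (.leaf 24032)))))) (.node 1520 (.node 1512 (.node 1508 (.node 1506 (.node 1505 (.leaf 9313) (.leaf 9314)) (.node 1507 (.leaf 24080) (.leaf 9330))) (.node 1510 (.node 1509 (.leaf 24112) (.leaf 24033)) (.node 1511 (.leaf 24144) (.leaf 9346)))) (.node 1516 (.node 1514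 (.node 1513 (.leaf 24176) (.leaf 9377)) (.node 1515 (.leaf 24208) (.leaf 9378))) (.node 1518 (.node 1517 (.leaf 9409) (.leaf 9410)) (.node 1519 (.leaf 9426) (.leaf 24288))))) (.node 1528 (.node 1524 (.node 1522 (.node 1521 (.leaf 23233) (.leaf 24320)) (.node 1523 (.leaf 9441) (.leaf 24352))) (.node 1526 (.node 1525 (.leaf 9442) (.leaf 9457)) (.node 1527 (.leaf 24400) (.leaf 9473)))) (.node 1532 (.node 1530 (.node 1529 (.leaf 24432) (.leaf 9474)) (.node 1531 (.leaf 9666) (.leaf 9490))) (.node 1534 (.node 1533 (.leaf 24496) (.leaf 24401)) (.node 1535 (.leaf 24528) (.leaf 9505))))))))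

/-- block of `nd` -/
def nd_6 : Tr := .node 1664 (.node 1600 (.node 1568 (.node 1552 (.node 1544 (.node 1540 (.node 1538 (.node 1537 (.leaf 24560) (.leaf 9506)) (.node 1539 (.leaf 24592) (.leaf 9521))) (.node 1542 (.node 1541 (.leaf 24624) (.leaf 11874)) (.node 1543 (.leaf 24656) (.leaf 11841)))) (.node 1548 (.node 1546 (.node 1545 (.leaf 24688) (.leaf 9537)) (.node 1547 (.leaf 24720) (.leaf 9538))) (.node 1550 (.node 1549 (.leaf 24578) (.leaf 9554)) (.node 1551 (.leaf 24784) (.leaf 24625))))) (.node 1560 (.node 1556 (.node 1554 (.node 1553 (.leaf 24816) (.leaf 9569)) (.node 1555 (.leaf 24097) (.leaf 9570))) (.node 1558 (.node 1557 (.leaf 24880) (.leaf 9601)) (.node 1559 (.leaf 24912) (.leaf 9602)))) (.node 1564 (.node 1562 (.node 1561 (.leaf 24944) (.leaf 9633)) (.node 1563 (.leaf 24976) (.leaf 9634))) (.node 1566 (.node 1565 (.leaf 25008) (.leaf 9649)) (.node 1567 (.leaf 25040) (.leaf 9665)))))) (.node 1584 (.node 1576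 (.node 1572 (.node 1570 (.node 1569 (.leaf 25072) (.leaf 9682)) (.node 1571 (.leaf 25104) (.leaf 25041))) (.node 1574 (.node 1573 (.leaf 25136) (.leaf 9697)) (.node 1575 (.leaf 25168) (.leaf 9713)))) (.node 1580 (.node 1578 (.node 1577 (.leaf 25200) (.leaf 9729)) (.node 1579 (.leaf 25232) (.leaf 9730))) (.node 1582 (.node 1581 (.leaf 11986) (.leaf 9746)) (.node 1583 (.leaf 25296) (.leaf 25201))))) (.node 1592 (.node 1588 (.node 1586 (.node 1585 (.leaf 25328) (.leaf 9761)) (.node 1587 (.leaf 9857) (.leaf 9762))) (.node 1590 (.node 1589 (.leaf 25392) (.leaf 9793)) (.node 1591 (.leaf 25424) (.leaf 9794)))) (.node 1596 (.node 1594 (.node 1593 (.leaf 25456) (.leaf 9809)) (.node 1595 (.leaf 25488) (.leaf 9826))) (.node 1598 (.node 1597 (.leaf 9842) (.leaf 25536)) (.node 1599 (.leaf 25489) (.leaf 25568))))))) (.node 1632 (.node 1616 (.node 1608 (.node 1604 (.node 1602 (.node 1601 (.leaf 9858) (.leaf 25600)) (.node 1603 (.leaf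 9889) (.leaf 25632))) (.node 1606 (.node 1605 (.leaf 9890) (.leaf 25664)) (.node 1607 (.leaf 9922) (.leaf 9953)))) (.node 1612 (.node 1610 (.node 1609 (.leaf 25712) (.leaf 9954)) (.node 1611 (.leaf 25744) (.leaf 9969))) (.node 1614 (.node 1613 (.leaf 25776) (.leaf 9985)) (.node 1615 (.leaf 25808) (.leaf 9986))))) (.node 1624 (.node 1620 (.node 1618 (.node 1617 (.leaf 10210) (.leaf 10002)) (.node 1619 (.leaf 25872) (.leaf 25777))) (.node 1622 (.node 1621 (.leaf 25904) (.leaf 10017)) (.node 1623 (.leaf 25936) (.leaf 10018)))) (.node 1628 (.node 1626 (.node 1625 (.leaf 25968) (.leaf 10049)) (.node 1627 (.leaf 26000) (.leaf 10050))) (.node 1630 (.node 1629 (.leaf 25954) (.leaf 10081)) (.node 1631 (.leaf 26064) (.leaf 10082)))))) (.node 1648 (.node 1640 (.node 1636 (.node 1634 (.node 1633 (.leaf 26096) (.leaf 10097)) (.node 1635 (.leaf 26128) (.leaf 10418))) (.node 1638 (.node 1637 (.leaf 26160) (.leaf 10113)) (.node 1639 (.leaf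 26192) (.leaf 10114)))) (.node 1644 (.node 1642 (.node 1641 (.leaf 26224) (.leaf 10145)) (.node 1643 (.leaf 26256) (.leaf 10146))) (.node 1646 (.node 1645 (.leaf 10177) (.leaf 26304)) (.node 1647 (.leaf 10178) (.leaf 26336))))) (.node 1656 (.node 1652 (.node 1650 (.node 1649 (.leaf 24721) (.leaf 26368)) (.node 1651 (.leaf 24754) (.leaf 26400))) (.node 1654 (.node 1653 (.leaf 10193) (.leaf 10209)) (.node 1655 (.leaf 10226) (.leaf 26464)))) (.node 1660 (.node 1658 (.node 1657 (.leaf 26433) (.leaf 26496)) (.node 1659 (.leaf 10241) (.leaf 26528))) (.node 1662 (.node 1661 (.leaf 10273) (.leaf 12786)) (.node 1663 (.leaf 26576) (.leaf 26560)))))))) (.node 1728 (.node 1696 (.node 1680 (.node 1672 (.node 1668 (.node 1666 (.node 1665 (.leaf 10274) (.leaf 12785)) (.node 1667 (.leaf 26640) (.leaf 26624))) (.node 1670 (.node 1669 (.leaf 10289) (.leaf 26688)) (.node 1671 (.leaf 10306) (.leaf 26720)))) (.node 1676 (.node 1674 (.node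 1673 (.leaf 10322) (.leaf 26752)) (.node 1675 (.leaf 26689) (.leaf 26784))) (.node 1678 (.node 1677 (.leaf 10338) (.leaf 26816)) (.node 1679 (.leaf 10402) (.leaf 26848))))) (.node 1688 (.node 1684 (.node 1682 (.node 1681 (.leaf 10433) (.leaf 26880)) (.node 1683 (.leaf 10434) (.leaf 26912))) (.node 1686 (.node 1685 (.leaf 10465) (.leaf 26944)) (.node 1687 (.leaf 10466) (.leaf 26976)))) (.node 1692 (.node 1690 (.node 1689 (.leaf 10481) (.leaf 27008)) (.node 1691 (.leaf 10498) (.leaf 27040))) (.node 1694 (.node 1693 (.leaf 10514) (.leaf 27072)) (.node 1695 (.leaf 27009) (.leaf 27104)))))) (.node 1712 (.node 1704 (.node 1700 (.node 1698 (.node 1697 (.leaf 10530) (.leaf 27136)) (.node 1699 (.leaf 10561) (.leaf 27168))) (.node 1702 (.node 1701 (.leaf 10562) (.leaf 27200)) (.node 1703 (.leaf 10594) (.leaf 27232)))) (.node 1708 (.node 1706 (.node 1705 (.leaf 10609) (.leaf 27264)) (.node 1707 (.leaf 10625) (.leaf 27296))) (.node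 1710 (.node 1709 (.leaf 10642) (.leaf 27328)) (.node 1711 (.leaf 27265) (.leaf 27360))))) (.node 1720 (.node 1716 (.node 1714 (.node 1713 (.leaf 10657) (.leaf 27392)) (.node 1715 (.leaf 10658) (.leaf 27424))) (.node 1718 (.node 1717 (.leaf 10673) (.leaf 27456)) (.node 1719 (.leaf 10689) (.leaf 27488)))) (.node 1724 (.node 1722 (.node 1721 (.leaf 10690) (.leaf 27520)) (.node 1723 (.leaf 10706) (.leaf 27552))) (.node 1726 (.node 1725 (.leaf 27457) (.leaf 27584)) (.node 1727 (.leaf 10721) (.leaf 10849))))))) (.node 1760 (.node 1744 (.node 1736 (.node 1732 (.node 1730 (.node 1729 (.leaf 10722) (.leaf 27648)) (.node 1731 (.leaf 10737) (.leaf 27680))) (.node 1734 (.node 1733 (.leaf 10753) (.leaf 22546)) (.node 1735 (.leaf 27728) (.leaf 27712)))) (.node 1740 (.node 1738 (.node 1737 (.leaf 10754) (.leaf 16754)) (.node 1739 (.leaf 22545) (.leaf 27808))) (.node 1742 (.node 1741 (.leaf 10770) (.leaf 27840)) (.node 1743 (.leaf 27681)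 (.leaf 27872))))) (.node 1752 (.node 1748 (.node 1746 (.node 1745 (.leaf 10785) (.leaf 27537)) (.node 1747 (.leaf 10786) (.leaf 27936))) (.node 1750 (.node 1749 (.leaf 10817) (.leaf 27968)) (.node 1751 (.leaf 10818) (.leaf 28000)))) (.node 1756 (.node 1754 (.node 1753 (.leaf 10834) (.leaf 28032)) (.node 1755 (.leaf 26529) (.leaf 28064))) (.node 1758 (.node 1757 (.leaf 10850) (.leaf 28096)) (.node 1759 (.leaf 10881) (.leaf 28128)))))) (.node 1776 (.node 1768 (.node 1764 (.node 1762 (.node 1761 (.leaf 10882) (.leaf 28160)) (.node 1763 (.leaf 10913) (.leaf 28192))) (.node 1766 (.node 1765 (.leaf 10914) (.leaf 28224)) (.node 1767 (.leaf 10930) (.leaf 28256)))) (.node 1772 (.node 1770 (.node 1769 (.leaf 27297) (.leaf 28288)) (.node 1771 (.leaf 10946) (.leaf 28320))) (.node 1774 (.node 1773 (.leaf 10977) (.leaf 28352)) (.node 1775 (.leaf 10978) (.leaf 28384))))) (.node 1784 (.node 1780 (.node 1778 (.node 1777 (.leaf 10993) (.leaf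 28416)) (.node 1779 (.leaf 12370) (.leaf 28448))) (.node 1782 (.node 1781 (.leaf 11009) (.leaf 28480)) (.node 1783 (.leaf 11010) (.leaf 28512)))) (.node 1788 (.node 1786 (.node 1785 (.leaf 11041) (.leaf 11042)) (.node 1787 (.leaf 28560) (.leaf 11073))) (.node 1790 (.node 1789 (.leaf 28592) (.leaf 11089)) (.node 1791 (.leaf 28624) (.leaf 11105))))))))

/-- block of `nd` -/
def nd_7 : Tr := .node 1920 (.node 1856 (.node 1824 (.node 1808 (.node 1800 (.node 1796 (.node 1794 (.node 1793 (.leaf 28656) (.leaf 11122)) (.node 1795 (.leaf 28625) (.leaf 28704))) (.node 1798 (.node 1797 (.leaf 11153) (.leaf 13858)) (.node 1799 (.leaf 28752) (.leaf 28736)))) (.node 1804 (.node 1802 (.node 1801 (.leaf 11154) (.leaf 13857)) (.node 1803 (.leaf 28816) (.leaf 28800))) (.node 1806 (.node 1805 (.leaf 11169) (.leaf 28864)) (.node 1807 (.leaf 11185) (.leaf 27442))))) (.node 1816 (.node 1812 (.node 1810 (.node 1809 (.leaf 11202) (.leaf 28928))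 (.node 1811 (.leaf 28865) (.leaf 28960))) (.node 1814 (.node 1813 (.leaf 11218) (.leaf 28992)) (.node 1815 (.leaf 11281) (.leaf 29024)))) (.node 1820 (.node 1818 (.node 1817 (.leaf 11282) (.leaf 29056)) (.node 1819 (.leaf 11313) (.leaf 29088))) (.node 1822 (.node 1821 (.leaf 11378) (.leaf 29120)) (.node 1823 (.leaf 11393) (.leaf 11394)))))) (.node 1840 (.node 1832 (.node 1828 (.node 1826 (.node 1825 (.leaf 29168) (.leaf 11409)) (.node 1827 (.leaf 29200) (.leaf 11410))) (.node 1830 (.node 1829 (.leaf 28497) (.leaf 11425)) (.node 1831 (.leaf 29264) (.leaf 11442)))) (.node 1836 (.node 1834 (.node 1833 (.leaf 29296) (.leaf 11458)) (.node 1835 (.leaf 29328) (.leaf 29265))) (.node 1838 (.node 1837 (.leaf 29360) (.leaf 11473)) (.node 1839 (.leaf 11474) (.leaf 11489))))) (.node 1848 (.node 1844 (.node 1842 (.node 1841 (.leaf 29424) (.leaf 11506)) (.node 1843 (.leaf 12482) (.leaf 11522))) (.node 1846 (.node 1845 (.leaf 29488) (.leaf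 29425)) (.node 1847 (.leaf 29520) (.leaf 11537)))) (.node 1852 (.node 1850 (.node 1849 (.leaf 29313) (.leaf 11538)) (.node 1851 (.leaf 21873) (.leaf 21874))) (.node 1854 (.node 1853 (.leaf 29584) (.leaf 11569)) (.node 1855 (.leaf 29648) (.leaf 11570))))))) (.node 1888 (.node 1872 (.node 1864 (.node 1860 (.node 1858 (.node 1857 (.leaf 29680) (.leaf 11601)) (.node 1859 (.leaf 29712) (.leaf 11602))) (.node 1862 (.node 1861 (.leaf 29744) (.leaf 11617)) (.node 1863 (.leaf 29776) (.leaf 11633)))) (.node 1868 (.node 1866 (.node 1865 (.leaf 29808) (.leaf 11634)) (.node 1867 (.leaf 29840) (.leaf 11650))) (.node 1870 (.node 1869 (.leaf 29872) (.leaf 29777)) (.node 1871 (.leaf 29904) (.leaf 11665))))) (.node 1880 (.node 1876 (.node 1874 (.node 1873 (.leaf 11666) (.leaf 29952)) (.node 1875 (.leaf 11697) (.leaf 11698))) (.node 1878 (.node 1877 (.leaf 30000) (.leaf 11713)) (.node 1879 (.leaf 11730) (.leaf 30048)))) (.node 1884 (.node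 1882 (.node 1881 (.leaf 30033) (.leaf 30080)) (.node 1883 (.leaf 11761) (.leaf 11762))) (.node 1886 (.node 1885 (.leaf 30128) (.leaf 11793)) (.node 1887 (.leaf 30160) (.leaf 11794)))))) (.node 1904 (.node 1896 (.node 1892 (.node 1890 (.node 1889 (.leaf 11810) (.leaf 30208)) (.node 1891 (.leaf 13809) (.leaf 30240))) (.node 1894 (.node 1893 (.leaf 11825) (.leaf 30272)) (.node 1895 (.leaf 11826) (.leaf 30304)))) (.node 1900 (.node 1898 (.node 1897 (.leaf 11857) (.leaf 30336)) (.node 1899 (.leaf 11858) (.leaf 12178))) (.node 1902 (.node 1901 (.leaf 11889) (.leaf 12017)) (.node 1903 (.leaf 11890) (.leaf 30432))))) (.node 1912 (.node 1908 (.node 1906 (.node 1905 (.leaf 11921) (.leaf 29857)) (.node 1907 (.leaf 11922) (.leaf 30496))) (.node 1910 (.node 1909 (.leaf 11953) (.leaf 13554)) (.node 1911 (.leaf 30544) (.leaf 30528)))) (.node 1916 (.node 1914 (.node 1913 (.leaf 11954) (.leaf 13553)) (.node 1915 (.leaf 30608) (.leaf 30592)))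 (.node 1918 (.node 1917 (.leaf 11969) (.leaf 30656)) (.node 1919 (.leaf 11985) (.leaf 30688)))))))) (.node 1984 (.node 1952 (.node 1936 (.node 1928 (.node 1924 (.node 1922 (.node 1921 (.leaf 12002) (.leaf 30720)) (.node 1923 (.leaf 30657) (.leaf 30752))) (.node 1926 (.node 1925 (.leaf 12018) (.leaf 30784)) (.node 1927 (.leaf 12049) (.leaf 25681)))) (.node 1932 (.node 1930 (.node 1929 (.leaf 12050) (.leaf 30848)) (.node 1931 (.leaf 12081) (.leaf 30880))) (.node 1934 (.node 1933 (.leaf 12082) (.leaf 30912)) (.node 1935 (.leaf 12113) (.leaf 30944))))) (.node 1944 (.node 1940 (.node 1938 (.node 1937 (.leaf 12114) (.leaf 30976)) (.node 1939 (.leaf 12145) (.leaf 31008))) (.node 1942 (.node 1941 (.leaf 12161) (.leaf 31040)) (.node 1943 (.leaf 12177) (.leaf 31072)))) (.node 1948 (.node 1946 (.node 1945 (.leaf 12194) (.leaf 31041)) (.node 1947 (.leaf 31120) (.leaf 12209))) (.node 1950 (.node 1949 (.leaf 31152) (.leaf 12241)) (.node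 1951 (.leaf 31184) (.leaf 12242)))))) (.node 1968 (.node 1960 (.node 1956 (.node 1954 (.node 1953 (.leaf 12257) (.leaf 31233)) (.node 1955 (.leaf 31248) (.leaf 12290))) (.node 1958 (.node 1957 (.leaf 31280) (.leaf 12321)) (.node 1959 (.leaf 31312) (.leaf 12322)))) (.node 1964 (.node 1962 (.node 1961 (.leaf 12353) (.leaf 31360)) (.node 1963 (.leaf 12354) (.leaf 31392))) (.node 1966 (.node 1965 (.leaf 12385) (.leaf 31424)) (.node 1967 (.leaf 12417) (.leaf 31456))))) (.node 1976 (.node 1972 (.node 1970 (.node 1969 (.leaf 12418) (.leaf 31488)) (.node 1971 (.leaf 12449) (.leaf 31520))) (.node 1974 (.node 1973 (.leaf 12450) (.leaf 31552)) (.node 1975 (.leaf 12465) (.leaf 12498)))) (.node 1980 (.node 1978 (.node 1977 (.leaf 31585) (.leaf 31616)) (.node 1979 (.leaf 12529) (.leaf 31648))) (.node 1982 (.node 1981 (.leaf 12530) (.leaf 31680)) (.node 1983 (.leaf 12545) (.leaf 31712))))))) (.node 2016 (.node 2000 (.node 1992 (.node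 1988 (.node 1986 (.node 1985 (.leaf 12562) (.leaf 31744)) (.node 1987 (.leaf 12578) (.leaf 31776))) (.node 1990 (.node 1989 (.leaf 31713) (.leaf 31808)) (.node 1991 (.leaf 12594) (.leaf 31840)))) (.node 1996 (.node 1994 (.node 1993 (.leaf 12625) (.leaf 31872)) (.node 1995 (.leaf 12626) (.leaf 31904))) (.node 1998 (.node 1997 (.leaf 12657) (.leaf 31936)) (.node 1999 (.leaf 12658) (.leaf 31968))))) (.node 2008 (.node 2004 (.node 2002 (.node 2001 (.leaf 12673) (.leaf 32000)) (.node 2003 (.leaf 12689) (.leaf 32032))) (.node 2006 (.node 2005 (.leaf 12706) (.leaf 32001)) (.node 2007 (.leaf 32080) (.leaf 12721)))) (.node 2012 (.node 2010 (.node 2009 (.leaf 32112) (.leaf 12817)) (.node 2011 (.leaf 32144) (.leaf 12818))) (.node 2014 (.node 2013 (.leaf 32176) (.leaf 12833)) (.node 2015 (.leaf 32208) (.leaf 12849)))))) (.node 2032 (.node 2024 (.node 2020 (.node 2018 (.node 2017 (.leaf 32240) (.leaf 12866)) (.node 2019 (.leaf 32272)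 (.leaf 32209))) (.node 2022 (.node 2021 (.leaf 32304) (.leaf 12881)) (.node 2023 (.leaf 32336) (.leaf 12897)))) (.node 2028 (.node 2026 (.node 2025 (.leaf 32368) (.leaf 12913)) (.node 2027 (.leaf 32400) (.leaf 12914))) (.node 2030 (.node 2029 (.leaf 13170) (.leaf 12930)) (.node 2031 (.leaf 32464) (.leaf 32369))))) (.node 2040 (.node 2036 (.node 2034 (.node 2033 (.leaf 32496) (.leaf 12945)) (.node 2035 (.leaf 12946) (.leaf 32544))) (.node 2038 (.node 2037 (.leaf 12961) (.leaf 32576)) (.node 2039 (.leaf 12977) (.leaf 32608)))) (.node 2044 (.node 2042 (.node 2041 (.leaf 12978) (.leaf 12994)) (.node 2043 (.leaf 32656) (.leaf 32577))) (.node 2046 (.node 2045 (.leaf 32688) (.leaf 13009)) (.node 2047 (.leaf 20689) (.leaf 13010))))))))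

/-- block of `nd` -/
def nd_8 : Tr := .node 2176 (.node 2112 (.node 2080 (.node 2064 (.node 2056 (.node 2052 (.node 2050 (.node 2049 (.leaf 32752) (.leaf 13041)) (.node 2051 (.leaf 32784) (.leaf 13042))) (.node 2054 (.node 2053 (.leaf 13057) (.leaf 32832)) (.node 2055 (.leaf 31842) (.leaf 32864)))) (.node 2060 (.node 2058 (.node 2057 (.leaf 13073) (.leaf 32896)) (.node 2059 (.leaf 13105) (.leaf 13106))) (.node 2062 (.node 2061 (.leaf 32944) (.leaf 13137)) (.node 2063 (.leaf 32976) (.leaf 13138))))) (.node 2072 (.node 2068 (.node 2066 (.node 2065 (.leaf 33008) (.leaf 13153)) (.node 2067 (.leaf 33040) (.leaf 30050))) (.node 2070 (.node 2069 (.leaf 33072) (.leaf 13169)) (.node 2071 (.leaf 33104) (.leaf 13185)))) (.node 2076 (.node 2074 (.node 2073 (.leaf 33136) (.leaf 13201)) (.node 2075 (.leaf 33168) (.leaf 13202))) (.node 2078 (.node 2077 (.leaf 13586) (.leaf 13218)) (.node 2079 (.leaf 33232) (.leaf 33137)))))) (.node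 2096 (.node 2088 (.node 2084 (.node 2082 (.node 2081 (.leaf 33264) (.leaf 13233)) (.node 2083 (.leaf 13329) (.leaf 13234))) (.node 2086 (.node 2085 (.leaf 33328) (.leaf 13265)) (.node 2087 (.leaf 33360) (.leaf 13266)))) (.node 2092 (.node 2090 (.node 2089 (.leaf 33392) (.leaf 13281)) (.node 2091 (.leaf 33424) (.leaf 13298))) (.node 2094 (.node 2093 (.leaf 33456) (.leaf 13314)) (.node 2095 (.leaf 33488) (.leaf 33425))))) (.node 2104 (.node 2100 (.node 2098 (.node 2097 (.leaf 33520) (.leaf 13330)) (.node 2099 (.leaf 33552) (.leaf 13361))) (.node 2102 (.node 2101 (.leaf 33584) (.leaf 13362)) (.node 2103 (.leaf 33616) (.leaf 13393)))) (.node 2108 (.node 2106 (.node 2105 (.leaf 33648) (.leaf 32754)) (.node 2107 (.leaf 33680) (.leaf 32721))) (.node 2110 (.node 2109 (.leaf 33712) (.leaf 13394)) (.node 2111 (.leaf 13425) (.leaf 13426))))))) (.node 2144 (.node 2128 (.node 2120 (.node 2116 (.node 2114 (.node 2113 (.leaf 33776) (.leaf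 13441)) (.node 2115 (.leaf 33808) (.leaf 13457))) (.node 2118 (.node 2117 (.leaf 33840) (.leaf 13458)) (.node 2119 (.leaf 13762) (.leaf 13474)))) (.node 2124 (.node 2122 (.node 2121 (.leaf 33904) (.leaf 33809)) (.node 2123 (.leaf 33936) (.leaf 13489))) (.node 2126 (.node 2125 (.leaf 33968) (.leaf 13490)) (.node 2127 (.leaf 34000) (.leaf 13521))))) (.node 2136 (.node 2132 (.node 2130 (.node 2129 (.leaf 34032) (.leaf 13522)) (.node 2131 (.leaf 33986) (.leaf 13585))) (.node 2134 (.node 2133 (.leaf 34096) (.leaf 13618)) (.node 2135 (.leaf 34128) (.leaf 13649)))) (.node 2140 (.node 2138 (.node 2137 (.leaf 21842) (.leaf 13650)) (.node 2139 (.leaf 34192) (.leaf 13681))) (.node 2142 (.node 2141 (.leaf 34224) (.leaf 13682)) (.node 2143 (.leaf 34256) (.leaf 13713)))))) (.node 2160 (.node 2152 (.node 2148 (.node 2146 (.node 2145 (.leaf 21681) (.leaf 13761)) (.node 2147 (.leaf 34320) (.leaf 13825))) (.node 2150 (.node 2149 (.leaf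 34352) (.leaf 13826)) (.node 2151 (.leaf 34384) (.leaf 13889)))) (.node 2156 (.node 2154 (.node 2153 (.leaf 34416) (.leaf 26850)) (.node 2155 (.leaf 34448) (.leaf 13905))) (.node 2158 (.node 2157 (.leaf 34480) (.leaf 13921)) (.node 2159 (.leaf 34512) (.leaf 13938))))) (.node 2168 (.node 2164 (.node 2162 (.node 2161 (.leaf 34544) (.leaf 34481)) (.node 2163 (.leaf 34576) (.leaf 13953))) (.node 2166 (.node 2165 (.leaf 34608) (.leaf 13969)) (.node 2167 (.leaf 15186) (.leaf 13985)))) (.node 2172 (.node 2170 (.node 2169 (.leaf 34672) (.leaf 14002)) (.node 2171 (.leaf 34704) (.leaf 34641))) (.node 2174 (.node 2173 (.leaf 34736) (.leaf 14370)) (.node 2175 (.leaf 34768) (.leaf 14017)))))))) (.node 2240 (.node 2208 (.node 2192 (.node 2184 (.node 2180 (.node 2178 (.node 2177 (.leaf 34800) (.leaf 14018)) (.node 2179 (.leaf 34832) (.leaf 14033))) (.node 2182 (.node 2181 (.leaf 34864) (.leaf 14049)) (.node 2183 (.leaf 26930) (.leaf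 14050)))) (.node 2188 (.node 2186 (.node 2185 (.leaf 34818) (.leaf 14066)) (.node 2187 (.leaf 34960) (.leaf 34865))) (.node 2190 (.node 2189 (.leaf 34992) (.leaf 14082)) (.node 2191 (.leaf 35024) (.leaf 14097))))) (.node 2200 (.node 2196 (.node 2194 (.node 2193 (.leaf 35056) (.leaf 14113)) (.node 2195 (.leaf 35088) (.leaf 14130))) (.node 2198 (.node 2197 (.leaf 18145) (.leaf 35057)) (.node 2199 (.leaf 35152) (.leaf 14273)))) (.node 2204 (.node 2202 (.node 2201 (.leaf 35184) (.leaf 14146)) (.node 2203 (.leaf 35216) (.leaf 14161))) (.node 2206 (.node 2205 (.leaf 35248) (.leaf 14177)) (.node 2207 (.leaf 35280) (.leaf 14194)))))) (.node 2224 (.node 2216 (.node 2212 (.node 2210 (.node 2209 (.leaf 35312) (.leaf 35249)) (.node 2211 (.leaf 35344) (.leaf 14209))) (.node 2214 (.node 2213 (.leaf 14210) (.leaf 34369)) (.node 2215 (.leaf 14241) (.leaf 35424)))) (.node 2220 (.node 2218 (.node 2217 (.leaf 14242) (.leaf 35456)) (.node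 2219 (.leaf 14274) (.leaf 35488))) (.node 2222 (.node 2221 (.leaf 14337) (.leaf 35520)) (.node 2223 (.leaf 14338) (.leaf 35552))))) (.node 2232 (.node 2228 (.node 2226 (.node 2225 (.leaf 14369) (.leaf 35584)) (.node 2227 (.leaf 14417) (.leaf 35616))) (.node 2230 (.node 2229 (.leaf 14433) (.leaf 35648)) (.node 2231 (.leaf 14434) (.leaf 35680)))) (.node 2236 (.node 2234 (.node 2233 (.leaf 14450) (.leaf 35712)) (.node 2235 (.leaf 35617) (.leaf 35744))) (.node 2238 (.node 2237 (.leaf 24546) (.leaf 35776)) (.node 2239 (.leaf 14465) (.leaf 14593))))))) (.node 2272 (.node 2256 (.node 2248 (.node 2244 (.node 2242 (.node 2241 (.leaf 14466) (.leaf 14497)) (.node 2243 (.leaf 35856) (.leaf 14498))) (.node 2246 (.node 2245 (.leaf 35888) (.leaf 14529)) (.node 2247 (.leaf 35920) (.leaf 14530)))) (.node 2252 (.node 2250 (.node 2249 (.leaf 35952) (.leaf 14545)) (.node 2251 (.leaf 35984) (.leaf 14562))) (.node 2254 (.node 2253 (.leaf 36016)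 (.leaf 14578)) (.node 2255 (.leaf 36048) (.leaf 35985))))) (.node 2264 (.node 2260 (.node 2258 (.node 2257 (.leaf 36080) (.leaf 14594)) (.node 2259 (.leaf 36112) (.leaf 14609))) (.node 2262 (.node 2261 (.leaf 36144) (.leaf 14625)) (.node 2263 (.leaf 36176) (.leaf 14642)))) (.node 2268 (.node 2266 (.node 2265 (.leaf 36208) (.leaf 36145)) (.node 2267 (.leaf 36240) (.leaf 24161))) (.node 2270 (.node 2269 (.leaf 36272) (.leaf 14657)) (.node 2271 (.leaf 36304) (.leaf 14658)))))) (.node 2288 (.node 2280 (.node 2276 (.node 2274 (.node 2273 (.leaf 14673) (.leaf 36352)) (.node 2275 (.leaf 25346) (.leaf 36384))) (.node 2278 (.node 2277 (.leaf 14689) (.leaf 36416)) (.node 2279 (.leaf 14690) (.leaf 36322)))) (.node 2284 (.node 2282 (.node 2281 (.leaf 14721) (.leaf 35697)) (.node 2283 (.leaf 14722) (.leaf 30177))) (.node 2286 (.node 2285 (.leaf 30178) (.leaf 36528)) (.node 2287 (.leaf 36512) (.leaf 14754))))) (.node 2296 (.node 2292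 (.node 2290 (.node 2289 (.leaf 36592) (.leaf 14785)) (.node 2291 (.leaf 36624) (.leaf 23266))) (.node 2294 (.node 2293 (.leaf 36656) (.leaf 14801)) (.node 2295 (.leaf 14802) (.leaf 36704)))) (.node 2300 (.node 2298 (.node 2297 (.leaf 14833) (.leaf 36736)) (.node 2299 (.leaf 14834) (.leaf 36768))) (.node 2302 (.node 2301 (.leaf 14866) (.leaf 36800)) (.node 2303 (.leaf 14897) (.leaf 36832))))))))

/-- block of `nd` -/
def nd_9 : Tr := .node 2432 (.node 2368 (.node 2336 (.node 2320 (.node 2312 (.node 2308 (.node 2306 (.node 2305 (.leaf 14898) (.leaf 36864)) (.node 2307 (.leaf 14930) (.leaf 36896))) (.node 2310 (.node 2309 (.leaf 14945) (.leaf 36928)) (.node 2311 (.leaf 14961) (.leaf 36960)))) (.node 2316 (.node 2314 (.node 2313 (.leaf 14978) (.leaf 36992)) (.node 2315 (.leaf 36929) (.leaf 37024))) (.node 2318 (.node 2317 (.leaf 14993) (.leaf 37056)) (.node 2319 (.leaf 15025) (.leaf 37088))))) (.node 2328 (.node 2324 (.node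 2322 (.node 2321 (.leaf 15026) (.leaf 37120)) (.node 2323 (.leaf 15041) (.leaf 37152))) (.node 2326 (.node 2325 (.leaf 15058) (.leaf 37184)) (.node 2327 (.leaf 15074) (.leaf 37216)))) (.node 2332 (.node 2330 (.node 2329 (.leaf 37153) (.leaf 37248)) (.node 2331 (.leaf 15090) (.leaf 37280))) (.node 2334 (.node 2333 (.leaf 15121) (.leaf 37312)) (.node 2335 (.leaf 15122) (.leaf 37344)))))) (.node 2352 (.node 2344 (.node 2340 (.node 2338 (.node 2337 (.leaf 15153) (.leaf 37376)) (.node 2339 (.leaf 15185) (.leaf 37408))) (.node 2342 (.node 2341 (.leaf 15217) (.leaf 37440)) (.node 2343 (.leaf 15218) (.leaf 37472)))) (.node 2348 (.node 2346 (.node 2345 (.leaf 15249) (.leaf 37504)) (.node 2347 (.leaf 15250) (.leaf 15281))) (.node 2350 (.node 2349 (.leaf 37552) (.leaf 15282)) (.node 2351 (.leaf 37584) (.leaf 15314))))) (.node 2360 (.node 2356 (.node 2354 (.node 2353 (.leaf 37616) (.leaf 15329)) (.node 2355 (.leaf 37648) (.leaf 15345)))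 (.node 2358 (.node 2357 (.leaf 37680) (.leaf 15362)) (.node 2359 (.leaf 37712) (.leaf 37649)))) (.node 2364 (.node 2362 (.node 2361 (.leaf 37744) (.leaf 15377)) (.node 2363 (.leaf 37776) (.leaf 15409))) (.node 2366 (.node 2365 (.leaf 37808) (.leaf 15410)) (.node 2367 (.leaf 37840) (.leaf 15425))))))) (.node 2400 (.node 2384 (.node 2376 (.node 2372 (.node 2370 (.node 2369 (.leaf 37872) (.leaf 15442)) (.node 2371 (.leaf 37904) (.leaf 15458))) (.node 2374 (.node 2373 (.leaf 37936) (.leaf 37873)) (.node 2375 (.leaf 37968) (.leaf 15474)))) (.node 2380 (.node 2378 (.node 2377 (.leaf 38000) (.leaf 15505)) (.node 2379 (.leaf 38032) (.leaf 15506))) (.node 2382 (.node 2381 (.leaf 38064) (.leaf 15537)) (.node 2383 (.leaf 38096) (.leaf 27650))))) (.node 2392 (.node 2388 (.node 2386 (.node 2385 (.leaf 38128) (.leaf 27617)) (.node 2387 (.leaf 38160) (.leaf 15569))) (.node 2390 (.node 2389 (.leaf 38192) (.leaf 15570)) (.node 2391 (.leaf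 37521) (.leaf 15601)))) (.node 2396 (.node 2394 (.node 2393 (.leaf 38256) (.leaf 15602)) (.node 2395 (.leaf 38288) (.leaf 15617))) (.node 2398 (.node 2397 (.leaf 38320) (.leaf 15633)) (.node 2399 (.leaf 16178) (.leaf 15634)))))) (.node 2416 (.node 2408 (.node 2404 (.node 2402 (.node 2401 (.leaf 38384) (.leaf 15650)) (.node 2403 (.leaf 38416) (.leaf 38321))) (.node 2406 (.node 2405 (.leaf 38448) (.leaf 15666)) (.node 2407 (.leaf 38480) (.leaf 15697)))) (.node 2412 (.node 2410 (.node 2409 (.leaf 38512) (.leaf 15698)) (.node 2411 (.leaf 38544) (.leaf 15730))) (.node 2414 (.node 2413 (.leaf 38576) (.leaf 37377)) (.node 2415 (.leaf 38608) (.leaf 15761))))) (.node 2424 (.node 2420 (.node 2418 (.node 2417 (.leaf 38640) (.leaf 15762)) (.node 2419 (.leaf 38672) (.leaf 15777))) (.node 2422 (.node 2421 (.leaf 15793) (.leaf 15810)) (.node 2423 (.leaf 38705) (.leaf 38752)))) (.node 2428 (.node 2426 (.node 2425 (.leaf 15825) (.leaf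 38784)) (.node 2427 (.leaf 15858) (.leaf 38816))) (.node 2430 (.node 2429 (.leaf 15890) (.leaf 38848)) (.node 2431 (.leaf 15922) (.leaf 38880)))))))) (.node 2496 (.node 2464 (.node 2448 (.node 2440 (.node 2436 (.node 2434 (.node 2433 (.leaf 38721) (.leaf 38912)) (.node 2435 (.leaf 15937) (.leaf 38944))) (.node 2438 (.node 2437 (.leaf 15953) (.leaf 38976)) (.node 2439 (.leaf 15954) (.leaf 16146)))) (.node 2444 (.node 2442 (.node 2441 (.leaf 15970) (.leaf 38945)) (.node 2443 (.leaf 39056) (.leaf 15985))) (.node 2446 (.node 2445 (.leaf 39088) (.leaf 15986)) (.node 2447 (.leaf 39120) (.leaf 16001))))) (.node 2456 (.node 2452 (.node 2450 (.node 2449 (.leaf 39152) (.leaf 16017)) (.node 2451 (.leaf 36914) (.leaf 39184))) (.node 2454 (.node 2453 (.leaf 16018) (.leaf 39106)) (.node 2455 (.leaf 36913) (.leaf 39264)))) (.node 2460 (.node 2458 (.node 2457 (.leaf 16034) (.leaf 39296)) (.node 2459 (.leaf 39153) (.leaf 39328))) (.node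 2462 (.node 2461 (.leaf 16049) (.leaf 38833)) (.node 2463 (.leaf 16050) (.leaf 39392)))))) (.node 2480 (.node 2472 (.node 2468 (.node 2466 (.node 2465 (.leaf 16081) (.leaf 39424)) (.node 2467 (.leaf 16113) (.leaf 16114))) (.node 2470 (.node 2469 (.leaf 39472) (.leaf 16129)) (.node 2471 (.leaf 39504) (.leaf 16145)))) (.node 2476 (.node 2474 (.node 2473 (.leaf 16162) (.leaf 39552)) (.node 2475 (.leaf 39505) (.leaf 39584))) (.node 2478 (.node 2477 (.leaf 16177) (.leaf 39616)) (.node 2479 (.leaf 16209) (.leaf 39648))))) (.node 2488 (.node 2484 (.node 2482 (.node 2481 (.leaf 16210) (.leaf 39680)) (.node 2483 (.leaf 16225) (.leaf 39712))) (.node 2486 (.node 2485 (.leaf 16241) (.leaf 39744)) (.node 2487 (.leaf 16242) (.leaf 39776)))) (.node 2492 (.node 2490 (.node 2489 (.leaf 16258) (.leaf 39808)) (.node 2491 (.leaf 39713) (.leaf 39840))) (.node 2494 (.node 2493 (.leaf 16274) (.leaf 16306)) (.node 2495 (.leaf 39888) (.leaf 16337)))))))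 (.node 2528 (.node 2512 (.node 2504 (.node 2500 (.node 2498 (.node 2497 (.leaf 39920) (.leaf 37618)) (.node 2499 (.leaf 39952) (.leaf 16369))) (.node 2502 (.node 2501 (.leaf 16370) (.leaf 40000)) (.node 2503 (.leaf 16433) (.leaf 40032)))) (.node 2508 (.node 2506 (.node 2505 (.leaf 16434) (.leaf 19969)) (.node 2507 (.leaf 19970) (.leaf 40096))) (.node 2510 (.node 2509 (.leaf 40080) (.leaf 16465)) (.node 2511 (.leaf 16882) (.leaf 40130))))) (.node 2520 (.node 2516 (.node 2514 (.node 2513 (.leaf 40129) (.leaf 16466)) (.node 2515 (.leaf 40208) (.leaf 16881))) (.node 2518 (.node 2517 (.leaf 40240) (.leaf 16497)) (.node 2519 (.leaf 40272) (.leaf 16562)))) (.node 2524 (.node 2522 (.node 2521 (.leaf 40304) (.leaf 16577)) (.node 2523 (.leaf 40336) (.leaf 16594))) (.node 2526 (.node 2525 (.leaf 39761) (.leaf 16625)) (.node 2527 (.leaf 40400) (.leaf 16626)))))) (.node 2544 (.node 2536 (.node 2532 (.node 2530 (.node 2529 (.leaf 40432)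 (.leaf 16641)) (.node 2531 (.leaf 40464) (.leaf 39874))) (.node 2534 (.node 2533 (.leaf 40496) (.leaf 16657)) (.node 2535 (.leaf 40528) (.leaf 16658)))) (.node 2540 (.node 2538 (.node 2537 (.leaf 40560) (.leaf 16689)) (.node 2539 (.leaf 40592) (.leaf 16690))) (.node 2542 (.node 2541 (.leaf 40624) (.leaf 16721)) (.node 2543 (.leaf 40656) (.leaf 16722))))) (.node 2552 (.node 2548 (.node 2546 (.node 2545 (.leaf 40688) (.leaf 16737)) (.node 2547 (.leaf 40720) (.leaf 37186))) (.node 2550 (.node 2549 (.leaf 40752) (.leaf 16753)) (.node 2551 (.leaf 40784) (.leaf 16785)))) (.node 2556 (.node 2554 (.node 2553 (.leaf 17746) (.leaf 40832)) (.node 2555 (.leaf 40816) (.leaf 16786))) (.node 2558 (.node 2557 (.leaf 17745) (.leaf 40880)) (.node 2559 (.leaf 16834) (.leaf 35105))))))))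

/-- block of `nd` -/
def nd_10 : Tr := .node 2688 (.node 2624 (.node 2592 (.node 2576 (.node 2568 (.node 2564 (.node 2562 (.node 2561 (.leaf 16850) (.leaf 40960)) (.node 2563 (.leaf 16914) (.leaf 40992))) (.node 2566 (.node 2565 (.leaf 16945) (.leaf 41024)) (.node 2567 (.leaf 16946) (.leaf 41056)))) (.node 2572 (.node 2570 (.node 2569 (.leaf 16961) (.leaf 41088)) (.node 2571 (.leaf 19650) (.leaf 41120))) (.node 2574 (.node 2573 (.leaf 16978) (.leaf 41152)) (.node 2575 (.leaf 17009) (.leaf 41184))))) (.node 2584 (.node 2580 (.node 2578 (.node 2577 (.leaf 17010) (.leaf 41216)) (.node 2579 (.leaf 17042) (.leaf 41248))) (.node 2582 (.node 2581 (.leaf 38097) (.leaf 41280)) (.node 2583 (.leaf 17073) (.leaf 41312)))) (.node 2588 (.node 2586 (.node 2585 (.leaf 17074) (.leaf 41344)) (.node 2587 (.leaf 17089) (.leaf 41376))) (.node 2590 (.node 2589 (.leaf 17105) (.leaf 41408)) (.node 2591 (.leaf 17122) (.leaf 41440)))))) (.node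 2608 (.node 2600 (.node 2596 (.node 2594 (.node 2593 (.leaf 41377) (.leaf 41472)) (.node 2595 (.leaf 17137) (.leaf 41504))) (.node 2598 (.node 2597 (.leaf 17138) (.leaf 40353)) (.node 2599 (.leaf 17153) (.leaf 41568)))) (.node 2604 (.node 2602 (.node 2601 (.leaf 17169) (.leaf 41600)) (.node 2603 (.leaf 17170) (.leaf 41632))) (.node 2606 (.node 2605 (.leaf 17186) (.leaf 41569)) (.node 2607 (.leaf 41680) (.leaf 17201))))) (.node 2616 (.node 2612 (.node 2610 (.node 2609 (.leaf 17329) (.leaf 17202)) (.node 2611 (.leaf 17217) (.leaf 41760))) (.node 2614 (.node 2613 (.leaf 17233) (.leaf 37634)) (.node 2615 (.leaf 17234) (.leaf 19938)))) (.node 2620 (.node 2618 (.node 2617 (.leaf 37633) (.leaf 41856)) (.node 2619 (.leaf 17250) (.leaf 41888))) (.node 2622 (.node 2621 (.leaf 41761) (.leaf 41920)) (.node 2623 (.leaf 17265) (.leaf 41649))))))) (.node 2656 (.node 2640 (.node 2632 (.node 2628 (.node 2626 (.node 2625 (.leaf 17266) (.leaf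 41984)) (.node 2627 (.leaf 17297) (.leaf 42016))) (.node 2630 (.node 2629 (.leaf 17298) (.leaf 42048)) (.node 2631 (.leaf 17314) (.leaf 42080)))) (.node 2636 (.node 2634 (.node 2633 (.leaf 37057) (.leaf 42112)) (.node 2635 (.leaf 17330) (.leaf 42144))) (.node 2638 (.node 2637 (.leaf 17361) (.leaf 17362)) (.node 2639 (.leaf 42192) (.leaf 17393))))) (.node 2648 (.node 2644 (.node 2642 (.node 2641 (.leaf 42224) (.leaf 17394)) (.node 2643 (.leaf 42256) (.leaf 17410))) (.node 2646 (.node 2645 (.leaf 42288) (.leaf 41409)) (.node 2647 (.leaf 42320) (.leaf 17425)))) (.node 2652 (.node 2650 (.node 2649 (.leaf 17426) (.leaf 42368)) (.node 2651 (.leaf 17457) (.leaf 42400))) (.node 2654 (.node 2653 (.leaf 17473) (.leaf 42432)) (.node 2655 (.leaf 17506) (.leaf 42433)))))) (.node 2672 (.node 2664 (.node 2660 (.node 2658 (.node 2657 (.leaf 17522) (.leaf 17553)) (.node 2659 (.leaf 17554) (.leaf 42528))) (.node 2662 (.node 2661 (.leaf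 17585) (.leaf 42560)) (.node 2663 (.leaf 36898) (.leaf 42592)))) (.node 2668 (.node 2666 (.node 2665 (.leaf 17617) (.leaf 42624)) (.node 2667 (.leaf 17618) (.leaf 42656))) (.node 2670 (.node 2669 (.leaf 17633) (.leaf 42688)) (.node 2671 (.leaf 17649) (.leaf 42720))))) (.node 2680 (.node 2676 (.node 2674 (.node 2673 (.leaf 17666) (.leaf 42752)) (.node 2675 (.leaf 42689) (.leaf 42784))) (.node 2678 (.node 2677 (.leaf 17681) (.leaf 42816)) (.node 2679 (.leaf 17682) (.leaf 17905)))) (.node 2684 (.node 2682 (.node 2681 (.leaf 17713) (.leaf 20066)) (.node 2683 (.leaf 42896) (.leaf 42880))) (.node 2686 (.node 2685 (.leaf 17714) (.leaf 20065)) (.node 2687 (.leaf 42960) (.leaf 17761)))))))) (.node 2752 (.node 2720 (.node 2704 (.node 2696 (.node 2692 (.node 2690 (.node 2689 (.leaf 42992) (.leaf 17777)) (.node 2691 (.leaf 43024) (.leaf 17778))) (.node 2694 (.node 2693 (.leaf 43056) (.leaf 17794)) (.node 2695 (.leaf 43088) (.leaf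 42993)))) (.node 2700 (.node 2698 (.node 2697 (.leaf 43120) (.leaf 17809)) (.node 2699 (.leaf 17937) (.leaf 17810))) (.node 2702 (.node 2701 (.leaf 17841) (.leaf 43200)) (.node 2703 (.leaf 17842) (.leaf 43232))))) (.node 2712 (.node 2708 (.node 2706 (.node 2705 (.leaf 17873) (.leaf 43264)) (.node 2707 (.leaf 17874) (.leaf 43296))) (.node 2710 (.node 2709 (.leaf 17889) (.leaf 43328)) (.node 2711 (.leaf 17906) (.leaf 43360)))) (.node 2716 (.node 2714 (.node 2713 (.leaf 17922) (.leaf 43392)) (.node 2715 (.leaf 43329) (.leaf 43424))) (.node 2718 (.node 2717 (.leaf 17938) (.leaf 17953)) (.node 2719 (.leaf 43472) (.leaf 17969)))))) (.node 2736 (.node 2728 (.node 2724 (.node 2722 (.node 2721 (.leaf 43504) (.leaf 17986)) (.node 2723 (.leaf 43536) (.leaf 43473))) (.node 2726 (.node 2725 (.leaf 43568) (.leaf 18001)) (.node 2727 (.leaf 43600) (.leaf 18002)))) (.node 2732 (.node 2730 (.node 2729 (.leaf 43632) (.leaf 18017)) (.node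 2731 (.leaf 43664) (.leaf 18033))) (.node 2734 (.node 2733 (.leaf 18034) (.leaf 43618)) (.node 2735 (.leaf 18050) (.leaf 43665))))) (.node 2744 (.node 2740 (.node 2738 (.node 2737 (.leaf 43760) (.leaf 18065)) (.node 2739 (.leaf 43073) (.leaf 18066))) (.node 2742 (.node 2741 (.leaf 37393) (.leaf 37394)) (.node 2743 (.leaf 43856) (.leaf 43824)))) (.node 2748 (.node 2746 (.node 2745 (.leaf 18081) (.leaf 42498)) (.node 2747 (.leaf 43920) (.leaf 18113))) (.node 2750 (.node 2749 (.leaf 43952) (.leaf 18114)) (.node 2751 (.leaf 43984) (.leaf 18146))))))) (.node 2784 (.node 2768 (.node 2760 (.node 2756 (.node 2754 (.node 2753 (.leaf 44016) (.leaf 18177)) (.node 2755 (.leaf 18178) (.leaf 44064))) (.node 2758 (.node 2757 (.leaf 18210) (.leaf 44096)) (.node 2759 (.leaf 18225) (.leaf 44128)))) (.node 2764 (.node 2762 (.node 2761 (.leaf 18241) (.leaf 44160)) (.node 2763 (.leaf 18258) (.leaf 44192))) (.node 2766 (.node 2765 (.leaf 44129)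 (.leaf 44224)) (.node 2767 (.leaf 18273) (.leaf 44256))))) (.node 2776 (.node 2772 (.node 2770 (.node 2769 (.leaf 18305) (.leaf 44288)) (.node 2771 (.leaf 18306) (.leaf 44320))) (.node 2774 (.node 2773 (.leaf 18321) (.leaf 44352)) (.node 2775 (.leaf 18338) (.leaf 44384)))) (.node 2780 (.node 2778 (.node 2777 (.leaf 18354) (.leaf 44416)) (.node 2779 (.leaf 44353) (.leaf 44448))) (.node 2782 (.node 2781 (.leaf 18370) (.leaf 44480)) (.node 2783 (.leaf 18417) (.leaf 44512)))))) (.node 2800 (.node 2792 (.node 2788 (.node 2786 (.node 2785 (.leaf 18449) (.leaf 18481)) (.node 2787 (.leaf 44560) (.leaf 18482))) (.node 2790 (.node 2789 (.leaf 44592) (.leaf 18513)) (.node 2791 (.leaf 44624) (.leaf 18514)))) (.node 2796 (.node 2794 (.node 2793 (.leaf 44656) (.leaf 18545)) (.node 2795 (.leaf 44688) (.leaf 18546))) (.node 2798 (.node 2797 (.leaf 44720) (.leaf 18578)) (.node 2799 (.leaf 44752) (.leaf 32401))))) (.node 2808 (.node 2804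 (.node 2802 (.node 2801 (.leaf 44784) (.leaf 32434)) (.node 2803 (.leaf 44816) (.leaf 18593))) (.node 2806 (.node 2805 (.leaf 44848) (.leaf 18609)) (.node 2807 (.leaf 44880) (.leaf 18626)))) (.node 2812 (.node 2810 (.node 2809 (.leaf 44912) (.leaf 44849)) (.node 2811 (.leaf 44944) (.leaf 18641))) (.node 2814 (.node 2813 (.leaf 44976) (.leaf 18673)) (.node 2815 (.leaf 18674) (.leaf 45024))))))))

/-- block of `nd` -/
def nd_11 : Tr := .node 2944 (.node 2880 (.node 2848 (.node 2832 (.node 2824 (.node 2820 (.node 2818 (.node 2817 (.leaf 18689) (.leaf 45056)) (.node 2819 (.leaf 18706) (.leaf 45088))) (.node 2822 (.node 2821 (.leaf 18722) (.leaf 45057)) (.node 2823 (.leaf 18738) (.leaf 45152)))) (.node 2828 (.node 2826 (.node 2825 (.leaf 18769) (.leaf 18770)) (.node 2827 (.leaf 45200) (.leaf 18801))) (.node 2830 (.node 2829 (.leaf 45232) (.leaf 41746)) (.node 2831 (.leaf 41713) (.leaf 45280))))) (.node 2840 (.node 2836 (.node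 2834 (.node 2833 (.leaf 18833) (.leaf 45312)) (.node 2835 (.leaf 18834) (.leaf 44641))) (.node 2838 (.node 2837 (.leaf 18865) (.leaf 18866)) (.node 2839 (.leaf 45392) (.leaf 18881)))) (.node 2844 (.node 2842 (.node 2841 (.leaf 45424) (.leaf 18897)) (.node 2843 (.leaf 19442) (.leaf 18898))) (.node 2846 (.node 2845 (.leaf 45488) (.leaf 18914)) (.node 2847 (.leaf 45520) (.leaf 45425)))))) (.node 2864 (.node 2856 (.node 2852 (.node 2850 (.node 2849 (.leaf 45552) (.leaf 18930)) (.node 2851 (.leaf 45584) (.leaf 18962))) (.node 2854 (.node 2853 (.leaf 45616) (.leaf 18994)) (.node 2855 (.leaf 44513) (.leaf 45664)))) (.node 2860 (.node 2858 (.node 2857 (.leaf 19025) (.leaf 45696)) (.node 2859 (.leaf 19026) (.leaf 45728))) (.node 2862 (.node 2861 (.leaf 19074) (.leaf 45760)) (.node 2863 (.leaf 19105) (.leaf 45792))))) (.node 2872 (.node 2868 (.node 2866 (.node 2865 (.leaf 19121) (.leaf 45824)) (.node 2867 (.leaf 19122) (.leaf 45856)))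 (.node 2870 (.node 2869 (.leaf 19138) (.leaf 45888)) (.node 2871 (.leaf 45793) (.leaf 45920)))) (.node 2876 (.node 2874 (.node 2873 (.leaf 19154) (.leaf 45952)) (.node 2875 (.leaf 19186) (.leaf 45984))) (.node 2878 (.node 2877 (.leaf 19201) (.leaf 46016)) (.node 2879 (.leaf 19217) (.leaf 46048))))))) (.node 2912 (.node 2896 (.node 2888 (.node 2884 (.node 2882 (.node 2881 (.leaf 19218) (.leaf 19410)) (.node 2883 (.leaf 19234) (.leaf 46112))) (.node 2886 (.node 2885 (.leaf 46017) (.leaf 46144)) (.node 2887 (.leaf 19249) (.leaf 46176)))) (.node 2892 (.node 2890 (.node 2889 (.leaf 19250) (.leaf 46208)) (.node 2891 (.leaf 19265) (.leaf 19281))) (.node 2894 (.node 2893 (.leaf 44114) (.leaf 46256)) (.node 2895 (.leaf 19282) (.leaf 46194))))) (.node 2904 (.node 2900 (.node 2898 (.node 2897 (.leaf 44113) (.leaf 46336)) (.node 2899 (.leaf 19298) (.leaf 46368))) (.node 2902 (.node 2901 (.leaf 46241) (.leaf 19313)) (.node 2903 (.leaf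 45873) (.leaf 19314)))) (.node 2908 (.node 2906 (.node 2905 (.leaf 46448) (.leaf 19345)) (.node 2907 (.leaf 46480) (.leaf 19346))) (.node 2910 (.node 2909 (.leaf 46512) (.leaf 19377)) (.node 2911 (.leaf 46544) (.leaf 19378)))))) (.node 2928 (.node 2920 (.node 2916 (.node 2914 (.node 2913 (.leaf 46576) (.leaf 19393)) (.node 2915 (.leaf 46608) (.leaf 19409))) (.node 2918 (.node 2917 (.leaf 46640) (.leaf 19426)) (.node 2919 (.leaf 46672) (.leaf 46609)))) (.node 2924 (.node 2922 (.node 2921 (.leaf 46704) (.leaf 19441)) (.node 2923 (.leaf 46736) (.leaf 19473))) (.node 2926 (.node 2925 (.leaf 46768) (.leaf 19474)) (.node 2927 (.leaf 46800) (.leaf 19489))))) (.node 2936 (.node 2932 (.node 2930 (.node 2929 (.leaf 46832) (.leaf 19505)) (.node 2931 (.leaf 46864) (.leaf 19506))) (.node 2934 (.node 2933 (.leaf 46896) (.leaf 19522)) (.node 2935 (.leaf 46833) (.leaf 46944)))) (.node 2940 (.node 2938 (.node 2937 (.leaf 19538) (.leaf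 46976)) (.node 2939 (.leaf 19569) (.leaf 47008))) (.node 2942 (.node 2941 (.leaf 19570) (.leaf 47040)) (.node 2943 (.leaf 19601) (.leaf 47072)))))))) (.node 3008 (.node 2976 (.node 2960 (.node 2952 (.node 2948 (.node 2946 (.node 2945 (.leaf 44754) (.leaf 47104)) (.node 2947 (.leaf 19633) (.leaf 47136))) (.node 2950 (.node 2949 (.leaf 19634) (.leaf 47168)) (.node 2951 (.leaf 19665) (.leaf 47200)))) (.node 2956 (.node 2954 (.node 2953 (.leaf 19697) (.leaf 47232)) (.node 2955 (.leaf 19762) (.leaf 47264))) (.node 2958 (.node 2957 (.leaf 19777) (.leaf 47296)) (.node 2959 (.leaf 19794) (.leaf 46881))))) (.node 2968 (.node 2964 (.node 2962 (.node 2961 (.leaf 19825) (.leaf 47360)) (.node 2963 (.leaf 19826) (.leaf 19841))) (.node 2966 (.node 2965 (.leaf 46978) (.leaf 47424)) (.node 2967 (.leaf 19873) (.leaf 47456)))) (.node 2972 (.node 2970 (.node 2969 (.leaf 19874) (.leaf 19905)) (.node 2971 (.leaf 19906) (.leaf 47520))) (.node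 2974 (.node 2973 (.leaf 19921) (.leaf 44386)) (.node 2975 (.leaf 19937) (.leaf 47584)))))) (.node 2992 (.node 2984 (.node 2980 (.node 2978 (.node 2977 (.leaf 20017) (.leaf 47616)) (.node 2979 (.leaf 20033) (.leaf 34850))) (.node 2982 (.node 2981 (.leaf 20097) (.leaf 47680)) (.node 2983 (.leaf 20113) (.leaf 20129)))) (.node 2988 (.node 2986 (.node 2985 (.leaf 20146) (.leaf 47713)) (.node 2987 (.leaf 47760) (.leaf 35010))) (.node 2990 (.node 2989 (.leaf 47792) (.leaf 20161)) (.node 2991 (.leaf 20257) (.leaf 20162))))) (.node 3000 (.node 2996 (.node 2994 (.node 2993 (.leaf 47856) (.leaf 20193)) (.node 2995 (.leaf 47888) (.leaf 20194))) (.node 2998 (.node 2997 (.leaf 47920) (.leaf 20225)) (.node 2999 (.leaf 47952) (.leaf 20226)))) (.node 3004 (.node 3002 (.node 3001 (.leaf 47984) (.leaf 20242)) (.node 3003 (.leaf 44977) (.leaf 48032))) (.node 3006 (.node 3005 (.leaf 20258) (.leaf 48064)) (.node 3007 (.leaf 20289) (.leaf 48096)))))))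 (.node 3040 (.node 3024 (.node 3016 (.node 3012 (.node 3010 (.node 3009 (.leaf 20290) (.leaf 20418)) (.node 3011 (.leaf 35361) (.leaf 48160))) (.node 3014 (.node 3013 (.leaf 20322) (.leaf 20353)) (.node 3015 (.leaf 48208) (.leaf 20354)))) (.node 3020 (.node 3018 (.node 3017 (.leaf 48240) (.leaf 20385)) (.node 3019 (.leaf 48272) (.leaf 20386))) (.node 3022 (.node 3021 (.leaf 48304) (.leaf 20401)) (.node 3023 (.leaf 37906) (.leaf 48352))))) (.node 3032 (.node 3028 (.node 3026 (.node 3025 (.leaf 20417) (.leaf 48384)) (.node 3027 (.leaf 20497) (.leaf 48416))) (.node 3030 (.node 3029 (.leaf 20498) (.leaf 48448)) (.node 3031 (.leaf 20530) (.leaf 48480)))) (.node 3036 (.node 3034 (.node 3033 (.leaf 45233) (.leaf 48512)) (.node 3035 (.leaf 20561) (.leaf 20562))) (.node 3038 (.node 3037 (.leaf 20577) (.leaf 20593)) (.node 3039 (.leaf 20610) (.leaf 48577)))))) (.node 3056 (.node 3048 (.node 3044 (.node 3042 (.node 3041 (.leaf 48624)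 (.leaf 20625)) (.node 3043 (.leaf 48656) (.leaf 20626))) (.node 3046 (.node 3045 (.leaf 47313) (.leaf 20657)) (.node 3047 (.leaf 48720) (.leaf 20658)))) (.node 3052 (.node 3050 (.node 3049 (.leaf 48752) (.leaf 20674)) (.node 3051 (.leaf 48784) (.leaf 44257))) (.node 3054 (.node 3053 (.leaf 48816) (.leaf 20690)) (.node 3055 (.leaf 48848) (.leaf 20721))))) (.node 3064 (.node 3060 (.node 3058 (.node 3057 (.leaf 48880) (.leaf 20722)) (.node 3059 (.leaf 48912) (.leaf 20753))) (.node 3062 (.node 3061 (.leaf 48944) (.leaf 20754)) (.node 3063 (.leaf 48976) (.leaf 20770)))) (.node 3068 (.node 3066 (.node 3065 (.leaf 49008) (.leaf 48593)) (.node 3067 (.leaf 49040) (.leaf 20785))) (.node 3070 (.node 3069 (.leaf 49072) (.leaf 20786)) (.node 3071 (.leaf 49104) (.leaf 20817))))))))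

/-- block of `nd` -/
def nd_12 : Tr := .node 3200 (.node 3136 (.node 3104 (.node 3088 (.node 3080 (.node 3076 (.node 3074 (.node 3073 (.leaf 49136) (.leaf 20818)) (.node 3075 (.leaf 49168) (.leaf 20833))) (.node 3078 (.node 3077 (.leaf 20850) (.leaf 49216)) (.node 3079 (.leaf 20866) (.leaf 49248)))) (.node 3084 (.node 3082 (.node 3081 (.leaf 49201) (.leaf 49280)) (.node 3083 (.leaf 20882) (.leaf 20913))) (.node 3086 (.node 3085 (.leaf 49328) (.leaf 20914)) (.node 3087 (.leaf 49360) (.leaf 20945))))) (.node 3096 (.node 3092 (.node 3090 (.node 3089 (.leaf 49392) (.leaf 44098)) (.node 3091 (.leaf 49424) (.leaf 20977))) (.node 3094 (.node 3093 (.leaf 49456) (.leaf 20978)) (.node 3095 (.leaf 49488) (.leaf 20993)))) (.node 3100 (.node 3098 (.node 3097 (.leaf 49520) (.leaf 21009)) (.node 3099 (.leaf 49552) (.leaf 21026))) (.node 3102 (.node 3101 (.leaf 49584) (.leaf 49521)) (.node 3103 (.leaf 49616) (.leaf 21041)))))) (.node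 3120 (.node 3112 (.node 3108 (.node 3106 (.node 3105 (.leaf 49648) (.leaf 21042)) (.node 3107 (.leaf 21201) (.leaf 21073))) (.node 3110 (.node 3109 (.leaf 49712) (.leaf 21074)) (.node 3111 (.leaf 49744) (.leaf 21090)))) (.node 3116 (.node 3114 (.node 3113 (.leaf 49776) (.leaf 21105)) (.node 3115 (.leaf 21233) (.leaf 21106))) (.node 3118 (.node 3117 (.leaf 49840) (.leaf 21137)) (.node 3119 (.leaf 21138) (.leaf 49888))))) (.node 3128 (.node 3124 (.node 3122 (.node 3121 (.leaf 21169) (.leaf 49920)) (.node 3123 (.leaf 21170) (.leaf 21185))) (.node 3126 (.node 3125 (.leaf 49968) (.leaf 21202)) (.node 3127 (.leaf 50000) (.leaf 21218)))) (.node 3132 (.node 3130 (.node 3129 (.leaf 49969) (.leaf 50048)) (.node 3131 (.leaf 21249) (.leaf 21282))) (.node 3134 (.node 3133 (.leaf 50096) (.leaf 50081)) (.node 3135 (.leaf 21297) (.leaf 50144))))))) (.node 3168 (.node 3152 (.node 3144 (.node 3140 (.node 3138 (.node 3137 (.leaf 21313) (.leaf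 50176)) (.node 3139 (.leaf 40178) (.leaf 21329))) (.node 3142 (.node 3141 (.leaf 39409) (.leaf 21330)) (.node 3143 (.leaf 50162) (.leaf 21346)))) (.node 3148 (.node 3146 (.node 3145 (.leaf 50288) (.leaf 50177)) (.node 3147 (.leaf 21361) (.leaf 49761))) (.node 3150 (.node 3149 (.leaf 21362) (.leaf 44529)) (.node 3151 (.leaf 44530) (.leaf 50384))))) (.node 3160 (.node 3156 (.node 3154 (.node 3153 (.leaf 50368) (.leaf 21377)) (.node 3155 (.leaf 49314) (.leaf 50464))) (.node 3158 (.node 3157 (.leaf 21409) (.leaf 50496)) (.node 3159 (.leaf 21410) (.leaf 50528)))) (.node 3164 (.node 3162 (.node 3161 (.leaf 21425) (.leaf 50560)) (.node 3163 (.leaf 21970) (.leaf 21442))) (.node 3166 (.node 3165 (.leaf 50561) (.leaf 50624)) (.node 3167 (.leaf 21458) (.leaf 50656)))))) (.node 3184 (.node 3176 (.node 3172 (.node 3170 (.node 3169 (.leaf 21489) (.leaf 50688)) (.node 3171 (.leaf 21490) (.leaf 50720))) (.node 3174 (.node 3173 (.leaf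 21522) (.leaf 50752)) (.node 3175 (.leaf 28593) (.leaf 50784)))) (.node 3180 (.node 3178 (.node 3177 (.leaf 21553) (.leaf 50816)) (.node 3179 (.leaf 21569) (.leaf 50848))) (.node 3182 (.node 3181 (.leaf 21585) (.leaf 50880)) (.node 3183 (.leaf 21602) (.leaf 50912))))) (.node 3192 (.node 3188 (.node 3186 (.node 3185 (.leaf 50849) (.leaf 50944)) (.node 3187 (.leaf 21617) (.leaf 50976))) (.node 3190 (.node 3189 (.leaf 21618) (.leaf 34113)) (.node 3191 (.leaf 21633) (.leaf 51040)))) (.node 3196 (.node 3194 (.node 3193 (.leaf 21650) (.leaf 51072)) (.node 3195 (.leaf 21666) (.leaf 51041))) (.node 3198 (.node 3197 (.leaf 21713) (.leaf 51136)) (.node 3199 (.leaf 21714) (.leaf 51168)))))))) (.node 3264 (.node 3232 (.node 3216 (.node 3208 (.node 3204 (.node 3202 (.node 3201 (.leaf 21745) (.leaf 51200)) (.node 3203 (.leaf 21746) (.leaf 51232))) (.node 3206 (.node 3205 (.leaf 21762) (.leaf 51264)) (.node 3207 (.leaf 50881) (.leaf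 51296)))) (.node 3212 (.node 3210 (.node 3209 (.leaf 21777) (.leaf 51328)) (.node 3211 (.leaf 21778) (.leaf 51360))) (.node 3214 (.node 3213 (.leaf 21793) (.leaf 51392)) (.node 3215 (.leaf 21809) (.leaf 51424))))) (.node 3224 (.node 3220 (.node 3218 (.node 3217 (.leaf 21810) (.leaf 21938)) (.node 3219 (.leaf 21826) (.leaf 51488))) (.node 3222 (.node 3221 (.leaf 51393) (.leaf 51520)) (.node 3223 (.leaf 21841) (.leaf 21890)))) (.node 3228 (.node 3226 (.node 3225 (.leaf 21905) (.leaf 51089)) (.node 3227 (.leaf 21906) (.leaf 51616))) (.node 3230 (.node 3229 (.leaf 21921) (.leaf 51648)) (.node 3231 (.leaf 21937) (.leaf 51680)))))) (.node 3248 (.node 3240 (.node 3236 (.node 3234 (.node 3233 (.leaf 21954) (.leaf 51649)) (.node 3235 (.leaf 51728) (.leaf 21969))) (.node 3238 (.node 3237 (.leaf 51760) (.leaf 22001)) (.node 3239 (.leaf 51792) (.leaf 22002)))) (.node 3244 (.node 3242 (.node 3241 (.leaf 22017) (.leaf 51840)) (.node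 3243 (.leaf 22033) (.leaf 51872))) (.node 3246 (.node 3245 (.leaf 22034) (.leaf 22050)) (.node 3247 (.leaf 51920) (.leaf 51841))))) (.node 3256 (.node 3252 (.node 3250 (.node 3249 (.leaf 51952) (.leaf 22066)) (.node 3251 (.leaf 22097) (.leaf 22098))) (.node 3254 (.node 3253 (.leaf 52016) (.leaf 22129)) (.node 3255 (.leaf 52048) (.leaf 27234)))) (.node 3260 (.node 3258 (.node 3257 (.leaf 52080) (.leaf 22161)) (.node 3259 (.leaf 52112) (.leaf 22162))) (.node 3262 (.node 3261 (.leaf 52144) (.leaf 22177)) (.node 3263 (.leaf 52176) (.leaf 22193))))))) (.node 3296 (.node 3280 (.node 3272 (.node 3268 (.node 3266 (.node 3265 (.leaf 52208) (.leaf 22210)) (.node 3267 (.leaf 52240) (.leaf 52177))) (.node 3270 (.node 3269 (.leaf 52272) (.leaf 22225)) (.node 3271 (.leaf 22226) (.leaf 22385)))) (.node 3276 (.node 3274 (.node 3273 (.leaf 22241) (.leaf 52352)) (.node 3275 (.leaf 22257) (.leaf 52384))) (.node 3278 (.node 3277 (.leaf 22274)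 (.leaf 52416)) (.node 3279 (.leaf 52353) (.leaf 52448))))) (.node 3288 (.node 3284 (.node 3282 (.node 3281 (.leaf 22289) (.leaf 22290)) (.node 3283 (.leaf 51889) (.leaf 22305))) (.node 3286 (.node 3285 (.leaf 22321) (.leaf 24610)) (.node 3287 (.leaf 22322) (.leaf 27826)))) (.node 3292 (.node 3290 (.node 3289 (.leaf 22338) (.leaf 52608)) (.node 3291 (.leaf 52529) (.leaf 52640))) (.node 3294 (.node 3293 (.leaf 22353) (.leaf 22417)) (.node 3295 (.leaf 22354) (.leaf 22369)))))) (.node 3312 (.node 3304 (.node 3300 (.node 3298 (.node 3297 (.leaf 22386) (.leaf 52736)) (.node 3299 (.leaf 22402) (.leaf 52721))) (.node 3302 (.node 3301 (.leaf 52784) (.leaf 22418)) (.node 3303 (.leaf 52816) (.leaf 22433)))) (.node 3308 (.node 3306 (.node 3305 (.leaf 52848) (.leaf 22449)) (.node 3307 (.leaf 52880) (.leaf 22450))) (.node 3310 (.node 3309 (.leaf 22706) (.leaf 22466)) (.node 3311 (.leaf 52944) (.leaf 52849))))) (.node 3320 (.node 3316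 (.node 3314 (.node 3313 (.leaf 52976) (.leaf 22481)) (.node 3315 (.leaf 53008) (.leaf 22482))) (.node 3318 (.node 3317 (.leaf 53040) (.leaf 22497)) (.node 3319 (.leaf 53072) (.leaf 22513)))) (.node 3324 (.node 3322 (.node 3321 (.leaf 22514) (.leaf 53026)) (.node 3323 (.leaf 22530) (.leaf 53152))) (.node 3326 (.node 3325 (.leaf 53073) (.leaf 53184)) (.node 3327 (.leaf 22577) (.leaf 53216))))))))

/-- block of `nd` -/
def nd_13 : Tr := .node 3456 (.node 3392 (.node 3360 (.node 3344 (.node 3336 (.node 3332 (.node 3330 (.node 3329 (.leaf 22578) (.leaf 22609)) (.node 3331 (.leaf 53264) (.leaf 22641))) (.node 3334 (.node 3333 (.leaf 53296) (.leaf 22642)) (.node 3335 (.leaf 53328) (.leaf 22673)))) (.node 3340 (.node 3338 (.node 3337 (.leaf 53360) (.leaf 22674)) (.node 3339 (.leaf 53392) (.leaf 22689))) (.node 3342 (.node 3341 (.leaf 53424) (.leaf 26722)) (.node 3343 (.leaf 22705) (.leaf 53472))))) (.node 3352 (.node 3348 (.node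 3346 (.node 3345 (.leaf 22754) (.leaf 53504)) (.node 3347 (.leaf 22769) (.leaf 53536))) (.node 3350 (.node 3349 (.leaf 22770) (.leaf 53568)) (.node 3351 (.leaf 22801) (.leaf 22929)))) (.node 3356 (.node 3354 (.node 3353 (.leaf 22802) (.leaf 53632)) (.node 3355 (.leaf 22833) (.leaf 22834))) (.node 3358 (.node 3357 (.leaf 26898) (.leaf 22865)) (.node 3359 (.leaf 53712) (.leaf 22866)))))) (.node 3376 (.node 3368 (.node 3364 (.node 3362 (.node 3361 (.leaf 53744) (.leaf 22881)) (.node 3363 (.leaf 53776) (.leaf 22898))) (.node 3366 (.node 3365 (.leaf 53808) (.leaf 22914)) (.node 3367 (.leaf 53777) (.leaf 53856)))) (.node 3372 (.node 3370 (.node 3369 (.leaf 22961) (.leaf 53888)) (.node 3371 (.leaf 22962) (.leaf 53920))) (.node 3374 (.node 3373 (.leaf 22994) (.leaf 53952)) (.node 3375 (.leaf 23777) (.leaf 23025))))) (.node 3384 (.node 3380 (.node 3378 (.node 3377 (.leaf 54000) (.leaf 23026)) (.node 3379 (.leaf 54032) (.leaf 23057)))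 (.node 3382 (.node 3381 (.leaf 54064) (.leaf 23058)) (.node 3383 (.leaf 23378) (.leaf 23121)))) (.node 3388 (.node 3386 (.node 3385 (.leaf 29185) (.leaf 23122)) (.node 3387 (.leaf 54160) (.leaf 23137))) (.node 3390 (.node 3389 (.leaf 54192) (.leaf 23138)) (.node 3391 (.leaf 54224) (.leaf 23153))))))) (.node 3424 (.node 3408 (.node 3400 (.node 3396 (.node 3394 (.node 3393 (.leaf 54256) (.leaf 23154)) (.node 3395 (.leaf 54288) (.leaf 23185))) (.node 3398 (.node 3397 (.leaf 54320) (.leaf 23186)) (.node 3399 (.leaf 54274) (.leaf 23202)))) (.node 3404 (.node 3402 (.node 3401 (.leaf 54384) (.leaf 25921)) (.node 3403 (.leaf 54416) (.leaf 23217))) (.node 3406 (.node 3405 (.leaf 53585) (.leaf 23218)) (.node 3407 (.leaf 54480) (.leaf 23249))))) (.node 3416 (.node 3412 (.node 3410 (.node 3409 (.leaf 54512) (.leaf 23250)) (.node 3411 (.leaf 54544) (.leaf 23281))) (.node 3414 (.node 3413 (.leaf 54561) (.leaf 23282)) (.node 3415 (.leaf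 54608) (.leaf 23297)))) (.node 3420 (.node 3418 (.node 3417 (.leaf 54640) (.leaf 23314)) (.node 3419 (.leaf 23330) (.leaf 54688))) (.node 3422 (.node 3421 (.leaf 54641) (.leaf 54720)) (.node 3423 (.leaf 23345) (.leaf 23505)))))) (.node 3440 (.node 3432 (.node 3428 (.node 3426 (.node 3425 (.leaf 23346) (.leaf 54784)) (.node 3427 (.leaf 23361) (.leaf 54816))) (.node 3430 (.node 3429 (.leaf 23377) (.leaf 54848)) (.node 3431 (.leaf 23394) (.leaf 54880)))) (.node 3436 (.node 3434 (.node 3433 (.leaf 54817) (.leaf 54912)) (.node 3435 (.leaf 23409) (.leaf 23457))) (.node 3438 (.node 3437 (.leaf 54960) (.leaf 23458)) (.node 3439 (.leaf 54992) (.leaf 23473))))) (.node 3448 (.node 3444 (.node 3442 (.node 3441 (.leaf 55024) (.leaf 23474)) (.node 3443 (.leaf 55056) (.leaf 23506))) (.node 3446 (.node 3445 (.leaf 55088) (.leaf 23537)) (.node 3447 (.leaf 55120) (.leaf 23538)))) (.node 3452 (.node 3450 (.node 3449 (.leaf 29218) (.leaf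 23569)) (.node 3451 (.leaf 55184) (.leaf 23570))) (.node 3454 (.node 3453 (.leaf 23986) (.leaf 23633)) (.node 3455 (.leaf 34401) (.leaf 23649)))))))) (.node 3520 (.node 3488 (.node 3472 (.node 3464 (.node 3460 (.node 3458 (.node 3457 (.leaf 55280) (.leaf 23665)) (.node 3459 (.leaf 55312) (.leaf 23666))) (.node 3462 (.node 3461 (.leaf 55344) (.leaf 23681)) (.node 3463 (.leaf 55376) (.leaf 29922)))) (.node 3468 (.node 3466 (.node 3465 (.leaf 55408) (.leaf 54434)) (.node 3467 (.leaf 23697) (.leaf 55456))) (.node 3470 (.node 3469 (.leaf 23698) (.leaf 55330)) (.node 3471 (.leaf 23729) (.leaf 55073))))) (.node 3480 (.node 3476 (.node 3474 (.node 3473 (.leaf 23730) (.leaf 55552)) (.node 3475 (.leaf 23761) (.leaf 55584))) (.node 3478 (.node 3477 (.leaf 23762) (.leaf 55616)) (.node 3479 (.leaf 23793) (.leaf 55648)))) (.node 3484 (.node 3482 (.node 3481 (.leaf 23794) (.leaf 55680)) (.node 3483 (.leaf 23825) (.leaf 55712))) (.node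 3486 (.node 3485 (.leaf 23826) (.leaf 55744)) (.node 3487 (.leaf 23857) (.leaf 55776)))))) (.node 3504 (.node 3496 (.node 3492 (.node 3490 (.node 3489 (.leaf 53954) (.leaf 55808)) (.node 3491 (.leaf 23921) (.leaf 55840))) (.node 3494 (.node 3493 (.leaf 23922) (.leaf 55602)) (.node 3495 (.leaf 23953) (.leaf 53937)))) (.node 3500 (.node 3498 (.node 3497 (.leaf 23954) (.leaf 55936)) (.node 3499 (.leaf 23969) (.leaf 24002))) (.node 3502 (.node 3501 (.leaf 55984) (.leaf 55969)) (.node 3503 (.leaf 56016) (.leaf 24017))))) (.node 3512 (.node 3508 (.node 3506 (.node 3505 (.leaf 56048) (.leaf 24049)) (.node 3507 (.leaf 56080) (.leaf 24065))) (.node 3510 (.node 3509 (.leaf 24082) (.leaf 56113)) (.node 3511 (.leaf 56144) (.leaf 24129)))) (.node 3516 (.node 3514 (.node 3513 (.leaf 24130) (.leaf 24162)) (.node 3515 (.leaf 56208) (.leaf 24178))) (.node 3518 (.node 3517 (.leaf 56240) (.leaf 43505)) (.node 3519 (.leaf 56272) (.leaf 24193)))))))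 (.node 3552 (.node 3536 (.node 3528 (.node 3524 (.node 3522 (.node 3521 (.leaf 56304) (.leaf 24194)) (.node 3523 (.leaf 56336) (.leaf 24209))) (.node 3526 (.node 3525 (.leaf 24226) (.leaf 24370)) (.node 3527 (.leaf 24242) (.leaf 56416)))) (.node 3532 (.node 3530 (.node 3529 (.leaf 56369) (.leaf 56448)) (.node 3531 (.leaf 24257) (.leaf 56480))) (.node 3534 (.node 3533 (.leaf 24274) (.leaf 56512)) (.node 3535 (.leaf 24305) (.leaf 24306))))) (.node 3544 (.node 3540 (.node 3538 (.node 3537 (.leaf 24337) (.leaf 24338)) (.node 3539 (.leaf 56592) (.leaf 24353))) (.node 3542 (.node 3541 (.leaf 24369) (.leaf 56640)) (.node 3543 (.leaf 24386) (.leaf 56625)))) (.node 3548 (.node 3546 (.node 3545 (.leaf 56688) (.leaf 24417)) (.node 3547 (.leaf 56720) (.leaf 24418))) (.node 3550 (.node 3549 (.leaf 56752) (.leaf 24433)) (.node 3551 (.leaf 24449) (.leaf 24450)))))) (.node 3568 (.node 3560 (.node 3556 (.node 3554 (.node 3553 (.leaf 56816)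 (.leaf 24466)) (.node 3555 (.leaf 56848) (.leaf 56785))) (.node 3558 (.node 3557 (.leaf 56880) (.leaf 24482)) (.node 3559 (.leaf 56912) (.leaf 24513)))) (.node 3564 (.node 3562 (.node 3561 (.leaf 56944) (.leaf 24514)) (.node 3563 (.leaf 56976) (.leaf 24545))) (.node 3566 (.node 3565 (.leaf 57008) (.leaf 24561)) (.node 3567 (.leaf 57040) (.leaf 24577))))) (.node 3576 (.node 3572 (.node 3570 (.node 3569 (.leaf 24594) (.leaf 57041)) (.node 3571 (.leaf 57104) (.leaf 24609))) (.node 3574 (.node 3573 (.leaf 57136) (.leaf 24673)) (.node 3575 (.leaf 24674) (.leaf 24705)))) (.node 3580 (.node 3578 (.node 3577 (.leaf 57200) (.leaf 24706)) (.node 3579 (.leaf 57232) (.leaf 24737))) (.node 3582 (.node 3581 (.leaf 56354) (.leaf 24738)) (.node 3583 (.leaf 57218) (.leaf 24770))))))))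

/-- block of `nd` -/
def nd_14 : Tr := .node 3712 (.node 3648 (.node 3616 (.node 3600 (.node 3592 (.node 3588 (.node 3586 (.node 3585 (.leaf 57328) (.leaf 24801)) (.node 3587 (.leaf 55394) (.leaf 57376))) (.node 3590 (.node 3589 (.leaf 57360) (.leaf 24802)) (.node 3591 (.leaf 55393) (.leaf 57440)))) (.node 3596 (.node 3594 (.node 3593 (.leaf 57424) (.leaf 24833)) (.node 3595 (.leaf 57488) (.leaf 24834))) (.node 3598 (.node 3597 (.leaf 24849) (.leaf 57536)) (.node 3599 (.leaf 24865) (.leaf 57568))))) (.node 3608 (.node 3604 (.node 3602 (.node 3601 (.leaf 24882) (.leaf 57600)) (.node 3603 (.leaf 57537) (.leaf 57632))) (.node 3606 (.node 3605 (.leaf 24897) (.leaf 57664)) (.node 3607 (.leaf 24898) (.leaf 24913)))) (.node 3612 (.node 3610 (.node 3609 (.leaf 57712) (.leaf 24929)) (.node 3611 (.leaf 57744) (.leaf 24930))) (.node 3614 (.node 3613 (.leaf 25186) (.leaf 24946)) (.node 3615 (.leaf 57808) (.leaf 57713)))))) (.node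 3632 (.node 3624 (.node 3620 (.node 3618 (.node 3617 (.leaf 57840) (.leaf 24961)) (.node 3619 (.leaf 57872) (.leaf 24962))) (.node 3622 (.node 3621 (.leaf 57904) (.leaf 24977)) (.node 3623 (.leaf 57936) (.leaf 24993)))) (.node 3628 (.node 3626 (.node 3625 (.leaf 57968) (.leaf 24994)) (.node 3627 (.leaf 57890) (.leaf 25010))) (.node 3630 (.node 3629 (.leaf 58032) (.leaf 57937)) (.node 3631 (.leaf 25025) (.leaf 52753))))) (.node 3640 (.node 3636 (.node 3634 (.node 3633 (.leaf 25026) (.leaf 35937)) (.node 3635 (.leaf 35938) (.leaf 58144))) (.node 3638 (.node 3637 (.leaf 58112) (.leaf 25057)) (.node 3639 (.leaf 58192) (.leaf 25058)))) (.node 3644 (.node 3642 (.node 3641 (.leaf 25073) (.leaf 56914)) (.node 3643 (.leaf 58256) (.leaf 25089))) (.node 3646 (.node 3645 (.leaf 58288) (.leaf 25121)) (.node 3647 (.leaf 58320) (.leaf 25122))))))) (.node 3680 (.node 3664 (.node 3656 (.node 3652 (.node 3650 (.node 3649 (.leaf 58352) (.leaf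 25153)) (.node 3651 (.leaf 58384) (.leaf 25154))) (.node 3654 (.node 3653 (.leaf 58416) (.leaf 25169)) (.node 3655 (.leaf 53810) (.leaf 25185)))) (.node 3660 (.node 3658 (.node 3657 (.leaf 58480) (.leaf 25217)) (.node 3659 (.leaf 58512) (.leaf 25218))) (.node 3662 (.node 3661 (.leaf 25233) (.leaf 25249)) (.node 3663 (.leaf 25762) (.leaf 25250))))) (.node 3672 (.node 3668 (.node 3666 (.node 3665 (.leaf 25266) (.leaf 58561)) (.node 3667 (.leaf 58640) (.leaf 25282))) (.node 3670 (.node 3669 (.leaf 58672) (.leaf 25313)) (.node 3671 (.leaf 58704) (.leaf 25314)))) (.node 3676 (.node 3674 (.node 3673 (.leaf 58736) (.leaf 25361)) (.node 3675 (.leaf 25377) (.leaf 58784))) (.node 3678 (.node 3677 (.leaf 25394) (.leaf 58816)) (.node 3679 (.leaf 58769) (.leaf 58848)))))) (.node 3696 (.node 3688 (.node 3684 (.node 3682 (.node 3681 (.leaf 25409) (.leaf 58880)) (.node 3683 (.leaf 25410) (.leaf 58912))) (.node 3686 (.node 3685 (.leaf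 25425) (.leaf 58944)) (.node 3687 (.leaf 25441) (.leaf 58976)))) (.node 3692 (.node 3690 (.node 3689 (.leaf 25442) (.leaf 25458)) (.node 3691 (.leaf 59024) (.leaf 58945))) (.node 3694 (.node 3693 (.leaf 59056) (.leaf 25473)) (.node 3695 (.leaf 25474) (.leaf 30961))))) (.node 3704 (.node 3700 (.node 3698 (.node 3697 (.leaf 30962) (.leaf 59136)) (.node 3699 (.leaf 59120) (.leaf 59104))) (.node 3702 (.node 3701 (.leaf 25505) (.leaf 59200)) (.node 3703 (.leaf 25506) (.leaf 35442)))) (.node 3708 (.node 3706 (.node 3705 (.leaf 25553) (.leaf 59264)) (.node 3707 (.leaf 25554) (.leaf 59296))) (.node 3710 (.node 3709 (.leaf 25585) (.leaf 59328)) (.node 3711 (.leaf 25586) (.leaf 59360)))))))) (.node 3776 (.node 3744 (.node 3728 (.node 3720 (.node 3716 (.node 3714 (.node 3713 (.leaf 25602) (.leaf 59392)) (.node 3715 (.leaf 58785) (.leaf 59424))) (.node 3718 (.node 3717 (.leaf 25617) (.leaf 59456)) (.node 3719 (.leaf 25618) (.leaf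 59488)))) (.node 3724 (.node 3722 (.node 3721 (.leaf 25633) (.leaf 25649)) (.node 3723 (.leaf 59536) (.leaf 25650))) (.node 3726 (.node 3725 (.leaf 25730) (.leaf 25698)) (.node 3727 (.leaf 59600) (.leaf 31009))))) (.node 3736 (.node 3732 (.node 3730 (.node 3729 (.leaf 59632) (.leaf 25713)) (.node 3731 (.leaf 59664) (.leaf 25729))) (.node 3734 (.node 3733 (.leaf 59696) (.leaf 25746)) (.node 3735 (.leaf 59728) (.leaf 59665)))) (.node 3740 (.node 3738 (.node 3737 (.leaf 59760) (.leaf 25761)) (.node 3739 (.leaf 59792) (.leaf 25793))) (.node 3742 (.node 3741 (.leaf 25794) (.leaf 59840)) (.node 3743 (.leaf 25809) (.leaf 59872)))))) (.node 3760 (.node 3752 (.node 3748 (.node 3746 (.node 3745 (.leaf 25825) (.leaf 30802)) (.node 3747 (.leaf 25826) (.leaf 59936))) (.node 3750 (.node 3749 (.leaf 25842) (.leaf 59968)) (.node 3751 (.leaf 59873) (.leaf 60000)))) (.node 3756 (.node 3754 (.node 3753 (.leaf 25858) (.leaf 25889)) (.node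 3755 (.leaf 60048) (.leaf 25890))) (.node 3758 (.node 3757 (.leaf 60080) (.leaf 25937)) (.node 3759 (.leaf 25953) (.leaf 60128))))) (.node 3768 (.node 3764 (.node 3762 (.node 3761 (.leaf 25970) (.leaf 60160)) (.node 3763 (.leaf 60113) (.leaf 60192))) (.node 3766 (.node 3765 (.leaf 25985) (.leaf 60224)) (.node 3767 (.leaf 25986) (.leaf 26209)))) (.node 3772 (.node 3770 (.node 3769 (.leaf 26001) (.leaf 60288)) (.node 3771 (.leaf 26017) (.leaf 58930))) (.node 3774 (.node 3773 (.leaf 26018) (.leaf 60352)) (.node 3775 (.leaf 26034) (.leaf 60384))))))) (.node 3808 (.node 3792 (.node 3784 (.node 3780 (.node 3778 (.node 3777 (.leaf 60289) (.leaf 60416)) (.node 3779 (.leaf 26050) (.leaf 60448))) (.node 3782 (.node 3781 (.leaf 26065) (.leaf 60480)) (.node 3783 (.leaf 26081) (.leaf 53522)))) (.node 3788 (.node 3786 (.node 3785 (.leaf 26082) (.leaf 26418)) (.node 3787 (.leaf 26098) (.leaf 60576))) (.node 3790 (.node 3789 (.leaf 60481)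 (.leaf 60608)) (.node 3791 (.leaf 26113) (.leaf 26241))))) (.node 3800 (.node 3796 (.node 3794 (.node 3793 (.leaf 26114) (.leaf 60672)) (.node 3795 (.leaf 26145) (.leaf 60704))) (.node 3798 (.node 3797 (.leaf 26146) (.leaf 60736)) (.node 3799 (.leaf 34033) (.leaf 60768)))) (.node 3804 (.node 3802 (.node 3801 (.leaf 34066) (.leaf 60800)) (.node 3803 (.leaf 26177) (.leaf 60832))) (.node 3806 (.node 3805 (.leaf 26178) (.leaf 60864)) (.node 3807 (.leaf 26193) (.leaf 26210)))))) (.node 3824 (.node 3816 (.node 3812 (.node 3810 (.node 3809 (.leaf 60818) (.leaf 53089)) (.node 3811 (.leaf 26226) (.leaf 60960))) (.node 3814 (.node 3813 (.leaf 60897) (.leaf 60992)) (.node 3815 (.leaf 26242) (.leaf 61024)))) (.node 3820 (.node 3818 (.node 3817 (.leaf 26257) (.leaf 26273)) (.node 3819 (.leaf 61072) (.leaf 26274))) (.node 3822 (.node 3821 (.leaf 26546) (.leaf 26290)) (.node 3823 (.leaf 61057) (.leaf 61152))))) (.node 3832 (.node 3828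 (.node 3826 (.node 3825 (.leaf 26305) (.leaf 61184)) (.node 3827 (.leaf 26321) (.leaf 26338))) (.node 3830 (.node 3829 (.leaf 61232) (.leaf 61185)) (.node 3831 (.leaf 26385) (.leaf 26386)))) (.node 3836 (.node 3834 (.node 3833 (.leaf 61296) (.leaf 26417)) (.node 3835 (.leaf 61328) (.leaf 26481))) (.node 3838 (.node 3837 (.leaf 28017) (.leaf 26513)) (.node 3839 (.leaf 61392) (.leaf 26514))))))))

/-- block of `nd` -/
def nd_15 : Tr := .node 3968 (.node 3904 (.node 3872 (.node 3856 (.node 3848 (.node 3844 (.node 3842 (.node 3841 (.leaf 61424) (.leaf 26545)) (.node 3843 (.leaf 26594) (.leaf 61472))) (.node 3846 (.node 3845 (.leaf 26609) (.leaf 26610)) (.node 3847 (.leaf 61520) (.leaf 26657)))) (.node 3852 (.node 3850 (.node 3849 (.leaf 61552) (.leaf 26658)) (.node 3851 (.leaf 26673) (.leaf 26737))) (.node 3854 (.node 3853 (.leaf 26674) (.leaf 48113)) (.node 3855 (.leaf 26706) (.leaf 53314))))) (.node 3864 (.node 3860 (.node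 3858 (.node 3857 (.leaf 26738) (.leaf 26769)) (.node 3859 (.leaf 26770) (.leaf 61728))) (.node 3862 (.node 3861 (.leaf 26801) (.leaf 61760)) (.node 3863 (.leaf 30498) (.leaf 61792)))) (.node 3868 (.node 3866 (.node 3865 (.leaf 30465) (.leaf 61824)) (.node 3867 (.leaf 26802) (.leaf 26818))) (.node 3870 (.node 3869 (.leaf 61872) (.leaf 35281)) (.node 3871 (.leaf 61904) (.leaf 26833)))))) (.node 3888 (.node 3880 (.node 3876 (.node 3874 (.node 3873 (.leaf 61936) (.leaf 26834)) (.node 3875 (.leaf 26865) (.leaf 61537))) (.node 3878 (.node 3877 (.leaf 26866) (.leaf 47697)) (.node 3879 (.leaf 47698) (.leaf 62048)))) (.node 3884 (.node 3882 (.node 3881 (.leaf 62032) (.leaf 26881)) (.node 3883 (.leaf 26897) (.leaf 62112))) (.node 3886 (.node 3885 (.leaf 26914) (.leaf 62144)) (.node 3887 (.leaf 26929) (.leaf 62176))))) (.node 3896 (.node 3892 (.node 3890 (.node 3889 (.leaf 26945) (.leaf 62208)) (.node 3891 (.leaf 26961) (.leaf 62240)))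 (.node 3894 (.node 3893 (.leaf 26962) (.leaf 62272)) (.node 3895 (.leaf 26978) (.leaf 62304)))) (.node 3900 (.node 3898 (.node 3897 (.leaf 62209) (.leaf 62336)) (.node 3899 (.leaf 26993) (.leaf 27057))) (.node 3902 (.node 3901 (.leaf 26994) (.leaf 62400)) (.node 3903 (.leaf 27025) (.leaf 27042))))))) (.node 3936 (.node 3920 (.node 3912 (.node 3908 (.node 3906 (.node 3905 (.leaf 27058) (.leaf 62464)) (.node 3907 (.leaf 27089) (.leaf 62496))) (.node 3910 (.node 3909 (.leaf 27090) (.leaf 62528)) (.node 3911 (.leaf 27122) (.leaf 62560)))) (.node 3916 (.node 3914 (.node 3913 (.leaf 27138) (.leaf 62592)) (.node 3915 (.leaf 29089) (.leaf 62624))) (.node 3918 (.node 3917 (.leaf 27153) (.leaf 62656)) (.node 3919 (.leaf 27154) (.leaf 62688))))) (.node 3928 (.node 3924 (.node 3922 (.node 3921 (.leaf 27169) (.leaf 27185)) (.node 3923 (.leaf 62736) (.leaf 27186))) (.node 3926 (.node 3925 (.leaf 27410) (.leaf 27202)) (.node 3927 (.leaf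 62800) (.leaf 62721)))) (.node 3932 (.node 3930 (.node 3929 (.leaf 62832) (.leaf 29377)) (.node 3931 (.leaf 62864) (.leaf 27217))) (.node 3934 (.node 3933 (.leaf 52161) (.leaf 27218)) (.node 3935 (.leaf 62928) (.leaf 27249)))))) (.node 3952 (.node 3944 (.node 3940 (.node 3938 (.node 3937 (.leaf 62289) (.leaf 27250)) (.node 3939 (.leaf 62992) (.leaf 27281))) (.node 3942 (.node 3941 (.leaf 63024) (.leaf 27282)) (.node 3943 (.leaf 63056) (.leaf 27313)))) (.node 3948 (.node 3946 (.node 3945 (.leaf 63088) (.leaf 27314)) (.node 3947 (.leaf 63120) (.leaf 27345))) (.node 3950 (.node 3949 (.leaf 27346) (.leaf 63168)) (.node 3951 (.leaf 27377) (.leaf 63200))))) (.node 3960 (.node 3956 (.node 3954 (.node 3953 (.leaf 27378) (.leaf 63232)) (.node 3955 (.leaf 27409) (.leaf 63264))) (.node 3958 (.node 3957 (.leaf 27473) (.leaf 40258)) (.node 3959 (.leaf 27474) (.leaf 40257)))) (.node 3964 (.node 3962 (.node 3961 (.leaf 27489) (.leaf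 27505)) (.node 3963 (.leaf 28338) (.leaf 27506))) (.node 3966 (.node 3965 (.leaf 27522) (.leaf 63361)) (.node 3967 (.leaf 63440) (.leaf 27538)))))))) (.node 4032 (.node 4000 (.node 3984 (.node 3976 (.node 3972 (.node 3970 (.node 3969 (.leaf 63472) (.leaf 27569)) (.node 3971 (.leaf 39170) (.leaf 63520))) (.node 3974 (.node 3973 (.leaf 63504) (.leaf 27570)) (.node 3975 (.leaf 39169) (.leaf 63584)))) (.node 3980 (.node 3978 (.node 3977 (.leaf 63568) (.leaf 27601)) (.node 3979 (.leaf 27602) (.leaf 27633))) (.node 3982 (.node 3981 (.leaf 63664) (.leaf 27665)) (.node 3983 (.leaf 63696) (.leaf 27666))))) (.node 3992 (.node 3988 (.node 3986 (.node 3985 (.leaf 63728) (.leaf 27697)) (.node 3987 (.leaf 29506) (.leaf 27698))) (.node 3990 (.node 3989 (.leaf 63792) (.leaf 29505)) (.node 3991 (.leaf 63824) (.leaf 27745)))) (.node 3996 (.node 3994 (.node 3993 (.leaf 63856) (.leaf 27746)) (.node 3995 (.leaf 63888) (.leaf 27761))) (.node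 3998 (.node 3997 (.leaf 63746) (.leaf 27762)) (.node 3999 (.leaf 63952) (.leaf 27794)))))) (.node 4016 (.node 4008 (.node 4004 (.node 4002 (.node 4001 (.leaf 63984) (.leaf 27825)) (.node 4003 (.leaf 64016) (.leaf 27857))) (.node 4006 (.node 4005 (.leaf 64048) (.leaf 27858)) (.node 4007 (.leaf 64080) (.leaf 27889)))) (.node 4012 (.node 4010 (.node 4009 (.leaf 64112) (.leaf 27890)) (.node 4011 (.leaf 64144) (.leaf 27905))) (.node 4014 (.node 4013 (.leaf 27921) (.leaf 27938)) (.node 4015 (.leaf 64208) (.leaf 64177))))) (.node 4024 (.node 4020 (.node 4018 (.node 4017 (.leaf 64240) (.leaf 27953)) (.node 4019 (.leaf 64272) (.leaf 27954))) (.node 4022 (.node 4021 (.leaf 40545) (.leaf 27969)) (.node 4023 (.leaf 64336) (.leaf 27985)))) (.node 4028 (.node 4026 (.node 4025 (.leaf 64368) (.leaf 27986)) (.node 4027 (.leaf 64400) (.leaf 28002))) (.node 4030 (.node 4029 (.leaf 64337) (.leaf 64448)) (.node 4031 (.leaf 28018) (.leaf 64480)))))))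 (.node 4064 (.node 4048 (.node 4040 (.node 4036 (.node 4034 (.node 4033 (.leaf 28049) (.leaf 64512)) (.node 4035 (.leaf 28050) (.leaf 64544))) (.node 4038 (.node 4037 (.leaf 28081) (.leaf 64576)) (.node 4039 (.leaf 28082) (.leaf 28098)))) (.node 4044 (.node 4042 (.node 4041 (.leaf 64624) (.leaf 41489)) (.node 4043 (.leaf 64656) (.leaf 63665))) (.node 4046 (.node 4045 (.leaf 64688) (.leaf 28113)) (.node 4047 (.leaf 64720) (.leaf 28114))))) (.node 4056 (.node 4052 (.node 4050 (.node 4049 (.leaf 64752) (.leaf 28129)) (.node 4051 (.leaf 28145) (.leaf 64800))) (.node 4054 (.node 4053 (.leaf 28162) (.leaf 64785)) (.node 4055 (.leaf 64848) (.leaf 28177)))) (.node 4060 (.node 4058 (.node 4057 (.leaf 64880) (.leaf 28178)) (.node 4059 (.leaf 64912) (.leaf 28193))) (.node 4062 (.node 4061 (.leaf 64944) (.leaf 38546)) (.node 4063 (.leaf 38513) (.leaf 64992)))))) (.node 4080 (.node 4072 (.node 4068 (.node 4066 (.node 4065 (.leaf 28209)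 (.leaf 65024)) (.node 4067 (.leaf 28210) (.leaf 64898))) (.node 4070 (.node 4069 (.leaf 28226) (.leaf 65088)) (.node 4071 (.leaf 64945) (.leaf 65120)))) (.node 4076 (.node 4074 (.node 4073 (.leaf 28241) (.leaf 64417)) (.node 4075 (.leaf 28242) (.leaf 65184))) (.node 4078 (.node 4077 (.leaf 28273) (.leaf 28274)) (.node 4079 (.leaf 65232) (.leaf 28305))))) (.node 4088 (.node 4084 (.node 4082 (.node 4081 (.leaf 65264) (.leaf 28306)) (.node 4083 (.leaf 65296) (.leaf 28337))) (.node 4086 (.node 4085 (.leaf 28353) (.leaf 65344)) (.node 4087 (.leaf 28369) (.leaf 28370)))) (.node 4092 (.node 4090 (.node 4089 (.leaf 50834) (.leaf 28386)) (.node 4091 (.leaf 65424) (.leaf 65345))) (.node 4094 (.node 4093 (.leaf 65456) (.leaf 28401)) (.node 4095 (.leaf 28529) (.leaf 28402))))))))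

/-- block of `nd` -/
def nd_16 : Tr := .node 4224 (.node 4160 (.node 4128 (.node 4112 (.node 4104 (.node 4100 (.node 4098 (.node 4097 (.leaf 65520) (.leaf 28433)) (.node 4099 (.leaf 28466) (.leaf 28481))) (.node 4102 (.node 4101 (.leaf 28498) (.leaf 49266)) (.node 4103 (.leaf 28514) (.leaf 65585)))) (.node 4108 (.node 4106 (.node 4105 (.leaf 65648) (.leaf 28545)) (.node 4107 (.leaf 65680) (.leaf 28562))) (.node 4110 (.node 4109 (.leaf 65681) (.leaf 65728)) (.node 4111 (.leaf 28577) (.leaf 65760))))) (.node 4120 (.node 4116 (.node 4114 (.node 4113 (.leaf 28578) (.leaf 65792)) (.node 4115 (.leaf 28609) (.leaf 65824))) (.node 4118 (.node 4117 (.leaf 28610) (.leaf 65778)) (.node 4119 (.leaf 28641) (.leaf 65888)))) (.node 4124 (.node 4122 (.node 4121 (.leaf 28657) (.leaf 65920)) (.node 4123 (.leaf 28994) (.leaf 65952))) (.node 4126 (.node 4125 (.leaf 28673) (.leaf 65984)) (.node 4127 (.leaf 28674) (.leaf 66016)))))) (.node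 4144 (.node 4136 (.node 4132 (.node 4130 (.node 4129 (.leaf 28721) (.leaf 66048)) (.node 4131 (.leaf 28722) (.leaf 66080))) (.node 4134 (.node 4133 (.leaf 65025) (.leaf 65058)) (.node 4135 (.leaf 28769) (.leaf 66144)))) (.node 4140 (.node 4138 (.node 4137 (.leaf 28770) (.leaf 66176)) (.node 4139 (.leaf 28785) (.leaf 66208))) (.node 4142 (.node 4141 (.leaf 28786) (.leaf 66240)) (.node 4143 (.leaf 28833) (.leaf 47874))))) (.node 4152 (.node 4148 (.node 4146 (.node 4145 (.leaf 28834) (.leaf 34626)) (.node 4147 (.leaf 28849) (.leaf 28850))) (.node 4150 (.node 4149 (.leaf 66352) (.leaf 28881)) (.node 4151 (.leaf 66384) (.leaf 28882)))) (.node 4156 (.node 4154 (.node 4153 (.leaf 66416) (.leaf 28914)) (.node 4155 (.leaf 66448) (.leaf 28945))) (.node 4158 (.node 4157 (.leaf 66480) (.leaf 28946)) (.node 4159 (.leaf 66512) (.leaf 28978))))))) (.node 4192 (.node 4176 (.node 4168 (.node 4164 (.node 4162 (.node 4161 (.leaf 29009) (.leaf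 66560)) (.node 4163 (.leaf 29010) (.leaf 66592))) (.node 4166 (.node 4165 (.leaf 64082) (.leaf 29041)) (.node 4167 (.leaf 66640) (.leaf 29042)))) (.node 4172 (.node 4170 (.node 4169 (.leaf 54978) (.leaf 29058)) (.node 4171 (.leaf 66704) (.leaf 29073))) (.node 4174 (.node 4173 (.leaf 66257) (.leaf 29074)) (.node 4175 (.leaf 66768) (.leaf 29105))))) (.node 4184 (.node 4180 (.node 4178 (.node 4177 (.leaf 66800) (.leaf 29106)) (.node 4179 (.leaf 66832) (.leaf 29122))) (.node 4182 (.node 4181 (.leaf 66864) (.leaf 32033)) (.node 4183 (.leaf 66896) (.leaf 29137)))) (.node 4188 (.node 4186 (.node 4185 (.leaf 66849) (.leaf 29138)) (.node 4187 (.leaf 66960) (.leaf 29153))) (.node 4190 (.node 4189 (.leaf 29170) (.leaf 66993)) (.node 4191 (.leaf 67024) (.leaf 29186)))))) (.node 4208 (.node 4200 (.node 4196 (.node 4194 (.node 4193 (.leaf 29201) (.leaf 29217)) (.node 4195 (.leaf 29234) (.leaf 67073))) (.node 4198 (.node 4197 (.leaf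 67120) (.leaf 29281)) (.node 4199 (.leaf 32674) (.leaf 29282)))) (.node 4204 (.node 4202 (.node 4201 (.leaf 32673) (.leaf 67200)) (.node 4203 (.leaf 29345) (.leaf 29346))) (.node 4206 (.node 4205 (.leaf 29378) (.leaf 67264)) (.node 4207 (.leaf 29393) (.leaf 29410))))) (.node 4216 (.node 4212 (.node 4210 (.node 4209 (.leaf 67297) (.leaf 67328)) (.node 4211 (.leaf 29441) (.leaf 66722))) (.node 4214 (.node 4213 (.leaf 67376) (.leaf 67360)) (.node 4215 (.leaf 29442) (.leaf 66721)))) (.node 4220 (.node 4218 (.node 4217 (.leaf 29537) (.leaf 67456)) (.node 4219 (.leaf 29538) (.leaf 67488))) (.node 4222 (.node 4221 (.leaf 29634) (.leaf 30833)) (.node 4223 (.leaf 29649) (.leaf 67552)))))))) (.node 4288 (.node 4256 (.node 4240 (.node 4232 (.node 4228 (.node 4226 (.node 4225 (.leaf 29666) (.leaf 67584)) (.node 4227 (.leaf 29682) (.leaf 67616))) (.node 4230 (.node 4229 (.leaf 67553) (.leaf 67648)) (.node 4231 (.leaf 29697) (.leaf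 29698)))) (.node 4236 (.node 4234 (.node 4233 (.leaf 67696) (.leaf 29713)) (.node 4235 (.leaf 67728) (.leaf 31906))) (.node 4238 (.node 4237 (.leaf 67760) (.leaf 31873)) (.node 4239 (.leaf 67792) (.leaf 29729))))) (.node 4248 (.node 4244 (.node 4242 (.node 4241 (.leaf 63250) (.leaf 67840)) (.node 4243 (.leaf 67824) (.leaf 29730))) (.node 4246 (.node 4245 (.leaf 59810) (.leaf 63249)) (.node 4247 (.leaf 67920) (.leaf 29746)))) (.node 4252 (.node 4250 (.node 4249 (.leaf 67952) (.leaf 67729)) (.node 4251 (.leaf 67984) (.leaf 29761))) (.node 4254 (.node 4253 (.leaf 67601) (.leaf 29762)) (.node 4255 (.leaf 68048) (.leaf 29793)))))) (.node 4272 (.node 4264 (.node 4260 (.node 4258 (.node 4257 (.leaf 68080) (.leaf 29794)) (.node 4259 (.leaf 68112) (.leaf 29809))) (.node 4262 (.node 4261 (.leaf 68144) (.leaf 29825)) (.node 4263 (.leaf 30322) (.leaf 29826)))) (.node 4268 (.node 4266 (.node 4265 (.leaf 68208) (.leaf 29842)) (.node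 4267 (.leaf 68145) (.leaf 68256))) (.node 4270 (.node 4269 (.leaf 29858) (.leaf 68288)) (.node 4271 (.leaf 29889) (.leaf 68320))))) (.node 4280 (.node 4276 (.node 4274 (.node 4273 (.leaf 29890) (.leaf 29937)) (.node 4275 (.leaf 29954) (.leaf 68369))) (.node 4278 (.node 4277 (.leaf 68400) (.leaf 29969)) (.node 4279 (.leaf 68432) (.leaf 29970)))) (.node 4284 (.node 4282 (.node 4281 (.leaf 30705) (.leaf 29985)) (.node 4283 (.leaf 68496) (.leaf 30002))) (.node 4286 (.node 4285 (.leaf 68528) (.leaf 68497)) (.node 4287 (.leaf 68560) (.leaf 30017))))))) (.node 4320 (.node 4304 (.node 4296 (.node 4292 (.node 4290 (.node 4289 (.leaf 30065) (.leaf 30018)) (.node 4291 (.leaf 68624) (.leaf 30066))) (.node 4294 (.node 4293 (.leaf 68656) (.leaf 30097)) (.node 4295 (.leaf 68688) (.leaf 30113)))) (.node 4300 (.node 4298 (.node 4297 (.leaf 30130) (.leaf 68721)) (.node 4299 (.leaf 68752) (.leaf 30145))) (.node 4302 (.node 4301 (.leaf 30146)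 (.leaf 55297)) (.node 4303 (.leaf 30161) (.leaf 30194))))) (.node 4312 (.node 4308 (.node 4306 (.node 4305 (.leaf 68848) (.leaf 68833)) (.node 4307 (.leaf 68880) (.leaf 30226))) (.node 4310 (.node 4309 (.leaf 68912) (.leaf 30258)) (.node 4311 (.leaf 68944) (.leaf 30273)))) (.node 4316 (.node 4314 (.node 4313 (.leaf 68976) (.leaf 30289)) (.node 4315 (.leaf 69008) (.leaf 30306))) (.node 4318 (.node 4317 (.leaf 68977) (.leaf 69056)) (.node 4319 (.leaf 30321) (.leaf 52369)))))) (.node 4336 (.node 4328 (.node 4324 (.node 4322 (.node 4321 (.leaf 30337) (.leaf 69120)) (.node 4323 (.leaf 30353) (.leaf 69152))) (.node 4326 (.node 4325 (.leaf 30354) (.leaf 69184)) (.node 4327 (.leaf 30370) (.leaf 69216)))) (.node 4332 (.node 4330 (.node 4329 (.leaf 69121) (.leaf 69248)) (.node 4331 (.leaf 30386) (.leaf 69280))) (.node 4334 (.node 4333 (.leaf 30401) (.leaf 30417)) (.node 4335 (.leaf 69328) (.leaf 30434))))) (.node 4344 (.node 4340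 (.node 4338 (.node 4337 (.leaf 69313) (.leaf 69376)) (.node 4339 (.leaf 30449) (.leaf 30450))) (.node 4342 (.node 4341 (.leaf 30897) (.leaf 30481)) (.node 4343 (.leaf 69456) (.leaf 30513)))) (.node 4348 (.node 4346 (.node 4345 (.leaf 69488) (.leaf 30514)) (.node 4347 (.leaf 69169) (.leaf 30561))) (.node 4350 (.node 4349 (.leaf 30562) (.leaf 30577)) (.node 4351 (.leaf 69584) (.leaf 30578))))))))

/-- block of `nd` -/
def nd_17 : Tr := .node 4480 (.node 4416 (.node 4384 (.node 4368 (.node 4360 (.node 4356 (.node 4354 (.node 4353 (.leaf 69506) (.leaf 30625)) (.node 4355 (.leaf 30626) (.leaf 30641))) (.node 4358 (.node 4357 (.leaf 60369) (.leaf 30642)) (.node 4359 (.leaf 69712) (.leaf 30673)))) (.node 4364 (.node 4362 (.node 4361 (.leaf 66529) (.leaf 30674)) (.node 4363 (.leaf 69776) (.leaf 30689))) (.node 4366 (.node 4365 (.leaf 69808) (.leaf 58674)) (.node 4367 (.leaf 69840) (.leaf 30706))))) (.node 4376 (.node 4372 (.node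 4370 (.node 4369 (.leaf 69872) (.leaf 30737)) (.node 4371 (.leaf 69904) (.leaf 30738))) (.node 4374 (.node 4373 (.leaf 69936) (.leaf 30786)) (.node 4375 (.leaf 69968) (.leaf 69329)))) (.node 4380 (.node 4378 (.node 4377 (.leaf 70000) (.leaf 30801)) (.node 4379 (.leaf 70032) (.leaf 30865))) (.node 4382 (.node 4381 (.leaf 30929) (.leaf 30881)) (.node 4383 (.leaf 30898) (.leaf 70112)))))) (.node 4400 (.node 4392 (.node 4388 (.node 4386 (.node 4385 (.leaf 30914) (.leaf 70097)) (.node 4387 (.leaf 70160) (.leaf 59778))) (.node 4390 (.node 4389 (.leaf 70192) (.leaf 30930)) (.node 4391 (.leaf 70224) (.leaf 30945)))) (.node 4396 (.node 4394 (.node 4393 (.leaf 70256) (.leaf 30978)) (.node 4395 (.leaf 70288) (.leaf 70257))) (.node 4398 (.node 4397 (.leaf 70320) (.leaf 30993)) (.node 4399 (.leaf 30994) (.leaf 31025))))) (.node 4408 (.node 4404 (.node 4402 (.node 4401 (.leaf 61250) (.leaf 31026)) (.node 4403 (.leaf 61249) (.leaf 31057)))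 (.node 4406 (.node 4405 (.leaf 70448) (.leaf 31058)) (.node 4407 (.leaf 70480) (.leaf 31073)))) (.node 4412 (.node 4410 (.node 4409 (.leaf 70512) (.leaf 69282)) (.node 4411 (.leaf 31089) (.leaf 70560))) (.node 4414 (.node 4413 (.leaf 31090) (.leaf 70592)) (.node 4415 (.leaf 35569) (.leaf 31137))))))) (.node 4448 (.node 4432 (.node 4424 (.node 4420 (.node 4418 (.node 4417 (.leaf 70640) (.leaf 31138)) (.node 4419 (.leaf 70672) (.leaf 31185))) (.node 4422 (.node 4421 (.leaf 31201) (.leaf 70720)) (.node 4423 (.leaf 31202) (.leaf 70752)))) (.node 4428 (.node 4426 (.node 4425 (.leaf 31218) (.leaf 70784)) (.node 4427 (.leaf 70705) (.leaf 70816))) (.node 4430 (.node 4429 (.leaf 32514) (.leaf 31265)) (.node 4431 (.leaf 70864) (.leaf 31266))))) (.node 4440 (.node 4436 (.node 4434 (.node 4433 (.leaf 70896) (.leaf 32241)) (.node 4435 (.leaf 31298) (.leaf 70944))) (.node 4438 (.node 4437 (.leaf 31313) (.leaf 70976)) (.node 4439 (.leaf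 31329) (.leaf 71008)))) (.node 4444 (.node 4442 (.node 4441 (.leaf 31330) (.leaf 31442)) (.node 4443 (.leaf 31346) (.leaf 70977))) (.node 4446 (.node 4445 (.leaf 71088) (.leaf 31378)) (.node 4447 (.leaf 31394) (.leaf 71136)))))) (.node 4464 (.node 4456 (.node 4452 (.node 4450 (.node 4449 (.leaf 33953) (.leaf 71168)) (.node 4451 (.leaf 31409) (.leaf 70769))) (.node 4454 (.node 4453 (.leaf 31410) (.leaf 71232)) (.node 4455 (.leaf 31425) (.leaf 71265)))) (.node 4460 (.node 4458 (.node 4457 (.leaf 71280) (.leaf 31457)) (.node 4459 (.leaf 71312) (.leaf 31473))) (.node 4462 (.node 4461 (.leaf 31490) (.leaf 71360)) (.node 4463 (.leaf 71313) (.leaf 71392))))) (.node 4472 (.node 4468 (.node 4466 (.node 4465 (.leaf 67665) (.leaf 31505)) (.node 4467 (.leaf 71440) (.leaf 31506))) (.node 4470 (.node 4469 (.leaf 31521) (.leaf 71488)) (.node 4471 (.leaf 62354) (.leaf 71520)))) (.node 4476 (.node 4474 (.node 4473 (.leaf 31537) (.leaf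 71552)) (.node 4475 (.leaf 31538) (.leaf 71458))) (.node 4478 (.node 4477 (.leaf 31569) (.leaf 70129)) (.node 4479 (.leaf 31570) (.leaf 71648)))))))) (.node 4544 (.node 4512 (.node 4496 (.node 4488 (.node 4484 (.node 4482 (.node 4481 (.leaf 31634) (.leaf 31649)) (.node 4483 (.leaf 71696) (.leaf 31665))) (.node 4486 (.node 4485 (.leaf 71728) (.leaf 31666)) (.node 4487 (.leaf 71760) (.leaf 31682)))) (.node 4492 (.node 4490 (.node 4489 (.leaf 71697) (.leaf 71808)) (.node 4491 (.leaf 31697) (.leaf 31761))) (.node 4494 (.node 4493 (.leaf 31698) (.leaf 31729)) (.node 4495 (.leaf 71888) (.leaf 31762))))) (.node 4504 (.node 4500 (.node 4498 (.node 4497 (.leaf 71920) (.leaf 31793)) (.node 4499 (.leaf 71952) (.leaf 31794))) (.node 4502 (.node 4501 (.leaf 71984) (.leaf 31825)) (.node 4503 (.leaf 72016) (.leaf 71650)))) (.node 4508 (.node 4506 (.node 4505 (.leaf 72048) (.leaf 71617)) (.node 4507 (.leaf 72080) (.leaf 31826))) (.node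 4510 (.node 4509 (.leaf 72112) (.leaf 31857)) (.node 4511 (.leaf 72144) (.leaf 31858)))))) (.node 4528 (.node 4520 (.node 4516 (.node 4514 (.node 4513 (.leaf 72176) (.leaf 31889)) (.node 4515 (.leaf 72208) (.leaf 31890))) (.node 4518 (.node 4517 (.leaf 32130) (.leaf 31921)) (.node 4519 (.leaf 72272) (.leaf 31922)))) (.node 4524 (.node 4522 (.node 4521 (.leaf 72304) (.leaf 31937)) (.node 4523 (.leaf 72336) (.leaf 33282))) (.node 4526 (.node 4525 (.leaf 72368) (.leaf 31953)) (.node 4527 (.leaf 72400) (.leaf 31954))))) (.node 4536 (.node 4532 (.node 4530 (.node 4529 (.leaf 72290) (.leaf 31985)) (.node 4531 (.leaf 71777) (.leaf 31986))) (.node 4534 (.node 4533 (.leaf 72496) (.leaf 32017)) (.node 4535 (.leaf 62546) (.leaf 32018)))) (.node 4540 (.node 4538 (.node 4537 (.leaf 72560) (.leaf 32049)) (.node 4539 (.leaf 72592) (.leaf 32050))) (.node 4542 (.node 4541 (.leaf 72624) (.leaf 32097)) (.node 4543 (.leaf 72656) (.leaf 32113)))))))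 (.node 4576 (.node 4560 (.node 4552 (.node 4548 (.node 4546 (.node 4545 (.leaf 32129) (.leaf 72704)) (.node 4547 (.leaf 32145) (.leaf 72736))) (.node 4550 (.node 4549 (.leaf 67250) (.leaf 72768)) (.node 4551 (.leaf 67233) (.leaf 72800)))) (.node 4556 (.node 4554 (.node 4553 (.leaf 32161) (.leaf 72832)) (.node 4555 (.leaf 32178) (.leaf 72864))) (.node 4558 (.node 4557 (.leaf 32193) (.leaf 54241)) (.node 4559 (.leaf 32194) (.leaf 72928))))) (.node 4568 (.node 4564 (.node 4562 (.node 4561 (.leaf 32225) (.leaf 69953)) (.node 4563 (.leaf 32257) (.leaf 72992))) (.node 4566 (.node 4565 (.leaf 32258) (.leaf 73024)) (.node 4567 (.leaf 32289) (.leaf 73056)))) (.node 4572 (.node 4570 (.node 4569 (.leaf 32290) (.leaf 73088)) (.node 4571 (.leaf 32321) (.leaf 32385))) (.node 4574 (.node 4573 (.leaf 50306) (.leaf 73152)) (.node 4575 (.leaf 73136) (.leaf 32386)))))) (.node 4592 (.node 4584 (.node 4580 (.node 4578 (.node 4577 (.leaf 50305)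 (.leaf 73216)) (.node 4579 (.leaf 32417) (.leaf 73248))) (.node 4582 (.node 4581 (.leaf 32418) (.leaf 73280)) (.node 4583 (.leaf 32450) (.leaf 73312)))) (.node 4588 (.node 4586 (.node 4585 (.leaf 32481) (.leaf 40114)) (.node 4587 (.leaf 32482) (.leaf 73376))) (.node 4590 (.node 4589 (.leaf 32513) (.leaf 73408)) (.node 4591 (.leaf 32529) (.leaf 32546))))) (.node 4600 (.node 4596 (.node 4594 (.node 4593 (.leaf 73441) (.leaf 73472)) (.node 4595 (.leaf 32561) (.leaf 32562))) (.node 4598 (.node 4597 (.leaf 32913) (.leaf 32593)) (.node 4599 (.leaf 72882) (.leaf 73552)))) (.node 4604 (.node 4602 (.node 4601 (.leaf 32594) (.leaf 72881)) (.node 4603 (.leaf 73616) (.leaf 32609))) (.node 4606 (.node 4605 (.leaf 73648) (.leaf 32625)) (.node 4607 (.leaf 49122) (.leaf 32642))))))))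

/-- block of `nd` -/
def nd_18 : Tr := .node 4736 (.node 4672 (.node 4640 (.node 4624 (.node 4616 (.node 4612 (.node 4610 (.node 4609 (.leaf 73649) (.leaf 73728)) (.node 4611 (.leaf 32705) (.leaf 32706))) (.node 4614 (.node 4613 (.leaf 73776) (.leaf 32737)) (.node 4615 (.leaf 73808) (.leaf 32769)))) (.node 4620 (.node 4618 (.node 4617 (.leaf 73840) (.leaf 32770)) (.node 4619 (.leaf 73265) (.leaf 32785))) (.node 4622 (.node 4621 (.leaf 32801) (.leaf 73920)) (.node 4623 (.leaf 32802) (.leaf 73952))))) (.node 4632 (.node 4628 (.node 4626 (.node 4625 (.leaf 73905) (.leaf 73984)) (.node 4627 (.leaf 32849) (.leaf 74016))) (.node 4630 (.node 4629 (.leaf 32850) (.leaf 32881)) (.node 4631 (.leaf 74064) (.leaf 32882)))) (.node 4636 (.node 4634 (.node 4633 (.leaf 74096) (.leaf 32914)) (.node 4635 (.leaf 32929) (.leaf 32946))) (.node 4638 (.node 4637 (.leaf 74145) (.leaf 74176)) (.node 4639 (.leaf 32961) (.leaf 74208)))))) (.node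 4656 (.node 4648 (.node 4644 (.node 4642 (.node 4641 (.leaf 32962) (.leaf 74240)) (.node 4643 (.leaf 32977) (.leaf 74272))) (.node 4646 (.node 4645 (.leaf 32993) (.leaf 32994)) (.node 4647 (.leaf 74226) (.leaf 33010)))) (.node 4652 (.node 4650 (.node 4649 (.leaf 74352) (.leaf 49137)) (.node 4651 (.leaf 49170) (.leaf 74400))) (.node 4654 (.node 4653 (.leaf 74273) (.leaf 74432)) (.node 4655 (.leaf 33025) (.leaf 73969))))) (.node 4664 (.node 4660 (.node 4658 (.node 4657 (.leaf 33026) (.leaf 70881)) (.node 4659 (.leaf 70882) (.leaf 74496))) (.node 4662 (.node 4661 (.leaf 33057) (.leaf 74560)) (.node 4663 (.leaf 33058) (.leaf 74592)))) (.node 4668 (.node 4666 (.node 4665 (.leaf 33089) (.leaf 74624)) (.node 4667 (.leaf 33090) (.leaf 74656))) (.node 4670 (.node 4669 (.leaf 33105) (.leaf 74688)) (.node 4671 (.leaf 46962) (.leaf 74720))))))) (.node 4704 (.node 4688 (.node 4680 (.node 4676 (.node 4674 (.node 4673 (.leaf 73314) (.leaf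 74752)) (.node 4675 (.leaf 33121) (.leaf 74784))) (.node 4678 (.node 4677 (.leaf 33122) (.leaf 74816)) (.node 4679 (.leaf 33153) (.leaf 74848)))) (.node 4684 (.node 4682 (.node 4681 (.leaf 33154) (.leaf 74880)) (.node 4683 (.leaf 33169) (.leaf 33185))) (.node 4686 (.node 4685 (.leaf 33794) (.leaf 33186)) (.node 4687 (.leaf 74960) (.leaf 33202))))) (.node 4696 (.node 4692 (.node 4690 (.node 4689 (.leaf 74992) (.leaf 74913)) (.node 4691 (.leaf 75024) (.leaf 33218))) (.node 4694 (.node 4693 (.leaf 75056) (.leaf 33249)) (.node 4695 (.leaf 75088) (.leaf 33250)))) (.node 4700 (.node 4698 (.node 4697 (.leaf 75120) (.leaf 33297)) (.node 4699 (.leaf 75152) (.leaf 33313))) (.node 4702 (.node 4701 (.leaf 33330) (.leaf 75200)) (.node 4703 (.leaf 75153) (.leaf 75232)))))) (.node 4720 (.node 4712 (.node 4708 (.node 4706 (.node 4705 (.leaf 33345) (.leaf 33346)) (.node 4707 (.leaf 75280) (.leaf 33361))) (.node 4710 (.node 4709 (.leaf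 75312) (.leaf 33377)) (.node 4711 (.leaf 75344) (.leaf 33378)))) (.node 4716 (.node 4714 (.node 4713 (.leaf 33394) (.leaf 75392)) (.node 4715 (.leaf 75313) (.leaf 75424))) (.node 4718 (.node 4717 (.leaf 33409) (.leaf 33473)) (.node 4719 (.leaf 33410) (.leaf 75488))))) (.node 4728 (.node 4724 (.node 4722 (.node 4721 (.leaf 33441) (.leaf 33442)) (.node 4723 (.leaf 75536) (.leaf 33458))) (.node 4726 (.node 4725 (.leaf 75568) (.leaf 34609)) (.node 4727 (.leaf 33505) (.leaf 33506)))) (.node 4732 (.node 4730 (.node 4729 (.leaf 75632) (.leaf 33537)) (.node 4731 (.leaf 75664) (.leaf 33538))) (.node 4734 (.node 4733 (.leaf 75696) (.leaf 33570)) (.node 4735 (.leaf 75728) (.leaf 33601)))))))) (.node 4800 (.node 4768 (.node 4752 (.node 4744 (.node 4740 (.node 4738 (.node 4737 (.leaf 33618) (.leaf 75776)) (.node 4739 (.leaf 33633) (.leaf 33729))) (.node 4742 (.node 4741 (.leaf 33634) (.leaf 35665)) (.node 4743 (.leaf 33649) (.leaf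 75872)))) (.node 4748 (.node 4746 (.node 4745 (.leaf 33697) (.leaf 75904)) (.node 4747 (.leaf 33698) (.leaf 75936))) (.node 4750 (.node 4749 (.leaf 33730) (.leaf 33746)) (.node 4751 (.leaf 75984) (.leaf 69105))))) (.node 4760 (.node 4756 (.node 4754 (.node 4753 (.leaf 75873) (.leaf 76032)) (.node 4755 (.leaf 33793) (.leaf 58161))) (.node 4758 (.node 4757 (.leaf 33825) (.leaf 33826)) (.node 4759 (.leaf 76112) (.leaf 33841)))) (.node 4764 (.node 4762 (.node 4761 (.leaf 76144) (.leaf 33857)) (.node 4763 (.leaf 34146) (.leaf 33858))) (.node 4766 (.node 4765 (.leaf 76208) (.leaf 33874)) (.node 4767 (.leaf 76240) (.leaf 76145)))))) (.node 4784 (.node 4776 (.node 4772 (.node 4770 (.node 4769 (.leaf 76272) (.leaf 33890)) (.node 4771 (.leaf 76304) (.leaf 33921))) (.node 4774 (.node 4773 (.leaf 76336) (.leaf 33922)) (.node 4775 (.leaf 33969) (.leaf 34002)))) (.node 4780 (.node 4778 (.node 4777 (.leaf 76385) (.leaf 76416)) (.node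 4779 (.leaf 34018) (.leaf 34241))) (.node 4782 (.node 4781 (.leaf 34049) (.leaf 75298)) (.node 4783 (.leaf 34050) (.leaf 34097))))) (.node 4792 (.node 4788 (.node 4786 (.node 4785 (.leaf 76528) (.leaf 75058)) (.node 4787 (.leaf 76560) (.leaf 34114))) (.node 4790 (.node 4789 (.leaf 76592) (.leaf 34130)) (.node 4791 (.leaf 76624) (.leaf 52209)))) (.node 4796 (.node 4794 (.node 4793 (.leaf 76656) (.leaf 34145)) (.node 4795 (.leaf 76688) (.leaf 34161))) (.node 4798 (.node 4797 (.leaf 76720) (.leaf 34178)) (.node 4799 (.leaf 34194) (.leaf 76768))))))) (.node 4832 (.node 4816 (.node 4808 (.node 4804 (.node 4802 (.node 4801 (.leaf 76721) (.leaf 76800)) (.node 4803 (.leaf 34209) (.leaf 34273))) (.node 4806 (.node 4805 (.leaf 34210) (.leaf 76864)) (.node 4807 (.leaf 34225) (.leaf 34242)))) (.node 4812 (.node 4810 (.node 4809 (.leaf 76912) (.leaf 34258)) (.node 4811 (.leaf 76944) (.leaf 76897))) (.node 4814 (.node 4813 (.leaf 76976)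 (.leaf 34274)) (.node 4815 (.leaf 77008) (.leaf 34321))))) (.node 4824 (.node 4820 (.node 4818 (.node 4817 (.leaf 77040) (.leaf 76306)) (.node 4819 (.leaf 77072) (.leaf 34337))) (.node 4822 (.node 4821 (.leaf 77104) (.leaf 34338)) (.node 4823 (.leaf 77136) (.leaf 34353)))) (.node 4828 (.node 4826 (.node 4825 (.leaf 77168) (.leaf 34370)) (.node 4827 (.leaf 77200) (.leaf 34386))) (.node 4830 (.node 4829 (.leaf 77232) (.leaf 77169)) (.node 4831 (.leaf 77264) (.leaf 34402)))))) (.node 4848 (.node 4840 (.node 4836 (.node 4834 (.node 4833 (.leaf 77296) (.leaf 34433)) (.node 4835 (.leaf 41010) (.leaf 77344))) (.node 4838 (.node 4837 (.leaf 34434) (.leaf 66162)) (.node 4839 (.leaf 41009) (.leaf 77408)))) (.node 4844 (.node 4842 (.node 4841 (.leaf 34465) (.leaf 34466)) (.node 4843 (.leaf 34497) (.leaf 77472))) (.node 4846 (.node 4845 (.leaf 34513) (.leaf 35026)) (.node 4847 (.leaf 34529) (.leaf 77536))))) (.node 4856 (.node 4852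 (.node 4850 (.node 4849 (.leaf 34530) (.leaf 77568)) (.node 4851 (.leaf 34561) (.leaf 75553))) (.node 4854 (.node 4853 (.leaf 34593) (.leaf 34625)) (.node 4855 (.leaf 34673) (.leaf 77664)))) (.node 4860 (.node 4858 (.node 4857 (.leaf 36802) (.leaf 77696)) (.node 4859 (.leaf 34689) (.leaf 77728))) (.node 4862 (.node 4861 (.leaf 34721) (.leaf 77760)) (.node 4863 (.leaf 34722) (.leaf 34754))))))))

/-- block of `nd` -/
def nd_19 : Tr := .node 4992 (.node 4928 (.node 4896 (.node 4880 (.node 4872 (.node 4868 (.node 4866 (.node 4865 (.leaf 47970) (.leaf 35585)) (.node 4867 (.leaf 77840) (.leaf 34785))) (.node 4870 (.node 4869 (.leaf 77872) (.leaf 34786)) (.node 4871 (.leaf 77904) (.leaf 34817)))) (.node 4876 (.node 4874 (.node 4873 (.leaf 34849) (.leaf 77952)) (.node 4875 (.leaf 34881) (.leaf 77984))) (.node 4878 (.node 4877 (.leaf 34882) (.leaf 78016)) (.node 4879 (.leaf 34897) (.leaf 78048))))) (.node 4888 (.node 4884 (.node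 4882 (.node 4881 (.leaf 34914) (.leaf 78080)) (.node 4883 (.leaf 34930) (.leaf 78049))) (.node 4886 (.node 4885 (.leaf 34946) (.leaf 78144)) (.node 4887 (.leaf 34977) (.leaf 34978)))) (.node 4892 (.node 4890 (.node 4889 (.leaf 78192) (.leaf 35009)) (.node 4891 (.leaf 78224) (.leaf 35042))) (.node 4894 (.node 4893 (.leaf 77745) (.leaf 35073)) (.node 4895 (.leaf 78288) (.leaf 35074)))))) (.node 4912 (.node 4904 (.node 4900 (.node 4898 (.node 4897 (.leaf 78320) (.leaf 35106)) (.node 4899 (.leaf 78352) (.leaf 35169))) (.node 4902 (.node 4901 (.leaf 48321) (.leaf 35490)) (.node 4903 (.leaf 78416) (.leaf 35201)))) (.node 4908 (.node 4906 (.node 4905 (.leaf 78448) (.leaf 35202)) (.node 4907 (.leaf 78480) (.leaf 35218))) (.node 4910 (.node 4909 (.leaf 78512) (.leaf 44545)) (.node 4911 (.leaf 35234) (.leaf 78560))))) (.node 4920 (.node 4916 (.node 4914 (.node 4913 (.leaf 35265) (.leaf 78592)) (.node 4915 (.leaf 35266) (.leaf 35297)))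 (.node 4918 (.node 4917 (.leaf 78578) (.leaf 35329)) (.node 4919 (.leaf 78672) (.leaf 35330)))) (.node 4924 (.node 4922 (.node 4921 (.leaf 78704) (.leaf 35362)) (.node 4923 (.leaf 78736) (.leaf 35394))) (.node 4926 (.node 4925 (.leaf 78768) (.leaf 35409)) (.node 4927 (.leaf 78800) (.leaf 35425))))))) (.node 4960 (.node 4944 (.node 4936 (.node 4932 (.node 4930 (.node 4929 (.leaf 78832) (.leaf 35441)) (.node 4931 (.leaf 78864) (.leaf 35458))) (.node 4934 (.node 4933 (.leaf 78896) (.leaf 78833)) (.node 4935 (.leaf 78928) (.leaf 76993)))) (.node 4940 (.node 4938 (.node 4937 (.leaf 78960) (.leaf 35473)) (.node 4939 (.leaf 78497) (.leaf 35474))) (.node 4942 (.node 4941 (.leaf 79024) (.leaf 35505)) (.node 4943 (.leaf 76929) (.leaf 35506))))) (.node 4952 (.node 4948 (.node 4946 (.node 4945 (.leaf 78241) (.leaf 78242)) (.node 4947 (.leaf 79120) (.leaf 79104))) (.node 4950 (.node 4949 (.leaf 79088) (.leaf 35521)) (.node 4951 (.leaf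 79184) (.leaf 35537)))) (.node 4956 (.node 4954 (.node 4953 (.leaf 79216) (.leaf 35538)) (.node 4955 (.leaf 77890) (.leaf 35554))) (.node 4958 (.node 4957 (.leaf 79280) (.leaf 79185)) (.node 4959 (.leaf 79312) (.leaf 51746)))))) (.node 4976 (.node 4968 (.node 4964 (.node 4962 (.node 4961 (.leaf 79344) (.leaf 35570)) (.node 4963 (.leaf 79376) (.leaf 35601))) (.node 4966 (.node 4965 (.leaf 78754) (.leaf 79424)) (.node 4967 (.leaf 79408) (.leaf 35602)))) (.node 4972 (.node 4970 (.node 4969 (.leaf 51778) (.leaf 78753)) (.node 4971 (.leaf 79504) (.leaf 35633))) (.node 4974 (.node 4973 (.leaf 79536) (.leaf 35634)) (.node 4975 (.leaf 79568) (.leaf 35649))))) (.node 4984 (.node 4980 (.node 4978 (.node 4977 (.leaf 35666) (.leaf 79616)) (.node 4979 (.leaf 35682) (.leaf 79601))) (.node 4982 (.node 4981 (.leaf 79664) (.leaf 35698)) (.node 4983 (.leaf 35729) (.leaf 35730)))) (.node 4988 (.node 4986 (.node 4985 (.leaf 79728) (.leaf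 35762)) (.node 4987 (.leaf 79760) (.leaf 57009))) (.node 4990 (.node 4989 (.leaf 79792) (.leaf 35793)) (.node 4991 (.leaf 79824) (.leaf 35794)))))))) (.node 5056 (.node 5024 (.node 5008 (.node 5000 (.node 4996 (.node 4994 (.node 4993 (.leaf 79856) (.leaf 35809)) (.node 4995 (.leaf 79888) (.leaf 35825))) (.node 4998 (.node 4997 (.leaf 35842) (.leaf 79889)) (.node 4999 (.leaf 79952) (.leaf 35857)))) (.node 5004 (.node 5002 (.node 5001 (.leaf 79984) (.leaf 35873)) (.node 5003 (.leaf 80016) (.leaf 35874))) (.node 5006 (.node 5005 (.leaf 80048) (.leaf 35890)) (.node 5007 (.leaf 80080) (.leaf 79985))))) (.node 5016 (.node 5012 (.node 5010 (.node 5009 (.leaf 80112) (.leaf 35905)) (.node 5011 (.leaf 36033) (.leaf 35906))) (.node 5014 (.node 5013 (.leaf 80176) (.leaf 35954)) (.node 5015 (.leaf 35969) (.leaf 80065)))) (.node 5020 (.node 5018 (.node 5017 (.leaf 35970) (.leaf 80256)) (.node 5019 (.leaf 36001) (.leaf 80288))) (.node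 5022 (.node 5021 (.leaf 36002) (.leaf 80320)) (.node 5023 (.leaf 36018) (.leaf 56049)))))) (.node 5040 (.node 5032 (.node 5028 (.node 5026 (.node 5025 (.leaf 36034) (.leaf 80384)) (.node 5027 (.leaf 36065) (.leaf 36066))) (.node 5030 (.node 5029 (.leaf 80432) (.leaf 36097)) (.node 5031 (.leaf 80464) (.leaf 36098)))) (.node 5036 (.node 5034 (.node 5033 (.leaf 80496) (.leaf 36114)) (.node 5035 (.leaf 80528) (.leaf 79921))) (.node 5038 (.node 5037 (.leaf 80560) (.leaf 36130)) (.node 5039 (.leaf 80592) (.leaf 36161))))) (.node 5048 (.node 5044 (.node 5042 (.node 5041 (.leaf 80624) (.leaf 36177)) (.node 5043 (.leaf 80656) (.leaf 45954))) (.node 5046 (.node 5045 (.leaf 80688) (.leaf 36193)) (.node 5047 (.leaf 80720) (.leaf 36194)))) (.node 5052 (.node 5050 (.node 5049 (.leaf 80752) (.leaf 36225)) (.node 5051 (.leaf 36226) (.leaf 80800))) (.node 5054 (.node 5053 (.leaf 36257) (.leaf 80832)) (.node 5055 (.leaf 56210) (.leaf 80864)))))))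 (.node 5088 (.node 5072 (.node 5064 (.node 5060 (.node 5058 (.node 5057 (.leaf 36289) (.leaf 80896)) (.node 5059 (.leaf 36290) (.leaf 36305))) (.node 5062 (.node 5061 (.leaf 36338) (.leaf 80945)) (.node 5063 (.leaf 80976) (.leaf 36369)))) (.node 5068 (.node 5066 (.node 5065 (.leaf 54402) (.leaf 81024)) (.node 5067 (.leaf 81008) (.leaf 36370))) (.node 5070 (.node 5069 (.leaf 54401) (.leaf 81088)) (.node 5071 (.leaf 36401) (.leaf 81120))))) (.node 5080 (.node 5076 (.node 5074 (.node 5073 (.leaf 36402) (.leaf 36417)) (.node 5075 (.leaf 36433) (.leaf 36434))) (.node 5078 (.node 5077 (.leaf 36450) (.leaf 81216)) (.node 5079 (.leaf 81169) (.leaf 81248)))) (.node 5084 (.node 5082 (.node 5081 (.leaf 36497) (.leaf 81280)) (.node 5083 (.leaf 36561) (.leaf 81312))) (.node 5086 (.node 5085 (.leaf 36562) (.leaf 81344)) (.node 5087 (.leaf 36577) (.leaf 58753)))))) (.node 5104 (.node 5096 (.node 5092 (.node 5090 (.node 5089 (.leaf 36578)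 (.leaf 80737)) (.node 5091 (.leaf 36609) (.leaf 36721))) (.node 5094 (.node 5093 (.leaf 36641) (.leaf 36642)) (.node 5095 (.leaf 36673) (.leaf 81504)))) (.node 5100 (.node 5098 (.node 5097 (.leaf 36674) (.leaf 36689)) (.node 5099 (.leaf 81553) (.leaf 81568))) (.node 5102 (.node 5101 (.leaf 36722) (.leaf 81600)) (.node 5103 (.leaf 36737) (.leaf 36754))))) (.node 5112 (.node 5108 (.node 5106 (.node 5105 (.leaf 39282) (.leaf 81633)) (.node 5107 (.leaf 81680) (.leaf 36785))) (.node 5110 (.node 5109 (.leaf 36817) (.leaf 36786)) (.node 5111 (.leaf 81744) (.leaf 36818)))) (.node 5116 (.node 5114 (.node 5113 (.leaf 81776) (.leaf 36833)) (.node 5115 (.leaf 81808) (.leaf 36849))) (.node 5118 (.node 5117 (.leaf 81840) (.leaf 36850)) (.node 5119 (.leaf 37074) (.leaf 36866))))))))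

/-- block of `nd` -/
def nd_20 : Tr := .node 5248 (.node 5184 (.node 5152 (.node 5136 (.node 5128 (.node 5124 (.node 5122 (.node 5121 (.leaf 81904) (.leaf 81809)) (.node 5123 (.leaf 81936) (.leaf 42673))) (.node 5126 (.node 5125 (.leaf 36882) (.leaf 81984)) (.node 5127 (.leaf 36945) (.leaf 82016)))) (.node 5132 (.node 5130 (.node 5129 (.leaf 36946) (.leaf 82048)) (.node 5131 (.leaf 36961) (.leaf 82080))) (.node 5134 (.node 5133 (.leaf 37282) (.leaf 82112)) (.node 5135 (.leaf 36977) (.leaf 82144))))) (.node 5144 (.node 5140 (.node 5138 (.node 5137 (.leaf 36978) (.leaf 82176)) (.node 5139 (.leaf 37009) (.leaf 42065))) (.node 5142 (.node 5141 (.leaf 37010) (.leaf 37042)) (.node 5143 (.leaf 82256) (.leaf 37073)))) (.node 5148 (.node 5146 (.node 5145 (.leaf 82288) (.leaf 37089)) (.node 5147 (.leaf 82320) (.leaf 37105))) (.node 5150 (.node 5149 (.leaf 82352) (.leaf 37106)) (.node 5151 (.leaf 38658) (.leaf 37122)))))) (.node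 5168 (.node 5160 (.node 5156 (.node 5154 (.node 5153 (.leaf 82321) (.leaf 82432)) (.node 5155 (.leaf 37137) (.leaf 37201))) (.node 5158 (.node 5157 (.leaf 37169) (.leaf 82496)) (.node 5159 (.leaf 37170) (.leaf 40610)))) (.node 5164 (.node 5162 (.node 5161 (.leaf 37202) (.leaf 82560)) (.node 5163 (.leaf 37233) (.leaf 82592))) (.node 5166 (.node 5165 (.leaf 37234) (.leaf 82624)) (.node 5167 (.leaf 37265) (.leaf 82656))))) (.node 5176 (.node 5172 (.node 5170 (.node 5169 (.leaf 37266) (.leaf 82688)) (.node 5171 (.leaf 37297) (.leaf 82720))) (.node 5174 (.node 5173 (.leaf 37298) (.leaf 82752)) (.node 5175 (.leaf 37313) (.leaf 82784)))) (.node 5180 (.node 5178 (.node 5177 (.leaf 37329) (.leaf 82816)) (.node 5179 (.leaf 37330) (.leaf 37426))) (.node 5182 (.node 5181 (.leaf 37346) (.leaf 82785)) (.node 5183 (.leaf 82896) (.leaf 37361))))))) (.node 5216 (.node 5200 (.node 5192 (.node 5188 (.node 5186 (.node 5185 (.leaf 43873) (.leaf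 37362)) (.node 5187 (.leaf 37409) (.leaf 82976))) (.node 5190 (.node 5189 (.leaf 37425) (.leaf 83008)) (.node 5191 (.leaf 37441) (.leaf 37457)))) (.node 5196 (.node 5194 (.node 5193 (.leaf 39138) (.leaf 37458)) (.node 5195 (.leaf 41874) (.leaf 37474))) (.node 5198 (.node 5197 (.leaf 83120) (.leaf 83041)) (.node 5199 (.leaf 83152) (.leaf 81954))))) (.node 5208 (.node 5204 (.node 5202 (.node 5201 (.leaf 83184) (.leaf 37489)) (.node 5203 (.leaf 37490) (.leaf 83232))) (.node 5206 (.node 5205 (.leaf 37505) (.leaf 83264)) (.node 5207 (.leaf 37522) (.leaf 83296)))) (.node 5212 (.node 5210 (.node 5209 (.leaf 37538) (.leaf 83328)) (.node 5211 (.leaf 37553) (.leaf 83360))) (.node 5214 (.node 5213 (.leaf 37569) (.leaf 83392)) (.node 5215 (.leaf 37570) (.leaf 37794)))))) (.node 5232 (.node 5224 (.node 5220 (.node 5218 (.node 5217 (.leaf 37586) (.leaf 83361)) (.node 5219 (.leaf 81697) (.leaf 83488))) (.node 5222 (.node 5221 (.leaf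 37601) (.leaf 40017)) (.node 5223 (.leaf 37602) (.leaf 83552)))) (.node 5228 (.node 5226 (.node 5225 (.leaf 37666) (.leaf 37681)) (.node 5227 (.leaf 83600) (.leaf 38002))) (.node 5230 (.node 5229 (.leaf 83632) (.leaf 37697)) (.node 5231 (.leaf 83664) (.leaf 37729))))) (.node 5240 (.node 5236 (.node 5234 (.node 5233 (.leaf 40945) (.leaf 37761)) (.node 5235 (.leaf 83728) (.leaf 37777))) (.node 5238 (.node 5237 (.leaf 40962) (.leaf 37809)) (.node 5239 (.leaf 83792) (.leaf 37825)))) (.node 5244 (.node 5242 (.node 5241 (.leaf 83824) (.leaf 37826)) (.node 5243 (.leaf 41330) (.leaf 37842))) (.node 5246 (.node 5245 (.leaf 83888) (.leaf 83793)) (.node 5247 (.leaf 83920) (.leaf 82914)))))))) (.node 5312 (.node 5280 (.node 5264 (.node 5256 (.node 5252 (.node 5250 (.node 5249 (.leaf 83952) (.leaf 37857)) (.node 5251 (.leaf 37921) (.leaf 37858))) (.node 5254 (.node 5253 (.leaf 84016) (.leaf 37889)) (.node 5255 (.leaf 84048) (.leaf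 37890)))) (.node 5260 (.node 5258 (.node 5257 (.leaf 48226) (.leaf 37922)) (.node 5259 (.leaf 37953) (.leaf 84128))) (.node 5262 (.node 5261 (.leaf 37954) (.leaf 83713)) (.node 5263 (.leaf 78354) (.leaf 84192))))) (.node 5272 (.node 5268 (.node 5266 (.node 5265 (.leaf 37985) (.leaf 84224)) (.node 5267 (.leaf 37986) (.leaf 84256))) (.node 5270 (.node 5269 (.leaf 38017) (.leaf 84288)) (.node 5271 (.leaf 38018) (.leaf 84320)))) (.node 5276 (.node 5274 (.node 5273 (.leaf 38033) (.leaf 38050)) (.node 5275 (.leaf 38210) (.leaf 38066))) (.node 5278 (.node 5277 (.leaf 84353) (.leaf 84416)) (.node 5279 (.leaf 82449) (.leaf 38081)))))) (.node 5296 (.node 5288 (.node 5284 (.node 5282 (.node 5281 (.leaf 38177) (.leaf 38082)) (.node 5283 (.leaf 43041) (.leaf 38145))) (.node 5286 (.node 5285 (.leaf 84528) (.leaf 38146)) (.node 5287 (.leaf 84560) (.leaf 38178)))) (.node 5292 (.node 5290 (.node 5289 (.leaf 84592) (.leaf 38193)) (.node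 5291 (.leaf 38209) (.leaf 84640))) (.node 5294 (.node 5293 (.leaf 38226) (.leaf 84672)) (.node 5295 (.leaf 84625) (.leaf 84704))))) (.node 5304 (.node 5300 (.node 5298 (.node 5297 (.leaf 38241) (.leaf 84736)) (.node 5299 (.leaf 38257) (.leaf 84768))) (.node 5302 (.node 5301 (.leaf 38273) (.leaf 84800)) (.node 5303 (.leaf 38274) (.leaf 84832)))) (.node 5308 (.node 5306 (.node 5305 (.leaf 38290) (.leaf 84864)) (.node 5307 (.leaf 84769) (.leaf 84896))) (.node 5310 (.node 5309 (.leaf 38305) (.leaf 38401)) (.node 5311 (.leaf 38306) (.leaf 38337))))))) (.node 5344 (.node 5328 (.node 5320 (.node 5316 (.node 5314 (.node 5313 (.leaf 84976) (.leaf 38338)) (.node 5315 (.leaf 85008) (.leaf 38353))) (.node 5318 (.node 5317 (.leaf 85040) (.leaf 38370)) (.node 5319 (.leaf 85072) (.leaf 38386)))) (.node 5324 (.node 5322 (.node 5321 (.leaf 85104) (.leaf 85041)) (.node 5323 (.leaf 38402) (.leaf 38433))) (.node 5326 (.node 5325 (.leaf 85168)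 (.leaf 38434)) (.node 5327 (.leaf 85200) (.leaf 38465))))) (.node 5336 (.node 5332 (.node 5330 (.node 5329 (.leaf 85232) (.leaf 38466)) (.node 5331 (.leaf 85264) (.leaf 38482))) (.node 5334 (.node 5333 (.leaf 85296) (.leaf 40273)) (.node 5335 (.leaf 85328) (.leaf 38497)))) (.node 5340 (.node 5338 (.node 5337 (.leaf 85360) (.leaf 38498)) (.node 5339 (.leaf 85392) (.leaf 38529))) (.node 5342 (.node 5341 (.leaf 85424) (.leaf 38530)) (.node 5343 (.leaf 38802) (.leaf 38561)))))) (.node 5360 (.node 5352 (.node 5348 (.node 5346 (.node 5345 (.leaf 38689) (.leaf 38562)) (.node 5347 (.leaf 85520) (.leaf 38593))) (.node 5350 (.node 5349 (.leaf 84849) (.leaf 38594)) (.node 5351 (.leaf 85584) (.leaf 38625)))) (.node 5356 (.node 5354 (.node 5353 (.leaf 39970) (.leaf 85616)) (.node 5355 (.leaf 38626) (.leaf 39969))) (.node 5358 (.node 5357 (.leaf 85664) (.leaf 38641)) (.node 5359 (.leaf 85712) (.leaf 38657))))) (.node 5368 (.node 5364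 (.node 5362 (.node 5361 (.leaf 38674) (.leaf 85760)) (.node 5363 (.leaf 85713) (.leaf 85792))) (.node 5366 (.node 5365 (.leaf 38690) (.leaf 38769)) (.node 5367 (.leaf 38785) (.leaf 85856)))) (.node 5372 (.node 5370 (.node 5369 (.leaf 49218) (.leaf 85888)) (.node 5371 (.leaf 38801) (.leaf 85920))) (.node 5374 (.node 5373 (.leaf 38834) (.leaf 38865)) (.node 5375 (.leaf 85968) (.leaf 38866))))))))

/-- block of `nd` -/
def nd_21 : Tr := .node 5504 (.node 5440 (.node 5408 (.node 5392 (.node 5384 (.node 5380 (.node 5378 (.node 5377 (.leaf 86000) (.leaf 38897)) (.node 5379 (.leaf 38898) (.leaf 86048))) (.node 5382 (.node 5381 (.leaf 38929) (.leaf 86080)) (.node 5383 (.leaf 38930) (.leaf 86112)))) (.node 5388 (.node 5386 (.node 5385 (.leaf 38961) (.leaf 38962)) (.node 5387 (.leaf 38977) (.leaf 86176))) (.node 5390 (.node 5389 (.leaf 38993) (.leaf 86208)) (.node 5391 (.leaf 38994) (.leaf 86240))))) (.node 5400 (.node 5396 (.node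 5394 (.node 5393 (.leaf 39010) (.leaf 86272)) (.node 5395 (.leaf 86177) (.leaf 86304))) (.node 5398 (.node 5397 (.leaf 39026) (.leaf 86336)) (.node 5399 (.leaf 39073) (.leaf 39074)))) (.node 5404 (.node 5402 (.node 5401 (.leaf 39105) (.leaf 39217)) (.node 5403 (.leaf 86018) (.leaf 39218))) (.node 5406 (.node 5405 (.leaf 86448) (.leaf 39250)) (.node 5407 (.leaf 39281) (.leaf 86496)))))) (.node 5424 (.node 5416 (.node 5412 (.node 5410 (.node 5409 (.leaf 39345) (.leaf 39346)) (.node 5411 (.leaf 39361) (.leaf 86560))) (.node 5414 (.node 5413 (.leaf 39377) (.leaf 86592)) (.node 5415 (.leaf 39394) (.leaf 86561)))) (.node 5420 (.node 5418 (.node 5417 (.leaf 86640) (.leaf 39410)) (.node 5419 (.leaf 86225) (.leaf 39441))) (.node 5422 (.node 5421 (.leaf 82274) (.leaf 86720)) (.node 5423 (.leaf 86704) (.leaf 39442))))) (.node 5432 (.node 5428 (.node 5426 (.node 5425 (.leaf 39634) (.leaf 82273)) (.node 5427 (.leaf 86800) (.leaf 39457)))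 (.node 5430 (.node 5429 (.leaf 86832) (.leaf 39474)) (.node 5431 (.leaf 86864) (.leaf 86833)))) (.node 5436 (.node 5434 (.node 5433 (.leaf 86896) (.leaf 39489)) (.node 5435 (.leaf 83313) (.leaf 39490))) (.node 5438 (.node 5437 (.leaf 86960) (.leaf 39521)) (.node 5439 (.leaf 86992) (.leaf 39537))))))) (.node 5472 (.node 5456 (.node 5448 (.node 5444 (.node 5442 (.node 5441 (.leaf 86338) (.leaf 87040)) (.node 5443 (.leaf 39569) (.leaf 87072))) (.node 5446 (.node 5445 (.leaf 39570) (.leaf 87104)) (.node 5447 (.leaf 39601) (.leaf 87136)))) (.node 5452 (.node 5450 (.node 5449 (.leaf 39602) (.leaf 39617)) (.node 5451 (.leaf 87184) (.leaf 85074))) (.node 5454 (.node 5453 (.leaf 87216) (.leaf 39633)) (.node 5455 (.leaf 39649) (.leaf 87264))))) (.node 5464 (.node 5460 (.node 5458 (.node 5457 (.leaf 39665) (.leaf 39682)) (.node 5459 (.leaf 87265) (.leaf 87328))) (.node 5462 (.node 5461 (.leaf 39697) (.leaf 39793)) (.node 5463 (.leaf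 39698) (.leaf 87392)))) (.node 5468 (.node 5466 (.node 5465 (.leaf 39729) (.leaf 87424)) (.node 5467 (.leaf 39745) (.leaf 39762))) (.node 5470 (.node 5469 (.leaf 39778) (.leaf 87488)) (.node 5471 (.leaf 87457) (.leaf 39825)))))) (.node 5488 (.node 5480 (.node 5476 (.node 5474 (.node 5473 (.leaf 39826) (.leaf 39857)) (.node 5475 (.leaf 87568) (.leaf 86962))) (.node 5478 (.node 5477 (.leaf 86929) (.leaf 87616)) (.node 5479 (.leaf 39858) (.leaf 39905)))) (.node 5484 (.node 5482 (.node 5481 (.leaf 87664) (.leaf 39937)) (.node 5483 (.leaf 39938) (.leaf 87682))) (.node 5486 (.node 5485 (.leaf 39985) (.leaf 40002)) (.node 5487 (.leaf 87760) (.leaf 87745))))) (.node 5496 (.node 5492 (.node 5490 (.node 5489 (.leaf 87792) (.leaf 40049)) (.node 5491 (.leaf 40050) (.leaf 40225))) (.node 5494 (.node 5493 (.leaf 81922) (.leaf 87872)) (.node 5495 (.leaf 40226) (.leaf 81921)))) (.node 5500 (.node 5498 (.node 5497 (.leaf 81953) (.leaf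 81874)) (.node 5499 (.leaf 81841) (.leaf 81858))) (.node 5502 (.node 5501 (.leaf 81857) (.leaf 87936)) (.node 5503 (.leaf 40289) (.leaf 40290)))))))) (.node 5568 (.node 5536 (.node 5520 (.node 5512 (.node 5508 (.node 5506 (.node 5505 (.leaf 88048) (.leaf 40306)) (.node 5507 (.leaf 88080) (.leaf 42721))) (.node 5510 (.node 5509 (.leaf 88112) (.leaf 40321)) (.node 5511 (.leaf 88065) (.leaf 40322)))) (.node 5516 (.node 5514 (.node 5513 (.leaf 88176) (.leaf 40401)) (.node 5515 (.leaf 88208) (.leaf 40417))) (.node 5518 (.node 5517 (.leaf 40418) (.leaf 88256)) (.node 5519 (.leaf 40434) (.leaf 88288))))) (.node 5528 (.node 5524 (.node 5522 (.node 5521 (.leaf 88209) (.leaf 88320)) (.node 5523 (.leaf 64866) (.leaf 88352))) (.node 5526 (.node 5525 (.leaf 40449) (.leaf 40577)) (.node 5527 (.leaf 40450) (.leaf 40481)))) (.node 5532 (.node 5530 (.node 5529 (.leaf 88432) (.leaf 40482)) (.node 5531 (.leaf 40513) (.leaf 88480))) (.node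 5534 (.node 5533 (.leaf 40514) (.leaf 88512)) (.node 5535 (.leaf 40529) (.leaf 40546)))))) (.node 5552 (.node 5544 (.node 5540 (.node 5538 (.node 5537 (.leaf 88560) (.leaf 40562)) (.node 5539 (.leaf 88592) (.leaf 88545))) (.node 5542 (.node 5541 (.leaf 40578) (.leaf 88640)) (.node 5543 (.leaf 40593) (.leaf 40609)))) (.node 5548 (.node 5546 (.node 5545 (.leaf 88688) (.leaf 40626)) (.node 5547 (.leaf 88720) (.leaf 88673))) (.node 5550 (.node 5549 (.leaf 88752) (.leaf 64465)) (.node 5551 (.leaf 88784) (.leaf 40641))))) (.node 5560 (.node 5556 (.node 5554 (.node 5553 (.leaf 40642) (.leaf 88832)) (.node 5555 (.leaf 40657) (.leaf 88864))) (.node 5558 (.node 5557 (.leaf 65474) (.leaf 88896)) (.node 5559 (.leaf 40673) (.leaf 88928)))) (.node 5564 (.node 5562 (.node 5561 (.leaf 40674) (.leaf 40705)) (.node 5563 (.leaf 88273) (.leaf 40706))) (.node 5566 (.node 5565 (.leaf 85249) (.leaf 85250)) (.node 5567 (.leaf 89040) (.leaf 89008)))))))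 (.node 5600 (.node 5584 (.node 5576 (.node 5572 (.node 5570 (.node 5569 (.leaf 40737) (.leaf 89088)) (.node 5571 (.leaf 40738) (.leaf 89120))) (.node 5574 (.node 5573 (.leaf 40770) (.leaf 89152)) (.node 5575 (.leaf 40785) (.leaf 89184)))) (.node 5580 (.node 5578 (.node 5577 (.leaf 63986) (.leaf 89216)) (.node 5579 (.leaf 40801) (.leaf 89248))) (.node 5582 (.node 5581 (.leaf 40802) (.leaf 89280)) (.node 5583 (.leaf 40850) (.leaf 40865))))) (.node 5592 (.node 5588 (.node 5586 (.node 5585 (.leaf 89328) (.leaf 40866)) (.node 5587 (.leaf 43681) (.leaf 43682))) (.node 5590 (.node 5589 (.leaf 89392) (.leaf 89360)) (.node 5591 (.leaf 40913) (.leaf 41906)))) (.node 5596 (.node 5594 (.node 5593 (.leaf 89440) (.leaf 40994)) (.node 5595 (.leaf 89488) (.leaf 47681))) (.node 5598 (.node 5597 (.leaf 89520) (.leaf 41025)) (.node 5599 (.leaf 89552) (.leaf 41041)))))) (.node 5616 (.node 5608 (.node 5604 (.node 5602 (.node 5601 (.leaf 89584)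 (.leaf 41042)) (.node 5603 (.leaf 89616) (.leaf 41058))) (.node 5606 (.node 5605 (.leaf 89648) (.leaf 89553)) (.node 5607 (.leaf 89680) (.leaf 43586)))) (.node 5612 (.node 5610 (.node 5609 (.leaf 89712) (.leaf 41073)) (.node 5611 (.leaf 41169) (.leaf 41074))) (.node 5614 (.node 5613 (.leaf 89776) (.leaf 41105)) (.node 5615 (.leaf 41138) (.leaf 41154))))) (.node 5624 (.node 5620 (.node 5618 (.node 5617 (.leaf 89840) (.leaf 47201)) (.node 5619 (.leaf 89872) (.leaf 41170))) (.node 5622 (.node 5621 (.leaf 89904) (.leaf 41185)) (.node 5623 (.leaf 41201) (.leaf 89952)))) (.node 5628 (.node 5626 (.node 5625 (.leaf 41202) (.leaf 41522)) (.node 5627 (.leaf 41218) (.leaf 90016))) (.node 5630 (.node 5629 (.leaf 89937) (.leaf 90048)) (.node 5631 (.leaf 43137) (.leaf 90080))))))))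

/-- block of `nd` -/
def nd_22 : Tr := .node 5760 (.node 5696 (.node 5664 (.node 5648 (.node 5640 (.node 5636 (.node 5634 (.node 5633 (.leaf 41233) (.leaf 41361)) (.node 5635 (.leaf 41234) (.leaf 90144))) (.node 5638 (.node 5637 (.leaf 41265) (.leaf 89633)) (.node 5639 (.leaf 41266) (.leaf 90208)))) (.node 5644 (.node 5642 (.node 5641 (.leaf 41297) (.leaf 42610)) (.node 5643 (.leaf 41298) (.leaf 42609))) (.node 5646 (.node 5645 (.leaf 90288) (.leaf 90272)) (.node 5647 (.leaf 41313) (.leaf 90336))))) (.node 5656 (.node 5652 (.node 5650 (.node 5649 (.leaf 41329) (.leaf 90368)) (.node 5651 (.leaf 41346) (.leaf 90400))) (.node 5654 (.node 5653 (.leaf 90337) (.leaf 90432)) (.node 5655 (.leaf 41362) (.leaf 41393)))) (.node 5660 (.node 5658 (.node 5657 (.leaf 41394) (.leaf 90496)) (.node 5659 (.leaf 41425) (.leaf 90528))) (.node 5662 (.node 5661 (.leaf 41426) (.leaf 90560)) (.node 5663 (.leaf 41457) (.leaf 90592)))))) (.node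 5680 (.node 5672 (.node 5668 (.node 5666 (.node 5665 (.leaf 41458) (.leaf 90624)) (.node 5667 (.leaf 41490) (.leaf 90656))) (.node 5670 (.node 5669 (.leaf 41505) (.leaf 90688)) (.node 5671 (.leaf 41521) (.leaf 41538)))) (.node 5676 (.node 5674 (.node 5673 (.leaf 90736) (.leaf 90689)) (.node 5675 (.leaf 90768) (.leaf 41553))) (.node 5678 (.node 5677 (.leaf 90800) (.leaf 41585)) (.node 5679 (.leaf 42978) (.leaf 47634))))) (.node 5688 (.node 5684 (.node 5682 (.node 5681 (.leaf 41586) (.leaf 42977)) (.node 5683 (.leaf 41601) (.leaf 41617))) (.node 5686 (.node 5685 (.leaf 42386) (.leaf 90913)) (.node 5687 (.leaf 90960) (.leaf 41697)))) (.node 5692 (.node 5690 (.node 5689 (.leaf 44338) (.leaf 91008)) (.node 5691 (.leaf 42530) (.leaf 42513))) (.node 5694 (.node 5693 (.leaf 91056) (.leaf 41698)) (.node 5695 (.leaf 44337) (.leaf 91104))))))) (.node 5728 (.node 5712 (.node 5704 (.node 5700 (.node 5698 (.node 5697 (.leaf 41777) (.leaf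 41778)) (.node 5699 (.leaf 41842) (.leaf 91168))) (.node 5702 (.node 5701 (.leaf 41873) (.leaf 41953)) (.node 5703 (.leaf 91216) (.leaf 41969)))) (.node 5708 (.node 5706 (.node 5705 (.leaf 91248) (.leaf 41986)) (.node 5707 (.leaf 91217) (.leaf 91296))) (.node 5710 (.node 5709 (.leaf 42001) (.leaf 42017)) (.node 5711 (.leaf 91344) (.leaf 42033))))) (.node 5720 (.node 5716 (.node 5714 (.node 5713 (.leaf 42034) (.leaf 91392)) (.node 5715 (.leaf 42050) (.leaf 91424))) (.node 5718 (.node 5717 (.leaf 91345) (.leaf 91456)) (.node 5719 (.leaf 42066) (.leaf 42097)))) (.node 5724 (.node 5722 (.node 5721 (.leaf 91504) (.leaf 42098)) (.node 5723 (.leaf 91536) (.leaf 42129))) (.node 5726 (.node 5725 (.leaf 42130) (.leaf 42146)) (.node 5727 (.leaf 91600) (.leaf 48641)))))) (.node 5744 (.node 5736 (.node 5732 (.node 5730 (.node 5729 (.leaf 42161) (.leaf 91648)) (.node 5731 (.leaf 42162) (.leaf 42177))) (.node 5734 (.node 5733 (.leaf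 42194) (.leaf 91697)) (.node 5735 (.leaf 91728) (.leaf 42209)))) (.node 5740 (.node 5738 (.node 5737 (.leaf 91760) (.leaf 42210)) (.node 5739 (.leaf 42225) (.leaf 91808))) (.node 5742 (.node 5741 (.leaf 45618) (.leaf 91840)) (.node 5743 (.leaf 42241) (.leaf 91872))))) (.node 5752 (.node 5748 (.node 5746 (.node 5745 (.leaf 42242) (.leaf 91778)) (.node 5747 (.leaf 42258) (.leaf 82289))) (.node 5750 (.node 5749 (.leaf 91809) (.leaf 91968)) (.node 5751 (.leaf 42273) (.leaf 91409)))) (.node 5756 (.node 5754 (.node 5753 (.leaf 42274) (.leaf 42305)) (.node 5755 (.leaf 92048) (.leaf 42306))) (.node 5758 (.node 5757 (.leaf 92080) (.leaf 42337)) (.node 5759 (.leaf 92112) (.leaf 42338)))))))) (.node 5824 (.node 5792 (.node 5776 (.node 5768 (.node 5764 (.node 5762 (.node 5761 (.leaf 92144) (.leaf 42385)) (.node 5763 (.leaf 92176) (.leaf 42401))) (.node 5766 (.node 5765 (.leaf 42418) (.leaf 42642)) (.node 5767 (.leaf 92209) (.leaf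 92256)))) (.node 5772 (.node 5770 (.node 5769 (.leaf 42450) (.leaf 54945)) (.node 5771 (.leaf 54674) (.leaf 92320))) (.node 5774 (.node 5773 (.leaf 42834) (.leaf 42545)) (.node 5775 (.leaf 92368) (.leaf 42546))))) (.node 5784 (.node 5780 (.node 5778 (.node 5777 (.leaf 42577) (.leaf 42578)) (.node 5779 (.leaf 92386) (.leaf 42625))) (.node 5782 (.node 5781 (.leaf 42641) (.leaf 92480)) (.node 5783 (.leaf 42658) (.leaf 92512)))) (.node 5788 (.node 5786 (.node 5785 (.leaf 92465) (.leaf 92544)) (.node 5787 (.leaf 42674) (.leaf 92576))) (.node 5790 (.node 5789 (.leaf 42705) (.leaf 85218)) (.node 5791 (.leaf 42706) (.leaf 92640)))))) (.node 5808 (.node 5800 (.node 5796 (.node 5794 (.node 5793 (.leaf 42737) (.leaf 92672)) (.node 5795 (.leaf 42738) (.leaf 92704))) (.node 5798 (.node 5797 (.leaf 42769) (.leaf 92736)) (.node 5799 (.leaf 42770) (.leaf 92768)))) (.node 5804 (.node 5802 (.node 5801 (.leaf 42801) (.leaf 42802)) (.node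 5803 (.leaf 92816) (.leaf 91873))) (.node 5806 (.node 5805 (.leaf 92848) (.leaf 49938)) (.node 5807 (.leaf 92880) (.leaf 42817))))) (.node 5816 (.node 5812 (.node 5810 (.node 5809 (.leaf 92912) (.leaf 42833)) (.node 5811 (.leaf 42850) (.leaf 92960))) (.node 5814 (.node 5813 (.leaf 92913) (.leaf 92992)) (.node 5815 (.leaf 42865) (.leaf 93024)))) (.node 5820 (.node 5818 (.node 5817 (.leaf 42913) (.leaf 46386)) (.node 5819 (.leaf 93056) (.leaf 42914))) (.node 5822 (.node 5821 (.leaf 46385) (.leaf 93120)) (.node 5823 (.leaf 42929) (.leaf 93152))))))) (.node 5856 (.node 5840 (.node 5832 (.node 5828 (.node 5826 (.node 5825 (.leaf 43009) (.leaf 43010)) (.node 5827 (.leaf 93200) (.leaf 43025))) (.node 5830 (.node 5829 (.leaf 93232) (.leaf 43058)) (.node 5831 (.leaf 93233) (.leaf 93280)))) (.node 5836 (.node 5834 (.node 5833 (.leaf 43074) (.leaf 43105)) (.node 5835 (.leaf 43106) (.leaf 93344))) (.node 5838 (.node 5837 (.leaf 43138)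 (.leaf 93376)) (.node 5839 (.leaf 43153) (.leaf 43169))))) (.node 5848 (.node 5844 (.node 5842 (.node 5841 (.leaf 93424) (.leaf 43186)) (.node 5843 (.leaf 93409) (.leaf 93472))) (.node 5846 (.node 5845 (.leaf 43201) (.leaf 93504)) (.node 5847 (.leaf 43217) (.leaf 93536)))) (.node 5852 (.node 5850 (.node 5849 (.leaf 43218) (.leaf 93568)) (.node 5851 (.leaf 43234) (.leaf 93600))) (.node 5854 (.node 5853 (.leaf 93505) (.leaf 93632)) (.node 5855 (.leaf 43249) (.leaf 43377)))))) (.node 5872 (.node 5864 (.node 5860 (.node 5858 (.node 5857 (.leaf 43250) (.leaf 82673)) (.node 5859 (.leaf 82674) (.leaf 93728))) (.node 5862 (.node 5861 (.leaf 93712) (.leaf 93696)) (.node 5863 (.leaf 43265) (.leaf 93792)))) (.node 5868 (.node 5866 (.node 5865 (.leaf 43281) (.leaf 90674)) (.node 5867 (.leaf 93840) (.leaf 93824))) (.node 5870 (.node 5869 (.leaf 43282) (.leaf 84754)) (.node 5871 (.leaf 90673) (.leaf 93920))))) (.node 5880 (.node 5876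 (.node 5874 (.node 5873 (.leaf 43298) (.leaf 93952)) (.node 5875 (.leaf 93793) (.leaf 93984))) (.node 5878 (.node 5877 (.leaf 43313) (.leaf 93585)) (.node 5879 (.leaf 43314) (.leaf 94048)))) (.node 5884 (.node 5882 (.node 5881 (.leaf 43345) (.leaf 94080)) (.node 5883 (.leaf 43346) (.leaf 94112))) (.node 5886 (.node 5885 (.leaf 43362) (.leaf 94144)) (.node 5887 (.leaf 93025) (.leaf 43378))))))))

/-- block of `nd` -/
def nd_23 : Tr := .node 6016 (.node 5952 (.node 5920 (.node 5904 (.node 5896 (.node 5892 (.node 5890 (.node 5889 (.leaf 43409) (.leaf 43410)) (.node 5891 (.leaf 94224) (.leaf 43441))) (.node 5894 (.node 5893 (.leaf 94256) (.leaf 43442)) (.node 5895 (.leaf 94288) (.leaf 43458)))) (.node 5900 (.node 5898 (.node 5897 (.leaf 93425) (.leaf 94336)) (.node 5899 (.leaf 43489) (.leaf 94368))) (.node 5902 (.node 5901 (.leaf 43490) (.leaf 94400)) (.node 5903 (.leaf 43521) (.leaf 94432))))) (.node 5912 (.node 5908 (.node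 5906 (.node 5905 (.leaf 43522) (.leaf 94464)) (.node 5907 (.leaf 43553) (.leaf 43554))) (.node 5910 (.node 5909 (.leaf 43585) (.leaf 94528)) (.node 5911 (.leaf 43601) (.leaf 94560)))) (.node 5916 (.node 5914 (.node 5913 (.leaf 43617) (.leaf 43634)) (.node 5915 (.leaf 94608) (.leaf 94561))) (.node 5918 (.node 5917 (.leaf 94640) (.leaf 43650)) (.node 5919 (.leaf 43697) (.leaf 94689)))))) (.node 5936 (.node 5928 (.node 5924 (.node 5922 (.node 5921 (.leaf 94704) (.leaf 43777)) (.node 5923 (.leaf 94736) (.leaf 43778))) (.node 5926 (.node 5925 (.leaf 43809) (.leaf 43889)) (.node 5927 (.leaf 43890) (.leaf 94449)))) (.node 5932 (.node 5930 (.node 5929 (.leaf 43937) (.leaf 43953)) (.node 5931 (.leaf 43969) (.leaf 43970))) (.node 5934 (.node 5933 (.leaf 46354) (.leaf 43986)) (.node 5935 (.leaf 94928) (.leaf 94865))))) (.node 5944 (.node 5940 (.node 5938 (.node 5937 (.leaf 94960) (.leaf 44001)) (.node 5939 (.leaf 44033) (.leaf 44002)))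 (.node 5942 (.node 5941 (.leaf 95024) (.leaf 44034)) (.node 5943 (.leaf 95056) (.leaf 44049)))) (.node 5948 (.node 5946 (.node 5945 (.leaf 44274) (.leaf 44066)) (.node 5947 (.leaf 95120) (.leaf 95089))) (.node 5950 (.node 5949 (.leaf 95152) (.leaf 44081)) (.node 5951 (.leaf 49505) (.leaf 44082))))))) (.node 5984 (.node 5968 (.node 5960 (.node 5956 (.node 5954 (.node 5953 (.leaf 95216) (.leaf 44145)) (.node 5955 (.leaf 95248) (.leaf 44146))) (.node 5958 (.node 5957 (.leaf 95280) (.leaf 44161)) (.node 5959 (.leaf 95312) (.leaf 44482)))) (.node 5964 (.node 5962 (.node 5961 (.leaf 95344) (.leaf 44177)) (.node 5963 (.leaf 95376) (.leaf 44178))) (.node 5966 (.node 5965 (.leaf 95408) (.leaf 44209)) (.node 5967 (.leaf 48769) (.leaf 44210))))) (.node 5976 (.node 5972 (.node 5970 (.node 5969 (.leaf 95472) (.leaf 44241)) (.node 5971 (.leaf 95504) (.leaf 44242))) (.node 5974 (.node 5973 (.leaf 95536) (.leaf 44273)) (.node 5975 (.leaf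 95568) (.leaf 44289)))) (.node 5980 (.node 5978 (.node 5977 (.leaf 95600) (.leaf 87842)) (.node 5979 (.leaf 87825) (.leaf 44306))) (.node 5982 (.node 5981 (.leaf 45714) (.leaf 95601)) (.node 5983 (.leaf 95696) (.leaf 44369)))))) (.node 6000 (.node 5992 (.node 5988 (.node 5986 (.node 5985 (.leaf 44370) (.leaf 47474)) (.node 5987 (.leaf 44402) (.leaf 44433))) (.node 5990 (.node 5989 (.leaf 95792) (.leaf 44434)) (.node 5991 (.leaf 95824) (.leaf 44465)))) (.node 5996 (.node 5994 (.node 5993 (.leaf 95856) (.leaf 44466)) (.node 5995 (.leaf 95888) (.leaf 44497))) (.node 5998 (.node 5997 (.leaf 44498) (.leaf 95936)) (.node 5999 (.leaf 44561) (.leaf 44577))))) (.node 6008 (.node 6004 (.node 6002 (.node 6001 (.leaf 46226) (.leaf 44578)) (.node 6003 (.leaf 44834) (.leaf 44594))) (.node 6006 (.node 6005 (.leaf 95969) (.leaf 96064)) (.node 6007 (.leaf 95170) (.leaf 44609)))) (.node 6012 (.node 6010 (.node 6009 (.leaf 44673) (.leaf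 44625)) (.node 6011 (.leaf 44642) (.leaf 96160))) (.node 6014 (.node 6013 (.leaf 96145) (.leaf 96192)) (.node 6015 (.leaf 44674) (.leaf 96224)))))))) (.node 6080 (.node 6048 (.node 6032 (.node 6024 (.node 6020 (.node 6018 (.node 6017 (.leaf 44689) (.leaf 96256)) (.node 6019 (.leaf 44705) (.leaf 96288))) (.node 6022 (.node 6021 (.leaf 44706) (.leaf 44994)) (.node 6023 (.leaf 44722) (.leaf 96352)))) (.node 6028 (.node 6026 (.node 6025 (.leaf 96257) (.leaf 96384)) (.node 6027 (.leaf 94977) (.leaf 96416))) (.node 6030 (.node 6029 (.leaf 44737) (.leaf 47185)) (.node 6031 (.leaf 44738) (.leaf 96480))))) (.node 6040 (.node 6036 (.node 6034 (.node 6033 (.leaf 44801) (.leaf 96512)) (.node 6035 (.leaf 44802) (.leaf 96544))) (.node 6038 (.node 6037 (.leaf 44833) (.leaf 96576)) (.node 6039 (.leaf 44865) (.leaf 96608)))) (.node 6044 (.node 6042 (.node 6041 (.leaf 47666) (.leaf 96640)) (.node 6043 (.leaf 77953) (.leaf 96672))) (.node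 6046 (.node 6045 (.leaf 44866) (.leaf 96704)) (.node 6047 (.leaf 44881) (.leaf 96736)))))) (.node 6064 (.node 6056 (.node 6052 (.node 6050 (.node 6049 (.leaf 45154) (.leaf 96768)) (.node 6051 (.leaf 44897) (.leaf 96800))) (.node 6054 (.node 6053 (.leaf 44898) (.leaf 96832)) (.node 6055 (.leaf 44929) (.leaf 47937)))) (.node 6060 (.node 6058 (.node 6057 (.leaf 44930) (.leaf 44961)) (.node 6059 (.leaf 96912) (.leaf 44962))) (.node 6062 (.node 6061 (.leaf 96944) (.leaf 44993)) (.node 6063 (.leaf 45041) (.leaf 45105))))) (.node 6072 (.node 6068 (.node 6066 (.node 6065 (.leaf 45090) (.leaf 97024)) (.node 6067 (.leaf 47617) (.leaf 45170))) (.node 6070 (.node 6069 (.leaf 97072) (.leaf 45185)) (.node 6071 (.leaf 45202) (.leaf 97105)))) (.node 6076 (.node 6074 (.node 6073 (.leaf 97136) (.leaf 95713)) (.node 6075 (.leaf 45217) (.leaf 45297))) (.node 6078 (.node 6077 (.leaf 45218) (.leaf 49729)) (.node 6079 (.leaf 45313) (.leaf 97248)))))))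 (.node 6112 (.node 6096 (.node 6088 (.node 6084 (.node 6082 (.node 6081 (.leaf 45346) (.leaf 45361)) (.node 6083 (.leaf 92897) (.leaf 45409))) (.node 6086 (.node 6085 (.leaf 45505) (.leaf 45442)) (.node 6087 (.leaf 45474) (.leaf 97376)))) (.node 6092 (.node 6090 (.node 6089 (.leaf 45538) (.leaf 97408)) (.node 6091 (.leaf 45569) (.leaf 97440))) (.node 6094 (.node 6093 (.leaf 45586) (.leaf 97472)) (.node 6095 (.leaf 88129) (.leaf 47233))))) (.node 6104 (.node 6100 (.node 6098 (.node 6097 (.leaf 45602) (.leaf 97536)) (.node 6099 (.leaf 45633) (.leaf 45745))) (.node 6102 (.node 6101 (.leaf 45634) (.leaf 97600)) (.node 6103 (.leaf 45681) (.leaf 47122)))) (.node 6108 (.node 6106 (.node 6105 (.leaf 45682) (.leaf 47121)) (.node 6107 (.leaf 97680) (.leaf 97664))) (.node 6110 (.node 6109 (.leaf 45697) (.leaf 97728)) (.node 6111 (.leaf 45713) (.leaf 97760)))))) (.node 6128 (.node 6120 (.node 6116 (.node 6114 (.node 6113 (.leaf 45730)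 (.leaf 97729)) (.node 6115 (.leaf 97808) (.leaf 45746))) (.node 6118 (.node 6117 (.leaf 97840) (.leaf 45809)) (.node 6119 (.leaf 45810) (.leaf 97888)))) (.node 6124 (.node 6122 (.node 6121 (.leaf 45825) (.leaf 97920)) (.node 6123 (.leaf 45841) (.leaf 46002))) (.node 6126 (.node 6125 (.leaf 45842) (.leaf 97984)) (.node 6127 (.leaf 45858) (.leaf 98016))))) (.node 6136 (.node 6132 (.node 6130 (.node 6129 (.leaf 97921) (.leaf 98048)) (.node 6131 (.leaf 45874) (.leaf 45905))) (.node 6134 (.node 6133 (.leaf 98096) (.leaf 45906)) (.node 6135 (.leaf 98128) (.leaf 45937)))) (.node 6140 (.node 6138 (.node 6137 (.leaf 98160) (.leaf 45938)) (.node 6139 (.leaf 98192) (.leaf 45969))) (.node 6142 (.node 6141 (.leaf 98224) (.leaf 45970)) (.node 6143 (.leaf 98256) (.leaf 46033))))))))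

/-- block of `nd` -/
def nd_24 : Tr := .node 6272 (.node 6208 (.node 6176 (.node 6160 (.node 6152 (.node 6148 (.node 6146 (.node 6145 (.leaf 98288) (.leaf 46034)) (.node 6147 (.leaf 98320) (.leaf 46049))) (.node 6150 (.node 6149 (.leaf 46065) (.leaf 98368)) (.node 6151 (.leaf 46066) (.leaf 98400)))) (.node 6156 (.node 6154 (.node 6153 (.leaf 46082) (.leaf 98353)) (.node 6155 (.leaf 98448) (.leaf 46098))) (.node 6158 (.node 6157 (.leaf 98480) (.leaf 46129)) (.node 6159 (.leaf 98512) (.leaf 46130))))) (.node 6168 (.node 6164 (.node 6162 (.node 6161 (.leaf 46161) (.leaf 46162)) (.node 6163 (.leaf 98576) (.leaf 46177))) (.node 6166 (.node 6165 (.leaf 46193) (.leaf 46210)) (.node 6167 (.leaf 98640) (.leaf 98609)))) (.node 6172 (.node 6170 (.node 6169 (.leaf 98672) (.leaf 46225)) (.node 6171 (.leaf 46289) (.leaf 98274))) (.node 6174 (.node 6173 (.leaf 46322) (.leaf 46353)) (.node 6175 (.leaf 46417) (.leaf 46450)))))) (.node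 6192 (.node 6184 (.node 6180 (.node 6178 (.node 6177 (.leaf 98785) (.leaf 98816)) (.node 6179 (.leaf 46466) (.leaf 98385))) (.node 6182 (.node 6181 (.leaf 46481) (.leaf 98880)) (.node 6183 (.leaf 46497) (.leaf 95554)))) (.node 6188 (.node 6186 (.node 6185 (.leaf 98928) (.leaf 98912)) (.node 6187 (.leaf 46498) (.leaf 46754))) (.node 6190 (.node 6189 (.leaf 95553) (.leaf 99008)) (.node 6191 (.leaf 46514) (.leaf 99040))))) (.node 6200 (.node 6196 (.node 6194 (.node 6193 (.leaf 98881) (.leaf 99072)) (.node 6195 (.leaf 46529) (.leaf 99104))) (.node 6198 (.node 6197 (.leaf 46530) (.leaf 99136)) (.node 6199 (.leaf 46545) (.leaf 99168)))) (.node 6204 (.node 6202 (.node 6201 (.leaf 46561) (.leaf 99200)) (.node 6203 (.leaf 46562) (.leaf 99122))) (.node 6206 (.node 6205 (.leaf 46578) (.leaf 99264)) (.node 6207 (.leaf 99169) (.leaf 99296))))))) (.node 6240 (.node 6224 (.node 6216 (.node 6212 (.node 6210 (.node 6209 (.leaf 46593) (.leaf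 96177)) (.node 6211 (.leaf 46594) (.leaf 99360))) (.node 6214 (.node 6213 (.leaf 46625) (.leaf 99392)) (.node 6215 (.leaf 46626) (.leaf 46641)))) (.node 6220 (.node 6218 (.node 6217 (.leaf 98482) (.leaf 99456)) (.node 6219 (.leaf 46657) (.leaf 99488))) (.node 6222 (.node 6221 (.leaf 46689) (.leaf 99520)) (.node 6223 (.leaf 46690) (.leaf 99552))))) (.node 6232 (.node 6228 (.node 6226 (.node 6225 (.leaf 46721) (.leaf 99584)) (.node 6227 (.leaf 46722) (.leaf 99616))) (.node 6230 (.node 6229 (.leaf 46737) (.leaf 99648)) (.node 6231 (.leaf 97378) (.leaf 46753)))) (.node 6236 (.node 6234 (.node 6233 (.leaf 46769) (.leaf 99712)) (.node 6235 (.leaf 46785) (.leaf 99744))) (.node 6238 (.node 6237 (.leaf 46786) (.leaf 47154)) (.node 6239 (.leaf 46802) (.leaf 99713)))))) (.node 6256 (.node 6248 (.node 6244 (.node 6242 (.node 6241 (.leaf 99824) (.leaf 46817)) (.node 6243 (.leaf 46913) (.leaf 46818))) (.node 6246 (.node 6245 (.leaf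 99888) (.leaf 46849)) (.node 6247 (.leaf 99920) (.leaf 46850)))) (.node 6252 (.node 6250 (.node 6249 (.leaf 99952) (.leaf 46865)) (.node 6251 (.leaf 99984) (.leaf 46882))) (.node 6254 (.node 6253 (.leaf 100016) (.leaf 46898)) (.node 6255 (.leaf 100048) (.leaf 99985))))) (.node 6264 (.node 6260 (.node 6258 (.node 6257 (.leaf 100080) (.leaf 46914)) (.node 6259 (.leaf 46961) (.leaf 100128))) (.node 6262 (.node 6261 (.leaf 99362) (.leaf 99329)) (.node 6263 (.leaf 100176) (.leaf 46993)))) (.node 6268 (.node 6266 (.node 6265 (.leaf 100208) (.leaf 47009)) (.node 6267 (.leaf 100240) (.leaf 47025))) (.node 6270 (.node 6269 (.leaf 100272) (.leaf 47026)) (.node 6271 (.leaf 47218) (.leaf 47042)))))))) (.node 6336 (.node 6304 (.node 6288 (.node 6280 (.node 6276 (.node 6274 (.node 6273 (.leaf 100336) (.leaf 100241)) (.node 6275 (.leaf 100368) (.leaf 47057))) (.node 6278 (.node 6277 (.leaf 100400) (.leaf 47058)) (.node 6279 (.leaf 89601)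 (.leaf 47089)))) (.node 6284 (.node 6282 (.node 6281 (.leaf 100464) (.leaf 47090)) (.node 6283 (.leaf 100418) (.leaf 47137))) (.node 6286 (.node 6285 (.leaf 100528) (.leaf 47170)) (.node 6287 (.leaf 100560) (.leaf 100529))))) (.node 6296 (.node 6292 (.node 6290 (.node 6289 (.leaf 100592) (.leaf 73490)) (.node 6291 (.leaf 100624) (.leaf 48562))) (.node 6294 (.node 6293 (.leaf 48545) (.leaf 47186)) (.node 6295 (.leaf 100688) (.leaf 47217)))) (.node 6300 (.node 6298 (.node 6297 (.leaf 47249) (.leaf 100736)) (.node 6299 (.leaf 47250) (.leaf 100768))) (.node 6302 (.node 6301 (.leaf 47266) (.leaf 100800)) (.node 6303 (.leaf 49553) (.leaf 100832)))))) (.node 6320 (.node 6312 (.node 6308 (.node 6306 (.node 6305 (.leaf 85314) (.leaf 100864)) (.node 6307 (.leaf 47281) (.leaf 100785))) (.node 6310 (.node 6309 (.leaf 47282) (.leaf 47314)) (.node 6311 (.leaf 100944) (.leaf 47345)))) (.node 6316 (.node 6314 (.node 6313 (.leaf 100961)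 (.leaf 47361)) (.node 6315 (.leaf 47378) (.leaf 101024))) (.node 6318 (.node 6317 (.leaf 47394) (.leaf 101056)) (.node 6319 (.leaf 101009) (.leaf 101088))))) (.node 6328 (.node 6324 (.node 6322 (.node 6321 (.leaf 91746) (.leaf 47441)) (.node 6323 (.leaf 101136) (.leaf 47457))) (.node 6326 (.node 6325 (.leaf 47490) (.leaf 101169)) (.node 6327 (.leaf 101200) (.leaf 91473)))) (.node 6332 (.node 6330 (.node 6329 (.leaf 101232) (.leaf 47505)) (.node 6331 (.leaf 95778) (.leaf 47537))) (.node 6334 (.node 6333 (.leaf 101041) (.leaf 47538)) (.node 6335 (.leaf 97457) (.leaf 97458))))))) (.node 6368 (.node 6352 (.node 6344 (.node 6340 (.node 6338 (.node 6337 (.leaf 47585) (.leaf 87650)) (.node 6339 (.leaf 47601) (.leaf 47602))) (.node 6342 (.node 6341 (.leaf 101424) (.leaf 47729)) (.node 6343 (.leaf 101456) (.leaf 54738)))) (.node 6348 (.node 6346 (.node 6345 (.leaf 53506) (.leaf 47778)) (.node 6347 (.leaf 78225) (.leaf 101536)))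 (.node 6350 (.node 6349 (.leaf 47809) (.leaf 101568)) (.node 6351 (.leaf 47810) (.leaf 101600))))) (.node 6360 (.node 6356 (.node 6354 (.node 6353 (.leaf 47825) (.leaf 47841)) (.node 6355 (.leaf 47858) (.leaf 101633))) (.node 6358 (.node 6357 (.leaf 101680) (.leaf 47889)) (.node 6359 (.leaf 101712) (.leaf 47905)))) (.node 6364 (.node 6362 (.node 6361 (.leaf 101744) (.leaf 47906)) (.node 6363 (.leaf 101776) (.leaf 47922))) (.node 6366 (.node 6365 (.leaf 101808) (.leaf 101713)) (.node 6367 (.leaf 101840) (.leaf 47938)))))) (.node 6384 (.node 6376 (.node 6372 (.node 6370 (.node 6369 (.leaf 84241) (.leaf 84242)) (.node 6371 (.leaf 101888) (.leaf 84210))) (.node 6374 (.node 6373 (.leaf 47953) (.leaf 48001)) (.node 6375 (.leaf 101793) (.leaf 48049)))) (.node 6380 (.node 6378 (.node 6377 (.leaf 48050) (.leaf 48066)) (.node 6379 (.leaf 102032) (.leaf 101649))) (.node 6382 (.node 6381 (.leaf 102064) (.leaf 48081)) (.node 6383 (.leaf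 48082) (.leaf 102112))))) (.node 6392 (.node 6388 (.node 6386 (.node 6385 (.leaf 48097) (.leaf 48146)) (.node 6387 (.leaf 78738) (.leaf 48178))) (.node 6390 (.node 6389 (.leaf 102192) (.leaf 48194)) (.node 6391 (.leaf 102224) (.leaf 54929)))) (.node 6396 (.node 6394 (.node 6393 (.leaf 55281) (.leaf 48209)) (.node 6395 (.leaf 102288) (.leaf 48225))) (.node 6398 (.node 6397 (.leaf 96962) (.leaf 96961)) (.node 6399 (.leaf 102336) (.leaf 96689))))))))

/-- block of `nd` -/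
def nd_25 : Tr := .node 6528 (.node 6464 (.node 6432 (.node 6416 (.node 6408 (.node 6404 (.node 6402 (.node 6401 (.leaf 48242) (.leaf 102400)) (.node 6403 (.leaf 102289) (.leaf 102432))) (.node 6406 (.node 6405 (.leaf 48257) (.leaf 102464)) (.node 6407 (.leaf 48258) (.leaf 102496)))) (.node 6412 (.node 6410 (.node 6409 (.leaf 48290) (.leaf 102482)) (.node 6411 (.leaf 48306) (.leaf 48369))) (.node 6414 (.node 6413 (.leaf 48370) (.leaf 48385)) (.node 6415 (.leaf 102608) (.leaf 102162))))) (.node 6424 (.node 6420 (.node 6418 (.node 6417 (.leaf 102640) (.leaf 48401)) (.node 6419 (.leaf 102672) (.leaf 48402))) (.node 6422 (.node 6421 (.leaf 102704) (.leaf 48417)) (.node 6423 (.leaf 48434) (.leaf 48674)))) (.node 6428 (.node 6426 (.node 6425 (.leaf 48450) (.leaf 102784)) (.node 6427 (.leaf 102737) (.leaf 48465))) (.node 6430 (.node 6429 (.leaf 48466) (.leaf 48497)) (.node 6431 (.leaf 95714) (.leaf 48529)))))) (.node 6448 (.node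 6440 (.node 6436 (.node 6434 (.node 6433 (.leaf 49442) (.leaf 102896)) (.node 6435 (.leaf 48530) (.leaf 49441))) (.node 6438 (.node 6437 (.leaf 48657) (.leaf 102976)) (.node 6439 (.leaf 48705) (.leaf 48721)))) (.node 6444 (.node 6442 (.node 6441 (.leaf 103024) (.leaf 48737)) (.node 6443 (.leaf 103056) (.leaf 48738))) (.node 6446 (.node 6445 (.leaf 48754) (.leaf 103025)) (.node 6447 (.leaf 103120) (.leaf 74194))))) (.node 6456 (.node 6452 (.node 6450 (.node 6449 (.leaf 48770) (.leaf 103168)) (.node 6451 (.leaf 48801) (.leaf 103200))) (.node 6454 (.node 6453 (.leaf 48802) (.leaf 103232)) (.node 6455 (.leaf 48833) (.leaf 103264)))) (.node 6460 (.node 6458 (.node 6457 (.leaf 48834) (.leaf 48850)) (.node 6459 (.leaf 103312) (.leaf 73809))) (.node 6462 (.node 6461 (.leaf 103344) (.leaf 48865)) (.node 6463 (.leaf 103376) (.leaf 48866))))))) (.node 6496 (.node 6480 (.node 6472 (.node 6468 (.node 6466 (.node 6465 (.leaf 103408)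 (.leaf 48881)) (.node 6467 (.leaf 103440) (.leaf 48897))) (.node 6470 (.node 6469 (.leaf 103472) (.leaf 48898)) (.node 6471 (.leaf 49090) (.leaf 48914)))) (.node 6476 (.node 6474 (.node 6473 (.leaf 103441) (.leaf 103552)) (.node 6475 (.leaf 74001) (.leaf 103584))) (.node 6478 (.node 6477 (.leaf 48929) (.leaf 103616)) (.node 6479 (.leaf 48961) (.leaf 48962))))) (.node 6488 (.node 6484 (.node 6482 (.node 6481 (.leaf 103634) (.leaf 48978)) (.node 6483 (.leaf 103696) (.leaf 71105))) (.node 6486 (.node 6485 (.leaf 103728) (.leaf 48993)) (.node 6487 (.leaf 48994) (.leaf 103776)))) (.node 6492 (.node 6490 (.node 6489 (.leaf 49025) (.leaf 103808)) (.node 6491 (.leaf 49026) (.leaf 49057))) (.node 6494 (.node 6493 (.leaf 103856) (.leaf 49058)) (.node 6495 (.leaf 103888) (.leaf 49073)))))) (.node 6512 (.node 6504 (.node 6500 (.node 6498 (.node 6497 (.leaf 103920) (.leaf 49089)) (.node 6499 (.leaf 103952) (.leaf 49106))) (.node 6502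 (.node 6501 (.leaf 103921) (.leaf 104000)) (.node 6503 (.leaf 49121) (.leaf 49153)))) (.node 6508 (.node 6506 (.node 6505 (.leaf 104048) (.leaf 49154)) (.node 6507 (.leaf 49474) (.leaf 49185))) (.node 6510 (.node 6509 (.leaf 49233) (.leaf 49186)) (.node 6511 (.leaf 104144) (.leaf 49234))))) (.node 6520 (.node 6516 (.node 6514 (.node 6513 (.leaf 49298) (.leaf 49329)) (.node 6515 (.leaf 104208) (.leaf 49345))) (.node 6518 (.node 6517 (.leaf 104240) (.leaf 49346)) (.node 6519 (.leaf 49666) (.leaf 49362)))) (.node 6524 (.node 6522 (.node 6521 (.leaf 104304) (.leaf 104209)) (.node 6523 (.leaf 104336) (.leaf 49377))) (.node 6526 (.node 6525 (.leaf 104368) (.leaf 49378)) (.node 6527 (.leaf 104400) (.leaf 49409)))))))) (.node 6592 (.node 6560 (.node 6544 (.node 6536 (.node 6532 (.node 6530 (.node 6529 (.leaf 104432) (.leaf 49410)) (.node 6531 (.leaf 104386) (.leaf 49457))) (.node 6534 (.node 6533 (.leaf 49473) (.leaf 49490)) (.node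 6535 (.leaf 104528) (.leaf 104497)))) (.node 6540 (.node 6538 (.node 6537 (.leaf 104560) (.leaf 49506)) (.node 6539 (.leaf 104592) (.leaf 49537))) (.node 6542 (.node 6541 (.leaf 97426) (.leaf 49538)) (.node 6543 (.leaf 104656) (.leaf 49569))))) (.node 6552 (.node 6548 (.node 6546 (.node 6545 (.leaf 104688) (.leaf 49570)) (.node 6547 (.leaf 104720) (.leaf 49601))) (.node 6550 (.node 6549 (.leaf 104752) (.leaf 49602)) (.node 6551 (.leaf 104784) (.leaf 49633)))) (.node 6556 (.node 6554 (.node 6553 (.leaf 104816) (.leaf 49634)) (.node 6555 (.leaf 104848) (.leaf 103649))) (.node 6558 (.node 6557 (.leaf 49649) (.leaf 104896)) (.node 6559 (.leaf 49665) (.leaf 49682)))))) (.node 6576 (.node 6568 (.node 6564 (.node 6562 (.node 6561 (.leaf 104944) (.leaf 104897)) (.node 6563 (.leaf 104976) (.leaf 49697))) (.node 6566 (.node 6565 (.leaf 105008) (.leaf 49713)) (.node 6567 (.leaf 49793) (.leaf 49794)))) (.node 6572 (.node 6570 (.node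 6569 (.leaf 49809) (.leaf 49825)) (.node 6571 (.leaf 105104) (.leaf 49842))) (.node 6574 (.node 6573 (.leaf 105136) (.leaf 105089)) (.node 6575 (.leaf 105168) (.leaf 49857))))) (.node 6584 (.node 6580 (.node 6578 (.node 6577 (.leaf 49858) (.leaf 105216)) (.node 6579 (.leaf 49873) (.leaf 49890))) (.node 6582 (.node 6581 (.leaf 105264) (.leaf 105249)) (.node 6583 (.leaf 105296) (.leaf 49905)))) (.node 6588 (.node 6586 (.node 6585 (.leaf 50017) (.leaf 49906)) (.node 6587 (.leaf 95873) (.leaf 95874))) (.node 6590 (.node 6589 (.leaf 105392) (.leaf 105376)) (.node 6591 (.leaf 105360) (.leaf 49985))))))) (.node 6624 (.node 6608 (.node 6600 (.node 6596 (.node 6594 (.node 6593 (.leaf 105456) (.leaf 49986)) (.node 6595 (.leaf 105488) (.leaf 50002))) (.node 6598 (.node 6597 (.leaf 105520) (.leaf 105009)) (.node 6599 (.leaf 105552) (.leaf 50018)))) (.node 6604 (.node 6602 (.node 6601 (.leaf 50065) (.leaf 50066)) (.node 6603 (.leaf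 105105) (.leaf 105632))) (.node 6606 (.node 6605 (.leaf 50113) (.leaf 50114)) (.node 6607 (.leaf 50161) (.leaf 50225))))) (.node 6616 (.node 6612 (.node 6610 (.node 6609 (.leaf 50241) (.leaf 105234)) (.node 6611 (.leaf 105713) (.leaf 105760))) (.node 6614 (.node 6613 (.leaf 50417) (.leaf 87890)) (.node 6615 (.leaf 105792) (.leaf 50433)))) (.node 6620 (.node 6618 (.node 6617 (.leaf 105840) (.leaf 50434)) (.node 6619 (.leaf 50481) (.leaf 50482))) (.node 6622 (.node 6621 (.leaf 50497) (.leaf 50513)) (.node 6623 (.leaf 105936) (.leaf 50514)))))) (.node 6640 (.node 6632 (.node 6628 (.node 6626 (.node 6625 (.leaf 105968) (.leaf 105921)) (.node 6627 (.leaf 106000) (.leaf 52994))) (.node 6630 (.node 6629 (.leaf 50546) (.leaf 106048)) (.node 6631 (.leaf 50577) (.leaf 50594)))) (.node 6636 (.node 6634 (.node 6633 (.leaf 106096) (.leaf 50641)) (.node 6635 (.leaf 106128) (.leaf 50642))) (.node 6638 (.node 6637 (.leaf 106160) (.leaf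 50658)) (.node 6639 (.leaf 52385) (.leaf 50673))))) (.node 6648 (.node 6644 (.node 6642 (.node 6641 (.leaf 50674) (.leaf 106240)) (.node 6643 (.leaf 50689) (.leaf 50705))) (.node 6646 (.node 6645 (.leaf 106288) (.leaf 50706)) (.node 6647 (.leaf 50994) (.leaf 50722)))) (.node 6652 (.node 6650 (.node 6649 (.leaf 106352) (.leaf 106273)) (.node 6651 (.leaf 106384) (.leaf 52657))) (.node 6654 (.node 6653 (.leaf 50769) (.leaf 105985)) (.node 6655 (.leaf 50770) (.leaf 50801))))))))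

/-- block of `nd` -/
def nd_26 : Tr := .node 6784 (.node 6720 (.node 6688 (.node 6672 (.node 6664 (.node 6660 (.node 6658 (.node 6657 (.leaf 52098) (.leaf 106480)) (.node 6659 (.leaf 52097) (.leaf 50865))) (.node 6662 (.node 6661 (.leaf 50866) (.leaf 50897)) (.node 6663 (.leaf 106576) (.leaf 50898)))) (.node 6668 (.node 6666 (.node 6665 (.leaf 106608) (.leaf 50929)) (.node 6667 (.leaf 106640) (.leaf 50930))) (.node 6670 (.node 6669 (.leaf 50961) (.leaf 106688)) (.node 6671 (.leaf 50962) (.leaf 106720))))) (.node 6680 (.node 6676 (.node 6674 (.node 6673 (.leaf 57745) (.leaf 106752)) (.node 6675 (.leaf 57778) (.leaf 50977))) (.node 6678 (.node 6677 (.leaf 106800) (.leaf 50993)) (.node 6679 (.leaf 51010) (.leaf 106848)))) (.node 6684 (.node 6682 (.node 6681 (.leaf 106801) (.leaf 106880)) (.node 6683 (.leaf 51025) (.leaf 106912))) (.node 6686 (.node 6685 (.leaf 51137) (.leaf 106944)) (.node 6687 (.leaf 51154) (.leaf 51346))))))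 (.node 6704 (.node 6696 (.node 6692 (.node 6690 (.node 6689 (.leaf 51170) (.leaf 107008)) (.node 6691 (.leaf 106945) (.leaf 107040))) (.node 6694 (.node 6693 (.leaf 51185) (.leaf 107072)) (.node 6695 (.leaf 51186) (.leaf 107104)))) (.node 6700 (.node 6698 (.node 6697 (.leaf 51201) (.leaf 107136)) (.node 6699 (.leaf 51217) (.leaf 107168))) (.node 6702 (.node 6701 (.leaf 51218) (.leaf 107090)) (.node 6703 (.leaf 51234) (.leaf 107232))))) (.node 6712 (.node 6708 (.node 6706 (.node 6705 (.leaf 107137) (.leaf 107264)) (.node 6707 (.leaf 51249) (.leaf 77153))) (.node 6710 (.node 6709 (.leaf 51281) (.leaf 51282)) (.node 6711 (.leaf 51313) (.leaf 107360)))) (.node 6716 (.node 6714 (.node 6713 (.leaf 51314) (.leaf 107392)) (.node 6715 (.leaf 51329) (.leaf 107424))) (.node 6718 (.node 6717 (.leaf 51345) (.leaf 107456)) (.node 6719 (.leaf 51362) (.leaf 107488))))))) (.node 6752 (.node 6736 (.node 6728 (.node 6724 (.node 6722 (.node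 6721 (.leaf 107425) (.leaf 107520)) (.node 6723 (.leaf 51377) (.leaf 51378))) (.node 6726 (.node 6725 (.leaf 51409) (.leaf 107584)) (.node 6727 (.leaf 51410) (.leaf 107616)))) (.node 6732 (.node 6730 (.node 6729 (.leaf 51425) (.leaf 107648)) (.node 6731 (.leaf 51441) (.leaf 107680))) (.node 6734 (.node 6733 (.leaf 51442) (.leaf 107712)) (.node 6735 (.leaf 51458) (.leaf 107744))))) (.node 6744 (.node 6740 (.node 6738 (.node 6737 (.leaf 107649) (.leaf 107776)) (.node 6739 (.leaf 51474) (.leaf 51505))) (.node 6742 (.node 6741 (.leaf 107824) (.leaf 51506)) (.node 6743 (.leaf 107856) (.leaf 51537)))) (.node 6748 (.node 6746 (.node 6745 (.leaf 51538) (.leaf 107904)) (.node 6747 (.leaf 51601) (.leaf 107936))) (.node 6750 (.node 6749 (.leaf 51634) (.leaf 107697)) (.node 6751 (.leaf 51665) (.leaf 51666)))))) (.node 6768 (.node 6760 (.node 6756 (.node 6754 (.node 6753 (.leaf 108016) (.leaf 51681)) (.node 6755 (.leaf 108048) (.leaf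 107810))) (.node 6758 (.node 6757 (.leaf 108080) (.leaf 51697)) (.node 6759 (.leaf 108112) (.leaf 51698)))) (.node 6764 (.node 6762 (.node 6761 (.leaf 108144) (.leaf 51745)) (.node 6763 (.leaf 51761) (.leaf 106098))) (.node 6766 (.node 6765 (.leaf 108208) (.leaf 51777)) (.node 6767 (.leaf 51793) (.leaf 108256))))) (.node 6776 (.node 6772 (.node 6770 (.node 6769 (.leaf 51809) (.leaf 108288)) (.node 6771 (.leaf 51810) (.leaf 52130))) (.node 6774 (.node 6773 (.leaf 51826) (.leaf 108257)) (.node 6775 (.leaf 108368) (.leaf 51857)))) (.node 6780 (.node 6778 (.node 6777 (.leaf 51858) (.leaf 51873)) (.node 6779 (.leaf 51890) (.leaf 108448))) (.node 6782 (.node 6781 (.leaf 51906) (.leaf 108480)) (.node 6783 (.leaf 108433) (.leaf 108512)))))))) (.node 6848 (.node 6816 (.node 6800 (.node 6792 (.node 6788 (.node 6786 (.node 6785 (.leaf 51937) (.leaf 108544)) (.node 6787 (.leaf 51938) (.leaf 108576))) (.node 6790 (.node 6789 (.leaf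 51969) (.leaf 108608)) (.node 6791 (.leaf 79378) (.leaf 51970)))) (.node 6796 (.node 6794 (.node 6793 (.leaf 52033) (.leaf 108672)) (.node 6795 (.leaf 52034) (.leaf 108704))) (.node 6798 (.node 6797 (.leaf 52065) (.leaf 108736)) (.node 6799 (.leaf 52066) (.leaf 108690))))) (.node 6808 (.node 6804 (.node 6802 (.node 6801 (.leaf 52113) (.leaf 108800)) (.node 6803 (.leaf 52129) (.leaf 108832))) (.node 6806 (.node 6805 (.leaf 52146) (.leaf 108801)) (.node 6807 (.leaf 108880) (.leaf 52193)))) (.node 6812 (.node 6810 (.node 6809 (.leaf 108912) (.leaf 52194)) (.node 6811 (.leaf 108944) (.leaf 52225))) (.node 6814 (.node 6813 (.leaf 108976) (.leaf 52226)) (.node 6815 (.leaf 109008) (.leaf 52257)))))) (.node 6832 (.node 6824 (.node 6820 (.node 6818 (.node 6817 (.leaf 52258) (.leaf 109056)) (.node 6819 (.leaf 52289) (.leaf 52290))) (.node 6822 (.node 6821 (.leaf 109104) (.leaf 107169)) (.node 6823 (.leaf 107202) (.leaf 109152))))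 (.node 6828 (.node 6826 (.node 6825 (.leaf 52305) (.leaf 52322)) (.node 6827 (.leaf 109200) (.leaf 109185))) (.node 6830 (.node 6829 (.leaf 109232) (.leaf 52337)) (.node 6831 (.leaf 52370) (.leaf 76001))))) (.node 6840 (.node 6836 (.node 6834 (.node 6833 (.leaf 59362) (.leaf 109312)) (.node 6835 (.leaf 59329) (.leaf 109344))) (.node 6838 (.node 6837 (.leaf 109296) (.leaf 52401)) (.node 6839 (.leaf 52402) (.leaf 52481)))) (.node 6844 (.node 6842 (.node 6841 (.leaf 52498) (.leaf 109425)) (.node 6843 (.leaf 109456) (.leaf 52513))) (.node 6846 (.node 6845 (.leaf 109488) (.leaf 52594)) (.node 6847 (.leaf 52625) (.leaf 52673))))))) (.node 6880 (.node 6864 (.node 6856 (.node 6852 (.node 6850 (.node 6849 (.leaf 52706) (.leaf 109553)) (.node 6851 (.leaf 109584) (.leaf 52738))) (.node 6854 (.node 6853 (.leaf 109265) (.leaf 52754)) (.node 6855 (.leaf 109648) (.leaf 52801)))) (.node 6860 (.node 6858 (.node 6857 (.leaf 52834) (.leaf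 109696)) (.node 6859 (.leaf 52865) (.leaf 109728))) (.node 6862 (.node 6861 (.leaf 52866) (.leaf 109760)) (.node 6863 (.leaf 52881) (.leaf 109792))))) (.node 6872 (.node 6868 (.node 6866 (.node 6865 (.leaf 52897) (.leaf 63906)) (.node 6867 (.leaf 52898) (.leaf 109856))) (.node 6870 (.node 6869 (.leaf 52914) (.leaf 109793)) (.node 6871 (.leaf 109904) (.leaf 52930)))) (.node 6876 (.node 6874 (.node 6873 (.leaf 109936) (.leaf 52961)) (.node 6875 (.leaf 109968) (.leaf 52962))) (.node 6878 (.node 6877 (.leaf 110000) (.leaf 52993)) (.node 6879 (.leaf 53009) (.leaf 53042)))))) (.node 6896 (.node 6888 (.node 6884 (.node 6882 (.node 6881 (.leaf 110064) (.leaf 110049)) (.node 6883 (.leaf 110096) (.leaf 53057))) (.node 6886 (.node 6885 (.leaf 53058) (.leaf 53281)) (.node 6887 (.leaf 53090) (.leaf 110176)))) (.node 6892 (.node 6890 (.node 6889 (.leaf 60817) (.leaf 53105)) (.node 6891 (.leaf 53122) (.leaf 110225))) (.node 6894 (.node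 6893 (.leaf 110256) (.leaf 53169)) (.node 6895 (.leaf 53170) (.leaf 53201))))) (.node 6904 (.node 6900 (.node 6898 (.node 6897 (.leaf 110320) (.leaf 53202)) (.node 6899 (.leaf 53217) (.leaf 53233))) (.node 6902 (.node 6901 (.leaf 110384) (.leaf 53234)) (.node 6903 (.leaf 110416) (.leaf 53250)))) (.node 6908 (.node 6906 (.node 6905 (.leaf 110369) (.leaf 110464)) (.node 6907 (.leaf 53345) (.leaf 110496))) (.node 6910 (.node 6909 (.leaf 53361) (.leaf 110528)) (.node 6911 (.leaf 53377) (.leaf 110560))))))))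

/-- block of `nd` -/
def nd_27 : Tr := .node 7040 (.node 6976 (.node 6944 (.node 6928 (.node 6920 (.node 6916 (.node 6914 (.node 6913 (.leaf 53378) (.leaf 110514)) (.node 6915 (.leaf 53394) (.leaf 110624))) (.node 6918 (.node 6917 (.leaf 110529) (.leaf 110656)) (.node 6919 (.leaf 53409) (.leaf 110433)))) (.node 6924 (.node 6922 (.node 6921 (.leaf 53410) (.leaf 106145)) (.node 6923 (.leaf 106146) (.leaf 53473))) (.node 6926 (.node 6925 (.leaf 109938) (.leaf 110784)) (.node 6927 (.leaf 53489) (.leaf 53490))))) (.node 6936 (.node 6932 (.node 6930 (.node 6929 (.leaf 53521) (.leaf 110848)) (.node 6931 (.leaf 53537) (.leaf 53553))) (.node 6934 (.node 6933 (.leaf 54050) (.leaf 53554)) (.node 6935 (.leaf 110866) (.leaf 53570)))) (.node 6940 (.node 6938 (.node 6937 (.leaf 110881) (.leaf 110976)) (.node 6939 (.leaf 53586) (.leaf 111008))) (.node 6942 (.node 6941 (.leaf 53601) (.leaf 53634)) (.node 6943 (.leaf 111041) (.leaf 111072))))))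 (.node 6960 (.node 6952 (.node 6948 (.node 6946 (.node 6945 (.leaf 53650) (.leaf 111104)) (.node 6947 (.leaf 53665) (.leaf 53682))) (.node 6950 (.node 6949 (.leaf 111137) (.leaf 111168)) (.node 6951 (.leaf 53713) (.leaf 53729)))) (.node 6956 (.node 6954 (.node 6953 (.leaf 111216) (.leaf 53730)) (.node 6955 (.leaf 111248) (.leaf 53746))) (.node 6958 (.node 6957 (.leaf 111280) (.leaf 111201)) (.node 6959 (.leaf 111312) (.leaf 53761))))) (.node 6968 (.node 6964 (.node 6962 (.node 6961 (.leaf 53825) (.leaf 53762)) (.node 6963 (.leaf 111376) (.leaf 53794))) (.node 6966 (.node 6965 (.leaf 58338) (.leaf 53826)) (.node 6967 (.leaf 53873) (.leaf 111456)))) (.node 6972 (.node 6970 (.node 6969 (.leaf 53874) (.leaf 53889)) (.node 6971 (.leaf 111504) (.leaf 53905))) (.node 6974 (.node 6973 (.leaf 111536) (.leaf 53906)) (.node 6975 (.leaf 54018) (.leaf 53922))))))) (.node 7008 (.node 6992 (.node 6984 (.node 6980 (.node 6978 (.node 6977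 (.leaf 111505) (.leaf 111616)) (.node 6979 (.leaf 53938) (.leaf 111648))) (.node 6982 (.node 6981 (.leaf 53969) (.leaf 111265)) (.node 6983 (.leaf 53970) (.leaf 60721)))) (.node 6988 (.node 6986 (.node 6985 (.leaf 60722) (.leaf 111744)) (.node 6987 (.leaf 54065) (.leaf 111776))) (.node 6990 (.node 6989 (.leaf 54081) (.leaf 111808)) (.node 6991 (.leaf 54082) (.leaf 111840))))) (.node 7000 (.node 6996 (.node 6994 (.node 6993 (.leaf 54098) (.leaf 111777)) (.node 6995 (.leaf 111888) (.leaf 54114))) (.node 6998 (.node 6997 (.leaf 111920) (.leaf 54129)) (.node 6999 (.leaf 54145) (.leaf 54162)))) (.node 7004 (.node 7002 (.node 7001 (.leaf 111984) (.leaf 111953)) (.node 7003 (.leaf 112016) (.leaf 111634))) (.node 7006 (.node 7005 (.leaf 54177) (.leaf 111857)) (.node 7007 (.leaf 54178) (.leaf 112096)))))) (.node 7024 (.node 7016 (.node 7012 (.node 7010 (.node 7009 (.leaf 54193) (.leaf 112128)) (.node 7011 (.leaf 54209) (.leaf 66978)))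 (.node 7014 (.node 7013 (.leaf 54210) (.leaf 112192)) (.node 7015 (.leaf 54226) (.leaf 112224)))) (.node 7020 (.node 7018 (.node 7017 (.leaf 112129) (.leaf 112256)) (.node 7019 (.leaf 111329) (.leaf 112288))) (.node 7022 (.node 7021 (.leaf 54242) (.leaf 54257)) (.node 7023 (.leaf 112336) (.leaf 54273))))) (.node 7032 (.node 7028 (.node 7026 (.node 7025 (.leaf 112368) (.leaf 54290)) (.node 7027 (.leaf 112400) (.leaf 112337))) (.node 7030 (.node 7029 (.leaf 112432) (.leaf 54305)) (.node 7031 (.leaf 112209) (.leaf 54306)))) (.node 7036 (.node 7034 (.node 7033 (.leaf 54529) (.leaf 54321)) (.node 7035 (.leaf 54337) (.leaf 111122))) (.node 7038 (.node 7037 (.leaf 54354) (.leaf 112576)) (.node 7039 (.leaf 112529) (.leaf 112608)))))))) (.node 7104 (.node 7072 (.node 7056 (.node 7048 (.node 7044 (.node 7042 (.node 7041 (.leaf 54370) (.leaf 112640)) (.node 7043 (.leaf 54433) (.leaf 112672))) (.node 7046 (.node 7045 (.leaf 54449)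 (.leaf 54465)) (.node 7047 (.leaf 112720) (.leaf 54482)))) (.node 7052 (.node 7050 (.node 7049 (.leaf 54497) (.leaf 112768)) (.node 7051 (.leaf 54498) (.leaf 111825))) (.node 7054 (.node 7053 (.leaf 54513) (.leaf 112832)) (.node 7055 (.leaf 54530) (.leaf 112864))))) (.node 7064 (.node 7060 (.node 7058 (.node 7057 (.leaf 54546) (.leaf 112896)) (.node 7059 (.leaf 112833) (.leaf 112928))) (.node 7062 (.node 7061 (.leaf 54562) (.leaf 112960)) (.node 7063 (.leaf 54577) (.leaf 112992)))) (.node 7068 (.node 7066 (.node 7065 (.leaf 54593) (.leaf 113024)) (.node 7067 (.leaf 54610) (.leaf 113056))) (.node 7070 (.node 7069 (.leaf 112993) (.leaf 54625)) (.node 7071 (.leaf 113104) (.leaf 54626)))))) (.node 7088 (.node 7080 (.node 7076 (.node 7074 (.node 7073 (.leaf 55041) (.leaf 54657)) (.node 7075 (.leaf 54658) (.leaf 113184))) (.node 7078 (.node 7077 (.leaf 54705) (.leaf 54706)) (.node 7079 (.leaf 54737) (.leaf 54753)))) (.node 7084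 (.node 7082 (.node 7081 (.leaf 113264) (.leaf 54769)) (.node 7083 (.leaf 54786) (.leaf 113312))) (.node 7086 (.node 7085 (.leaf 113265) (.leaf 113344)) (.node 7087 (.leaf 54801) (.leaf 113376))))) (.node 7096 (.node 7092 (.node 7090 (.node 7089 (.leaf 54802) (.leaf 113408)) (.node 7091 (.leaf 54833) (.leaf 54834))) (.node 7094 (.node 7093 (.leaf 54849) (.leaf 113472)) (.node 7095 (.leaf 111922) (.leaf 113504)))) (.node 7100 (.node 7098 (.node 7097 (.leaf 54865) (.leaf 113426)) (.node 7099 (.leaf 54866) (.leaf 113568))) (.node 7102 (.node 7101 (.leaf 54897) (.leaf 113201)) (.node 7103 (.leaf 54898) (.leaf 54930))))))) (.node 7136 (.node 7120 (.node 7112 (.node 7108 (.node 7106 (.node 7105 (.leaf 113648) (.leaf 54961)) (.node 7107 (.leaf 113680) (.leaf 54977))) (.node 7110 (.node 7109 (.leaf 54994) (.leaf 113728)) (.node 7111 (.leaf 113681) (.leaf 113760)))) (.node 7116 (.node 7114 (.node 7113 (.leaf 55009) (.leaf 113792))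 (.node 7115 (.leaf 55010) (.leaf 66817))) (.node 7118 (.node 7117 (.leaf 55025) (.leaf 55042)) (.node 7119 (.leaf 113810) (.leaf 55058))))) (.node 7128 (.node 7124 (.node 7122 (.node 7121 (.leaf 113904) (.leaf 113857)) (.node 7123 (.leaf 113936) (.leaf 55074))) (.node 7126 (.node 7125 (.leaf 113968) (.leaf 55090)) (.node 7127 (.leaf 114000) (.leaf 113297)))) (.node 7132 (.node 7130 (.node 7129 (.leaf 114032) (.leaf 55105)) (.node 7131 (.leaf 114064) (.leaf 55106))) (.node 7134 (.node 7133 (.leaf 114096) (.leaf 55121)) (.node 7135 (.leaf 114128) (.leaf 55137)))))) (.node 7152 (.node 7144 (.node 7140 (.node 7138 (.node 7137 (.leaf 114160) (.leaf 55138)) (.node 7139 (.leaf 114082) (.leaf 55154))) (.node 7142 (.node 7141 (.leaf 114129) (.leaf 114240)) (.node 7143 (.leaf 55170) (.leaf 55185)))) (.node 7148 (.node 7146 (.node 7145 (.leaf 55201) (.leaf 114304)) (.node 7147 (.leaf 55202) (.leaf 55218))) (.node 7150 (.node 7149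 (.leaf 114289) (.leaf 114368)) (.node 7151 (.leaf 55249) (.leaf 55265))))) (.node 7160 (.node 7156 (.node 7154 (.node 7153 (.leaf 114401) (.leaf 114432)) (.node 7155 (.leaf 55298) (.leaf 114464))) (.node 7158 (.node 7157 (.leaf 55313) (.leaf 55329)) (.node 7159 (.leaf 55346) (.leaf 114497)))) (.node 7164 (.node 7162 (.node 7161 (.leaf 114544) (.leaf 55361)) (.node 7163 (.leaf 114481) (.leaf 55362))) (.node 7166 (.node 7165 (.leaf 55665) (.leaf 55426)) (.node 7167 (.leaf 114640) (.leaf 112673))))))))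

/-- block of `nd` -/
def nd_28 : Tr := .node 7296 (.node 7232 (.node 7200 (.node 7184 (.node 7176 (.node 7172 (.node 7170 (.node 7169 (.leaf 114672) (.leaf 55473)) (.node 7171 (.leaf 114114) (.leaf 55474))) (.node 7174 (.node 7173 (.leaf 114736) (.leaf 55490)) (.node 7175 (.leaf 55506) (.leaf 114784)))) (.node 7180 (.node 7178 (.node 7177 (.leaf 55521) (.leaf 114816)) (.node 7179 (.leaf 55537) (.leaf 114848))) (.node 7182 (.node 7181 (.leaf 55554) (.leaf 114817)) (.node 7183 (.leaf 114896) (.leaf 55570))))) (.node 7192 (.node 7188 (.node 7186 (.node 7185 (.leaf 114321) (.leaf 55585)) (.node 7187 (.leaf 114960) (.leaf 55601))) (.node 7190 (.node 7189 (.leaf 111666) (.leaf 55618)) (.node 7191 (.leaf 115024) (.leaf 114961)))) (.node 7196 (.node 7194 (.node 7193 (.leaf 115056) (.leaf 114258)) (.node 7195 (.leaf 115088) (.leaf 55633))) (.node 7198 (.node 7197 (.leaf 55697) (.leaf 55634)) (.node 7199 (.leaf 115152) (.leaf 55649))))))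 (.node 7216 (.node 7208 (.node 7204 (.node 7202 (.node 7201 (.leaf 115184) (.leaf 55666)) (.node 7203 (.leaf 55682) (.leaf 115185))) (.node 7206 (.node 7205 (.leaf 55698) (.leaf 55713)) (.node 7207 (.leaf 115280) (.leaf 55729)))) (.node 7212 (.node 7210 (.node 7209 (.leaf 115312) (.leaf 55730)) (.node 7211 (.leaf 56066) (.leaf 55746))) (.node 7214 (.node 7213 (.leaf 115281) (.leaf 115392)) (.node 7215 (.leaf 113777) (.leaf 115424))))) (.node 7224 (.node 7220 (.node 7218 (.node 7217 (.leaf 55761) (.leaf 115456)) (.node 7219 (.leaf 55762) (.leaf 115488))) (.node 7222 (.node 7221 (.leaf 55793) (.leaf 68930)) (.node 7223 (.leaf 55794) (.leaf 115474)))) (.node 7228 (.node 7226 (.node 7225 (.leaf 68929) (.leaf 55825)) (.node 7227 (.leaf 114690) (.leaf 55826))) (.node 7230 (.node 7229 (.leaf 114689) (.leaf 55841)) (.node 7231 (.leaf 115664) (.leaf 55857))))))) (.node 7264 (.node 7248 (.node 7240 (.node 7236 (.node 7234 (.node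 7233 (.leaf 111394) (.leaf 55858)) (.node 7235 (.leaf 76706) (.leaf 55874))) (.node 7238 (.node 7237 (.leaf 115760) (.leaf 115665)) (.node 7239 (.leaf 115792) (.leaf 55890)))) (.node 7244 (.node 7242 (.node 7241 (.leaf 115824) (.leaf 55905)) (.node 7243 (.leaf 115856) (.leaf 55921))) (.node 7246 (.node 7245 (.leaf 115888) (.leaf 55938)) (.node 7247 (.leaf 115857) (.leaf 115936))))) (.node 7256 (.node 7252 (.node 7250 (.node 7249 (.leaf 55953) (.leaf 76609)) (.node 7251 (.leaf 55954) (.leaf 115329))) (.node 7254 (.node 7253 (.leaf 56001) (.leaf 80337)) (.node 7255 (.leaf 56033) (.leaf 56034)))) (.node 7260 (.node 7258 (.node 7257 (.leaf 56065) (.leaf 56081)) (.node 7259 (.leaf 56098) (.leaf 116128))) (.node 7262 (.node 7261 (.leaf 116113) (.leaf 116160)) (.node 7263 (.leaf 57858) (.leaf 116192)))))) (.node 7280 (.node 7272 (.node 7268 (.node 7266 (.node 7265 (.leaf 56161) (.leaf 116224)) (.node 7267 (.leaf 56177) (.leaf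 56194))) (.node 7270 (.node 7269 (.leaf 116257) (.leaf 116288)) (.node 7271 (.leaf 56225) (.leaf 116145)))) (.node 7276 (.node 7274 (.node 7273 (.leaf 56226) (.leaf 116352)) (.node 7275 (.leaf 56257) (.leaf 116384))) (.node 7278 (.node 7277 (.leaf 84018) (.leaf 116416)) (.node 7279 (.leaf 83985) (.leaf 116448))))) (.node 7288 (.node 7284 (.node 7282 (.node 7281 (.leaf 56258) (.leaf 56289)) (.node 7283 (.leaf 116496) (.leaf 56321))) (.node 7286 (.node 7285 (.leaf 56353) (.leaf 116465)) (.node 7287 (.leaf 56402) (.leaf 56433)))) (.node 7292 (.node 7290 (.node 7289 (.leaf 56434) (.leaf 93809)) (.node 7291 (.leaf 93810) (.leaf 116640))) (.node 7294 (.node 7293 (.leaf 56466) (.leaf 56497)) (.node 7295 (.leaf 58050) (.leaf 56529)))))))) (.node 7360 (.node 7328 (.node 7312 (.node 7304 (.node 7300 (.node 7298 (.node 7297 (.leaf 56530) (.leaf 56545)) (.node 7299 (.leaf 116752) (.leaf 114450))) (.node 7302 (.node 7301 (.leaf 56577)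 (.leaf 116800)) (.node 7303 (.leaf 56594) (.leaf 116832)))) (.node 7308 (.node 7306 (.node 7305 (.leaf 93185) (.leaf 93202)) (.node 7307 (.leaf 116801) (.leaf 116896))) (.node 7310 (.node 7309 (.leaf 56609) (.leaf 112881)) (.node 7311 (.leaf 56610) (.leaf 56641))))) (.node 7320 (.node 7316 (.node 7314 (.node 7313 (.leaf 116976) (.leaf 116578)) (.node 7315 (.leaf 117008) (.leaf 56657))) (.node 7318 (.node 7317 (.leaf 56658) (.leaf 117056)) (.node 7319 (.leaf 56705) (.leaf 117088)))) (.node 7324 (.node 7322 (.node 7321 (.leaf 56706) (.leaf 117120)) (.node 7323 (.leaf 56721) (.leaf 117152))) (.node 7326 (.node 7325 (.leaf 56737) (.leaf 56738)) (.node 7327 (.leaf 79842) (.leaf 56754)))))) (.node 7344 (.node 7336 (.node 7332 (.node 7330 (.node 7329 (.leaf 117153) (.leaf 117248)) (.node 7331 (.leaf 56769) (.leaf 56833))) (.node 7334 (.node 7333 (.leaf 56801) (.leaf 56818)) (.node 7335 (.leaf 117328) (.leaf 117313)))) (.node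 7340 (.node 7338 (.node 7337 (.leaf 117360) (.leaf 56866)) (.node 7339 (.leaf 117392) (.leaf 56897))) (.node 7342 (.node 7341 (.leaf 117424) (.leaf 116962)) (.node 7343 (.leaf 117456) (.leaf 116929))))) (.node 7352 (.node 7348 (.node 7346 (.node 7345 (.leaf 56929) (.leaf 56930)) (.node 7347 (.leaf 117520) (.leaf 56945))) (.node 7350 (.node 7349 (.leaf 56961) (.leaf 56962)) (.node 7351 (.leaf 57154) (.leaf 56978)))) (.node 7356 (.node 7354 (.node 7353 (.leaf 117553) (.leaf 117632)) (.node 7355 (.leaf 56993) (.leaf 117664))) (.node 7358 (.node 7357 (.leaf 56994) (.leaf 57026)) (.node 7359 (.leaf 117682) (.leaf 57057))))))) (.node 7392 (.node 7376 (.node 7368 (.node 7364 (.node 7362 (.node 7361 (.leaf 117744) (.leaf 57058)) (.node 7363 (.leaf 117776) (.leaf 57073))) (.node 7366 (.node 7365 (.leaf 117808) (.leaf 57330)) (.node 7367 (.leaf 57137) (.leaf 57153)))) (.node 7372 (.node 7370 (.node 7369 (.leaf 117872) (.leaf 57169))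 (.node 7371 (.leaf 117904) (.leaf 57186))) (.node 7374 (.node 7373 (.leaf 117905) (.leaf 117952)) (.node 7375 (.leaf 68577) (.leaf 57201))))) (.node 7384 (.node 7380 (.node 7378 (.node 7377 (.leaf 57217) (.leaf 118016)) (.node 7379 (.leaf 57234) (.leaf 118001))) (.node 7382 (.node 7381 (.leaf 118064) (.leaf 68770)) (.node 7383 (.leaf 57249) (.leaf 69201)))) (.node 7388 (.node 7386 (.node 7385 (.leaf 57265) (.leaf 57298)) (.node 7387 (.leaf 118160) (.leaf 118145))) (.node 7390 (.node 7389 (.leaf 118192) (.leaf 57314)) (.node 7391 (.leaf 57345) (.leaf 118240)))))) (.node 7408 (.node 7400 (.node 7396 (.node 7394 (.node 7393 (.leaf 57393) (.leaf 114753)) (.node 7395 (.leaf 57394) (.leaf 118304))) (.node 7398 (.node 7397 (.leaf 57410) (.leaf 57682)) (.node 7399 (.leaf 57458) (.leaf 118368)))) (.node 7404 (.node 7402 (.node 7401 (.leaf 57473) (.leaf 118400)) (.node 7403 (.leaf 57474) (.leaf 118432))) (.node 7406 (.node 7405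 (.leaf 57489) (.leaf 118464)) (.node 7407 (.leaf 116738) (.leaf 116721))))) (.node 7416 (.node 7412 (.node 7410 (.node 7409 (.leaf 57505) (.leaf 118528)) (.node 7411 (.leaf 57506) (.leaf 118418))) (.node 7414 (.node 7413 (.leaf 57522) (.leaf 118592)) (.node 7415 (.leaf 118465) (.leaf 118624)))) (.node 7420 (.node 7418 (.node 7417 (.leaf 57553) (.leaf 118656)) (.node 7419 (.leaf 57554) (.leaf 118688))) (.node 7422 (.node 7421 (.leaf 57586) (.leaf 118720)) (.node 7423 (.leaf 57617) (.leaf 57649))))))))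

/-- block of `nd` -/
def nd_29 : Tr := .node 7552 (.node 7488 (.node 7456 (.node 7440 (.node 7432 (.node 7428 (.node 7426 (.node 7425 (.leaf 57665) (.leaf 118784)) (.node 7427 (.leaf 57698) (.leaf 118785))) (.node 7430 (.node 7429 (.leaf 118832) (.leaf 57729)) (.node 7431 (.leaf 110642) (.leaf 118880)))) (.node 7436 (.node 7434 (.node 7433 (.leaf 118864) (.leaf 57730)) (.node 7435 (.leaf 110641) (.leaf 57761))) (.node 7438 (.node 7437 (.leaf 118960) (.leaf 57762)) (.node 7439 (.leaf 118992) (.leaf 57794))))) (.node 7448 (.node 7444 (.node 7442 (.node 7441 (.leaf 119024) (.leaf 57825)) (.node 7443 (.leaf 119056) (.leaf 57826))) (.node 7446 (.node 7445 (.leaf 57857) (.leaf 57873)) (.node 7447 (.leaf 119120) (.leaf 57889)))) (.node 7452 (.node 7450 (.node 7449 (.leaf 57906) (.leaf 119168)) (.node 7451 (.leaf 119121) (.leaf 119200))) (.node 7454 (.node 7453 (.leaf 57921) (.leaf 119232)) (.node 7455 (.leaf 57922) (.leaf 58305))))))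 (.node 7472 (.node 7464 (.node 7460 (.node 7458 (.node 7457 (.leaf 57953) (.leaf 118610)) (.node 7459 (.leaf 119312) (.leaf 57954))) (.node 7462 (.node 7461 (.leaf 118609) (.leaf 57969)) (.node 7463 (.leaf 119376) (.leaf 57985)))) (.node 7468 (.node 7466 (.node 7465 (.leaf 109714) (.leaf 57986)) (.node 7467 (.leaf 119440) (.leaf 58002))) (.node 7470 (.node 7469 (.leaf 119472) (.leaf 119377)) (.node 7471 (.leaf 119504) (.leaf 58018))))) (.node 7480 (.node 7476 (.node 7474 (.node 7473 (.leaf 58097) (.leaf 119552)) (.node 7475 (.leaf 58162) (.leaf 119584))) (.node 7478 (.node 7477 (.leaf 58178) (.leaf 118977)) (.node 7479 (.leaf 58193) (.leaf 119648)))) (.node 7484 (.node 7482 (.node 7481 (.leaf 58209) (.leaf 119680)) (.node 7483 (.leaf 58210) (.leaf 119712))) (.node 7486 (.node 7485 (.leaf 58226) (.leaf 119649)) (.node 7487 (.leaf 58273) (.leaf 58274))))))) (.node 7520 (.node 7504 (.node 7496 (.node 7492 (.node 7490 (.node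 7489 (.leaf 58321) (.leaf 58337)) (.node 7491 (.leaf 119824) (.leaf 58354))) (.node 7494 (.node 7493 (.leaf 119809) (.leaf 58369)) (.node 7495 (.leaf 119888) (.leaf 58370)))) (.node 7500 (.node 7498 (.node 7497 (.leaf 58385) (.leaf 119936)) (.node 7499 (.leaf 58401) (.leaf 58402))) (.node 7502 (.node 7501 (.leaf 119906) (.leaf 58418)) (.node 7503 (.leaf 120016) (.leaf 109729))))) (.node 7512 (.node 7508 (.node 7506 (.node 7505 (.leaf 120048) (.leaf 109762)) (.node 7507 (.leaf 120080) (.leaf 119937))) (.node 7510 (.node 7509 (.leaf 58433) (.leaf 119729)) (.node 7511 (.leaf 58434) (.leaf 116241)))) (.node 7516 (.node 7514 (.node 7513 (.leaf 116242) (.leaf 58481)) (.node 7515 (.leaf 120208) (.leaf 119026))) (.node 7518 (.node 7517 (.leaf 120240) (.leaf 58497)) (.node 7519 (.leaf 120272) (.leaf 58498)))))) (.node 7536 (.node 7528 (.node 7524 (.node 7522 (.node 7521 (.leaf 58513) (.leaf 58530)) (.node 7523 (.leaf 81138) (.leaf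 58546))) (.node 7526 (.node 7525 (.leaf 120321) (.leaf 120384)) (.node 7527 (.leaf 61170) (.leaf 58577)))) (.node 7532 (.node 7530 (.node 7529 (.leaf 120432) (.leaf 58594)) (.node 7531 (.leaf 58610) (.leaf 120433))) (.node 7534 (.node 7533 (.leaf 120496) (.leaf 58657)) (.node 7535 (.leaf 120528) (.leaf 58689))))) (.node 7544 (.node 7540 (.node 7538 (.node 7537 (.leaf 120560) (.leaf 58690)) (.node 7539 (.leaf 120592) (.leaf 58705))) (.node 7542 (.node 7541 (.leaf 58722) (.leaf 58898)) (.node 7543 (.leaf 58738) (.leaf 120625)))) (.node 7548 (.node 7546 (.node 7545 (.leaf 120688) (.leaf 60625)) (.node 7547 (.leaf 58754) (.leaf 120736))) (.node 7550 (.node 7549 (.leaf 58801) (.leaf 75953)) (.node 7551 (.leaf 58802) (.leaf 120800)))))))) (.node 7616 (.node 7584 (.node 7568 (.node 7560 (.node 7556 (.node 7554 (.node 7553 (.leaf 58833) (.leaf 58834)) (.node 7555 (.leaf 58865) (.leaf 58866))) (.node 7558 (.node 7557 (.leaf 120880)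 (.leaf 58881)) (.node 7559 (.leaf 58897) (.leaf 120928)))) (.node 7564 (.node 7562 (.node 7561 (.leaf 58914) (.leaf 120913)) (.node 7563 (.leaf 120976) (.leaf 58961))) (.node 7566 (.node 7565 (.leaf 121008) (.leaf 58962)) (.node 7567 (.leaf 121040) (.leaf 58977))))) (.node 7576 (.node 7572 (.node 7570 (.node 7569 (.leaf 58993) (.leaf 59506)) (.node 7571 (.leaf 58994) (.leaf 121120))) (.node 7574 (.node 7573 (.leaf 121073) (.leaf 121152)) (.node 7575 (.leaf 59041) (.leaf 121184)))) (.node 7580 (.node 7578 (.node 7577 (.leaf 59042) (.leaf 59073)) (.node 7579 (.leaf 59074) (.leaf 59170))) (.node 7582 (.node 7581 (.leaf 121264) (.leaf 59185)) (.node 7583 (.leaf 121296) (.leaf 59201)))))) (.node 7600 (.node 7592 (.node 7588 (.node 7586 (.node 7585 (.leaf 121328) (.leaf 59217)) (.node 7587 (.leaf 121360) (.leaf 121329))) (.node 7590 (.node 7589 (.leaf 121392) (.leaf 67346)) (.node 7591 (.leaf 121424) (.leaf 71122)))) (.node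 7596 (.node 7594 (.node 7593 (.leaf 59250) (.leaf 121472)) (.node 7595 (.leaf 59265) (.leaf 121504))) (.node 7598 (.node 7597 (.leaf 59282) (.leaf 59474)) (.node 7599 (.leaf 59298) (.leaf 121505))))) (.node 7608 (.node 7604 (.node 7602 (.node 7601 (.leaf 121584) (.leaf 59313)) (.node 7603 (.leaf 121616) (.leaf 59314))) (.node 7606 (.node 7605 (.leaf 59345) (.leaf 121664)) (.node 7607 (.leaf 59346) (.leaf 121634)))) (.node 7612 (.node 7610 (.node 7609 (.leaf 59377) (.leaf 59378)) (.node 7611 (.leaf 59409) (.leaf 59410))) (.node 7614 (.node 7613 (.leaf 121776) (.leaf 59490)) (.node 7615 (.leaf 59505) (.leaf 59554))))))) (.node 7648 (.node 7632 (.node 7624 (.node 7620 (.node 7618 (.node 7617 (.leaf 121840) (.leaf 59617)) (.node 7619 (.leaf 59618) (.leaf 61841))) (.node 7622 (.node 7621 (.leaf 61842) (.leaf 121920)) (.node 7623 (.leaf 61745) (.leaf 59649)))) (.node 7628 (.node 7626 (.node 7625 (.leaf 60402) (.leaf 77490))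 (.node 7627 (.leaf 77489) (.leaf 122016))) (.node 7630 (.node 7629 (.leaf 78082) (.leaf 122048)) (.node 7631 (.leaf 108450) (.leaf 122080))))) (.node 7640 (.node 7636 (.node 7634 (.node 7633 (.leaf 59650) (.leaf 60401)) (.node 7635 (.leaf 122128) (.leaf 59681))) (.node 7638 (.node 7637 (.leaf 122160) (.leaf 59713)) (.node 7639 (.leaf 122192) (.leaf 59745)))) (.node 7644 (.node 7642 (.node 7641 (.leaf 59746) (.leaf 59777)) (.node 7643 (.leaf 59793) (.leaf 59809))) (.node 7646 (.node 7645 (.leaf 122288) (.leaf 59825)) (.node 7647 (.leaf 59842) (.leaf 112721)))))) (.node 7664 (.node 7656 (.node 7652 (.node 7650 (.node 7649 (.leaf 122352) (.leaf 59857)) (.node 7651 (.leaf 59953) (.leaf 59858))) (.node 7654 (.node 7653 (.leaf 59890) (.leaf 122432)) (.node 7655 (.leaf 59905) (.leaf 59922)))) (.node 7660 (.node 7658 (.node 7657 (.leaf 122480) (.leaf 59938)) (.node 7659 (.leaf 122512) (.leaf 122465))) (.node 7662 (.node 7661 (.leaf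 122544) (.leaf 59954)) (.node 7663 (.leaf 122576) (.leaf 59985))))) (.node 7672 (.node 7668 (.node 7666 (.node 7665 (.leaf 122608) (.leaf 60017)) (.node 7667 (.leaf 122640) (.leaf 67698))) (.node 7670 (.node 7669 (.leaf 67681) (.leaf 60018)) (.node 7671 (.leaf 122704) (.leaf 60049)))) (.node 7676 (.node 7674 (.node 7673 (.leaf 60065) (.leaf 122752)) (.node 7675 (.leaf 60066) (.leaf 60242))) (.node 7678 (.node 7677 (.leaf 60082) (.leaf 122737)) (.node 7679 (.leaf 122832) (.leaf 60129))))))))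

/-- block of `nd` -/
def nd_30 : Tr := .node 7808 (.node 7744 (.node 7712 (.node 7696 (.node 7688 (.node 7684 (.node 7682 (.node 7681 (.leaf 122864) (.leaf 60450)) (.node 7683 (.leaf 60145) (.leaf 119329))) (.node 7686 (.node 7685 (.leaf 60177) (.leaf 60178)) (.node 7687 (.leaf 60210) (.leaf 122976)))) (.node 7692 (.node 7690 (.node 7689 (.leaf 121665) (.leaf 123008)) (.node 7691 (.leaf 121698) (.leaf 60273))) (.node 7694 (.node 7693 (.leaf 123056) (.leaf 60305)) (.node 7695 (.leaf 68866) (.leaf 60306))))) (.node 7704 (.node 7700 (.node 7698 (.node 7697 (.leaf 68865) (.leaf 123120)) (.node 7699 (.leaf 60321) (.leaf 60354))) (.node 7702 (.node 7701 (.leaf 123184) (.leaf 123169)) (.node 7703 (.leaf 123216) (.leaf 60434)))) (.node 7708 (.node 7706 (.node 7705 (.leaf 60466) (.leaf 123264)) (.node 7707 (.leaf 60497) (.leaf 123296))) (.node 7710 (.node 7709 (.leaf 60498) (.leaf 123328)) (.node 7711 (.leaf 60513) (.leaf 60530))))))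 (.node 7728 (.node 7720 (.node 7716 (.node 7714 (.node 7713 (.leaf 123376) (.leaf 60546)) (.node 7715 (.leaf 123408) (.leaf 123361))) (.node 7718 (.node 7717 (.leaf 123440) (.leaf 60562)) (.node 7719 (.leaf 123472) (.leaf 60593)))) (.node 7724 (.node 7722 (.node 7721 (.leaf 123504) (.leaf 60594)) (.node 7723 (.leaf 123536) (.leaf 60626))) (.node 7726 (.node 7725 (.leaf 60641) (.leaf 123584)) (.node 7727 (.leaf 60657) (.leaf 123616))))) (.node 7736 (.node 7732 (.node 7730 (.node 7729 (.leaf 60674) (.leaf 123585)) (.node 7731 (.leaf 60689) (.leaf 123680))) (.node 7734 (.node 7733 (.leaf 60690) (.leaf 60705)) (.node 7735 (.leaf 123728) (.leaf 89426)))) (.node 7740 (.node 7738 (.node 7737 (.leaf 114657) (.leaf 123776)) (.node 7739 (.leaf 69522) (.leaf 60738))) (.node 7742 (.node 7741 (.leaf 123729) (.leaf 60785)) (.node 7743 (.leaf 123856) (.leaf 60786))))))) (.node 7776 (.node 7760 (.node 7752 (.node 7748 (.node 7746 (.node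 7745 (.leaf 123888) (.leaf 61746)) (.node 7747 (.leaf 123920) (.leaf 60849))) (.node 7750 (.node 7749 (.leaf 120898) (.leaf 123952)) (.node 7751 (.leaf 60881) (.leaf 111761)))) (.node 7756 (.node 7754 (.node 7753 (.leaf 123057) (.leaf 124032)) (.node 7755 (.leaf 60977) (.leaf 60978))) (.node 7758 (.node 7757 (.leaf 61009) (.leaf 61010)) (.node 7759 (.leaf 124112) (.leaf 61026))))) (.node 7768 (.node 7764 (.node 7762 (.node 7761 (.leaf 124144) (.leaf 123617)) (.node 7763 (.leaf 124176) (.leaf 61041))) (.node 7766 (.node 7765 (.leaf 61042) (.leaf 61073)) (.node 7767 (.leaf 61089) (.leaf 61314)))) (.node 7772 (.node 7770 (.node 7769 (.leaf 61090) (.leaf 61106)) (.node 7771 (.leaf 124241) (.leaf 124320))) (.node 7774 (.node 7773 (.leaf 61169) (.leaf 61201)) (.node 7775 (.leaf 61810) (.leaf 61202)))))) (.node 7792 (.node 7784 (.node 7780 (.node 7778 (.node 7777 (.leaf 61809) (.leaf 124416)) (.node 7779 (.leaf 61217) (.leaf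 124449))) (.node 7782 (.node 7781 (.leaf 124464) (.leaf 61281)) (.node 7783 (.leaf 61329) (.leaf 123474)))) (.node 7788 (.node 7786 (.node 7785 (.leaf 124528) (.leaf 61345)) (.node 7787 (.leaf 61346) (.leaf 118258))) (.node 7790 (.node 7789 (.leaf 61409) (.leaf 61441)) (.node 7791 (.leaf 61442) (.leaf 120545))))) (.node 7800 (.node 7796 (.node 7794 (.node 7793 (.leaf 120546) (.leaf 61457)) (.node 7795 (.leaf 124688) (.leaf 61474))) (.node 7798 (.node 7797 (.leaf 124720) (.leaf 61490)) (.node 7799 (.leaf 73009) (.leaf 61505)))) (.node 7804 (.node 7802 (.node 7801 (.leaf 124482) (.leaf 118769)) (.node 7803 (.leaf 124816) (.leaf 61522))) (.node 7806 (.node 7805 (.leaf 124785) (.leaf 124864)) (.node 7807 (.leaf 67137) (.leaf 118850)))))))) (.node 7872 (.node 7840 (.node 7824 (.node 7816 (.node 7812 (.node 7810 (.node 7809 (.leaf 124912) (.leaf 61569)) (.node 7811 (.leaf 122370) (.leaf 61601))) (.node 7814 (.node 7813 (.leaf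 61617) (.leaf 61634)) (.node 7815 (.leaf 124977) (.leaf 125024)))) (.node 7820 (.node 7818 (.node 7817 (.leaf 62610) (.leaf 110994)) (.node 7819 (.leaf 61682) (.leaf 121617))) (.node 7822 (.node 7821 (.leaf 124993) (.leaf 61713)) (.node 7823 (.leaf 61954) (.leaf 61730))))) (.node 7832 (.node 7828 (.node 7826 (.node 7825 (.leaf 125137) (.leaf 125184)) (.node 7827 (.leaf 111089) (.leaf 61858))) (.node 7830 (.node 7829 (.leaf 125232) (.leaf 62081)) (.node 7831 (.leaf 61889) (.leaf 61890)))) (.node 7836 (.node 7834 (.node 7833 (.leaf 61922) (.leaf 61937)) (.node 7835 (.leaf 125328) (.leaf 61953))) (.node 7838 (.node 7837 (.leaf 61970) (.leaf 125329)) (.node 7839 (.leaf 125392) (.leaf 62001)))))) (.node 7856 (.node 7848 (.node 7844 (.node 7842 (.node 7841 (.leaf 114658) (.leaf 62113)) (.node 7843 (.leaf 62129) (.leaf 62130))) (.node 7846 (.node 7845 (.leaf 125488) (.leaf 62161)) (.node 7847 (.leaf 125520) (.leaf 62193)))) (.node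 7852 (.node 7850 (.node 7849 (.leaf 125552) (.leaf 62225)) (.node 7851 (.leaf 125584) (.leaf 62226))) (.node 7854 (.node 7853 (.leaf 125616) (.leaf 62241)) (.node 7855 (.leaf 62257) (.leaf 62706))))) (.node 7864 (.node 7860 (.node 7858 (.node 7857 (.leaf 62258) (.leaf 125696)) (.node 7859 (.leaf 62274) (.leaf 125728))) (.node 7862 (.node 7861 (.leaf 125649) (.leaf 62290)) (.node 7863 (.leaf 125776) (.leaf 62321)))) (.node 7868 (.node 7866 (.node 7865 (.leaf 125808) (.leaf 62322)) (.node 7867 (.leaf 125840) (.leaf 62385))) (.node 7870 (.node 7869 (.leaf 125872) (.leaf 62417)) (.node 7871 (.leaf 125904) (.leaf 62418))))))) (.node 7904 (.node 7888 (.node 7880 (.node 7876 (.node 7874 (.node 7873 (.leaf 108849) (.leaf 62433)) (.node 7875 (.leaf 125968) (.leaf 124290))) (.node 7878 (.node 7877 (.leaf 124257) (.leaf 62466)) (.node 7879 (.leaf 125873) (.leaf 126048)))) (.node 7884 (.node 7882 (.node 7881 (.leaf 62481) (.leaf 126080))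 (.node 7883 (.leaf 62482) (.leaf 62497))) (.node 7886 (.node 7885 (.leaf 62513) (.leaf 62514)) (.node 7887 (.leaf 62674) (.leaf 62530))))) (.node 7896 (.node 7892 (.node 7890 (.node 7889 (.leaf 126192) (.leaf 126129)) (.node 7891 (.leaf 62577) (.leaf 62578))) (.node 7894 (.node 7893 (.leaf 62609) (.leaf 124338)) (.node 7895 (.leaf 62641) (.leaf 62642)))) (.node 7900 (.node 7898 (.node 7897 (.leaf 62657) (.leaf 126336)) (.node 7899 (.leaf 62673) (.leaf 62690))) (.node 7902 (.node 7901 (.leaf 126337) (.leaf 126400)) (.node 7903 (.leaf 62737) (.leaf 62753)))))) (.node 7920 (.node 7912 (.node 7908 (.node 7906 (.node 7905 (.leaf 126448) (.leaf 62770)) (.node 7907 (.leaf 126480) (.leaf 126433))) (.node 7910 (.node 7909 (.leaf 126512) (.leaf 62817)) (.node 7911 (.leaf 62818) (.leaf 62849)))) (.node 7916 (.node 7914 (.node 7913 (.leaf 126576) (.leaf 121602)) (.node 7915 (.leaf 67266) (.leaf 126624))) (.node 7918 (.node 7917 (.leaf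 62881) (.leaf 62882)) (.node 7919 (.leaf 62897) (.leaf 126688))))) (.node 7928 (.node 7924 (.node 7922 (.node 7921 (.leaf 62913) (.leaf 62930)) (.node 7923 (.leaf 126689) (.leaf 62945))) (.node 7926 (.node 7925 (.leaf 62946) (.leaf 63105)) (.node 7927 (.leaf 62961) (.leaf 62977)))) (.node 7932 (.node 7930 (.node 7929 (.leaf 126832) (.leaf 62994)) (.node 7931 (.leaf 126817) (.leaf 126880))) (.node 7934 (.node 7933 (.leaf 63009) (.leaf 63010)) (.node 7935 (.leaf 126465) (.leaf 63025))))))))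

/-- block of `nd` -/
def nd_31 : Tr := .node 8064 (.node 8000 (.node 7968 (.node 7952 (.node 7944 (.node 7940 (.node 7938 (.node 7937 (.leaf 63041) (.leaf 64930)) (.node 7939 (.leaf 63042) (.leaf 67938))) (.node 7942 (.node 7941 (.leaf 63058) (.leaf 127040)) (.node 7943 (.leaf 126961) (.leaf 127072)))) (.node 7948 (.node 7946 (.node 7945 (.leaf 63073) (.leaf 63137)) (.node 7947 (.leaf 63074) (.leaf 127136))) (.node 7950 (.node 7949 (.leaf 63089) (.leaf 63106)) (.node 7951 (.leaf 127184) (.leaf 63122))))) (.node 7960 (.node 7956 (.node 7954 (.node 7953 (.leaf 63138) (.leaf 127232)) (.node 7955 (.leaf 63170) (.leaf 63185))) (.node 7958 (.node 7957 (.leaf 127280) (.leaf 63186)) (.node 7959 (.leaf 63201) (.leaf 127328)))) (.node 7964 (.node 7962 (.node 7961 (.leaf 63217) (.leaf 127360)) (.node 7963 (.leaf 63218) (.leaf 127298))) (.node 7966 (.node 7965 (.leaf 63234) (.leaf 127424)) (.node 7967 (.leaf 127329) (.leaf 127456))))))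 (.node 7984 (.node 7976 (.node 7972 (.node 7970 (.node 7969 (.leaf 63377) (.leaf 63394)) (.node 7971 (.leaf 63410) (.leaf 127489))) (.node 7974 (.node 7973 (.leaf 127536) (.leaf 63458)) (.node 7975 (.leaf 91313) (.leaf 63474)))) (.node 7980 (.node 7978 (.node 7977 (.leaf 64193) (.leaf 127616)) (.node 7979 (.leaf 63490) (.leaf 63537))) (.node 7982 (.node 7981 (.leaf 86465) (.leaf 63538)) (.node 7983 (.leaf 127696) (.leaf 63554))))) (.node 7992 (.node 7988 (.node 7986 (.node 7985 (.leaf 63714) (.leaf 63601)) (.node 7987 (.leaf 63602) (.leaf 127776))) (.node 7990 (.node 7989 (.leaf 63617) (.leaf 63618)) (.node 7991 (.leaf 127824) (.leaf 63650)))) (.node 7996 (.node 7994 (.node 7993 (.leaf 127856) (.leaf 65745)) (.node 7995 (.leaf 127888) (.leaf 63681))) (.node 7998 (.node 7997 (.leaf 63682) (.leaf 63697)) (.node 7999 (.leaf 63713) (.leaf 63730))))))) (.node 8032 (.node 8016 (.node 8008 (.node 8004 (.node 8002 (.node 8001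 (.leaf 127953) (.leaf 128000)) (.node 8003 (.leaf 63809) (.leaf 63969))) (.node 8006 (.node 8005 (.leaf 63857) (.leaf 128064)) (.node 8007 (.leaf 63873) (.leaf 63874)))) (.node 8012 (.node 8010 (.node 8009 (.leaf 69298) (.leaf 63890)) (.node 8011 (.leaf 128065) (.leaf 63905))) (.node 8014 (.node 8013 (.leaf 128176) (.leaf 63921)) (.node 8015 (.leaf 63938) (.leaf 128194))))) (.node 8024 (.node 8020 (.node 8018 (.node 8017 (.leaf 63954) (.leaf 128209)) (.node 8019 (.leaf 128272) (.leaf 123073))) (.node 8022 (.node 8021 (.leaf 64001) (.leaf 64002)) (.node 8023 (.leaf 64017) (.leaf 109522)))) (.node 8028 (.node 8026 (.node 8025 (.leaf 128368) (.leaf 64033)) (.node 8027 (.leaf 64034) (.leaf 64066))) (.node 8030 (.node 8029 (.leaf 64290) (.leaf 64097)) (.node 8031 (.leaf 128464) (.leaf 64098)))))) (.node 8048 (.node 8040 (.node 8036 (.node 8034 (.node 8033 (.leaf 64113) (.leaf 128512)) (.node 8035 (.leaf 84914) (.leaf 128544)))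 (.node 8038 (.node 8037 (.leaf 64129) (.leaf 128576)) (.node 8039 (.leaf 64130) (.leaf 128482)))) (.node 8044 (.node 8042 (.node 8041 (.leaf 64161) (.leaf 64162)) (.node 8043 (.leaf 128656) (.leaf 64225))) (.node 8046 (.node 8045 (.leaf 128688) (.leaf 64257)) (.node 8047 (.leaf 64321) (.leaf 128736))))) (.node 8056 (.node 8052 (.node 8050 (.node 8049 (.leaf 64353) (.leaf 128768)) (.node 8051 (.leaf 64354) (.leaf 64369))) (.node 8054 (.node 8053 (.leaf 64385) (.leaf 64770)) (.node 8055 (.leaf 64386) (.leaf 64402)))) (.node 8060 (.node 8058 (.node 8057 (.leaf 128817) (.leaf 64418)) (.node 8059 (.leaf 64466) (.leaf 128928))) (.node 8062 (.node 8061 (.leaf 64498) (.leaf 128960)) (.node 8063 (.leaf 64513) (.leaf 64529)))))))) (.node 8128 (.node 8096 (.node 8080 (.node 8072 (.node 8068 (.node 8066 (.node 8065 (.leaf 64530) (.leaf 64738)) (.node 8067 (.leaf 64546) (.leaf 129056))) (.node 8070 (.node 8069 (.leaf 128993) (.leaf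 64561)) (.node 8071 (.leaf 129104) (.leaf 64562)))) (.node 8076 (.node 8074 (.node 8073 (.leaf 64577) (.leaf 64593)) (.node 8075 (.leaf 89170) (.leaf 64594))) (.node 8078 (.node 8077 (.leaf 129122) (.leaf 89169)) (.node 8079 (.leaf 64610) (.leaf 129153))))) (.node 8088 (.node 8084 (.node 8082 (.node 8081 (.leaf 64641) (.leaf 129280)) (.node 8083 (.leaf 90658) (.leaf 129312))) (.node 8086 (.node 8085 (.leaf 64673) (.leaf 64674)) (.node 8087 (.leaf 129360) (.leaf 64705)))) (.node 8092 (.node 8090 (.node 8089 (.leaf 64706) (.leaf 64721)) (.node 8091 (.leaf 129424) (.leaf 64737))) (.node 8094 (.node 8093 (.leaf 129456) (.leaf 64754)) (.node 8095 (.leaf 129425) (.leaf 64769)))))) (.node 8112 (.node 8104 (.node 8100 (.node 8098 (.node 8097 (.leaf 129520) (.leaf 64817)) (.node 8099 (.leaf 129552) (.leaf 64865))) (.node 8102 (.node 8101 (.leaf 64881) (.leaf 129600)) (.node 8103 (.leaf 64897) (.leaf 129632)))) (.node 8108 (.node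 8106 (.node 8105 (.leaf 64914) (.leaf 129601)) (.node 8107 (.leaf 64929) (.leaf 129696))) (.node 8110 (.node 8109 (.leaf 65009) (.leaf 129728)) (.node 8111 (.leaf 65010) (.leaf 65041))))) (.node 8120 (.node 8116 (.node 8114 (.node 8113 (.leaf 128978) (.leaf 65042)) (.node 8115 (.leaf 129746) (.leaf 65074))) (.node 8118 (.node 8117 (.leaf 129840) (.leaf 65105)) (.node 8119 (.leaf 128530) (.leaf 65106)))) (.node 8124 (.node 8122 (.node 8121 (.leaf 128529) (.leaf 65137)) (.node 8123 (.leaf 65138) (.leaf 65153))) (.node 8126 (.node 8125 (.leaf 65186) (.leaf 129969)) (.node 8127 (.leaf 130000) (.leaf 65202))))))) (.node 8160 (.node 8144 (.node 8136 (.node 8132 (.node 8130 (.node 8129 (.leaf 129569) (.leaf 65217)) (.node 8131 (.leaf 130064) (.leaf 65234))) (.node 8134 (.node 8133 (.leaf 130096) (.leaf 130065)) (.node 8135 (.leaf 65249) (.leaf 130144)))) (.node 8140 (.node 8138 (.node 8137 (.leaf 65265) (.leaf 130176)) (.node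 8139 (.leaf 65281) (.leaf 130208))) (.node 8142 (.node 8141 (.leaf 65282) (.leaf 130162)) (.node 8143 (.leaf 65298) (.leaf 130272))))) (.node 8152 (.node 8148 (.node 8146 (.node 8145 (.leaf 130177) (.leaf 65313)) (.node 8147 (.leaf 127201) (.leaf 65314))) (.node 8150 (.node 8149 (.leaf 88497) (.leaf 88498)) (.node 8151 (.leaf 130368) (.leaf 65329)))) (.node 8156 (.node 8154 (.node 8153 (.leaf 130416) (.leaf 127506)) (.node 8155 (.leaf 65361) (.leaf 65362))) (.node 8158 (.node 8157 (.leaf 130480) (.leaf 65441)) (.node 8159 (.leaf 130512) (.leaf 65442)))))) (.node 8176 (.node 8168 (.node 8164 (.node 8162 (.node 8161 (.leaf 130544) (.leaf 65489)) (.node 8163 (.leaf 65522) (.leaf 130577))) (.node 8166 (.node 8165 (.leaf 65537) (.leaf 130624)) (.node 8167 (.leaf 65538) (.leaf 130656)))) (.node 8172 (.node 8170 (.node 8169 (.leaf 65553) (.leaf 104194)) (.node 8171 (.leaf 130704) (.leaf 71297))) (.node 8174 (.node 8173 (.leaf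 130721) (.leaf 65570)) (.node 8175 (.leaf 85841) (.leaf 130784))))) (.node 8184 (.node 8180 (.node 8178 (.node 8177 (.leaf 65666) (.leaf 130802)) (.node 8179 (.leaf 130832) (.leaf 65761))) (.node 8182 (.node 8181 (.leaf 65777) (.leaf 130865)) (.node 8183 (.leaf 130896) (.leaf 65810)))) (.node 8188 (.node 8186 (.node 8185 (.leaf 66001) (.leaf 65825)) (.node 8187 (.leaf 130960) (.leaf 65841))) (.node 8190 (.node 8189 (.leaf 130674) (.leaf 65842)) (.node 8191 (.leaf 65858) (.leaf 130961))))))))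

/-- block of `nd` -/
def nd_32 : Tr := .node 8320 (.node 8256 (.node 8224 (.node 8208 (.node 8200 (.node 8196 (.node 8194 (.node 8193 (.leaf 131056) (.leaf 65874)) (.node 8195 (.leaf 65905) (.leaf 131104))) (.node 8198 (.node 8197 (.leaf 66033) (.leaf 65937)) (.node 8199 (.leaf 65938) (.leaf 65969)))) (.node 8204 (.node 8202 (.node 8201 (.leaf 65970) (.leaf 65985)) (.node 8203 (.leaf 66002) (.leaf 66018))) (.node 8206 (.node 8205 (.leaf 66034) (.leaf 131264)) (.node 8207 (.leaf 66049) (.leaf 66065))))) (.node 8216 (.node 8212 (.node 8210 (.node 8209 (.leaf 66066) (.leaf 66082)) (.node 8211 (.leaf 131297) (.leaf 131360))) (.node 8214 (.node 8213 (.leaf 66145) (.leaf 66178)) (.node 8215 (.leaf 131408) (.leaf 114913)))) (.node 8220 (.node 8218 (.node 8217 (.leaf 131393) (.leaf 131456)) (.node 8219 (.leaf 67042) (.leaf 66194))) (.node 8222 (.node 8221 (.leaf 77553) (.leaf 66209)) (.node 8223 (.leaf 131536) (.leaf 66225))))))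 (.node 8240 (.node 8232 (.node 8228 (.node 8226 (.node 8225 (.leaf 66610) (.leaf 66273)) (.node 8227 (.leaf 66290) (.leaf 131616))) (.node 8230 (.node 8229 (.leaf 66306) (.leaf 131601)) (.node 8231 (.leaf 131664) (.leaf 66913)))) (.node 8236 (.node 8234 (.node 8233 (.leaf 66337) (.leaf 131712)) (.node 8235 (.leaf 81202) (.leaf 81185))) (.node 8238 (.node 8237 (.leaf 131713) (.leaf 131776)) (.node 8239 (.leaf 69074) (.leaf 66369))))) (.node 8248 (.node 8244 (.node 8242 (.node 8241 (.leaf 131633) (.leaf 66370)) (.node 8243 (.leaf 131856) (.leaf 66385))) (.node 8246 (.node 8245 (.leaf 66402) (.leaf 66418)) (.node 8247 (.leaf 131889) (.leaf 131936)))) (.node 8252 (.node 8250 (.node 8249 (.leaf 113954) (.leaf 66433)) (.node 8251 (.leaf 66465) (.leaf 66434))) (.node 8254 (.node 8253 (.leaf 132016) (.leaf 66481)) (.node 8255 (.leaf 66497) (.leaf 66498))))))) (.node 8288 (.node 8272 (.node 8264 (.node 8260 (.node 8258 (.node 8257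 (.leaf 66578) (.leaf 66514)) (.node 8259 (.leaf 132049) (.leaf 132128))) (.node 8262 (.node 8261 (.leaf 114049) (.leaf 66530)) (.node 8263 (.leaf 131121) (.leaf 66561)))) (.node 8268 (.node 8266 (.node 8265 (.leaf 66577) (.leaf 132224)) (.node 8267 (.leaf 66594) (.leaf 66609))) (.node 8270 (.node 8269 (.leaf 132272) (.leaf 66641)) (.node 8271 (.leaf 66657) (.leaf 131874))))) (.node 8280 (.node 8276 (.node 8274 (.node 8273 (.leaf 66658) (.leaf 132305)) (.node 8275 (.leaf 132368) (.leaf 66690))) (.node 8278 (.node 8277 (.leaf 66737) (.leaf 66753)) (.node 8279 (.leaf 66770) (.leaf 132417)))) (.node 8284 (.node 8282 (.node 8281 (.leaf 132464) (.leaf 66786)) (.node 8283 (.leaf 114177) (.leaf 66801))) (.node 8286 (.node 8285 (.leaf 66818) (.leaf 66834)) (.node 8287 (.leaf 132560) (.leaf 132529)))))) (.node 8304 (.node 8296 (.node 8292 (.node 8290 (.node 8289 (.leaf 132592) (.leaf 124705)) (.node 8291 (.leaf 132624) (.leaf 66850)))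 (.node 8294 (.node 8293 (.leaf 132656) (.leaf 66881)) (.node 8295 (.leaf 66882) (.leaf 66914)))) (.node 8300 (.node 8298 (.node 8297 (.leaf 66929) (.leaf 132736)) (.node 8299 (.leaf 66945) (.leaf 132768))) (.node 8302 (.node 8301 (.leaf 66962) (.leaf 132737)) (.node 8303 (.leaf 132816) (.leaf 66977))))) (.node 8312 (.node 8308 (.node 8306 (.node 8305 (.leaf 67058) (.leaf 111969)) (.node 8307 (.leaf 132880) (.leaf 67089))) (.node 8310 (.node 8309 (.leaf 114274) (.leaf 132928)) (.node 8311 (.leaf 67218) (.leaf 73858)))) (.node 8316 (.node 8314 (.node 8313 (.leaf 67281) (.leaf 121857)) (.node 8315 (.leaf 67282) (.leaf 133024))) (.node 8318 (.node 8317 (.leaf 67345) (.leaf 67393)) (.node 8319 (.leaf 67394) (.leaf 67410)))))))) (.node 8384 (.node 8352 (.node 8336 (.node 8328 (.node 8324 (.node 8322 (.node 8321 (.leaf 133104) (.leaf 67457)) (.node 8323 (.leaf 133136) (.leaf 71826))) (.node 8326 (.node 8325 (.leaf 133168) (.leaf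 67473)) (.node 8327 (.leaf 133200) (.leaf 67474)))) (.node 8332 (.node 8330 (.node 8329 (.leaf 67505) (.leaf 133121)) (.node 8331 (.leaf 67506) (.leaf 67569))) (.node 8334 (.node 8333 (.leaf 122146) (.leaf 133296)) (.node 8335 (.leaf 67570) (.leaf 122145))))) (.node 8344 (.node 8340 (.node 8338 (.node 8337 (.leaf 67633) (.leaf 67634)) (.node 8339 (.leaf 109361) (.leaf 109362))) (.node 8342 (.node 8341 (.leaf 67666) (.leaf 133440)) (.node 8343 (.leaf 67714) (.leaf 133472)))) (.node 8348 (.node 8346 (.node 8345 (.leaf 67777) (.leaf 133504)) (.node 8347 (.leaf 67778) (.leaf 67809))) (.node 8350 (.node 8349 (.leaf 133552) (.leaf 67810)) (.node 8351 (.leaf 133584) (.leaf 67857)))))) (.node 8368 (.node 8360 (.node 8356 (.node 8354 (.node 8353 (.leaf 133616) (.leaf 67858)) (.node 8355 (.leaf 67873) (.leaf 133490))) (.node 8358 (.node 8357 (.leaf 67874) (.leaf 133570)) (.node 8359 (.leaf 67906) (.leaf 133728)))) (.node 8364 (.node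 8362 (.node 8361 (.leaf 67937) (.leaf 133760)) (.node 8363 (.leaf 67969) (.leaf 133154))) (.node 8366 (.node 8365 (.leaf 67970) (.leaf 133153)) (.node 8367 (.leaf 68001) (.leaf 133856))))) (.node 8376 (.node 8372 (.node 8370 (.node 8369 (.leaf 68002) (.leaf 133888)) (.node 8371 (.leaf 68017) (.leaf 68033))) (.node 8374 (.node 8373 (.leaf 133936) (.leaf 68050)) (.node 8375 (.leaf 133921) (.leaf 68065)))) (.node 8380 (.node 8378 (.node 8377 (.leaf 134000) (.leaf 68066)) (.node 8379 (.leaf 122209) (.leaf 121185))) (.node 8382 (.node 8381 (.leaf 68081) (.leaf 68097)) (.node 8383 (.leaf 68114) (.leaf 134081))))))) (.node 8416 (.node 8400 (.node 8392 (.node 8388 (.node 8386 (.node 8385 (.leaf 134128) (.leaf 70338)) (.node 8387 (.leaf 68129) (.leaf 68225))) (.node 8390 (.node 8389 (.leaf 68130) (.leaf 134208)) (.node 8391 (.leaf 68161) (.leaf 68162)))) (.node 8396 (.node 8394 (.node 8393 (.leaf 134256) (.leaf 68194)) (.node 8395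 (.leaf 134288) (.leaf 68273))) (.node 8398 (.node 8397 (.leaf 134320) (.leaf 68290)) (.node 8399 (.leaf 68305) (.leaf 134368))))) (.node 8408 (.node 8404 (.node 8402 (.node 8401 (.leaf 68306) (.leaf 134400)) (.node 8403 (.leaf 68338) (.leaf 68450))) (.node 8406 (.node 8405 (.leaf 68418) (.leaf 134464)) (.node 8407 (.leaf 71345) (.leaf 68433)))) (.node 8412 (.node 8410 (.node 8409 (.leaf 134512) (.leaf 68449)) (.node 8411 (.leaf 134544) (.leaf 68466))) (.node 8414 (.node 8413 (.leaf 134513) (.leaf 134592)) (.node 8415 (.leaf 68481) (.leaf 134624)))))) (.node 8432 (.node 8424 (.node 8420 (.node 8418 (.node 8417 (.leaf 68514) (.leaf 68545)) (.node 8419 (.leaf 134672) (.leaf 68578))) (.node 8422 (.node 8421 (.leaf 124129) (.leaf 68593)) (.node 8423 (.leaf 68609) (.leaf 68626)))) (.node 8428 (.node 8426 (.node 8425 (.leaf 134737) (.leaf 134784)) (.node 8427 (.leaf 134801) (.leaf 68642))) (.node 8430 (.node 8429 (.leaf 81329)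 (.leaf 68658)) (.node 8431 (.leaf 134864) (.leaf 132833))))) (.node 8440 (.node 8436 (.node 8434 (.node 8433 (.leaf 134896) (.leaf 134753)) (.node 8435 (.leaf 68673) (.leaf 134944))) (.node 8438 (.node 8437 (.leaf 68705) (.leaf 68785)) (.node 8439 (.leaf 68802) (.leaf 134993)))) (.node 8444 (.node 8442 (.node 8441 (.leaf 68817) (.leaf 135040)) (.node 8443 (.leaf 81361) (.leaf 68897))) (.node 8446 (.node 8445 (.leaf 68914) (.leaf 135104)) (.node 8447 (.leaf 93089) (.leaf 93138))))))))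

/-- block of `nd` -/
def nd_33 : Tr := .node 8576 (.node 8512 (.node 8480 (.node 8464 (.node 8456 (.node 8452 (.node 8450 (.node 8449 (.leaf 68961) (.leaf 77217)) (.node 8451 (.leaf 68962) (.leaf 68993))) (.node 8454 (.node 8453 (.leaf 68994) (.leaf 135232)) (.node 8455 (.leaf 69025) (.leaf 69073)))) (.node 8460 (.node 8458 (.node 8457 (.leaf 120402) (.leaf 124353)) (.node 8459 (.leaf 69089) (.leaf 134290))) (.node 8462 (.node 8461 (.leaf 135344) (.leaf 70690)) (.node 8463 (.leaf 135376) (.leaf 69137))))) (.node 8472 (.node 8468 (.node 8466 (.node 8465 (.leaf 69138) (.leaf 69153)) (.node 8467 (.leaf 69186) (.leaf 135441))) (.node 8470 (.node 8469 (.leaf 135472) (.leaf 69202)) (.node 8471 (.leaf 135504) (.leaf 69233)))) (.node 8476 (.node 8474 (.node 8473 (.leaf 135536) (.leaf 69234)) (.node 8475 (.leaf 69265) (.leaf 135584))) (.node 8478 (.node 8477 (.leaf 135202) (.leaf 135169)) (.node 8479 (.leaf 69266) (.leaf 69297))))))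 (.node 8496 (.node 8488 (.node 8484 (.node 8482 (.node 8481 (.leaf 135664) (.leaf 69345)) (.node 8483 (.leaf 69346) (.leaf 135712))) (.node 8486 (.node 8485 (.leaf 69394) (.leaf 135744)) (.node 8487 (.leaf 134977) (.leaf 69473)))) (.node 8492 (.node 8490 (.node 8489 (.leaf 135792) (.leaf 69474)) (.node 8491 (.leaf 135824) (.leaf 69553))) (.node 8494 (.node 8493 (.leaf 135857) (.leaf 135872)) (.node 8495 (.leaf 69585) (.leaf 135904))))) (.node 8504 (.node 8500 (.node 8498 (.node 8497 (.leaf 69601) (.leaf 123282)) (.node 8499 (.leaf 69602) (.leaf 69618))) (.node 8502 (.node 8501 (.leaf 135905) (.leaf 136000)) (.node 8503 (.leaf 115953) (.leaf 136032)))) (.node 8508 (.node 8506 (.node 8505 (.leaf 69649) (.leaf 69666)) (.node 8507 (.leaf 136065) (.leaf 136096))) (.node 8510 (.node 8509 (.leaf 69681) (.leaf 69714)) (.node 8511 (.leaf 136144) (.leaf 136129))))))) (.node 8544 (.node 8528 (.node 8520 (.node 8516 (.node 8514 (.node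 8513 (.leaf 136176) (.leaf 115810)) (.node 8515 (.leaf 136208) (.leaf 69729))) (.node 8518 (.node 8517 (.leaf 69730) (.leaf 135809)) (.node 8519 (.leaf 69745) (.leaf 69761)))) (.node 8524 (.node 8522 (.node 8521 (.leaf 69778) (.leaf 136320)) (.node 8523 (.leaf 136289) (.leaf 136352))) (.node 8526 (.node 8525 (.leaf 136114) (.leaf 69793)) (.node 8527 (.leaf 69889) (.leaf 69794))))) (.node 8536 (.node 8532 (.node 8530 (.node 8529 (.leaf 136432) (.leaf 69825)) (.node 8531 (.leaf 136464) (.leaf 69826))) (.node 8534 (.node 8533 (.leaf 69857) (.leaf 136512)) (.node 8535 (.leaf 69858) (.leaf 136544)))) (.node 8540 (.node 8538 (.node 8537 (.leaf 69874) (.leaf 134625)) (.node 8539 (.leaf 69890) (.leaf 136608))) (.node 8542 (.node 8541 (.leaf 69905) (.leaf 136640)) (.node 8543 (.leaf 69921) (.leaf 132034)))))) (.node 8560 (.node 8552 (.node 8548 (.node 8546 (.node 8545 (.leaf 69922) (.leaf 70050)) (.node 8547 (.leaf 69938) (.leaf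 136641))) (.node 8550 (.node 8549 (.leaf 136752) (.leaf 135889)) (.node 8551 (.leaf 69954) (.leaf 69985)))) (.node 8556 (.node 8554 (.node 8553 (.leaf 136816) (.leaf 69986)) (.node 8555 (.leaf 70017) (.leaf 136864))) (.node 8558 (.node 8557 (.leaf 70018) (.leaf 136896)) (.node 8559 (.leaf 70033) (.leaf 122482))))) (.node 8568 (.node 8564 (.node 8562 (.node 8561 (.leaf 136944) (.leaf 70049)) (.node 8563 (.leaf 136976) (.leaf 70209))) (.node 8566 (.node 8565 (.leaf 137008) (.leaf 70210)) (.node 8567 (.leaf 137040) (.leaf 70242)))) (.node 8572 (.node 8570 (.node 8569 (.leaf 137072) (.leaf 70273)) (.node 8571 (.leaf 70274) (.leaf 70305))) (.node 8574 (.node 8573 (.leaf 70306) (.leaf 70353)) (.node 8575 (.leaf 70370) (.leaf 137169)))))))) (.node 8640 (.node 8608 (.node 8592 (.node 8584 (.node 8580 (.node 8578 (.node 8577 (.leaf 137200) (.leaf 121169)) (.node 8579 (.leaf 137232) (.leaf 137042))) (.node 8582 (.node 8581 (.leaf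 137009) (.leaf 137280)) (.node 8583 (.leaf 70577) (.leaf 70449)))) (.node 8588 (.node 8586 (.node 8585 (.leaf 70465) (.leaf 70466)) (.node 8587 (.leaf 137360) (.leaf 70482))) (.node 8590 (.node 8589 (.leaf 137392) (.leaf 137329)) (.node 8591 (.leaf 137424) (.leaf 133186))))) (.node 8600 (.node 8596 (.node 8594 (.node 8593 (.leaf 70497) (.leaf 70609)) (.node 8595 (.leaf 70529) (.leaf 137504))) (.node 8598 (.node 8597 (.leaf 70530) (.leaf 70561)) (.node 8599 (.leaf 137552) (.leaf 70578)))) (.node 8604 (.node 8602 (.node 8601 (.leaf 70594) (.leaf 137553)) (.node 8603 (.leaf 70657) (.leaf 70658))) (.node 8606 (.node 8605 (.leaf 70689) (.leaf 137377)) (.node 8607 (.leaf 134338) (.leaf 70721)))))) (.node 8624 (.node 8616 (.node 8612 (.node 8610 (.node 8609 (.leaf 70737) (.leaf 70962)) (.node 8611 (.leaf 70754) (.leaf 70770))) (.node 8614 (.node 8613 (.leaf 70801) (.leaf 70834)) (.node 8615 (.leaf 78529) (.leaf 73409)))) (.node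 8620 (.node 8618 (.node 8617 (.leaf 137840) (.leaf 70865)) (.node 8619 (.leaf 70898) (.leaf 137888))) (.node 8622 (.node 8621 (.leaf 137873) (.leaf 137920)) (.node 8623 (.leaf 70913) (.leaf 70914))))) (.node 8632 (.node 8628 (.node 8626 (.node 8625 (.leaf 70961) (.leaf 70993)) (.node 8627 (.leaf 138000) (.leaf 71009))) (.node 8630 (.node 8629 (.leaf 71025) (.leaf 138048)) (.node 8631 (.leaf 71153) (.leaf 72354)))) (.node 8636 (.node 8634 (.node 8633 (.leaf 71154) (.leaf 72353)) (.node 8635 (.leaf 138112) (.leaf 71185))) (.node 8638 (.node 8637 (.leaf 71186) (.leaf 71201)) (.node 8639 (.leaf 71217) (.leaf 71234))))))) (.node 8672 (.node 8656 (.node 8648 (.node 8644 (.node 8642 (.node 8641 (.leaf 138193) (.leaf 138240)) (.node 8643 (.leaf 71249) (.leaf 71250))) (.node 8646 (.node 8645 (.leaf 138065) (.leaf 71329)) (.node 8647 (.leaf 123874) (.leaf 71330)))) (.node 8652 (.node 8650 (.node 8649 (.leaf 123873) (.leaf 138368))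 (.node 8651 (.leaf 71377) (.leaf 71378))) (.node 8654 (.node 8653 (.leaf 121937) (.leaf 121938)) (.node 8655 (.leaf 138416) (.leaf 71409))))) (.node 8664 (.node 8660 (.node 8658 (.node 8657 (.leaf 138480) (.leaf 133442)) (.node 8659 (.leaf 71441) (.leaf 71474))) (.node 8662 (.node 8661 (.leaf 138529) (.leaf 138560)) (.node 8663 (.leaf 71505) (.leaf 126642)))) (.node 8668 (.node 8666 (.node 8665 (.leaf 71506) (.leaf 126641)) (.node 8667 (.leaf 71537) (.leaf 71538))) (.node 8670 (.node 8669 (.leaf 138672) (.leaf 71553)) (.node 8671 (.leaf 71569) (.leaf 137090)))))) (.node 8688 (.node 8680 (.node 8676 (.node 8674 (.node 8673 (.leaf 71570) (.leaf 71586)) (.node 8675 (.leaf 138705) (.leaf 138784))) (.node 8678 (.node 8677 (.leaf 71665) (.leaf 125857)) (.node 8679 (.leaf 71682) (.leaf 138848)))) (.node 8684 (.node 8682 (.node 8681 (.leaf 137105) (.leaf 137122)) (.node 8683 (.leaf 71713) (.leaf 71714))) (.node 8686 (.node 8685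 (.leaf 71729) (.leaf 71745)) (.node 8687 (.leaf 72194) (.leaf 71746))))) (.node 8696 (.node 8692 (.node 8690 (.node 8689 (.leaf 138992) (.leaf 71762)) (.node 8691 (.leaf 138945) (.leaf 71841))) (.node 8694 (.node 8693 (.leaf 139056) (.leaf 139057)) (.node 8695 (.leaf 139088) (.leaf 71906)))) (.node 8700 (.node 8698 (.node 8697 (.leaf 139120) (.leaf 71938)) (.node 8699 (.leaf 71953) (.leaf 139168))) (.node 8702 (.node 8701 (.leaf 71969) (.leaf 139200)) (.node 8703 (.leaf 71970) (.leaf 72162))))))))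

/-- block of `nd` -/
def nd_34 : Tr := .node 8832 (.node 8768 (.node 8736 (.node 8720 (.node 8712 (.node 8708 (.node 8706 (.node 8705 (.leaf 71986) (.leaf 139264)) (.node 8707 (.leaf 139169) (.leaf 139296))) (.node 8710 (.node 8709 (.leaf 72001) (.leaf 72097)) (.node 8711 (.leaf 72002) (.leaf 73937)))) (.node 8716 (.node 8714 (.node 8713 (.leaf 72017) (.leaf 139392)) (.node 8715 (.leaf 126258) (.leaf 139424))) (.node 8718 (.node 8717 (.leaf 126241) (.leaf 139456)) (.node 8719 (.leaf 72065) (.leaf 72066))))) (.node 8728 (.node 8724 (.node 8722 (.node 8721 (.leaf 139504) (.leaf 72098)) (.node 8723 (.leaf 139536) (.leaf 72114))) (.node 8726 (.node 8725 (.leaf 139568) (.leaf 139393)) (.node 8727 (.leaf 139600) (.leaf 72129)))) (.node 8732 (.node 8730 (.node 8729 (.leaf 139137) (.leaf 72145)) (.node 8731 (.leaf 72161) (.leaf 139680))) (.node 8734 (.node 8733 (.leaf 72178) (.leaf 72193)) (.node 8735 (.leaf 139728) (.leaf 72209))))))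 (.node 8752 (.node 8744 (.node 8740 (.node 8738 (.node 8737 (.leaf 139760) (.leaf 72225)) (.node 8739 (.leaf 139792) (.leaf 72226))) (.node 8742 (.node 8741 (.leaf 139824) (.leaf 72242)) (.node 8743 (.leaf 139856) (.leaf 139761)))) (.node 8748 (.node 8746 (.node 8745 (.leaf 72258) (.leaf 72273)) (.node 8747 (.leaf 139920) (.leaf 72289))) (.node 8750 (.node 8749 (.leaf 139952) (.leaf 72306)) (.node 8751 (.leaf 139921) (.leaf 140000))))) (.node 8760 (.node 8756 (.node 8754 (.node 8753 (.leaf 72321) (.leaf 140032)) (.node 8755 (.leaf 72322) (.leaf 72609))) (.node 8758 (.node 8757 (.leaf 72385) (.leaf 140096)) (.node 8759 (.leaf 72386) (.leaf 72401)))) (.node 8764 (.node 8762 (.node 8761 (.leaf 72417) (.leaf 72434)) (.node 8763 (.leaf 140145) (.leaf 140192))) (.node 8766 (.node 8765 (.leaf 72450) (.leaf 140224)) (.node 8767 (.leaf 72465) (.leaf 72498))))))) (.node 8800 (.node 8784 (.node 8776 (.node 8772 (.node 8770 (.node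 8769 (.leaf 140272) (.leaf 140257)) (.node 8771 (.leaf 140304) (.leaf 72513))) (.node 8774 (.node 8773 (.leaf 75137) (.leaf 72514)) (.node 8775 (.leaf 139809) (.leaf 72529)))) (.node 8780 (.node 8778 (.node 8777 (.leaf 140400) (.leaf 72562)) (.node 8779 (.leaf 140401) (.leaf 72577))) (.node 8782 (.node 8781 (.leaf 72641) (.leaf 72578)) (.node 8783 (.leaf 72610) (.leaf 140512))))) (.node 8792 (.node 8788 (.node 8786 (.node 8785 (.leaf 72642) (.leaf 72673)) (.node 8787 (.leaf 127442) (.leaf 72674))) (.node 8790 (.node 8789 (.leaf 127441) (.leaf 72705)) (.node 8791 (.leaf 139906) (.leaf 140640)))) (.node 8796 (.node 8794 (.node 8793 (.leaf 126066) (.leaf 140672)) (.node 8795 (.leaf 72721) (.leaf 140704))) (.node 8798 (.node 8797 (.leaf 72817) (.leaf 72818)) (.node 8799 (.leaf 72833) (.leaf 72849)))))) (.node 8816 (.node 8808 (.node 8804 (.node 8802 (.node 8801 (.leaf 112114) (.leaf 140769)) (.node 8803 (.leaf 140816) (.leaf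 72897))) (.node 8806 (.node 8805 (.leaf 72913) (.leaf 72930)) (.node 8807 (.leaf 140849) (.leaf 140896)))) (.node 8812 (.node 8810 (.node 8809 (.leaf 72961) (.leaf 72977)) (.node 8811 (.leaf 140929) (.leaf 140960))) (.node 8814 (.node 8813 (.leaf 111906) (.leaf 73041)) (.node 8815 (.leaf 72993) (.leaf 73010))))) (.node 8824 (.node 8820 (.node 8818 (.node 8817 (.leaf 141040) (.leaf 73026)) (.node 8819 (.leaf 73042) (.leaf 141088))) (.node 8822 (.node 8821 (.leaf 73057) (.leaf 73073)) (.node 8823 (.leaf 136450) (.leaf 73090)))) (.node 8828 (.node 8826 (.node 8825 (.leaf 141121) (.leaf 141184)) (.node 8827 (.leaf 112449) (.leaf 73105))) (.node 8830 (.node 8829 (.leaf 73169) (.leaf 73170)) (.node 8831 (.leaf 73185) (.leaf 141280)))))))) (.node 8896 (.node 8864 (.node 8848 (.node 8840 (.node 8836 (.node 8834 (.node 8833 (.leaf 73186) (.leaf 73297)) (.node 8835 (.leaf 73233) (.leaf 141344))) (.node 8838 (.node 8837 (.leaf 73234)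 (.leaf 105858)) (.node 8839 (.leaf 73249) (.leaf 73282)))) (.node 8844 (.node 8842 (.node 8841 (.leaf 141409) (.leaf 141440)) (.node 8843 (.leaf 73298) (.leaf 73329))) (.node 8846 (.node 8845 (.leaf 141488) (.leaf 73330)) (.node 8847 (.leaf 141520) (.leaf 73393))))) (.node 8856 (.node 8852 (.node 8850 (.node 8849 (.leaf 141552) (.leaf 73426)) (.node 8851 (.leaf 141570) (.leaf 73489))) (.node 8854 (.node 8853 (.leaf 90978) (.leaf 73505)) (.node 8855 (.leaf 73522) (.leaf 141649)))) (.node 8860 (.node 8858 (.node 8857 (.leaf 141680) (.leaf 73537)) (.node 8859 (.leaf 73585) (.leaf 73586))) (.node 8862 (.node 8861 (.leaf 141744) (.leaf 73633)) (.node 8863 (.leaf 73634) (.leaf 111026)))))) (.node 8880 (.node 8872 (.node 8868 (.node 8866 (.node 8865 (.leaf 73666) (.leaf 141824)) (.node 8867 (.leaf 73698) (.leaf 141856))) (.node 8870 (.node 8869 (.leaf 73778) (.leaf 141888)) (.node 8871 (.leaf 104353) (.leaf 73793)))) (.node 8876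 (.node 8874 (.node 8873 (.leaf 141761) (.leaf 73794)) (.node 8875 (.leaf 73825) (.leaf 73826))) (.node 8878 (.node 8877 (.leaf 73841) (.leaf 142017)) (.node 8879 (.leaf 142032) (.leaf 134306))))) (.node 8888 (.node 8884 (.node 8882 (.node 8881 (.leaf 73889) (.leaf 142080)) (.node 8883 (.leaf 73921) (.leaf 73938))) (.node 8886 (.node 8885 (.leaf 142128) (.leaf 73954)) (.node 8887 (.leaf 142160) (.leaf 142113)))) (.node 8892 (.node 8890 (.node 8889 (.leaf 73970) (.leaf 142208)) (.node 8891 (.leaf 74002) (.leaf 74017))) (.node 8894 (.node 8893 (.leaf 142256) (.leaf 74034)) (.node 8895 (.leaf 142288) (.leaf 74050))))))) (.node 8928 (.node 8912 (.node 8904 (.node 8900 (.node 8898 (.node 8897 (.leaf 142320) (.leaf 142257)) (.node 8899 (.leaf 74065) (.leaf 142368))) (.node 8902 (.node 8901 (.leaf 74081) (.leaf 103906)) (.node 8903 (.leaf 142416) (.leaf 142400)))) (.node 8908 (.node 8906 (.node 8905 (.leaf 74082) (.leaf 139746))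 (.node 8907 (.leaf 103905) (.leaf 74098))) (.node 8910 (.node 8909 (.leaf 142512) (.leaf 142369)) (.node 8911 (.leaf 74113) (.leaf 142305))))) (.node 8920 (.node 8916 (.node 8914 (.node 8913 (.leaf 74114) (.leaf 142592)) (.node 8915 (.leaf 74130) (.leaf 142624))) (.node 8918 (.node 8917 (.leaf 141713) (.leaf 74193)) (.node 8919 (.leaf 74209) (.leaf 74225)))) (.node 8924 (.node 8922 (.node 8921 (.leaf 74242) (.leaf 142689)) (.node 8923 (.leaf 74257) (.leaf 74258))) (.node 8926 (.node 8925 (.leaf 74801) (.leaf 74289)) (.node 8927 (.leaf 141906) (.leaf 74290)))))) (.node 8944 (.node 8936 (.node 8932 (.node 8930 (.node 8929 (.leaf 141905) (.leaf 74305)) (.node 8931 (.leaf 74322) (.leaf 142865))) (.node 8934 (.node 8933 (.leaf 74417) (.leaf 74418)) (.node 8935 (.leaf 142928) (.leaf 74449)))) (.node 8940 (.node 8938 (.node 8937 (.leaf 74450) (.leaf 74481)) (.node 8939 (.leaf 142992) (.leaf 74545))) (.node 8942 (.node 8941 (.leaf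 142945) (.leaf 74546)) (.node 8943 (.leaf 74561) (.leaf 143072))))) (.node 8952 (.node 8948 (.node 8946 (.node 8945 (.leaf 74577) (.leaf 74578)) (.node 8947 (.leaf 143120) (.leaf 74594))) (.node 8950 (.node 8949 (.leaf 143073) (.leaf 74609)) (.node 8951 (.leaf 74833) (.leaf 74642)))) (.node 8956 (.node 8954 (.node 8953 (.leaf 134962) (.leaf 74673)) (.node 8955 (.leaf 143137) (.leaf 74674))) (.node 8958 (.node 8957 (.leaf 103281) (.leaf 103282)) (.node 8959 (.leaf 74706) (.leaf 143328))))))))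

/-- block of `nd` -/
def nd_35 : Tr := .node 9088 (.node 9024 (.node 8992 (.node 8976 (.node 8968 (.node 8964 (.node 8962 (.node 8961 (.leaf 100129) (.leaf 74737)) (.node 8963 (.leaf 143376) (.leaf 74738))) (.node 8966 (.node 8965 (.leaf 74769) (.leaf 74770)) (.node 8967 (.leaf 74785) (.leaf 74802)))) (.node 8972 (.node 8970 (.node 8969 (.leaf 143472) (.leaf 74818)) (.node 8971 (.leaf 143504) (.leaf 143457))) (.node 8974 (.node 8973 (.leaf 74834) (.leaf 143552)) (.node 8975 (.leaf 74849) (.leaf 74882))))) (.node 8984 (.node 8980 (.node 8978 (.node 8977 (.leaf 143600) (.leaf 74865)) (.node 8979 (.leaf 143632) (.leaf 74866))) (.node 8982 (.node 8981 (.leaf 140114) (.leaf 74897)) (.node 8983 (.leaf 74977) (.leaf 74929)))) (.node 8988 (.node 8986 (.node 8985 (.leaf 75009) (.leaf 143744)) (.node 8987 (.leaf 75010) (.leaf 143776))) (.node 8990 (.node 8989 (.leaf 75041) (.leaf 143808)) (.node 8991 (.leaf 107106) (.leaf 107073))))))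 (.node 9008 (.node 9000 (.node 8996 (.node 8994 (.node 8993 (.leaf 143856) (.leaf 75042)) (.node 8995 (.leaf 75073) (.leaf 75074))) (.node 8998 (.node 8997 (.leaf 143920) (.leaf 75089)) (.node 8999 (.leaf 75105) (.leaf 75122)))) (.node 9004 (.node 9002 (.node 9001 (.leaf 143984) (.leaf 143953)) (.node 9003 (.leaf 144016) (.leaf 76817))) (.node 9006 (.node 9005 (.leaf 144048) (.leaf 75138)) (.node 9007 (.leaf 144080) (.leaf 75169))))) (.node 9016 (.node 9012 (.node 9010 (.node 9009 (.leaf 144112) (.leaf 75170)) (.node 9011 (.leaf 75217) (.leaf 75218))) (.node 9014 (.node 9013 (.leaf 75249) (.leaf 75250)) (.node 9015 (.leaf 144208) (.leaf 78865)))) (.node 9020 (.node 9018 (.node 9017 (.leaf 75265) (.leaf 75282)) (.node 9019 (.leaf 144257) (.leaf 144288))) (.node 9022 (.node 9021 (.leaf 75297) (.leaf 75329)) (.node 9023 (.leaf 144336) (.leaf 75330))))))) (.node 9056 (.node 9040 (.node 9032 (.node 9028 (.node 9026 (.node 9025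 (.leaf 75345) (.leaf 75361)) (.node 9027 (.leaf 75746) (.leaf 75362))) (.node 9030 (.node 9029 (.leaf 75409) (.leaf 144448)) (.node 9031 (.leaf 75410) (.leaf 144480)))) (.node 9036 (.node 9034 (.node 9033 (.leaf 75441) (.leaf 75442)) (.node 9035 (.leaf 75457) (.leaf 75490))) (.node 9038 (.node 9037 (.leaf 144560) (.leaf 144545)) (.node 9039 (.leaf 144592) (.leaf 75505))))) (.node 9048 (.node 9044 (.node 9042 (.node 9041 (.leaf 75506) (.leaf 75921)) (.node 9043 (.leaf 75521) (.leaf 144672))) (.node 9046 (.node 9045 (.leaf 75538) (.leaf 144673)) (.node 9047 (.leaf 75585) (.leaf 75586)))) (.node 9052 (.node 9050 (.node 9049 (.leaf 75634) (.leaf 75649)) (.node 9051 (.leaf 144784) (.leaf 75650))) (.node 9054 (.node 9053 (.leaf 144816) (.leaf 75665)) (.node 9055 (.leaf 75681) (.leaf 75682)))))) (.node 9072 (.node 9064 (.node 9060 (.node 9058 (.node 9057 (.leaf 144802) (.leaf 75698)) (.node 9059 (.leaf 144912) (.leaf 144849)))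 (.node 9062 (.node 9061 (.leaf 144944) (.leaf 75713)) (.node 9063 (.leaf 75714) (.leaf 75761)))) (.node 9068 (.node 9066 (.node 9065 (.leaf 145009) (.leaf 145024)) (.node 9067 (.leaf 75793) (.leaf 145056))) (.node 9070 (.node 9069 (.leaf 75905) (.leaf 145088)) (.node 9071 (.leaf 75922) (.leaf 142098))))) (.node 9080 (.node 9076 (.node 9074 (.node 9073 (.leaf 75938) (.leaf 145152)) (.node 9075 (.leaf 145089) (.leaf 75954))) (.node 9078 (.node 9077 (.leaf 76050) (.leaf 76097)) (.node 9079 (.leaf 145232) (.leaf 76129)))) (.node 9084 (.node 9082 (.node 9081 (.leaf 76225) (.leaf 76130)) (.node 9083 (.leaf 145296) (.leaf 76161))) (.node 9086 (.node 9085 (.leaf 145328) (.leaf 76162)) (.node 9087 (.leaf 145360) (.leaf 76177)))))))) (.node 9152 (.node 9120 (.node 9104 (.node 9096 (.node 9092 (.node 9090 (.node 9089 (.leaf 145392) (.leaf 76194)) (.node 9091 (.leaf 76210) (.leaf 145393))) (.node 9094 (.node 9093 (.leaf 76257) (.leaf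 145472)) (.node 9095 (.leaf 76258) (.leaf 76289)))) (.node 9100 (.node 9098 (.node 9097 (.leaf 145520) (.leaf 80178)) (.node 9099 (.leaf 145552) (.leaf 80145))) (.node 9102 (.node 9101 (.leaf 76290) (.leaf 145600)) (.node 9103 (.leaf 76321) (.leaf 145632))))) (.node 9112 (.node 9108 (.node 9106 (.node 9105 (.leaf 76322) (.leaf 145664)) (.node 9107 (.leaf 76337) (.leaf 76353))) (.node 9110 (.node 9109 (.leaf 145712) (.leaf 76370)) (.node 9111 (.leaf 145697) (.leaf 145760)))) (.node 9116 (.node 9114 (.node 9113 (.leaf 76434) (.leaf 145792)) (.node 9115 (.leaf 144865) (.leaf 144882))) (.node 9118 (.node 9117 (.leaf 76465) (.leaf 76481)) (.node 9119 (.leaf 76498) (.leaf 123938)))))) (.node 9136 (.node 9128 (.node 9124 (.node 9122 (.node 9121 (.leaf 78801) (.leaf 145920)) (.node 9123 (.leaf 144321) (.leaf 145952))) (.node 9126 (.node 9125 (.leaf 76514) (.leaf 145873)) (.node 9127 (.leaf 146000) (.leaf 89409)))) (.node 9132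 (.node 9130 (.node 9129 (.leaf 76545) (.leaf 76546)) (.node 9131 (.leaf 76577) (.leaf 76578))) (.node 9134 (.node 9133 (.leaf 76594) (.leaf 106913)) (.node 9135 (.leaf 76641) (.leaf 76642))))) (.node 9144 (.node 9140 (.node 9138 (.node 9137 (.leaf 76673) (.leaf 76674)) (.node 9139 (.leaf 76689) (.leaf 145426))) (.node 9142 (.node 9141 (.leaf 76737) (.leaf 146240)) (.node 9143 (.leaf 76738) (.leaf 107842)))) (.node 9148 (.node 9146 (.node 9145 (.leaf 76785) (.leaf 146304)) (.node 9147 (.leaf 76786) (.leaf 146336))) (.node 9150 (.node 9149 (.leaf 76818) (.leaf 76833)) (.node 9151 (.leaf 146384) (.leaf 76849))))))) (.node 9184 (.node 9168 (.node 9160 (.node 9156 (.node 9154 (.node 9153 (.leaf 76866) (.leaf 146385)) (.node 9155 (.leaf 146448) (.leaf 76882))) (.node 9158 (.node 9157 (.leaf 121377) (.leaf 76914)) (.node 9159 (.leaf 124433) (.leaf 117825)))) (.node 9164 (.node 9162 (.node 9161 (.leaf 105841) (.leaf 146560)) (.node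 9163 (.leaf 124738) (.leaf 124737))) (.node 9166 (.node 9165 (.leaf 116769) (.leaf 116770)) (.node 9167 (.leaf 76994) (.leaf 146656))))) (.node 9176 (.node 9172 (.node 9170 (.node 9169 (.leaf 77010) (.leaf 146688)) (.node 9171 (.leaf 146417) (.leaf 146720))) (.node 9174 (.node 9173 (.leaf 77025) (.leaf 146752)) (.node 9175 (.leaf 77026) (.leaf 146784)))) (.node 9180 (.node 9178 (.node 9177 (.leaf 77057) (.leaf 77058)) (.node 9179 (.leaf 77089) (.leaf 146848))) (.node 9182 (.node 9181 (.leaf 77090) (.leaf 146880)) (.node 9183 (.leaf 77105) (.leaf 146912)))))) (.node 9200 (.node 9192 (.node 9188 (.node 9186 (.node 9185 (.leaf 77121) (.leaf 77122)) (.node 9187 (.leaf 77138) (.leaf 146913))) (.node 9190 (.node 9189 (.leaf 77154) (.leaf 77186)) (.node 9191 (.leaf 147024) (.leaf 77218)))) (.node 9196 (.node 9194 (.node 9193 (.leaf 77281) (.leaf 77298)) (.node 9195 (.leaf 114417) (.leaf 77313))) (.node 9198 (.node 9197 (.leaf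 147120) (.leaf 77314)) (.node 9199 (.leaf 77362) (.leaf 125249))))) (.node 9208 (.node 9204 (.node 9202 (.node 9201 (.leaf 147184) (.leaf 147201)) (.node 9203 (.leaf 77425) (.leaf 123746))) (.node 9206 (.node 9205 (.leaf 147248) (.leaf 77473)) (.node 9207 (.leaf 147281) (.leaf 147296)))) (.node 9212 (.node 9210 (.node 9209 (.leaf 114386) (.leaf 77585)) (.node 9211 (.leaf 77537) (.leaf 77570))) (.node 9214 (.node 9213 (.leaf 147361) (.leaf 77586)) (.node 9215 (.leaf 77617) (.leaf 137362))))))))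

/-- block of `nd` -/
def nd_36 : Tr := .node 9344 (.node 9280 (.node 9248 (.node 9232 (.node 9224 (.node 9220 (.node 9218 (.node 9217 (.leaf 147424) (.leaf 77649)) (.node 9219 (.leaf 77713) (.leaf 124834))) (.node 9222 (.node 9221 (.leaf 77746) (.leaf 127874)) (.node 9223 (.leaf 88881) (.leaf 77761)))) (.node 9228 (.node 9226 (.node 9225 (.leaf 77794) (.leaf 147569)) (.node 9227 (.leaf 147600) (.leaf 77921))) (.node 9230 (.node 9229 (.leaf 77857) (.leaf 78434)) (.node 9231 (.leaf 147664) (.leaf 147648))))) (.node 9240 (.node 9236 (.node 9234 (.node 9233 (.leaf 77858) (.leaf 78433)) (.node 9235 (.leaf 147728) (.leaf 147712))) (.node 9238 (.node 9237 (.leaf 77873) (.leaf 77889)) (.node 9239 (.leaf 147792) (.leaf 77906)))) (.node 9244 (.node 9242 (.node 9241 (.leaf 147824) (.leaf 147777)) (.node 9243 (.leaf 147856) (.leaf 77922))) (.node 9246 (.node 9245 (.leaf 108129) (.leaf 77937)) (.node 9247 (.leaf 78146) (.leaf 77985))))))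 (.node 9264 (.node 9256 (.node 9252 (.node 9250 (.node 9249 (.leaf 78001) (.leaf 147968)) (.node 9251 (.leaf 78002) (.leaf 101586))) (.node 9254 (.node 9253 (.leaf 78065) (.leaf 78066)) (.node 9255 (.leaf 125538) (.leaf 78098)))) (.node 9260 (.node 9258 (.node 9257 (.leaf 78161) (.leaf 148096)) (.node 9259 (.leaf 78162) (.leaf 148128))) (.node 9262 (.node 9261 (.leaf 78177) (.leaf 148160)) (.node 9263 (.leaf 78194) (.leaf 148161))))) (.node 9272 (.node 9268 (.node 9266 (.node 9265 (.leaf 148208) (.leaf 78273)) (.node 9267 (.leaf 148240) (.leaf 99186))) (.node 9270 (.node 9269 (.leaf 78289) (.leaf 78306)) (.node 9271 (.leaf 78466) (.leaf 148289)))) (.node 9276 (.node 9274 (.node 9273 (.leaf 148336) (.leaf 148226)) (.node 9275 (.leaf 78449) (.leaf 148384))) (.node 9278 (.node 9277 (.leaf 78465) (.leaf 146802)) (.node 9279 (.leaf 148385) (.leaf 148448))))))) (.node 9312 (.node 9296 (.node 9288 (.node 9284 (.node 9282 (.node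 9281 (.leaf 78577) (.leaf 137857)) (.node 9283 (.leaf 103714) (.leaf 78593))) (.node 9286 (.node 9285 (.leaf 78626) (.leaf 148544)) (.node 9287 (.leaf 148529) (.leaf 148576)))) (.node 9292 (.node 9290 (.node 9289 (.leaf 147618) (.leaf 78658)) (.node 9291 (.leaf 148624) (.leaf 93969))) (.node 9294 (.node 9293 (.leaf 78673) (.leaf 78706)) (.node 9295 (.leaf 148673) (.leaf 148704))))) (.node 9304 (.node 9300 (.node 9298 (.node 9297 (.leaf 82993) (.leaf 78721)) (.node 9299 (.leaf 102209) (.leaf 78722))) (.node 9302 (.node 9301 (.leaf 148784) (.leaf 78785)) (.node 9303 (.leaf 147041) (.leaf 78817)))) (.node 9308 (.node 9306 (.node 9305 (.leaf 78849) (.leaf 107026)) (.node 9307 (.leaf 148880) (.leaf 148864))) (.node 9310 (.node 9309 (.leaf 78850) (.leaf 148928)) (.node 9311 (.leaf 107025) (.leaf 148960)))))) (.node 9328 (.node 9320 (.node 9316 (.node 9314 (.node 9313 (.leaf 78882) (.leaf 78913)) (.node 9315 (.leaf 78914) (.leaf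 121521))) (.node 9318 (.node 9317 (.leaf 121522) (.leaf 78945)) (.node 9319 (.leaf 146658) (.leaf 78977)))) (.node 9324 (.node 9322 (.node 9321 (.leaf 78978) (.leaf 149104)) (.node 9323 (.leaf 78993) (.leaf 79009))) (.node 9326 (.node 9325 (.leaf 79073) (.leaf 117826)) (.node 9327 (.leaf 149200) (.leaf 79138))))) (.node 9336 (.node 9332 (.node 9330 (.node 9329 (.leaf 79154) (.leaf 79169)) (.node 9331 (.leaf 142050) (.leaf 149280))) (.node 9334 (.node 9333 (.leaf 149264) (.leaf 79201)) (.node 9335 (.leaf 137410) (.leaf 79202)))) (.node 9340 (.node 9338 (.node 9337 (.leaf 137409) (.leaf 79250)) (.node 9339 (.leaf 79266) (.leaf 79297))) (.node 9342 (.node 9341 (.leaf 149424) (.leaf 79298)) (.node 9343 (.leaf 107153) (.leaf 107154)))))))) (.node 9408 (.node 9376 (.node 9360 (.node 9352 (.node 9348 (.node 9346 (.node 9345 (.leaf 149488) (.leaf 149472)) (.node 9347 (.leaf 149456) (.leaf 79361))) (.node 9350 (.node 9349 (.leaf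 79362) (.leaf 79393)) (.node 9351 (.leaf 79441) (.leaf 79458)))) (.node 9356 (.node 9354 (.node 9353 (.leaf 79490) (.leaf 79521)) (.node 9355 (.leaf 79537) (.leaf 79713))) (.node 9358 (.node 9357 (.leaf 79730) (.leaf 149696)) (.node 9359 (.leaf 79553) (.leaf 79554))))) (.node 9368 (.node 9364 (.node 9362 (.node 9361 (.leaf 131553) (.leaf 131554)) (.node 9363 (.leaf 149744) (.leaf 79585))) (.node 9366 (.node 9365 (.leaf 79633) (.leaf 79586)) (.node 9367 (.leaf 79698) (.leaf 108241)))) (.node 9372 (.node 9370 (.node 9369 (.leaf 149634) (.leaf 149888)) (.node 9371 (.leaf 81281) (.leaf 81298))) (.node 9374 (.node 9373 (.leaf 81362) (.leaf 79745)) (.node 9375 (.leaf 79873) (.leaf 79777)))))) (.node 9392 (.node 9384 (.node 9380 (.node 9378 (.node 9377 (.leaf 149793) (.leaf 79809)) (.node 9379 (.leaf 80882) (.leaf 79810))) (.node 9382 (.node 9381 (.leaf 80881) (.leaf 79825)) (.node 9383 (.leaf 79858) (.leaf 150097)))) (.node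 9388 (.node 9386 (.node 9385 (.leaf 150128) (.leaf 79970)) (.node 9387 (.leaf 150160) (.leaf 80001))) (.node 9390 (.node 9389 (.leaf 80002) (.leaf 80017)) (.node 9391 (.leaf 150224) (.leaf 80033))))) (.node 9400 (.node 9396 (.node 9394 (.node 9393 (.leaf 80610) (.leaf 80034)) (.node 9395 (.leaf 150288) (.leaf 80050))) (.node 9398 (.node 9397 (.leaf 150320) (.leaf 150225)) (.node 9399 (.leaf 150352) (.leaf 80066)))) (.node 9404 (.node 9402 (.node 9401 (.leaf 80097) (.leaf 80098)) (.node 9403 (.leaf 135553) (.leaf 135554))) (.node 9406 (.node 9405 (.leaf 150448) (.leaf 150432)) (.node 9407 (.leaf 150416) (.leaf 80129))))))) (.node 9440 (.node 9424 (.node 9416 (.node 9412 (.node 9410 (.node 9409 (.leaf 80130) (.leaf 80161)) (.node 9411 (.leaf 150544) (.leaf 80193))) (.node 9414 (.node 9413 (.leaf 150576) (.leaf 80194)) (.node 9415 (.leaf 119569) (.leaf 80225)))) (.node 9420 (.node 9418 (.node 9417 (.leaf 150640) (.leaf 110002))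 (.node 9419 (.leaf 150672) (.leaf 109969))) (.node 9422 (.node 9421 (.leaf 150704) (.leaf 80241)) (.node 9423 (.leaf 80258) (.leaf 150641))))) (.node 9432 (.node 9428 (.node 9426 (.node 9425 (.leaf 150768) (.leaf 80273)) (.node 9427 (.leaf 80274) (.leaf 80289))) (.node 9430 (.node 9429 (.leaf 80305) (.leaf 80306)) (.node 9431 (.leaf 150864) (.leaf 80322)))) (.node 9436 (.node 9434 (.node 9433 (.leaf 80338) (.leaf 80386)) (.node 9435 (.leaf 150928) (.leaf 150545))) (.node 9438 (.node 9437 (.leaf 150960) (.leaf 80401)) (.node 9439 (.leaf 80402) (.leaf 151008)))))) (.node 9456 (.node 9448 (.node 9444 (.node 9442 (.node 9441 (.leaf 80434) (.leaf 80449)) (.node 9443 (.leaf 151056) (.leaf 80450))) (.node 9446 (.node 9445 (.leaf 151088) (.leaf 80465)) (.node 9447 (.leaf 151120) (.leaf 144482)))) (.node 9452 (.node 9450 (.node 9449 (.leaf 144449) (.leaf 151168)) (.node 9451 (.leaf 80481) (.leaf 80482))) (.node 9454 (.node 9453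 (.leaf 151074) (.leaf 80498)) (.node 9455 (.leaf 151248) (.leaf 151121))))) (.node 9464 (.node 9460 (.node 9458 (.node 9457 (.leaf 80513) (.leaf 150881)) (.node 9459 (.leaf 80514) (.leaf 80545))) (.node 9462 (.node 9461 (.leaf 80546) (.leaf 80577)) (.node 9463 (.leaf 80578) (.leaf 151392)))) (.node 9468 (.node 9466 (.node 9465 (.leaf 80642) (.leaf 80914)) (.node 9467 (.leaf 80769) (.leaf 80673))) (.node 9470 (.node 9469 (.leaf 80674) (.leaf 89106)) (.node 9471 (.leaf 151506) (.leaf 151520))))))))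

/-- block of `nd` -/
def nd_37 : Tr := .node 9600 (.node 9536 (.node 9504 (.node 9488 (.node 9480 (.node 9476 (.node 9474 (.node 9473 (.leaf 80706) (.leaf 80770)) (.node 9475 (.leaf 80785) (.leaf 80802))) (.node 9478 (.node 9477 (.leaf 151585) (.leaf 151616)) (.node 9479 (.leaf 80817) (.leaf 151648)))) (.node 9484 (.node 9482 (.node 9481 (.leaf 80849) (.leaf 80850)) (.node 9483 (.leaf 151666) (.leaf 80897))) (.node 9486 (.node 9485 (.leaf 80913) (.leaf 80994)) (.node 9487 (.leaf 151760) (.leaf 151201))))) (.node 9496 (.node 9492 (.node 9490 (.node 9489 (.leaf 151218) (.leaf 81058)) (.node 9491 (.leaf 118546) (.leaf 81106))) (.node 9494 (.node 9493 (.leaf 112786) (.leaf 81233)) (.node 9495 (.leaf 151888) (.leaf 81234)))) (.node 9500 (.node 9498 (.node 9497 (.leaf 151920) (.leaf 81266)) (.node 9499 (.leaf 131425) (.leaf 81377))) (.node 9502 (.node 9501 (.leaf 151984) (.leaf 82562)) (.node 9503 (.leaf 152016) (.leaf 81393))))))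 (.node 9520 (.node 9512 (.node 9508 (.node 9506 (.node 9505 (.leaf 81490) (.leaf 152064)) (.node 9507 (.leaf 141329) (.leaf 152096))) (.node 9510 (.node 9509 (.leaf 141474) (.leaf 111185)) (.node 9511 (.leaf 152144) (.leaf 81505)))) (.node 9516 (.node 9514 (.node 9513 (.leaf 152176) (.leaf 98546)) (.node 9515 (.leaf 98513) (.leaf 117266))) (.node 9518 (.node 9517 (.leaf 152240) (.leaf 81521)) (.node 9519 (.leaf 150178) (.leaf 81522))))) (.node 9528 (.node 9524 (.node 9522 (.node 9521 (.leaf 113122) (.leaf 150177)) (.node 9523 (.leaf 81585) (.leaf 152352))) (.node 9526 (.node 9525 (.leaf 81586) (.leaf 152384)) (.node 9527 (.leaf 81618) (.leaf 81762)))) (.node 9532 (.node 9530 (.node 9529 (.leaf 92497) (.leaf 81794)) (.node 9531 (.leaf 89345) (.leaf 81826))) (.node 9534 (.node 9533 (.leaf 90306) (.leaf 82002)) (.node 9535 (.leaf 82161) (.leaf 82033))))))) (.node 9568 (.node 9552 (.node 9544 (.node 9540 (.node 9538 (.node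 9537 (.leaf 103009) (.leaf 152576)) (.node 9539 (.leaf 82641) (.leaf 152608))) (.node 9542 (.node 9541 (.leaf 82050) (.leaf 152640)) (.node 9543 (.leaf 82065) (.leaf 82193)))) (.node 9548 (.node 9546 (.node 9545 (.leaf 82066) (.leaf 82098)) (.node 9547 (.leaf 152720) (.leaf 82129))) (.node 9550 (.node 9549 (.leaf 82130) (.leaf 82145)) (.node 9551 (.leaf 82162) (.leaf 82178))))) (.node 9560 (.node 9556 (.node 9554 (.node 9553 (.leaf 152785) (.leaf 82209)) (.node 9555 (.leaf 82242) (.leaf 152849))) (.node 9558 (.node 9557 (.leaf 152880) (.leaf 82305)) (.node 9559 (.leaf 82306) (.leaf 82337)))) (.node 9564 (.node 9562 (.node 9561 (.leaf 152944) (.leaf 82338)) (.node 9563 (.leaf 82353) (.leaf 82369))) (.node 9566 (.node 9565 (.leaf 82770) (.leaf 82370)) (.node 9567 (.leaf 153040) (.leaf 82450)))))) (.node 9584 (.node 9576 (.node 9572 (.node 9570 (.node 9569 (.leaf 153072) (.leaf 144961)) (.node 9571 (.leaf 82497) (.leaf 82513)))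 (.node 9574 (.node 9573 (.leaf 82514) (.leaf 153152)) (.node 9575 (.leaf 82530) (.leaf 82546)))) (.node 9580 (.node 9578 (.node 9577 (.leaf 105569) (.leaf 82577)) (.node 9579 (.leaf 82578) (.leaf 153248))) (.node 9582 (.node 9581 (.leaf 82610) (.leaf 82738)) (.node 9583 (.leaf 82657) (.leaf 153312))))) (.node 9592 (.node 9588 (.node 9586 (.node 9585 (.leaf 82690) (.leaf 153344)) (.node 9587 (.leaf 153313) (.leaf 82705))) (.node 9590 (.node 9589 (.leaf 153169) (.leaf 82721)) (.node 9591 (.leaf 82737) (.leaf 82801)))) (.node 9596 (.node 9594 (.node 9593 (.leaf 82802) (.leaf 82817)) (.node 9595 (.leaf 82834) (.leaf 82850))) (.node 9598 (.node 9597 (.leaf 153520) (.leaf 82866)) (.node 9599 (.leaf 82913) (.leaf 153568)))))))) (.node 9664 (.node 9632 (.node 9616 (.node 9608 (.node 9604 (.node 9602 (.node 9601 (.leaf 82929) (.leaf 96562)) (.node 9603 (.leaf 153616) (.leaf 83009))) (.node 9606 (.node 9605 (.leaf 153554) (.leaf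 153664)) (.node 9607 (.leaf 83106) (.leaf 83137)))) (.node 9612 (.node 9610 (.node 9609 (.leaf 87410) (.leaf 83138)) (.node 9611 (.leaf 92434) (.leaf 101106))) (.node 9614 (.node 9613 (.leaf 153362) (.leaf 108498)) (.node 9615 (.leaf 153808) (.leaf 113458))))) (.node 9624 (.node 9620 (.node 9618 (.node 9617 (.leaf 153840) (.leaf 98769)) (.node 9619 (.leaf 142978) (.leaf 137937))) (.node 9622 (.node 9621 (.leaf 137938) (.leaf 137905)) (.node 9623 (.leaf 137906) (.leaf 137953)))) (.node 9628 (.node 9626 (.node 9625 (.leaf 137970) (.leaf 153984)) (.node 9627 (.leaf 88914) (.leaf 129954))) (.node 9630 (.node 9629 (.leaf 129937) (.leaf 131378)) (.node 9631 (.leaf 131377) (.leaf 131330)))))) (.node 9648 (.node 9640 (.node 9636 (.node 9634 (.node 9633 (.leaf 131313) (.leaf 154112)) (.node 9635 (.leaf 149298) (.leaf 154144))) (.node 9638 (.node 9637 (.leaf 96513) (.leaf 154176)) (.node 9639 (.leaf 110338) (.leaf 154208)))) (.node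 9644 (.node 9642 (.node 9641 (.leaf 130977) (.leaf 154240)) (.node 9643 (.leaf 117410) (.leaf 121345))) (.node 9646 (.node 9645 (.leaf 144305) (.leaf 154272)) (.node 9647 (.leaf 133873) (.leaf 154336))))) (.node 9656 (.node 9652 (.node 9650 (.node 9649 (.leaf 133874) (.leaf 154368)) (.node 9651 (.leaf 126674) (.leaf 126657))) (.node 9654 (.node 9653 (.leaf 133026) (.leaf 133201)) (.node 9655 (.leaf 133218) (.leaf 133282)))) (.node 9660 (.node 9658 (.node 9657 (.leaf 133249) (.leaf 133234)) (.node 9659 (.leaf 154512) (.leaf 133041))) (.node 9662 (.node 9661 (.leaf 132993) (.leaf 154560)) (.node 9663 (.leaf 130114) (.leaf 130113))))))) (.node 9696 (.node 9680 (.node 9672 (.node 9668 (.node 9666 (.node 9665 (.leaf 133457) (.leaf 138498)) (.node 9667 (.leaf 154640) (.leaf 109393))) (.node 9670 (.node 9669 (.leaf 109410) (.leaf 154688)) (.node 9671 (.leaf 154624) (.leaf 140754)))) (.node 9676 (.node 9674 (.node 9673 (.leaf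 140737) (.leaf 154752)) (.node 9675 (.leaf 112562) (.leaf 154784))) (.node 9678 (.node 9677 (.leaf 149217) (.leaf 110546)) (.node 9679 (.leaf 154832) (.leaf 110434))))) (.node 9688 (.node 9684 (.node 9682 (.node 9681 (.leaf 120865) (.leaf 154880)) (.node 9683 (.leaf 151889) (.leaf 151906))) (.node 9686 (.node 9685 (.leaf 154912) (.leaf 151922)) (.node 9687 (.leaf 84562) (.leaf 117378)))) (.node 9692 (.node 9690 (.node 9689 (.leaf 154992) (.leaf 116913)) (.node 9691 (.leaf 113234) (.leaf 113217))) (.node 9694 (.node 9693 (.leaf 155056) (.leaf 138690)) (.node 9695 (.leaf 155088) (.leaf 138689)))))) (.node 9712 (.node 9704 (.node 9700 (.node 9698 (.node 9697 (.leaf 155120) (.leaf 140226)) (.node 9699 (.leaf 126833) (.leaf 131090))) (.node 9702 (.node 9701 (.leaf 155184) (.leaf 135585)) (.node 9703 (.leaf 135650) (.leaf 155232)))) (.node 9708 (.node 9706 (.node 9705 (.leaf 118690) (.leaf 118705)) (.node 9707 (.leaf 155280)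 (.leaf 155264))) (.node 9710 (.node 9709 (.leaf 118657) (.leaf 116146)) (.node 9711 (.leaf 151266) (.leaf 138754))))) (.node 9720 (.node 9716 (.node 9714 (.node 9713 (.leaf 138721) (.leaf 83202)) (.node 9715 (.leaf 155408) (.leaf 155425))) (.node 9718 (.node 9717 (.leaf 83217) (.leaf 83234)) (.node 9719 (.leaf 155457) (.leaf 155488)))) (.node 9724 (.node 9722 (.node 9721 (.leaf 83649) (.leaf 83282)) (.node 9723 (.leaf 155536) (.leaf 83298))) (.node 9726 (.node 9725 (.leaf 84737) (.leaf 155584)) (.node 9727 (.leaf 83314) (.leaf 83346))))))))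

/-- block of `nd` -/
def nd_38 : Tr := .node 9856 (.node 9792 (.node 9760 (.node 9744 (.node 9736 (.node 9732 (.node 9730 (.node 9729 (.leaf 155632) (.leaf 83377)) (.node 9731 (.leaf 95890) (.leaf 155680))) (.node 9734 (.node 9733 (.leaf 87681) (.leaf 83521)) (.node 9735 (.leaf 83569) (.leaf 83570)))) (.node 9740 (.node 9738 (.node 9737 (.leaf 83681) (.leaf 83586)) (.node 9739 (.leaf 155792) (.leaf 88017))) (.node 9742 (.node 9741 (.leaf 83729) (.leaf 155840)) (.node 9743 (.leaf 92450) (.leaf 83618))))) (.node 9752 (.node 9748 (.node 9746 (.node 9745 (.leaf 83650) (.leaf 83745)) (.node 9747 (.leaf 105282) (.leaf 83746))) (.node 9750 (.node 9749 (.leaf 105281) (.leaf 83809)) (.node 9751 (.leaf 155984) (.leaf 83810)))) (.node 9756 (.node 9754 (.node 9753 (.leaf 83825) (.leaf 156032)) (.node 9755 (.leaf 83841) (.leaf 84338))) (.node 9758 (.node 9757 (.leaf 83842) (.leaf 83858)) (.node 9759 (.leaf 156112) (.leaf 156033))))))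 (.node 9776 (.node 9768 (.node 9764 (.node 9762 (.node 9761 (.leaf 83874) (.leaf 83905)) (.node 9763 (.leaf 83906) (.leaf 83938))) (.node 9766 (.node 9765 (.leaf 153569) (.leaf 83969)) (.node 9767 (.leaf 156240) (.leaf 83970)))) (.node 9772 (.node 9770 (.node 9769 (.leaf 84001) (.leaf 84034)) (.node 9771 (.leaf 84545) (.leaf 94898))) (.node 9774 (.node 9773 (.leaf 84049) (.leaf 156352)) (.node 9775 (.leaf 84066) (.leaf 156384))))) (.node 9784 (.node 9780 (.node 9778 (.node 9777 (.leaf 84082) (.leaf 84114)) (.node 9779 (.leaf 156289) (.leaf 156448))) (.node 9782 (.node 9781 (.leaf 153681) (.leaf 84129)) (.node 9783 (.leaf 96706) (.leaf 156512)))) (.node 9788 (.node 9786 (.node 9785 (.leaf 84145) (.leaf 84146)) (.node 9787 (.leaf 84306) (.leaf 84225))) (.node 9790 (.node 9789 (.leaf 156592) (.leaf 84258)) (.node 9791 (.leaf 156624) (.leaf 104385))))))) (.node 9824 (.node 9808 (.node 9800 (.node 9796 (.node 9794 (.node 9793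 (.leaf 156593) (.leaf 156672)) (.node 9795 (.leaf 84273) (.leaf 156401))) (.node 9798 (.node 9797 (.leaf 84274) (.leaf 84289)) (.node 9799 (.leaf 84305) (.leaf 84322)))) (.node 9804 (.node 9802 (.node 9801 (.leaf 84337) (.leaf 156800)) (.node 9803 (.leaf 84433) (.leaf 156832))) (.node 9806 (.node 9805 (.leaf 153074) (.leaf 84577)) (.node 9807 (.leaf 90321) (.leaf 84578))))) (.node 9816 (.node 9812 (.node 9810 (.node 9809 (.leaf 156912) (.leaf 84657)) (.node 9811 (.leaf 156944) (.leaf 84689))) (.node 9814 (.node 9813 (.leaf 155553) (.leaf 84722)) (.node 9815 (.leaf 84753) (.leaf 84785)))) (.node 9820 (.node 9818 (.node 9817 (.leaf 138145) (.leaf 84786)) (.node 9819 (.leaf 84801) (.leaf 157088))) (.node 9822 (.node 9821 (.leaf 84817) (.leaf 85410)) (.node 9823 (.leaf 84818) (.leaf 157152)))))) (.node 9840 (.node 9832 (.node 9828 (.node 9826 (.node 9825 (.leaf 84834) (.leaf 157184)) (.node 9827 (.leaf 157089) (.leaf 157216)))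 (.node 9830 (.node 9829 (.leaf 84850) (.leaf 84881)) (.node 9831 (.leaf 145314) (.leaf 84882)))) (.node 9836 (.node 9834 (.node 9833 (.leaf 157282) (.leaf 84945)) (.node 9835 (.leaf 84962) (.leaf 84977))) (.node 9838 (.node 9837 (.leaf 157360) (.leaf 84994)) (.node 9839 (.leaf 154002) (.leaf 85010))))) (.node 9848 (.node 9844 (.node 9842 (.node 9841 (.leaf 157361) (.leaf 85057)) (.node 9843 (.leaf 85058) (.leaf 87090))) (.node 9846 (.node 9845 (.leaf 85090) (.leaf 157504)) (.node 9847 (.leaf 85121) (.leaf 85122)))) (.node 9852 (.node 9850 (.node 9849 (.leaf 85154) (.leaf 157568)) (.node 9851 (.leaf 157329) (.leaf 157600))) (.node 9854 (.node 9853 (.leaf 85186) (.leaf 85378)) (.node 9855 (.leaf 85217) (.leaf 89057)))))))) (.node 9920 (.node 9888 (.node 9872 (.node 9864 (.node 9860 (.node 9858 (.node 9857 (.leaf 85313) (.leaf 85346)) (.node 9859 (.leaf 157712) (.leaf 85361))) (.node 9862 (.node 9861 (.leaf 157744) (.leaf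 85377)) (.node 9863 (.leaf 157776) (.leaf 85394)))) (.node 9868 (.node 9866 (.node 9865 (.leaf 157745) (.leaf 157824)) (.node 9867 (.leaf 85409) (.leaf 157856))) (.node 9870 (.node 9869 (.leaf 85425) (.leaf 157888)) (.node 9871 (.leaf 85441) (.leaf 157920))))) (.node 9880 (.node 9876 (.node 9874 (.node 9873 (.leaf 85442) (.leaf 85458)) (.node 9875 (.leaf 157968) (.leaf 157889))) (.node 9878 (.node 9877 (.leaf 158000) (.leaf 85505)) (.node 9879 (.leaf 85537) (.leaf 85538)))) (.node 9884 (.node 9882 (.node 9881 (.leaf 85569) (.leaf 158080)) (.node 9883 (.leaf 85601) (.leaf 99058))) (.node 9886 (.node 9885 (.leaf 158112) (.leaf 85602)) (.node 9887 (.leaf 157937) (.leaf 99057)))))) (.node 9904 (.node 9896 (.node 9892 (.node 9890 (.node 9889 (.leaf 85650) (.leaf 158146)) (.node 9891 (.leaf 85697) (.leaf 85729))) (.node 9894 (.node 9893 (.leaf 158256) (.leaf 85730)) (.node 9895 (.leaf 85777) (.leaf 85778)))) (.node 9900 (.node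 9898 (.node 9897 (.leaf 158320) (.leaf 158033)) (.node 9899 (.leaf 158352) (.leaf 85937))) (.node 9902 (.node 9901 (.leaf 158384) (.leaf 85938)) (.node 9903 (.leaf 85954) (.leaf 158432))))) (.node 9912 (.node 9908 (.node 9906 (.node 9905 (.leaf 141697) (.leaf 86593)) (.node 9907 (.leaf 91586) (.leaf 158496))) (.node 9910 (.node 9909 (.leaf 85985) (.leaf 86033)) (.node 9911 (.leaf 158544) (.leaf 121858)))) (.node 9916 (.node 9914 (.node 9913 (.leaf 86065) (.leaf 158592)) (.node 9915 (.leaf 86081) (.leaf 158624))) (.node 9918 (.node 9917 (.leaf 102850) (.leaf 102833)) (.node 9919 (.leaf 86322) (.leaf 86097))))))) (.node 9952 (.node 9936 (.node 9928 (.node 9924 (.node 9922 (.node 9921 (.leaf 86098) (.leaf 158610)) (.node 9923 (.leaf 158704) (.leaf 86129))) (.node 9926 (.node 9925 (.leaf 86130) (.leaf 158784)) (.node 9927 (.leaf 158768) (.leaf 86194)))) (.node 9932 (.node 9930 (.node 9929 (.leaf 158832) (.leaf 86209)) (.node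 9931 (.leaf 86226) (.leaf 86242))) (.node 9934 (.node 9933 (.leaf 158865) (.leaf 86257)) (.node 9935 (.leaf 86290) (.leaf 158944))))) (.node 9944 (.node 9940 (.node 9938 (.node 9937 (.leaf 86354) (.leaf 86450)) (.node 9939 (.leaf 158992) (.leaf 86466))) (.node 9942 (.node 9941 (.leaf 86577) (.leaf 158337)) (.node 9943 (.leaf 86674) (.leaf 159072)))) (.node 9948 (.node 9946 (.node 9945 (.leaf 127633) (.leaf 86689)) (.node 9947 (.leaf 86913) (.leaf 159136))) (.node 9950 (.node 9949 (.leaf 87009) (.leaf 159168)) (.node 9951 (.leaf 87057) (.leaf 159200)))))) (.node 9968 (.node 9960 (.node 9956 (.node 9954 (.node 9953 (.leaf 87058) (.leaf 87073)) (.node 9955 (.leaf 87089) (.leaf 87106))) (.node 9958 (.node 9957 (.leaf 159249) (.leaf 87121)) (.node 9959 (.leaf 159312) (.leaf 87122)))) (.node 9964 (.node 9962 (.node 9961 (.leaf 87137) (.leaf 87153)) (.node 9963 (.leaf 87154) (.leaf 87170))) (.node 9966 (.node 9965 (.leaf 159408)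 (.leaf 155665)) (.node 9967 (.leaf 159361) (.leaf 87201))))) (.node 9976 (.node 9972 (.node 9970 (.node 9969 (.leaf 159472) (.leaf 87202)) (.node 9971 (.leaf 87233) (.leaf 87234))) (.node 9974 (.node 9973 (.leaf 95457) (.leaf 87297)) (.node 9975 (.leaf 159569) (.leaf 159584)))) (.node 9980 (.node 9978 (.node 9977 (.leaf 159602) (.leaf 87442)) (.node 9979 (.leaf 159154) (.leaf 87474))) (.node 9982 (.node 9981 (.leaf 105409) (.leaf 95266)) (.node 9983 (.leaf 159696) (.leaf 87778))))))))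

/-- block of `nd` -/
def nd_39 : Tr := .node 10112 (.node 10048 (.node 10016 (.node 10000 (.node 9992 (.node 9988 (.node 9986 (.node 9985 (.leaf 159728) (.leaf 88066)) (.node 9987 (.leaf 88098) (.leaf 88225))) (.node 9990 (.node 9989 (.leaf 88226) (.leaf 100226)) (.node 9991 (.leaf 88306) (.leaf 159840)))) (.node 9996 (.node 9994 (.node 9993 (.leaf 88369) (.leaf 88370)) (.node 9995 (.leaf 159888) (.leaf 88401))) (.node 9998 (.node 9997 (.leaf 159920) (.leaf 88433)) (.node 9999 (.leaf 88449) (.leaf 88450))))) (.node 10008 (.node 10004 (.node 10002 (.node 10001 (.leaf 159984) (.leaf 88577)) (.node 10003 (.leaf 88481) (.leaf 160032))) (.node 10006 (.node 10005 (.leaf 151570) (.leaf 151457)) (.node 10007 (.leaf 88514) (.leaf 160033)))) (.node 10012 (.node 10010 (.node 10009 (.leaf 160112) (.leaf 88529)) (.node 10011 (.leaf 160001) (.leaf 88530))) (.node 10014 (.node 10013 (.leaf 160176) (.leaf 88562)) (.node 10015 (.leaf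 128737) (.leaf 160224)))))) (.node 10032 (.node 10024 (.node 10020 (.node 10018 (.node 10017 (.leaf 88609) (.leaf 88610)) (.node 10019 (.leaf 88658) (.leaf 160288))) (.node 10022 (.node 10021 (.leaf 88705) (.leaf 96162)) (.node 10023 (.leaf 97297) (.leaf 88737)))) (.node 10028 (.node 10026 (.node 10025 (.leaf 88738) (.leaf 88769)) (.node 10027 (.leaf 128930) (.leaf 88802))) (.node 10030 (.node 10029 (.leaf 88850) (.leaf 89265)) (.node 10031 (.leaf 88946) (.leaf 160480))))) (.node 10040 (.node 10036 (.node 10034 (.node 10033 (.leaf 89058) (.leaf 89073)) (.node 10035 (.leaf 130561) (.leaf 89089))) (.node 10038 (.node 10037 (.leaf 160560) (.leaf 89122)) (.node 10039 (.leaf 160561) (.leaf 160608)))) (.node 10044 (.node 10042 (.node 10041 (.leaf 89137) (.leaf 89297)) (.node 10043 (.leaf 89138) (.leaf 89201))) (.node 10046 (.node 10045 (.leaf 160688) (.leaf 89202)) (.node 10047 (.leaf 160720) (.leaf 89233))))))) (.node 10080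 (.node 10064 (.node 10056 (.node 10052 (.node 10050 (.node 10049 (.leaf 89234) (.leaf 89249)) (.node 10051 (.leaf 89266) (.leaf 89282))) (.node 10054 (.node 10053 (.leaf 160816) (.leaf 160785)) (.node 10055 (.leaf 89298) (.leaf 89569)))) (.node 10060 (.node 10058 (.node 10057 (.leaf 160880) (.leaf 89570)) (.node 10059 (.leaf 89585) (.leaf 160928))) (.node 10062 (.node 10061 (.leaf 89618) (.leaf 160929)) (.node 10063 (.leaf 89634) (.leaf 89665))))) (.node 10072 (.node 10068 (.node 10066 (.node 10065 (.leaf 161008) (.leaf 89666)) (.node 10067 (.leaf 89698) (.leaf 161056))) (.node 10070 (.node 10069 (.leaf 94529) (.leaf 89729)) (.node 10071 (.leaf 161104) (.leaf 89730)))) (.node 10076 (.node 10074 (.node 10073 (.leaf 152369) (.leaf 152370)) (.node 10075 (.leaf 89745) (.leaf 161184))) (.node 10078 (.node 10077 (.leaf 89761) (.leaf 161216)) (.node 10079 (.leaf 89778) (.leaf 161248)))))) (.node 10096 (.node 10088 (.node 10084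 (.node 10082 (.node 10081 (.leaf 161185) (.leaf 161280)) (.node 10083 (.leaf 89793) (.leaf 161312))) (.node 10086 (.node 10085 (.leaf 89794) (.leaf 90385)) (.node 10087 (.leaf 89858) (.leaf 161376)))) (.node 10092 (.node 10090 (.node 10089 (.leaf 89889) (.leaf 161408)) (.node 10091 (.leaf 89906) (.leaf 161440))) (.node 10094 (.node 10093 (.leaf 161217) (.leaf 161472)) (.node 10095 (.leaf 89921) (.leaf 89922))))) (.node 10104 (.node 10100 (.node 10098 (.node 10097 (.leaf 161520) (.leaf 89953)) (.node 10099 (.leaf 89969) (.leaf 161568))) (.node 10102 (.node 10101 (.leaf 89970) (.leaf 161600)) (.node 10103 (.leaf 89986) (.leaf 161632)))) (.node 10108 (.node 10106 (.node 10105 (.leaf 161553) (.leaf 90033)) (.node 10107 (.leaf 90034) (.leaf 155073))) (.node 10110 (.node 10109 (.leaf 155074) (.leaf 161728)) (.node 10111 (.leaf 161696) (.leaf 161762)))))))) (.node 10176 (.node 10144 (.node 10128 (.node 10120 (.node 10116 (.node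 10114 (.node 10113 (.leaf 157938) (.leaf 104402)) (.node 10115 (.leaf 161808) (.leaf 102417))) (.node 10118 (.node 10117 (.leaf 149234) (.leaf 122097)) (.node 10119 (.leaf 104369) (.leaf 90097)))) (.node 10124 (.node 10122 (.node 10121 (.leaf 161904) (.leaf 90098)) (.node 10123 (.leaf 161936) (.leaf 90113))) (.node 10126 (.node 10125 (.leaf 90146) (.leaf 161984)) (.node 10127 (.leaf 161969) (.leaf 162016))))) (.node 10136 (.node 10132 (.node 10130 (.node 10129 (.leaf 90161) (.leaf 90162)) (.node 10131 (.leaf 90545) (.leaf 90193))) (.node 10134 (.node 10133 (.leaf 90225) (.leaf 102418)) (.node 10135 (.leaf 162128) (.leaf 90305)))) (.node 10140 (.node 10138 (.node 10137 (.leaf 162160) (.leaf 90353)) (.node 10139 (.leaf 159745) (.leaf 90354))) (.node 10142 (.node 10141 (.leaf 162224) (.leaf 90369)) (.node 10143 (.leaf 162256) (.leaf 156162)))))) (.node 10160 (.node 10152 (.node 10148 (.node 10146 (.node 10145 (.leaf 162288)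 (.leaf 90386)) (.node 10147 (.leaf 90417) (.leaf 90418))) (.node 10150 (.node 10149 (.leaf 162352) (.leaf 90513)) (.node 10151 (.leaf 90577) (.leaf 90514)))) (.node 10156 (.node 10154 (.node 10153 (.leaf 90529) (.leaf 90546)) (.node 10155 (.leaf 162448) (.leaf 90562))) (.node 10158 (.node 10157 (.leaf 162433) (.leaf 162496)) (.node 10159 (.leaf 90578) (.leaf 90593))))) (.node 10168 (.node 10164 (.node 10162 (.node 10161 (.leaf 162544) (.leaf 90609)) (.node 10163 (.leaf 162576) (.leaf 90610))) (.node 10166 (.node 10165 (.leaf 90818) (.leaf 90626)) (.node 10167 (.leaf 162545) (.leaf 90641)))) (.node 10172 (.node 10170 (.node 10169 (.leaf 129377) (.leaf 90642)) (.node 10171 (.leaf 162704) (.leaf 90753))) (.node 10174 (.node 10173 (.leaf 157729) (.leaf 90754)) (.node 10175 (.leaf 90785) (.leaf 90786))))))) (.node 10208 (.node 10192 (.node 10184 (.node 10180 (.node 10178 (.node 10177 (.leaf 91185) (.leaf 91186)) (.node 10179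 (.leaf 162832) (.leaf 91233))) (.node 10182 (.node 10181 (.leaf 162369) (.leaf 105697)) (.node 10183 (.leaf 162896) (.leaf 127554)))) (.node 10188 (.node 10186 (.node 10185 (.leaf 91361) (.leaf 162944)) (.node 10187 (.leaf 91362) (.leaf 162976))) (.node 10190 (.node 10189 (.leaf 91377) (.leaf 91394)) (.node 10191 (.leaf 163009) (.leaf 91441))))) (.node 10200 (.node 10196 (.node 10194 (.node 10193 (.leaf 91442) (.leaf 91474)) (.node 10195 (.leaf 91522) (.leaf 91666))) (.node 10198 (.node 10197 (.leaf 91649) (.leaf 163136)) (.node 10199 (.leaf 91665) (.leaf 163168)))) (.node 10204 (.node 10202 (.node 10201 (.leaf 91682) (.leaf 163137)) (.node 10203 (.leaf 163216) (.leaf 91890))) (.node 10206 (.node 10205 (.leaf 92626) (.leaf 91985)) (.node 10207 (.leaf 91986) (.leaf 163296)))))) (.node 10224 (.node 10216 (.node 10212 (.node 10210 (.node 10209 (.leaf 92049) (.leaf 92065)) (.node 10211 (.leaf 163344) (.leaf 92066))) (.node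 10214 (.node 10213 (.leaf 92194) (.leaf 92082)) (.node 10215 (.leaf 163329) (.leaf 92097)))) (.node 10220 (.node 10218 (.node 10217 (.leaf 163440) (.leaf 92098)) (.node 10219 (.leaf 163472) (.leaf 92113))) (.node 10222 (.node 10221 (.leaf 92129) (.leaf 163520)) (.node 10223 (.leaf 92130) (.leaf 163458))))) (.node 10232 (.node 10228 (.node 10226 (.node 10225 (.leaf 92146) (.leaf 163584)) (.node 10227 (.leaf 158529) (.leaf 163505))) (.node 10230 (.node 10229 (.leaf 92161) (.leaf 162465)) (.node 10231 (.leaf 92162) (.leaf 101153)))) (.node 10236 (.node 10234 (.node 10233 (.leaf 101154) (.leaf 163680)) (.node 10235 (.leaf 92481) (.leaf 92530))) (.node 10238 (.node 10237 (.leaf 158274) (.leaf 92594)) (.node 10239 (.leaf 92609) (.leaf 92642))))))))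

/-- block of `nd` -/
def nd_40 : Tr := .node 10368 (.node 10304 (.node 10272 (.node 10256 (.node 10248 (.node 10244 (.node 10242 (.node 10241 (.leaf 163824) (.leaf 163809)) (.node 10243 (.leaf 163856) (.leaf 92657))) (.node 10246 (.node 10245 (.leaf 92721) (.leaf 92658)) (.node 10247 (.leaf 92673) (.leaf 163937)))) (.node 10252 (.node 10250 (.node 10249 (.leaf 92785) (.leaf 163313)) (.node 10251 (.leaf 158514) (.leaf 92786))) (.node 10254 (.node 10253 (.leaf 92930) (.leaf 164032)) (.node 10255 (.leaf 92945) (.leaf 164064))))) (.node 10264 (.node 10260 (.node 10258 (.node 10257 (.leaf 162306) (.leaf 97842)) (.node 10259 (.leaf 92977) (.leaf 94129))) (.node 10262 (.node 10261 (.leaf 93009) (.leaf 93217)) (.node 10263 (.leaf 93361) (.leaf 161953)))) (.node 10268 (.node 10266 (.node 10265 (.leaf 93362) (.leaf 164224)) (.node 10267 (.leaf 93441) (.leaf 93442))) (.node 10270 (.node 10269 (.leaf 93489) (.leaf 164288)) (.node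 10271 (.leaf 148082) (.leaf 93521)))))) (.node 10288 (.node 10280 (.node 10276 (.node 10274 (.node 10273 (.leaf 104450) (.leaf 164352)) (.node 10275 (.leaf 93522) (.leaf 104449))) (.node 10278 (.node 10277 (.leaf 164400) (.leaf 93537)) (.node 10279 (.leaf 93554) (.leaf 164448)))) (.node 10284 (.node 10282 (.node 10281 (.leaf 93570) (.leaf 164433)) (.node 10283 (.leaf 164496) (.leaf 93586))) (.node 10286 (.node 10285 (.leaf 93617) (.leaf 164544)) (.node 10287 (.leaf 93618) (.leaf 156609))))) (.node 10296 (.node 10292 (.node 10290 (.node 10289 (.leaf 156610) (.leaf 164608)) (.node 10291 (.leaf 164592) (.leaf 164576))) (.node 10294 (.node 10293 (.leaf 93649) (.leaf 93650)) (.node 10295 (.leaf 93681) (.leaf 93762)))) (.node 10300 (.node 10298 (.node 10297 (.leaf 93777) (.leaf 93857)) (.node 10299 (.leaf 93858) (.leaf 104642))) (.node 10302 (.node 10301 (.leaf 93906) (.leaf 138018)) (.node 10303 (.leaf 94001) (.leaf 164832)))))))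 (.node 10336 (.node 10320 (.node 10312 (.node 10308 (.node 10306 (.node 10305 (.leaf 94002) (.leaf 164864)) (.node 10307 (.leaf 94017) (.leaf 164896))) (.node 10310 (.node 10309 (.leaf 94033) (.leaf 164928)) (.node 10311 (.leaf 94050) (.leaf 164897)))) (.node 10316 (.node 10314 (.node 10313 (.leaf 164976) (.leaf 94066)) (.node 10315 (.leaf 156961) (.leaf 94081))) (.node 10318 (.node 10317 (.leaf 165040) (.leaf 94097)) (.node 10319 (.leaf 94098) (.leaf 165088))))) (.node 10328 (.node 10324 (.node 10322 (.node 10321 (.leaf 94114) (.leaf 165120)) (.node 10323 (.leaf 165041) (.leaf 165152))) (.node 10326 (.node 10325 (.leaf 94130) (.leaf 94161)) (.node 10327 (.leaf 94162) (.leaf 165216)))) (.node 10332 (.node 10330 (.node 10329 (.leaf 94194) (.leaf 165248)) (.node 10331 (.leaf 164705) (.leaf 165280))) (.node 10334 (.node 10333 (.leaf 94209) (.leaf 94226)) (.node 10335 (.leaf 165328) (.leaf 165313)))))) (.node 10352 (.node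 10344 (.node 10340 (.node 10338 (.node 10337 (.leaf 94241) (.leaf 165376)) (.node 10339 (.leaf 94242) (.leaf 165408))) (.node 10342 (.node 10341 (.leaf 94257) (.leaf 165440)) (.node 10343 (.leaf 156194) (.leaf 156177)))) (.node 10348 (.node 10346 (.node 10345 (.leaf 94273) (.leaf 94274)) (.node 10347 (.leaf 165394) (.leaf 94290))) (.node 10350 (.node 10349 (.leaf 165441) (.leaf 94305)) (.node 10351 (.leaf 165105) (.leaf 94353))))) (.node 10360 (.node 10356 (.node 10354 (.node 10353 (.leaf 165616) (.leaf 94354)) (.node 10355 (.leaf 165648) (.leaf 94369))) (.node 10358 (.node 10357 (.leaf 94385) (.leaf 94386)) (.node 10359 (.leaf 161122) (.leaf 94402)))) (.node 10364 (.node 10362 (.node 10361 (.leaf 165681) (.leaf 165760)) (.node 10363 (.leaf 94417) (.leaf 94481))) (.node 10366 (.node 10365 (.leaf 94418) (.leaf 94482)) (.node 10367 (.leaf 142385) (.leaf 142386)))))))) (.node 10432 (.node 10400 (.node 10384 (.node 10376 (.node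 10372 (.node 10370 (.node 10369 (.leaf 94497) (.leaf 94514)) (.node 10371 (.leaf 165889) (.leaf 165920))) (.node 10374 (.node 10373 (.leaf 94545) (.leaf 143346)) (.node 10375 (.leaf 143377) (.leaf 143410)))) (.node 10380 (.node 10378 (.node 10377 (.leaf 165968) (.leaf 94546)) (.node 10379 (.leaf 143345) (.leaf 166048))) (.node 10382 (.node 10381 (.leaf 94577) (.leaf 94625)) (.node 10383 (.leaf 166096) (.leaf 94658))))) (.node 10392 (.node 10388 (.node 10386 (.node 10385 (.leaf 166128) (.leaf 165505)) (.node 10387 (.leaf 165522) (.leaf 94945))) (.node 10390 (.node 10389 (.leaf 94946) (.leaf 94978)) (.node 10391 (.leaf 165937) (.leaf 164690)))) (.node 10396 (.node 10394 (.node 10393 (.leaf 95009) (.leaf 95026)) (.node 10395 (.leaf 95058) (.leaf 166273))) (.node 10398 (.node 10397 (.leaf 166320) (.leaf 95074)) (.node 10399 (.leaf 147809) (.leaf 95169)))))) (.node 10416 (.node 10408 (.node 10404 (.node 10402 (.node 10401 (.leaf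 166384) (.leaf 110674)) (.node 10403 (.leaf 95201) (.leaf 95234))) (.node 10406 (.node 10405 (.leaf 95393) (.leaf 95297)) (.node 10407 (.leaf 95425) (.leaf 95329)))) (.node 10412 (.node 10410 (.node 10409 (.leaf 95330) (.leaf 95362)) (.node 10411 (.leaf 166544) (.leaf 95441))) (.node 10414 (.node 10413 (.leaf 95474) (.leaf 95489)) (.node 10415 (.leaf 166608) (.leaf 95490))))) (.node 10424 (.node 10420 (.node 10418 (.node 10417 (.leaf 95505) (.leaf 160994)) (.node 10419 (.leaf 160945) (.leaf 162097))) (.node 10422 (.node 10421 (.leaf 166704) (.leaf 95522)) (.node 10423 (.leaf 166626) (.leaf 95538)))) (.node 10428 (.node 10426 (.node 10425 (.leaf 166768) (.leaf 166657)) (.node 10427 (.leaf 95585) (.leaf 95586))) (.node 10430 (.node 10429 (.leaf 95729) (.leaf 166849)) (.node 10431 (.leaf 166864) (.leaf 152898))))))) (.node 10464 (.node 10448 (.node 10440 (.node 10436 (.node 10434 (.node 10433 (.leaf 95905) (.leaf 105314))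 (.node 10435 (.leaf 95906) (.leaf 105313))) (.node 10438 (.node 10437 (.leaf 166944) (.leaf 105682)) (.node 10439 (.leaf 105665) (.leaf 167008)))) (.node 10444 (.node 10442 (.node 10441 (.leaf 164786) (.leaf 167040)) (.node 10443 (.leaf 157377) (.leaf 161361))) (.node 10446 (.node 10445 (.leaf 167088) (.leaf 163345)) (.node 10447 (.leaf 160306) (.leaf 167136))))) (.node 10456 (.node 10452 (.node 10450 (.node 10449 (.leaf 160305) (.leaf 166530)) (.node 10451 (.leaf 95953) (.leaf 96082))) (.node 10454 (.node 10453 (.leaf 148225) (.leaf 101730)) (.node 10455 (.leaf 96209) (.leaf 96242)))) (.node 10460 (.node 10458 (.node 10457 (.leaf 167280) (.leaf 96273)) (.node 10459 (.leaf 96274) (.leaf 96338))) (.node 10462 (.node 10461 (.leaf 96369) (.leaf 167360)) (.node 10463 (.leaf 96370) (.leaf 167392)))))) (.node 10480 (.node 10472 (.node 10468 (.node 10466 (.node 10465 (.leaf 96401) (.leaf 96433)) (.node 10467 (.leaf 96434) (.leaf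 167456))) (.node 10470 (.node 10469 (.leaf 96449) (.leaf 96465)) (.node 10471 (.leaf 167504) (.leaf 100690)))) (.node 10476 (.node 10474 (.node 10473 (.leaf 96482) (.leaf 167552)) (.node 10475 (.leaf 153361) (.leaf 167489))) (.node 10478 (.node 10477 (.leaf 96497) (.leaf 96498)) (.node 10479 (.leaf 96817) (.leaf 96529))))) (.node 10488 (.node 10484 (.node 10482 (.node 10481 (.leaf 96530) (.leaf 97698)) (.node 10483 (.leaf 96721) (.leaf 96849))) (.node 10486 (.node 10485 (.leaf 96753) (.leaf 155505)) (.node 10487 (.leaf 96785) (.leaf 96801)))) (.node 10492 (.node 10490 (.node 10489 (.leaf 96818) (.leaf 167808)) (.node 10491 (.leaf 96834) (.leaf 96850))) (.node 10494 (.node 10493 (.leaf 96865) (.leaf 96898)) (.node 10495 (.leaf 167888) (.leaf 167873))))))))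

/-- block of `nd` -/
def nd_41 : Tr := .node 10624 (.node 10560 (.node 10528 (.node 10512 (.node 10504 (.node 10500 (.node 10498 (.node 10497 (.leaf 96913) (.leaf 157250)) (.node 10499 (.leaf 158081) (.leaf 167968))) (.node 10502 (.node 10501 (.leaf 96929) (.leaf 96930)) (.node 10503 (.leaf 96946) (.leaf 168032)))) (.node 10508 (.node 10506 (.node 10505 (.leaf 167937) (.leaf 167826)) (.node 10507 (.leaf 168064) (.leaf 96977))) (.node 10510 (.node 10509 (.leaf 167346) (.leaf 168128)) (.node 10511 (.leaf 166338) (.leaf 97090))))) (.node 10520 (.node 10516 (.node 10514 (.node 10513 (.leaf 97265) (.leaf 164369)) (.node 10515 (.leaf 97313) (.leaf 97745))) (.node 10518 (.node 10517 (.leaf 168240) (.leaf 97873)) (.node 10519 (.leaf 97890) (.leaf 168273)))) (.node 10524 (.node 10522 (.node 10521 (.leaf 168304) (.leaf 99090)) (.node 10523 (.leaf 97905) (.leaf 98001))) (.node 10526 (.node 10525 (.leaf 97938) (.leaf 166114)) (.node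 10527 (.leaf 98034) (.leaf 98065)))))) (.node 10544 (.node 10536 (.node 10532 (.node 10530 (.node 10529 (.leaf 168432) (.leaf 98097)) (.node 10531 (.leaf 98113) (.leaf 98114))) (.node 10534 (.node 10533 (.leaf 98242) (.leaf 98130)) (.node 10535 (.leaf 168465) (.leaf 168544)))) (.node 10540 (.node 10538 (.node 10537 (.leaf 98145) (.leaf 168576)) (.node 10539 (.leaf 98146) (.leaf 98177))) (.node 10542 (.node 10541 (.leaf 117138) (.leaf 98178)) (.node 10543 (.leaf 168594) (.leaf 117137))))) (.node 10552 (.node 10548 (.node 10546 (.node 10545 (.leaf 98194) (.leaf 100385)) (.node 10547 (.leaf 168720) (.leaf 164866))) (.node 10550 (.node 10549 (.leaf 164993) (.leaf 168768)) (.node 10551 (.leaf 113186) (.leaf 164994)))) (.node 10556 (.node 10554 (.node 10553 (.leaf 129345) (.leaf 129362)) (.node 10555 (.leaf 168816) (.leaf 161938))) (.node 10558 (.node 10557 (.leaf 168880) (.leaf 161905)) (.node 10559 (.leaf 168912) (.leaf 168752)))))))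 (.node 10592 (.node 10576 (.node 10568 (.node 10564 (.node 10562 (.node 10561 (.leaf 156018) (.leaf 155985)) (.node 10563 (.leaf 168976) (.leaf 164833))) (.node 10566 (.node 10565 (.leaf 98209) (.leaf 129298)) (.node 10567 (.leaf 129538) (.leaf 98210)))) (.node 10572 (.node 10570 (.node 10569 (.leaf 129297) (.leaf 169088)) (.node 10571 (.leaf 98241) (.leaf 130290))) (.node 10574 (.node 10573 (.leaf 98305) (.leaf 98306)) (.node 10575 (.leaf 169168) (.leaf 98466))))) (.node 10584 (.node 10580 (.node 10578 (.node 10577 (.leaf 169200) (.leaf 148849)) (.node 10579 (.leaf 121682) (.leaf 98497))) (.node 10582 (.node 10581 (.leaf 98498) (.leaf 169280)) (.node 10583 (.leaf 98529) (.leaf 98530)))) (.node 10588 (.node 10586 (.node 10585 (.leaf 98593) (.leaf 169185)) (.node 10587 (.leaf 98594) (.leaf 169376))) (.node 10590 (.node 10589 (.leaf 98897) (.leaf 168050)) (.node 10591 (.leaf 150482) (.leaf 169408)))))) (.node 10608 (.node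 10600 (.node 10596 (.node 10594 (.node 10593 (.leaf 98898) (.leaf 168049)) (.node 10595 (.leaf 169488) (.leaf 98945))) (.node 10598 (.node 10597 (.leaf 98994) (.leaf 162305)) (.node 10599 (.leaf 99105) (.leaf 99121)))) (.node 10604 (.node 10602 (.node 10601 (.leaf 169584) (.leaf 99154)) (.node 10603 (.leaf 99505) (.leaf 99201))) (.node 10606 (.node 10605 (.leaf 99217) (.leaf 167298)) (.node 10607 (.leaf 99234) (.leaf 169649))))) (.node 10616 (.node 10612 (.node 10610 (.node 10609 (.leaf 169712) (.leaf 152386)) (.node 10611 (.leaf 169744) (.leaf 169378))) (.node 10614 (.node 10613 (.leaf 169776) (.leaf 169345)) (.node 10615 (.leaf 169808) (.leaf 152353)))) (.node 10620 (.node 10618 (.node 10617 (.leaf 113601) (.leaf 99250)) (.node 10619 (.leaf 169872) (.leaf 99313))) (.node 10622 (.node 10621 (.leaf 161074) (.leaf 169920)) (.node 10623 (.leaf 167361) (.leaf 169952)))))))) (.node 10688 (.node 10656 (.node 10640 (.node 10632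 (.node 10628 (.node 10626 (.node 10625 (.leaf 167394) (.leaf 169904)) (.node 10627 (.leaf 99314) (.leaf 161073))) (.node 10630 (.node 10629 (.leaf 170016) (.leaf 99393)) (.node 10631 (.leaf 99409) (.leaf 170080)))) (.node 10636 (.node 10634 (.node 10633 (.leaf 99410) (.leaf 170112)) (.node 10635 (.leaf 99426) (.leaf 170065))) (.node 10638 (.node 10637 (.leaf 99473) (.leaf 170176)) (.node 10639 (.leaf 99474) (.leaf 170208))))) (.node 10648 (.node 10644 (.node 10642 (.node 10641 (.leaf 99521) (.leaf 99537)) (.node 10643 (.leaf 99538) (.leaf 99554))) (.node 10646 (.node 10645 (.leaf 170288) (.leaf 170241)) (.node 10647 (.leaf 170320) (.leaf 99569)))) (.node 10652 (.node 10650 (.node 10649 (.leaf 170352) (.leaf 99570)) (.node 10651 (.leaf 99585) (.leaf 99601))) (.node 10654 (.node 10653 (.leaf 99602) (.leaf 170370)) (.node 10655 (.leaf 99618) (.leaf 170464)))))) (.node 10672 (.node 10664 (.node 10660 (.node 10658 (.node 10657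 (.leaf 167313) (.leaf 170401)) (.node 10659 (.leaf 99633) (.leaf 170129))) (.node 10662 (.node 10661 (.leaf 99634) (.leaf 168449)) (.node 10663 (.leaf 168450) (.leaf 99665)))) (.node 10668 (.node 10666 (.node 10665 (.leaf 162610) (.leaf 99666)) (.node 10667 (.leaf 99729) (.leaf 153858))) (.node 10670 (.node 10669 (.leaf 170656) (.leaf 170689)) (.node 10671 (.leaf 99730) (.leaf 153857))))) (.node 10680 (.node 10676 (.node 10674 (.node 10673 (.leaf 170736) (.leaf 99761)) (.node 10675 (.leaf 99762) (.leaf 99873))) (.node 10678 (.node 10677 (.leaf 99890) (.leaf 154577)) (.node 10679 (.leaf 126530) (.leaf 99921)))) (.node 10684 (.node 10682 (.node 10681 (.leaf 99937) (.leaf 170880)) (.node 10683 (.leaf 99938) (.leaf 143394))) (.node 10686 (.node 10685 (.leaf 99954) (.leaf 170944)) (.node 10687 (.leaf 170865) (.leaf 99969))))))) (.node 10720 (.node 10704 (.node 10696 (.node 10692 (.node 10690 (.node 10689 (.leaf 100033) (.leaf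 99970)) (.node 10691 (.leaf 171024) (.leaf 100001))) (.node 10694 (.node 10693 (.leaf 100002) (.leaf 171072)) (.node 10695 (.leaf 100065) (.leaf 100066)))) (.node 10700 (.node 10698 (.node 10697 (.leaf 104113) (.leaf 100097)) (.node 10699 (.leaf 100098) (.leaf 100114))) (.node 10702 (.node 10701 (.leaf 170801) (.leaf 100257)) (.node 10703 (.leaf 100258) (.leaf 171232))))) (.node 10712 (.node 10708 (.node 10706 (.node 10705 (.leaf 100273) (.leaf 171264)) (.node 10707 (.leaf 100289) (.leaf 100706))) (.node 10710 (.node 10709 (.leaf 163441) (.leaf 171328)) (.node 10711 (.leaf 100290) (.leaf 100306)))) (.node 10716 (.node 10714 (.node 10713 (.leaf 103457) (.leaf 171265)) (.node 10715 (.leaf 171408) (.leaf 100322))) (.node 10718 (.node 10717 (.leaf 100353) (.leaf 100354)) (.node 10719 (.leaf 100401) (.leaf 100434)))))) (.node 10736 (.node 10728 (.node 10724 (.node 10722 (.node 10721 (.leaf 163570) (.leaf 171489)) (.node 10723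 (.leaf 100482) (.leaf 101729))) (.node 10726 (.node 10725 (.leaf 171568) (.leaf 143618)) (.node 10727 (.leaf 171600) (.leaf 100546)))) (.node 10732 (.node 10730 (.node 10729 (.leaf 100578) (.leaf 105474)) (.node 10731 (.leaf 100721) (.leaf 171442))) (.node 10734 (.node 10733 (.leaf 171696) (.leaf 161490)) (.node 10735 (.leaf 171728) (.leaf 100817))))) (.node 10744 (.node 10740 (.node 10738 (.node 10737 (.leaf 171089) (.leaf 100881)) (.node 10739 (.leaf 101250) (.leaf 171808))) (.node 10742 (.node 10741 (.leaf 171792) (.leaf 100882)) (.node 10743 (.leaf 101249) (.leaf 171872)))) (.node 10748 (.node 10746 (.node 10745 (.leaf 100913) (.leaf 159762)) (.node 10747 (.leaf 171920) (.leaf 171938))) (.node 10750 (.node 10749 (.leaf 171952) (.leaf 101426)) (.node 10751 (.leaf 168225) (.leaf 172000))))))))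

/-- block of `nd` -/
def nd_42 : Tr := .node 10880 (.node 10816 (.node 10784 (.node 10768 (.node 10760 (.node 10756 (.node 10754 (.node 10753 (.leaf 163234) (.leaf 172032)) (.node 10755 (.leaf 101442) (.leaf 157665))) (.node 10758 (.node 10757 (.leaf 171042) (.leaf 172064)) (.node 10759 (.leaf 101553) (.leaf 101554)))) (.node 10764 (.node 10762 (.node 10761 (.leaf 101569) (.leaf 172160)) (.node 10763 (.leaf 101585) (.leaf 172192))) (.node 10766 (.node 10765 (.leaf 101602) (.leaf 172224)) (.node 10767 (.leaf 172161) (.leaf 172256))))) (.node 10776 (.node 10772 (.node 10770 (.node 10769 (.leaf 101618) (.leaf 172288)) (.node 10771 (.leaf 101745) (.leaf 101761))) (.node 10774 (.node 10773 (.leaf 102130) (.leaf 101778)) (.node 10775 (.leaf 172321) (.leaf 101794)))) (.node 10780 (.node 10778 (.node 10777 (.leaf 101825) (.leaf 153330)) (.node 10779 (.leaf 172416) (.leaf 101826))) (.node 10782 (.node 10781 (.leaf 153329) (.leaf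 172480)) (.node 10783 (.leaf 102049) (.leaf 102050)))))) (.node 10800 (.node 10792 (.node 10788 (.node 10786 (.node 10785 (.leaf 172528) (.leaf 102081)) (.node 10787 (.leaf 172560) (.leaf 102082))) (.node 10790 (.node 10789 (.leaf 172592) (.leaf 102114)) (.node 10791 (.leaf 102129) (.leaf 102305)))) (.node 10796 (.node 10794 (.node 10793 (.leaf 166786) (.leaf 172672)) (.node 10795 (.leaf 102306) (.leaf 166785))) (.node 10798 (.node 10797 (.leaf 172720) (.leaf 172704)) (.node 10799 (.leaf 102465) (.leaf 102481))))) (.node 10808 (.node 10804 (.node 10802 (.node 10801 (.leaf 172769) (.leaf 172800)) (.node 10803 (.leaf 102514) (.leaf 102689))) (.node 10806 (.node 10805 (.leaf 102625) (.leaf 102626)) (.node 10807 (.leaf 172880) (.leaf 102657)))) (.node 10812 (.node 10810 (.node 10809 (.leaf 172912) (.leaf 102658)) (.node 10811 (.leaf 102673) (.leaf 102690))) (.node 10814 (.node 10813 (.leaf 102706) (.leaf 172961)) (.node 10815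 (.leaf 102721) (.leaf 102722))))))) (.node 10848 (.node 10832 (.node 10824 (.node 10820 (.node 10818 (.node 10817 (.leaf 173040) (.leaf 103073)) (.node 10819 (.leaf 103426) (.leaf 103138))) (.node 10822 (.node 10821 (.leaf 142673) (.leaf 103218)) (.node 10823 (.leaf 103394) (.leaf 103234)))) (.node 10828 (.node 10826 (.node 10825 (.leaf 103329) (.leaf 103330)) (.node 10827 (.leaf 103361) (.leaf 103362))) (.node 10830 (.node 10829 (.leaf 103377) (.leaf 103393)) (.node 10831 (.leaf 103410) (.leaf 173249))))) (.node 10840 (.node 10836 (.node 10834 (.node 10833 (.leaf 103489) (.leaf 173312)) (.node 10835 (.leaf 103569) (.leaf 142242))) (.node 10838 (.node 10837 (.leaf 103601) (.leaf 171425)) (.node 10839 (.leaf 162530) (.leaf 103794)))) (.node 10844 (.node 10842 (.node 10841 (.leaf 173329) (.leaf 103857)) (.node 10843 (.leaf 173456) (.leaf 103873))) (.node 10846 (.node 10845 (.leaf 160194) (.leaf 103890)) (.node 10847 (.leaf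 173520) (.leaf 116529)))))) (.node 10864 (.node 10856 (.node 10852 (.node 10850 (.node 10849 (.leaf 173457) (.leaf 103937)) (.node 10851 (.leaf 103938) (.leaf 104049))) (.node 10854 (.node 10853 (.leaf 104065) (.leaf 104098)) (.node 10855 (.leaf 104146) (.leaf 173664)))) (.node 10860 (.node 10858 (.node 10857 (.leaf 171137) (.leaf 104161)) (.node 10859 (.leaf 104162) (.leaf 164417))) (.node 10862 (.node 10861 (.leaf 164418) (.leaf 173760)) (.node 10863 (.leaf 104225) (.leaf 108033))))) (.node 10872 (.node 10868 (.node 10866 (.node 10865 (.leaf 173808) (.leaf 126545)) (.node 10867 (.leaf 173840) (.leaf 173857))) (.node 10870 (.node 10869 (.leaf 104241) (.leaf 104257)) (.node 10871 (.leaf 104610) (.leaf 104274)))) (.node 10876 (.node 10874 (.node 10873 (.leaf 173936) (.leaf 173889)) (.node 10875 (.leaf 173968) (.leaf 104322))) (.node 10878 (.node 10877 (.leaf 106514) (.leaf 104482)) (.node 10879 (.leaf 156641) (.leaf 154946))))))))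 (.node 10944 (.node 10912 (.node 10896 (.node 10888 (.node 10884 (.node 10882 (.node 10881 (.leaf 174032) (.leaf 167906)) (.node 10883 (.leaf 104513) (.leaf 173650))) (.node 10886 (.node 10885 (.leaf 174128) (.leaf 104545)) (.node 10887 (.leaf 174160) (.leaf 104546)))) (.node 10892 (.node 10890 (.node 10889 (.leaf 168258) (.leaf 166433)) (.node 10891 (.leaf 174224) (.leaf 104609))) (.node 10894 (.node 10893 (.leaf 174256) (.leaf 104673)) (.node 10895 (.leaf 104737) (.leaf 104689))))) (.node 10904 (.node 10900 (.node 10898 (.node 10897 (.leaf 104706) (.leaf 163538)) (.node 10899 (.leaf 173745) (.leaf 104722))) (.node 10902 (.node 10901 (.leaf 174384) (.leaf 174321)) (.node 10903 (.leaf 104738) (.leaf 174432)))) (.node 10908 (.node 10906 (.node 10905 (.leaf 104786) (.leaf 174464)) (.node 10907 (.leaf 163457) (.leaf 171522))) (.node 10910 (.node 10909 (.leaf 104801) (.leaf 154129)) (.node 10911 (.leaf 104913) (.leaf 104914))))))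 (.node 10928 (.node 10920 (.node 10916 (.node 10914 (.node 10913 (.leaf 104929) (.leaf 104961)) (.node 10915 (.leaf 105505) (.leaf 104962))) (.node 10918 (.node 10917 (.leaf 104994) (.leaf 160274)) (.node 10919 (.leaf 160257) (.leaf 174688)))) (.node 10924 (.node 10922 (.node 10921 (.leaf 139842) (.leaf 139841)) (.node 10923 (.leaf 174736) (.leaf 139810))) (.node 10926 (.node 10925 (.leaf 174768) (.leaf 105025)) (.node 10927 (.leaf 105121) (.leaf 105457))))) (.node 10936 (.node 10932 (.node 10930 (.node 10929 (.leaf 105473) (.leaf 105490)) (.node 10931 (.leaf 105538) (.leaf 127665))) (.node 10934 (.node 10933 (.leaf 105570) (.leaf 105650)) (.node 10935 (.leaf 159218) (.leaf 105953)))) (.node 10940 (.node 10938 (.node 10937 (.leaf 106258) (.leaf 106018)) (.node 10939 (.leaf 151633) (.leaf 150530))) (.node 10942 (.node 10941 (.leaf 106066) (.leaf 106225)) (.node 10943 (.leaf 106242) (.leaf 175057))))))) (.node 10976 (.node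 10960 (.node 10952 (.node 10948 (.node 10946 (.node 10945 (.leaf 175088) (.leaf 106289)) (.node 10947 (.leaf 106306) (.leaf 114833))) (.node 10950 (.node 10949 (.leaf 175152) (.leaf 106322)) (.node 10951 (.leaf 108529) (.leaf 175121)))) (.node 10956 (.node 10954 (.node 10953 (.leaf 175216) (.leaf 118338)) (.node 10955 (.leaf 175248) (.leaf 126945))) (.node 10958 (.node 10957 (.leaf 154386) (.leaf 175296)) (.node 10959 (.leaf 155137) (.leaf 175328))))) (.node 10968 (.node 10964 (.node 10962 (.node 10961 (.leaf 133602) (.leaf 175360)) (.node 10963 (.leaf 117602) (.leaf 175392))) (.node 10966 (.node 10965 (.leaf 148097) (.leaf 175424)) (.node 10967 (.leaf 112241) (.leaf 175456)))) (.node 10972 (.node 10970 (.node 10969 (.leaf 108722) (.leaf 175488)) (.node 10971 (.leaf 108994) (.leaf 108977))) (.node 10974 (.node 10973 (.leaf 148018) (.leaf 175552)) (.node 10975 (.leaf 128673) (.leaf 175584)))))) (.node 10992 (.node 10984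 (.node 10980 (.node 10978 (.node 10977 (.leaf 173681) (.leaf 157906)) (.node 10979 (.leaf 175632) (.leaf 175616))) (.node 10982 (.node 10981 (.leaf 120513) (.leaf 120450)) (.node 10983 (.leaf 175696) (.leaf 170337)))) (.node 10988 (.node 10986 (.node 10985 (.leaf 175728) (.leaf 170338)) (.node 10987 (.leaf 175760) (.leaf 175746))) (.node 10990 (.node 10989 (.leaf 112913) (.leaf 175808)) (.node 10991 (.leaf 112882) (.leaf 175840))))) (.node 11000 (.node 10996 (.node 10994 (.node 10993 (.leaf 113105) (.leaf 175872)) (.node 10995 (.leaf 156929) (.leaf 175904))) (.node 10998 (.node 10997 (.leaf 112849) (.leaf 175936)) (.node 10999 (.leaf 147841) (.leaf 175968)))) (.node 11004 (.node 11002 (.node 11001 (.leaf 157617) (.leaf 176000)) (.node 11003 (.leaf 129633) (.leaf 129650))) (.node 11006 (.node 11005 (.leaf 142225) (.leaf 142210)) (.node 11007 (.leaf 176080) (.leaf 176098))))))))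

/-- block of `nd` -/
def nd_43 : Tr := .node 11136 (.node 11072 (.node 11040 (.node 11024 (.node 11016 (.node 11012 (.node 11010 (.node 11009 (.leaf 176112) (.leaf 175536)) (.node 11011 (.leaf 156241) (.leaf 176160))) (.node 11014 (.node 11013 (.leaf 176064) (.leaf 169889)) (.node 11015 (.leaf 176208) (.leaf 176048)))) (.node 11020 (.node 11018 (.node 11017 (.leaf 176032) (.leaf 175520)) (.node 11019 (.leaf 176274) (.leaf 176288))) (.node 11022 (.node 11021 (.leaf 134641) (.leaf 176320)) (.node 11023 (.leaf 129697) (.leaf 176352))))) (.node 11032 (.node 11028 (.node 11026 (.node 11025 (.leaf 130258) (.leaf 176384)) (.node 11027 (.leaf 115905) (.leaf 120802))) (.node 11030 (.node 11029 (.leaf 176432) (.leaf 176416)) (.node 11031 (.leaf 112513) (.leaf 176480)))) (.node 11036 (.node 11034 (.node 11033 (.leaf 130497) (.leaf 176512)) (.node 11035 (.leaf 112498) (.leaf 172497))) (.node 11038 (.node 11037 (.leaf 176560) (.leaf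 121202)) (.node 11039 (.leaf 176592) (.leaf 176544)))))) (.node 11056 (.node 11048 (.node 11044 (.node 11042 (.node 11041 (.leaf 175792) (.leaf 126353)) (.node 11043 (.leaf 119073) (.leaf 176672))) (.node 11046 (.node 11045 (.leaf 176689) (.leaf 176704)) (.node 11047 (.leaf 176722) (.leaf 161233)))) (.node 11052 (.node 11050 (.node 11049 (.leaf 161458) (.leaf 176768)) (.node 11051 (.leaf 176736) (.leaf 176752))) (.node 11054 (.node 11053 (.leaf 165169) (.leaf 176832)) (.node 11055 (.leaf 108066) (.leaf 176864))))) (.node 11064 (.node 11060 (.node 11058 (.node 11057 (.leaf 146258) (.leaf 176896)) (.node 11059 (.leaf 170225) (.leaf 176928))) (.node 11062 (.node 11061 (.leaf 139554) (.leaf 176960)) (.node 11063 (.leaf 111793) (.leaf 176992)))) (.node 11068 (.node 11066 (.node 11065 (.leaf 115874) (.leaf 115777)) (.node 11067 (.leaf 177040) (.leaf 177057))) (.node 11070 (.node 11069 (.leaf 177072) (.leaf 177089)) (.node 11071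 (.leaf 177104) (.leaf 175346))))))) (.node 11104 (.node 11088 (.node 11080 (.node 11076 (.node 11074 (.node 11073 (.leaf 177136) (.leaf 177153)) (.node 11075 (.leaf 177168) (.leaf 177186))) (.node 11078 (.node 11077 (.leaf 177200) (.leaf 177024)) (.node 11079 (.leaf 177234) (.leaf 177248)))) (.node 11084 (.node 11082 (.node 11081 (.leaf 177266) (.leaf 177280)) (.node 11083 (.leaf 175313) (.leaf 177312))) (.node 11086 (.node 11085 (.leaf 177330) (.leaf 177344)) (.node 11087 (.leaf 177361) (.leaf 177376))))) (.node 11096 (.node 11092 (.node 11090 (.node 11089 (.leaf 128945) (.leaf 170114)) (.node 11091 (.leaf 177424) (.leaf 177408))) (.node 11094 (.node 11093 (.leaf 177458) (.leaf 177472)) (.node 11095 (.leaf 106594) (.leaf 177504)))) (.node 11100 (.node 11098 (.node 11097 (.leaf 170193) (.leaf 177536)) (.node 11099 (.leaf 177554) (.leaf 162689))) (.node 11102 (.node 11101 (.leaf 177584) (.leaf 144498)) (.node 11103 (.leaf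 177616) (.leaf 177634)))))) (.node 11120 (.node 11112 (.node 11108 (.node 11106 (.node 11105 (.leaf 177648) (.leaf 143393)) (.node 11107 (.leaf 170914) (.leaf 146849))) (.node 11110 (.node 11109 (.leaf 177712) (.leaf 177729)) (.node 11111 (.leaf 177744) (.leaf 177696)))) (.node 11116 (.node 11114 (.node 11113 (.leaf 177778) (.leaf 177792)) (.node 11115 (.leaf 177810) (.leaf 177824))) (.node 11118 (.node 11117 (.leaf 177841) (.leaf 177856)) (.node 11119 (.leaf 177874) (.leaf 177890))))) (.node 11128 (.node 11124 (.node 11122 (.node 11121 (.leaf 146402) (.leaf 146465)) (.node 11123 (.leaf 177936) (.leaf 177954))) (.node 11126 (.node 11125 (.leaf 177968) (.leaf 136882)) (.node 11127 (.leaf 148977) (.leaf 149506)))) (.node 11132 (.node 11130 (.node 11129 (.leaf 178032) (.leaf 178016)) (.node 11131 (.leaf 167410) (.leaf 178080))) (.node 11134 (.node 11133 (.leaf 135522) (.leaf 120945)) (.node 11135 (.leaf 178128) (.leaf 178112))))))))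 (.node 11200 (.node 11168 (.node 11152 (.node 11144 (.node 11140 (.node 11138 (.node 11137 (.leaf 178066) (.leaf 178176)) (.node 11139 (.leaf 107441) (.leaf 178208))) (.node 11142 (.node 11141 (.leaf 141489) (.leaf 178240)) (.node 11143 (.leaf 164881) (.leaf 178272)))) (.node 11148 (.node 11146 (.node 11145 (.leaf 109825) (.leaf 178304)) (.node 11147 (.leaf 136562) (.leaf 178336))) (.node 11150 (.node 11149 (.leaf 178322) (.leaf 178368)) (.node 11151 (.leaf 178385) (.leaf 178400))))) (.node 11160 (.node 11156 (.node 11154 (.node 11153 (.leaf 178354) (.leaf 178432)) (.node 11155 (.leaf 119185) (.leaf 178464))) (.node 11158 (.node 11157 (.leaf 178482) (.leaf 178496)) (.node 11159 (.leaf 178514) (.leaf 178528)))) (.node 11164 (.node 11162 (.node 11161 (.leaf 178546) (.leaf 178560)) (.node 11163 (.leaf 178578) (.leaf 178592))) (.node 11166 (.node 11165 (.leaf 178610) (.leaf 178624)) (.node 11167 (.leaf 106657) (.leaf 145378))))))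 (.node 11184 (.node 11176 (.node 11172 (.node 11170 (.node 11169 (.leaf 178672) (.leaf 178656)) (.node 11171 (.leaf 106658) (.leaf 145377))) (.node 11174 (.node 11173 (.leaf 178736) (.leaf 178720)) (.node 11175 (.leaf 178770) (.leaf 178784)))) (.node 11180 (.node 11178 (.node 11177 (.leaf 178753) (.leaf 113554)) (.node 11179 (.leaf 178689) (.leaf 178848))) (.node 11182 (.node 11181 (.leaf 178865) (.leaf 178880)) (.node 11183 (.leaf 178832) (.leaf 176130))))) (.node 11192 (.node 11188 (.node 11186 (.node 11185 (.leaf 176305) (.leaf 178944)) (.node 11187 (.leaf 178961) (.leaf 178976))) (.node 11190 (.node 11189 (.leaf 178993) (.leaf 179008)) (.node 11191 (.leaf 178928) (.leaf 179042)))) (.node 11196 (.node 11194 (.node 11193 (.leaf 179056) (.leaf 179074)) (.node 11195 (.leaf 179088) (.leaf 178816))) (.node 11198 (.node 11197 (.leaf 106769) (.leaf 106770)) (.node 11199 (.leaf 179152) (.leaf 179136))))))) (.node 11232 (.node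 11216 (.node 11208 (.node 11204 (.node 11202 (.node 11201 (.leaf 107409) (.leaf 177521)) (.node 11203 (.leaf 179217) (.leaf 146866))) (.node 11206 (.node 11205 (.leaf 107793) (.leaf 179250)) (.node 11207 (.leaf 179201) (.leaf 120098)))) (.node 11212 (.node 11210 (.node 11209 (.leaf 179312) (.leaf 179330)) (.node 11211 (.leaf 179344) (.leaf 179361))) (.node 11214 (.node 11213 (.leaf 108946) (.leaf 177121)) (.node 11215 (.leaf 179408) (.leaf 179425))))) (.node 11224 (.node 11220 (.node 11218 (.node 11217 (.leaf 179440) (.leaf 179458)) (.node 11219 (.leaf 179472) (.leaf 179392))) (.node 11222 (.node 11221 (.leaf 109777) (.leaf 109873)) (.node 11223 (.leaf 109874) (.leaf 179552)))) (.node 11228 (.node 11226 (.node 11225 (.leaf 109778) (.leaf 142177)) (.node 11227 (.leaf 112850) (.leaf 179616))) (.node 11230 (.node 11229 (.leaf 179633) (.leaf 179648)) (.node 11231 (.leaf 179665) (.leaf 179680)))))) (.node 11248 (.node 11240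 (.node 11236 (.node 11234 (.node 11233 (.leaf 109809) (.leaf 113809)) (.node 11235 (.leaf 109810) (.leaf 178450))) (.node 11238 (.node 11237 (.leaf 179762) (.leaf 179776)) (.node 11239 (.leaf 179793) (.leaf 179808)))) (.node 11244 (.node 11242 (.node 11241 (.leaf 179826) (.leaf 179840)) (.node 11243 (.leaf 179697) (.leaf 179872))) (.node 11246 (.node 11245 (.leaf 179889) (.leaf 179904)) (.node 11247 (.leaf 112081) (.leaf 120225))))) (.node 11256 (.node 11252 (.node 11250 (.node 11249 (.leaf 179953) (.leaf 179968)) (.node 11251 (.leaf 112210) (.leaf 179729))) (.node 11254 (.node 11253 (.leaf 144578) (.leaf 180016)) (.node 11255 (.leaf 118913) (.leaf 161266)))) (.node 11260 (.node 11258 (.node 11257 (.leaf 171281) (.leaf 180096)) (.node 11259 (.leaf 118914) (.leaf 175778))) (.node 11262 (.node 11261 (.leaf 180146) (.leaf 180160)) (.node 11263 (.leaf 180177) (.leaf 180192))))))))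

/-- block of `nd` -/
def nd_44 : Tr := .node 11325 (.node 11294 (.node 11279 (.node 11271 (.node 11267 (.node 11265 (.leaf 180210) (.node 11266 (.leaf 180224) (.leaf 119010))) (.node 11269 (.node 11268 (.leaf 165633) (.leaf 168898)) (.node 11270 (.leaf 180272) (.leaf 147697)))) (.node 11275 (.node 11273 (.node 11272 (.leaf 180320) (.leaf 180338)) (.node 11274 (.leaf 180352) (.leaf 180369))) (.node 11277 (.node 11276 (.leaf 180384) (.leaf 180402)) (.node 11278 (.leaf 180416) (.leaf 180434))))) (.node 11286 (.node 11282 (.node 11280 (.leaf 180448) (.node 11281 (.leaf 180466) (.leaf 180480))) (.node 11284 (.node 11283 (.leaf 120226) (.leaf 150945)) (.node 11285 (.leaf 180528) (.leaf 180512)))) (.node 11290 (.node 11288 (.node 11287 (.leaf 120561) (.leaf 180576)) (.node 11289 (.leaf 169186) (.leaf 180608))) (.node 11292 (.node 11291 (.leaf 120577) (.leaf 179746)) (.node 11293 (.leaf 120578) (.leaf 120818)))))) (.node 11309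 (.node 11301 (.node 11297 (.node 11295 (.leaf 179937) (.node 11296 (.leaf 180704) (.leaf 180688))) (.node 11299 (.node 11298 (.leaf 180738) (.leaf 180752)) (.node 11300 (.leaf 180769) (.leaf 180784)))) (.node 11305 (.node 11303 (.node 11302 (.leaf 121266) (.leaf 121297)) (.node 11304 (.leaf 180832) (.leaf 176402))) (.node 11307 (.node 11306 (.leaf 180864) (.leaf 180850)) (.node 11308 (.leaf 180896) (.leaf 180913))))) (.node 11317 (.node 11313 (.node 11311 (.node 11310 (.leaf 180928) (.leaf 180946)) (.node 11312 (.leaf 180962) (.leaf 180976))) (.node 11315 (.node 11314 (.leaf 180993) (.leaf 181008)) (.node 11316 (.leaf 181026) (.leaf 181040)))) (.node 11321 (.node 11319 (.node 11318 (.leaf 181058) (.leaf 181072)) (.node 11320 (.leaf 126209) (.leaf 176178))) (.node 11323 (.node 11322 (.leaf 176225) (.leaf 181136)) (.node 11324 (.leaf 145569) (.leaf 145570))))))) (.node 11356 (.node 11340 (.node 11332 (.node 11328 (.node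 11326 (.leaf 181184) (.node 11327 (.leaf 181168) (.leaf 181202))) (.node 11330 (.node 11329 (.leaf 181232) (.leaf 181250)) (.node 11331 (.leaf 181264) (.leaf 161265)))) (.node 11336 (.node 11334 (.node 11333 (.leaf 171282) (.leaf 181312)) (.node 11335 (.leaf 181296) (.leaf 162561))) (.node 11338 (.node 11337 (.leaf 170962) (.leaf 181376)) (.node 11339 (.leaf 181360) (.leaf 164641))))) (.node 11348 (.node 11344 (.node 11342 (.node 11341 (.leaf 169442) (.leaf 181440)) (.node 11343 (.leaf 181424) (.leaf 179106))) (.node 11346 (.node 11345 (.leaf 179025) (.leaf 181504)) (.node 11347 (.leaf 181488) (.leaf 167106)))) (.node 11352 (.node 11350 (.node 11349 (.leaf 181217) (.leaf 181346)) (.node 11351 (.leaf 181586) (.leaf 181600))) (.node 11354 (.node 11353 (.leaf 181617) (.leaf 181632)) (.node 11355 (.leaf 181649) (.leaf 181664)))))) (.node 11371 (.node 11363 (.node 11359 (.node 11357 (.leaf 181681) (.node 11358 (.leaf 181696)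 (.leaf 181713))) (.node 11361 (.node 11360 (.leaf 171745) (.leaf 180130)) (.node 11362 (.leaf 180545) (.leaf 171746)))) (.node 11367 (.node 11365 (.node 11364 (.leaf 181792) (.leaf 181809)) (.node 11366 (.leaf 181824) (.leaf 181841))) (.node 11369 (.node 11368 (.leaf 181856) (.leaf 181874)) (.node 11370 (.leaf 181888) (.leaf 181905))))) (.node 11379 (.node 11375 (.node 11373 (.node 11372 (.leaf 176194) (.leaf 176241)) (.node 11374 (.leaf 181952) (.leaf 181936))) (.node 11377 (.node 11376 (.leaf 181986) (.leaf 182000)) (.node 11378 (.leaf 182018) (.leaf 182032)))) (.node 11383 (.node 11381 (.node 11380 (.leaf 178802) (.leaf 179857)) (.node 11382 (.leaf 182080) (.leaf 182097))) (.node 11385 (.node 11384 (.leaf 182112) (.leaf 182130)) (.node 11386 (.leaf 182144) (.leaf 182162)))))))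

/-- node table -/
def nd : Tr := (.node 5632 (.node 2816 (.node 1280 (.node 512 (.node 256 nd_0 nd_1) (.node 768 nd_2 (.node 1024 nd_3 nd_4))) (.node 2048 (.node 1536 nd_5 (.node 1792 nd_6 nd_7)) (.node 2304 nd_8 (.node 2560 nd_9 nd_10)))) (.node 4096 (.node 3328 (.node 3072 nd_11 nd_12) (.node 3584 nd_13 (.node 3840 nd_14 nd_15))) (.node 4864 (.node 4352 nd_16 (.node 4608 nd_17 nd_18)) (.node 5120 nd_19 (.node 5376 nd_20 nd_21))))) (.node 8448 (.node 6912 (.node 6144 (.node 5888 nd_22 nd_23) (.node 6400 nd_24 (.node 6656 nd_25 nd_26))) (.node 7680 (.node 7168 nd_27 (.node 7424 nd_28 nd_29)) (.node 7936 nd_30 (.node 8192 nd_31 nd_32)))) (.node 9984 (.node 9216 (.node 8704 nd_33 (.node 8960 nd_34 nd_35)) (.node 9472 nd_36 (.node 9728 nd_37 nd_38))) (.node 10752 (.node 10240 nd_39 (.node 10496 nd_40 nd_41)) (.node 11008 nd_42 (.node 11264 nd_43 nd_44))))))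

/-- fact table -/
def fct : Tr := (.node 12000 fct0 (.node 24000 fct1 fct2))

/-- block of `live` -/
def live_0 : Tr := .node 128 (.node 64 (.node 32 (.node 16 (.node 8 (.node 4 (.node 2 (.node 1 (.leaf 0) (.leaf 1)) (.node 3 (.leaf 2) (.leaf 3))) (.node 6 (.node 5 (.leaf 4) (.leaf 5)) (.node 7 (.leaf 6) (.leaf 7)))) (.node 12 (.node 10 (.node 9 (.leaf 8) (.leaf 9)) (.node 11 (.leaf 10) (.leaf 11))) (.node 14 (.node 13 (.leaf 12) (.leaf 13)) (.node 15 (.leaf 14) (.leaf 15))))) (.node 24 (.node 20 (.node 18 (.node 17 (.leaf 16) (.leaf 17)) (.node 19 (.leaf 18) (.leaf 19))) (.node 22 (.node 21 (.leaf 20) (.leaf 21)) (.node 23 (.leaf 22) (.leaf 23)))) (.node 28 (.node 26 (.node 25 (.leaf 24) (.leaf 25)) (.node 27 (.leaf 26) (.leaf 27))) (.node 30 (.node 29 (.leaf 28) (.leaf 29)) (.node 31 (.leaf 30) (.leaf 31)))))) (.node 48 (.node 40 (.node 36 (.node 34 (.node 33 (.leaf 32) (.leaf 33)) (.node 35 (.leaf 34) (.leaf 35)))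 (.node 38 (.node 37 (.leaf 36) (.leaf 37)) (.node 39 (.leaf 38) (.leaf 39)))) (.node 44 (.node 42 (.node 41 (.leaf 40) (.leaf 41)) (.node 43 (.leaf 42) (.leaf 43))) (.node 46 (.node 45 (.leaf 44) (.leaf 45)) (.node 47 (.leaf 46) (.leaf 47))))) (.node 56 (.node 52 (.node 50 (.node 49 (.leaf 48) (.leaf 49)) (.node 51 (.leaf 50) (.leaf 51))) (.node 54 (.node 53 (.leaf 52) (.leaf 53)) (.node 55 (.leaf 54) (.leaf 55)))) (.node 60 (.node 58 (.node 57 (.leaf 56) (.leaf 57)) (.node 59 (.leaf 58) (.leaf 59))) (.node 62 (.node 61 (.leaf 60) (.leaf 61)) (.node 63 (.leaf 62) (.leaf 63))))))) (.node 96 (.node 80 (.node 72 (.node 68 (.node 66 (.node 65 (.leaf 64) (.leaf 65)) (.node 67 (.leaf 66) (.leaf 67))) (.node 70 (.node 69 (.leaf 68) (.leaf 69)) (.node 71 (.leaf 70) (.leaf 71)))) (.node 76 (.node 74 (.node 73 (.leaf 72) (.leaf 73)) (.node 75 (.leaf 74) (.leaf 75))) (.node 78 (.node 77 (.leaf 76) (.leaf 77)) (.node 79 (.leaf 78)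 (.leaf 79))))) (.node 88 (.node 84 (.node 82 (.node 81 (.leaf 80) (.leaf 81)) (.node 83 (.leaf 82) (.leaf 83))) (.node 86 (.node 85 (.leaf 84) (.leaf 85)) (.node 87 (.leaf 86) (.leaf 87)))) (.node 92 (.node 90 (.node 89 (.leaf 88) (.leaf 89)) (.node 91 (.leaf 90) (.leaf 91))) (.node 94 (.node 93 (.leaf 92) (.leaf 93)) (.node 95 (.leaf 94) (.leaf 95)))))) (.node 112 (.node 104 (.node 100 (.node 98 (.node 97 (.leaf 96) (.leaf 97)) (.node 99 (.leaf 98) (.leaf 99))) (.node 102 (.node 101 (.leaf 100) (.leaf 101)) (.node 103 (.leaf 102) (.leaf 103)))) (.node 108 (.node 106 (.node 105 (.leaf 104) (.leaf 105)) (.node 107 (.leaf 106) (.leaf 107))) (.node 110 (.node 109 (.leaf 108) (.leaf 109)) (.node 111 (.leaf 110) (.leaf 111))))) (.node 120 (.node 116 (.node 114 (.node 113 (.leaf 112) (.leaf 113)) (.node 115 (.leaf 114) (.leaf 115))) (.node 118 (.node 117 (.leaf 116) (.leaf 117)) (.node 119 (.leaf 120) (.leaf 121)))) (.node 124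 (.node 122 (.node 121 (.leaf 122) (.leaf 123)) (.node 123 (.leaf 124) (.leaf 125))) (.node 126 (.node 125 (.leaf 126) (.leaf 127)) (.node 127 (.leaf 128) (.leaf 129)))))))) (.node 192 (.node 160 (.node 144 (.node 136 (.node 132 (.node 130 (.node 129 (.leaf 130) (.leaf 131)) (.node 131 (.leaf 132) (.leaf 133))) (.node 134 (.node 133 (.leaf 134) (.leaf 135)) (.node 135 (.leaf 136) (.leaf 137)))) (.node 140 (.node 138 (.node 137 (.leaf 138) (.leaf 139)) (.node 139 (.leaf 140) (.leaf 141))) (.node 142 (.node 141 (.leaf 142) (.leaf 143)) (.node 143 (.leaf 144) (.leaf 145))))) (.node 152 (.node 148 (.node 146 (.node 145 (.leaf 146) (.leaf 147)) (.node 147 (.leaf 148) (.leaf 149))) (.node 150 (.node 149 (.leaf 150) (.leaf 151)) (.node 151 (.leaf 152) (.leaf 153)))) (.node 156 (.node 154 (.node 153 (.leaf 154) (.leaf 155)) (.node 155 (.leaf 156) (.leaf 157))) (.node 158 (.node 157 (.leaf 158) (.leaf 159)) (.node 159 (.leaf 160)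 (.leaf 161)))))) (.node 176 (.node 168 (.node 164 (.node 162 (.node 161 (.leaf 164) (.leaf 165)) (.node 163 (.leaf 166) (.leaf 167))) (.node 166 (.node 165 (.leaf 168) (.leaf 169)) (.node 167 (.leaf 170) (.leaf 171)))) (.node 172 (.node 170 (.node 169 (.leaf 172) (.leaf 173)) (.node 171 (.leaf 174) (.leaf 175))) (.node 174 (.node 173 (.leaf 176) (.leaf 177)) (.node 175 (.leaf 178) (.leaf 179))))) (.node 184 (.node 180 (.node 178 (.node 177 (.leaf 180) (.leaf 181)) (.node 179 (.leaf 182) (.leaf 183))) (.node 182 (.node 181 (.leaf 184) (.leaf 185)) (.node 183 (.leaf 186) (.leaf 187)))) (.node 188 (.node 186 (.node 185 (.leaf 188) (.leaf 189)) (.node 187 (.leaf 190) (.leaf 191))) (.node 190 (.node 189 (.leaf 192) (.leaf 193)) (.node 191 (.leaf 194) (.leaf 195))))))) (.node 224 (.node 208 (.node 200 (.node 196 (.node 194 (.node 193 (.leaf 200) (.leaf 201)) (.node 195 (.leaf 202) (.leaf 203))) (.node 198 (.node 197 (.leaf 204)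 (.leaf 205)) (.node 199 (.leaf 206) (.leaf 207)))) (.node 204 (.node 202 (.node 201 (.leaf 208) (.leaf 209)) (.node 203 (.leaf 210) (.leaf 211))) (.node 206 (.node 205 (.leaf 212) (.leaf 213)) (.node 207 (.leaf 214) (.leaf 215))))) (.node 216 (.node 212 (.node 210 (.node 209 (.leaf 216) (.leaf 217)) (.node 211 (.leaf 218) (.leaf 219))) (.node 214 (.node 213 (.leaf 220) (.leaf 221)) (.node 215 (.leaf 222) (.leaf 223)))) (.node 220 (.node 218 (.node 217 (.leaf 224) (.leaf 225)) (.node 219 (.leaf 226) (.leaf 227))) (.node 222 (.node 221 (.leaf 228) (.leaf 229)) (.node 223 (.leaf 230) (.leaf 231)))))) (.node 240 (.node 232 (.node 228 (.node 226 (.node 225 (.leaf 232) (.leaf 233)) (.node 227 (.leaf 234) (.leaf 235))) (.node 230 (.node 229 (.leaf 236) (.leaf 237)) (.node 231 (.leaf 238) (.leaf 239)))) (.node 236 (.node 234 (.node 233 (.leaf 240) (.leaf 241)) (.node 235 (.leaf 242) (.leaf 243))) (.node 238 (.node 237 (.leaf 244)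 (.leaf 245)) (.node 239 (.leaf 246) (.leaf 247))))) (.node 248 (.node 244 (.node 242 (.node 241 (.leaf 248) (.leaf 249)) (.node 243 (.leaf 250) (.leaf 251))) (.node 246 (.node 245 (.leaf 252) (.leaf 253)) (.node 247 (.leaf 254) (.leaf 255)))) (.node 252 (.node 250 (.node 249 (.leaf 256) (.leaf 257)) (.node 251 (.leaf 258) (.leaf 259))) (.node 254 (.node 253 (.leaf 260) (.leaf 261)) (.node 255 (.leaf 262) (.leaf 263))))))))

/-- block of `live` -/
def live_1 : Tr := .node 384 (.node 320 (.node 288 (.node 272 (.node 264 (.node 260 (.node 258 (.node 257 (.leaf 264) (.leaf 265)) (.node 259 (.leaf 266) (.leaf 267))) (.node 262 (.node 261 (.leaf 268) (.leaf 269)) (.node 263 (.leaf 270) (.leaf 271)))) (.node 268 (.node 266 (.node 265 (.leaf 272) (.leaf 273)) (.node 267 (.leaf 274) (.leaf 275))) (.node 270 (.node 269 (.leaf 276) (.leaf 277)) (.node 271 (.leaf 278) (.leaf 279))))) (.node 280 (.node 276 (.node 274 (.node 273 (.leaf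 280) (.leaf 281)) (.node 275 (.leaf 282) (.leaf 283))) (.node 278 (.node 277 (.leaf 284) (.leaf 285)) (.node 279 (.leaf 291) (.leaf 292)))) (.node 284 (.node 282 (.node 281 (.leaf 295) (.leaf 296)) (.node 283 (.leaf 297) (.leaf 298))) (.node 286 (.node 285 (.leaf 299) (.leaf 300)) (.node 287 (.leaf 301) (.leaf 302)))))) (.node 304 (.node 296 (.node 292 (.node 290 (.node 289 (.leaf 305) (.leaf 306)) (.node 291 (.leaf 309) (.leaf 310))) (.node 294 (.node 293 (.leaf 313) (.leaf 314)) (.node 295 (.leaf 315) (.leaf 316)))) (.node 300 (.node 298 (.node 297 (.leaf 317) (.leaf 318)) (.node 299 (.leaf 319) (.leaf 320))) (.node 302 (.node 301 (.leaf 321) (.leaf 322)) (.node 303 (.leaf 323) (.leaf 324))))) (.node 312 (.node 308 (.node 306 (.node 305 (.leaf 325) (.leaf 326)) (.node 307 (.leaf 327) (.leaf 328))) (.node 310 (.node 309 (.leaf 329) (.leaf 330)) (.node 311 (.leaf 331) (.leaf 332)))) (.node 316 (.node 314 (.node 313 (.leaf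 333) (.leaf 334)) (.node 315 (.leaf 335) (.leaf 336))) (.node 318 (.node 317 (.leaf 337) (.leaf 338)) (.node 319 (.leaf 339) (.leaf 340))))))) (.node 352 (.node 336 (.node 328 (.node 324 (.node 322 (.node 321 (.leaf 341) (.leaf 342)) (.node 323 (.leaf 343) (.leaf 344))) (.node 326 (.node 325 (.leaf 345) (.leaf 346)) (.node 327 (.leaf 347) (.leaf 348)))) (.node 332 (.node 330 (.node 329 (.leaf 349) (.leaf 352)) (.node 331 (.leaf 353) (.leaf 356))) (.node 334 (.node 333 (.leaf 357) (.leaf 358)) (.node 335 (.leaf 359) (.leaf 360))))) (.node 344 (.node 340 (.node 338 (.node 337 (.leaf 361) (.leaf 362)) (.node 339 (.leaf 363) (.leaf 364))) (.node 342 (.node 341 (.leaf 365) (.leaf 366)) (.node 343 (.leaf 367) (.leaf 368)))) (.node 348 (.node 346 (.node 345 (.leaf 369) (.leaf 370)) (.node 347 (.leaf 373) (.leaf 374))) (.node 350 (.node 349 (.leaf 375) (.leaf 376)) (.node 351 (.leaf 377) (.leaf 378)))))) (.node 368 (.node 360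 (.node 356 (.node 354 (.node 353 (.leaf 379) (.leaf 380)) (.node 355 (.leaf 381) (.leaf 382))) (.node 358 (.node 357 (.leaf 383) (.leaf 384)) (.node 359 (.leaf 385) (.leaf 386)))) (.node 364 (.node 362 (.node 361 (.leaf 387) (.leaf 388)) (.node 363 (.leaf 389) (.leaf 390))) (.node 366 (.node 365 (.leaf 393) (.leaf 394)) (.node 367 (.leaf 395) (.leaf 396))))) (.node 376 (.node 372 (.node 370 (.node 369 (.leaf 397) (.leaf 398)) (.node 371 (.leaf 399) (.leaf 400))) (.node 374 (.node 373 (.leaf 405) (.leaf 406)) (.node 375 (.leaf 407) (.leaf 408)))) (.node 380 (.node 378 (.node 377 (.leaf 409) (.leaf 410)) (.node 379 (.leaf 415) (.leaf 416))) (.node 382 (.node 381 (.leaf 417) (.leaf 418)) (.node 383 (.leaf 419) (.leaf 420)))))))) (.node 448 (.node 416 (.node 400 (.node 392 (.node 388 (.node 386 (.node 385 (.leaf 421) (.leaf 422)) (.node 387 (.leaf 423) (.leaf 424))) (.node 390 (.node 389 (.leaf 425) (.leaf 426)) (.node 391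 (.leaf 429) (.leaf 430)))) (.node 396 (.node 394 (.node 393 (.leaf 433) (.leaf 434)) (.node 395 (.leaf 435) (.leaf 436))) (.node 398 (.node 397 (.leaf 437) (.leaf 438)) (.node 399 (.leaf 439) (.leaf 440))))) (.node 408 (.node 404 (.node 402 (.node 401 (.leaf 443) (.leaf 444)) (.node 403 (.leaf 445) (.leaf 446))) (.node 406 (.node 405 (.leaf 447) (.leaf 448)) (.node 407 (.leaf 451) (.leaf 452)))) (.node 412 (.node 410 (.node 409 (.leaf 453) (.leaf 454)) (.node 411 (.leaf 455) (.leaf 456))) (.node 414 (.node 413 (.leaf 457) (.leaf 458)) (.node 415 (.leaf 459) (.leaf 460)))))) (.node 432 (.node 424 (.node 420 (.node 418 (.node 417 (.leaf 463) (.leaf 464)) (.node 419 (.leaf 467) (.leaf 468))) (.node 422 (.node 421 (.leaf 469) (.leaf 470)) (.node 423 (.leaf 471) (.leaf 472)))) (.node 428 (.node 426 (.node 425 (.leaf 473) (.leaf 474)) (.node 427 (.leaf 475) (.leaf 476))) (.node 430 (.node 429 (.leaf 477) (.leaf 478)) (.node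 431 (.leaf 481) (.leaf 482))))) (.node 440 (.node 436 (.node 434 (.node 433 (.leaf 489) (.leaf 490)) (.node 435 (.leaf 495) (.leaf 496))) (.node 438 (.node 437 (.leaf 499) (.leaf 500)) (.node 439 (.leaf 501) (.leaf 502)))) (.node 444 (.node 442 (.node 441 (.leaf 503) (.leaf 504)) (.node 443 (.leaf 505) (.leaf 506))) (.node 446 (.node 445 (.leaf 507) (.leaf 508)) (.node 447 (.leaf 511) (.leaf 512))))))) (.node 480 (.node 464 (.node 456 (.node 452 (.node 450 (.node 449 (.leaf 513) (.leaf 514)) (.node 451 (.leaf 521) (.leaf 522))) (.node 454 (.node 453 (.leaf 523) (.leaf 524)) (.node 455 (.leaf 527) (.leaf 528)))) (.node 460 (.node 458 (.node 457 (.leaf 529) (.leaf 530)) (.node 459 (.leaf 531) (.leaf 532))) (.node 462 (.node 461 (.leaf 533) (.leaf 534)) (.node 463 (.leaf 535) (.leaf 536))))) (.node 472 (.node 468 (.node 466 (.node 465 (.leaf 537) (.leaf 538)) (.node 467 (.leaf 539) (.leaf 540))) (.node 470 (.node 469 (.leaf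 541) (.leaf 542)) (.node 471 (.leaf 543) (.leaf 544)))) (.node 476 (.node 474 (.node 473 (.leaf 545) (.leaf 546)) (.node 475 (.leaf 547) (.leaf 548))) (.node 478 (.node 477 (.leaf 549) (.leaf 550)) (.node 479 (.leaf 551) (.leaf 552)))))) (.node 496 (.node 488 (.node 484 (.node 482 (.node 481 (.leaf 553) (.leaf 554)) (.node 483 (.leaf 555) (.leaf 556))) (.node 486 (.node 485 (.leaf 557) (.leaf 558)) (.node 487 (.leaf 559) (.leaf 560)))) (.node 492 (.node 490 (.node 489 (.leaf 561) (.leaf 562)) (.node 491 (.leaf 563) (.leaf 564))) (.node 494 (.node 493 (.leaf 565) (.leaf 566)) (.node 495 (.leaf 567) (.leaf 568))))) (.node 504 (.node 500 (.node 498 (.node 497 (.leaf 569) (.leaf 570)) (.node 499 (.leaf 571) (.leaf 572))) (.node 502 (.node 501 (.leaf 573) (.leaf 574)) (.node 503 (.leaf 575) (.leaf 576)))) (.node 508 (.node 506 (.node 505 (.leaf 577) (.leaf 578)) (.node 507 (.leaf 579) (.leaf 580))) (.node 510 (.node 509 (.leaf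 583) (.leaf 584)) (.node 511 (.leaf 589) (.leaf 590))))))))

/-- block of `live` -/
def live_2 : Tr := .node 640 (.node 576 (.node 544 (.node 528 (.node 520 (.node 516 (.node 514 (.node 513 (.leaf 591) (.leaf 592)) (.node 515 (.leaf 593) (.leaf 594))) (.node 518 (.node 517 (.leaf 595) (.leaf 596)) (.node 519 (.leaf 597) (.leaf 598)))) (.node 524 (.node 522 (.node 521 (.leaf 599) (.leaf 600)) (.node 523 (.leaf 601) (.leaf 602))) (.node 526 (.node 525 (.leaf 603) (.leaf 604)) (.node 527 (.leaf 605) (.leaf 606))))) (.node 536 (.node 532 (.node 530 (.node 529 (.leaf 607) (.leaf 608)) (.node 531 (.leaf 609) (.leaf 610))) (.node 534 (.node 533 (.leaf 611) (.leaf 612)) (.node 535 (.leaf 613) (.leaf 614)))) (.node 540 (.node 538 (.node 537 (.leaf 615) (.leaf 616)) (.node 539 (.leaf 621) (.leaf 622))) (.node 542 (.node 541 (.leaf 623) (.leaf 624)) (.node 543 (.leaf 625) (.leaf 626)))))) (.node 560 (.node 552 (.node 548 (.node 546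 (.node 545 (.leaf 627) (.leaf 628)) (.node 547 (.leaf 629) (.leaf 630))) (.node 550 (.node 549 (.leaf 631) (.leaf 632)) (.node 551 (.leaf 637) (.leaf 638)))) (.node 556 (.node 554 (.node 553 (.leaf 639) (.leaf 640)) (.node 555 (.leaf 643) (.leaf 644))) (.node 558 (.node 557 (.leaf 645) (.leaf 646)) (.node 559 (.leaf 651) (.leaf 652))))) (.node 568 (.node 564 (.node 562 (.node 561 (.leaf 653) (.leaf 654)) (.node 563 (.leaf 655) (.leaf 656))) (.node 566 (.node 565 (.leaf 657) (.leaf 658)) (.node 567 (.leaf 659) (.leaf 660)))) (.node 572 (.node 570 (.node 569 (.leaf 661) (.leaf 662)) (.node 571 (.leaf 663) (.leaf 664))) (.node 574 (.node 573 (.leaf 665) (.leaf 666)) (.node 575 (.leaf 669) (.leaf 670))))))) (.node 608 (.node 592 (.node 584 (.node 580 (.node 578 (.node 577 (.leaf 671) (.leaf 672)) (.node 579 (.leaf 675) (.leaf 676))) (.node 582 (.node 581 (.leaf 677) (.leaf 678)) (.node 583 (.leaf 679) (.leaf 680)))) (.node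 588 (.node 586 (.node 585 (.leaf 681) (.leaf 682)) (.node 587 (.leaf 685) (.leaf 686))) (.node 590 (.node 589 (.leaf 693) (.leaf 694)) (.node 591 (.leaf 696) (.leaf 697))))) (.node 600 (.node 596 (.node 594 (.node 593 (.leaf 700) (.leaf 701)) (.node 595 (.leaf 702) (.leaf 703))) (.node 598 (.node 597 (.leaf 704) (.leaf 705)) (.node 599 (.leaf 706) (.leaf 707)))) (.node 604 (.node 602 (.node 601 (.leaf 710) (.leaf 711)) (.node 603 (.leaf 724) (.leaf 725))) (.node 606 (.node 605 (.leaf 726) (.leaf 727)) (.node 607 (.leaf 728) (.leaf 729)))))) (.node 624 (.node 616 (.node 612 (.node 610 (.node 609 (.leaf 738) (.leaf 739)) (.node 611 (.leaf 740) (.leaf 741))) (.node 614 (.node 613 (.leaf 742) (.leaf 743)) (.node 615 (.leaf 744) (.leaf 745)))) (.node 620 (.node 618 (.node 617 (.leaf 746) (.leaf 747)) (.node 619 (.leaf 748) (.leaf 749))) (.node 622 (.node 621 (.leaf 750) (.leaf 751)) (.node 623 (.leaf 760) (.leaf 761))))) (.node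 632 (.node 628 (.node 626 (.node 625 (.leaf 782) (.leaf 783)) (.node 627 (.leaf 786) (.leaf 787))) (.node 630 (.node 629 (.leaf 788) (.leaf 789)) (.node 631 (.leaf 790) (.leaf 791)))) (.node 636 (.node 634 (.node 633 (.leaf 792) (.leaf 793)) (.node 635 (.leaf 794) (.leaf 795))) (.node 638 (.node 637 (.leaf 796) (.leaf 797)) (.node 639 (.leaf 798) (.leaf 799)))))))) (.node 704 (.node 672 (.node 656 (.node 648 (.node 644 (.node 642 (.node 641 (.leaf 800) (.leaf 801)) (.node 643 (.leaf 802) (.leaf 803))) (.node 646 (.node 645 (.leaf 806) (.leaf 807)) (.node 647 (.leaf 808) (.leaf 809)))) (.node 652 (.node 650 (.node 649 (.leaf 810) (.leaf 811)) (.node 651 (.leaf 812) (.leaf 813))) (.node 654 (.node 653 (.leaf 814) (.leaf 815)) (.node 655 (.leaf 818) (.leaf 819))))) (.node 664 (.node 660 (.node 658 (.node 657 (.leaf 820) (.leaf 821)) (.node 659 (.leaf 822) (.leaf 823))) (.node 662 (.node 661 (.leaf 824) (.leaf 825)) (.node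 663 (.leaf 826) (.leaf 827)))) (.node 668 (.node 666 (.node 665 (.leaf 828) (.leaf 829)) (.node 667 (.leaf 830) (.leaf 831))) (.node 670 (.node 669 (.leaf 832) (.leaf 833)) (.node 671 (.leaf 834) (.leaf 835)))))) (.node 688 (.node 680 (.node 676 (.node 674 (.node 673 (.leaf 836) (.leaf 837)) (.node 675 (.leaf 838) (.leaf 839))) (.node 678 (.node 677 (.leaf 840) (.leaf 841)) (.node 679 (.leaf 846) (.leaf 847)))) (.node 684 (.node 682 (.node 681 (.leaf 848) (.leaf 849)) (.node 683 (.leaf 850) (.leaf 851))) (.node 686 (.node 685 (.leaf 852) (.leaf 853)) (.node 687 (.leaf 854) (.leaf 855))))) (.node 696 (.node 692 (.node 690 (.node 689 (.leaf 859) (.leaf 860)) (.node 691 (.leaf 863) (.leaf 864))) (.node 694 (.node 693 (.leaf 869) (.leaf 870)) (.node 695 (.leaf 871) (.leaf 872)))) (.node 700 (.node 698 (.node 697 (.leaf 877) (.leaf 878)) (.node 699 (.leaf 879) (.leaf 880))) (.node 702 (.node 701 (.leaf 885) (.leaf 886)) (.node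 703 (.leaf 887) (.leaf 888))))))) (.node 736 (.node 720 (.node 712 (.node 708 (.node 706 (.node 705 (.leaf 889) (.leaf 890)) (.node 707 (.leaf 891) (.leaf 892))) (.node 710 (.node 709 (.leaf 895) (.leaf 896)) (.node 711 (.leaf 897) (.leaf 898)))) (.node 716 (.node 714 (.node 713 (.leaf 901) (.leaf 902)) (.node 715 (.leaf 903) (.leaf 904))) (.node 718 (.node 717 (.leaf 905) (.leaf 906)) (.node 719 (.leaf 907) (.leaf 908))))) (.node 728 (.node 724 (.node 722 (.node 721 (.leaf 909) (.leaf 910)) (.node 723 (.leaf 911) (.leaf 912))) (.node 726 (.node 725 (.leaf 913) (.leaf 914)) (.node 727 (.leaf 917) (.leaf 918)))) (.node 732 (.node 730 (.node 729 (.leaf 919) (.leaf 920)) (.node 731 (.leaf 930) (.leaf 931))) (.node 734 (.node 733 (.leaf 932) (.leaf 933)) (.node 735 (.leaf 934) (.leaf 935)))))) (.node 752 (.node 744 (.node 740 (.node 738 (.node 737 (.leaf 936) (.leaf 937)) (.node 739 (.leaf 938) (.leaf 939))) (.node 742 (.node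 741 (.leaf 940) (.leaf 941)) (.node 743 (.leaf 942) (.leaf 943)))) (.node 748 (.node 746 (.node 745 (.leaf 944) (.leaf 945)) (.node 747 (.leaf 946) (.leaf 947))) (.node 750 (.node 749 (.leaf 948) (.leaf 949)) (.node 751 (.leaf 950) (.leaf 951))))) (.node 760 (.node 756 (.node 754 (.node 753 (.leaf 952) (.leaf 953)) (.node 755 (.leaf 954) (.leaf 955))) (.node 758 (.node 757 (.leaf 956) (.leaf 957)) (.node 759 (.leaf 958) (.leaf 959)))) (.node 764 (.node 762 (.node 761 (.leaf 962) (.leaf 963)) (.node 763 (.leaf 964) (.leaf 965))) (.node 766 (.node 765 (.leaf 966) (.leaf 967)) (.node 767 (.leaf 968) (.leaf 969))))))))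

/-- block of `live` -/
def live_3 : Tr := .node 896 (.node 832 (.node 800 (.node 784 (.node 776 (.node 772 (.node 770 (.node 769 (.leaf 970) (.leaf 971)) (.node 771 (.leaf 972) (.leaf 973))) (.node 774 (.node 773 (.leaf 974) (.leaf 975)) (.node 775 (.leaf 976) (.leaf 977)))) (.node 780 (.node 778 (.node 777 (.leaf 978) (.leaf 979)) (.node 779 (.leaf 980) (.leaf 981))) (.node 782 (.node 781 (.leaf 982) (.leaf 983)) (.node 783 (.leaf 984) (.leaf 985))))) (.node 792 (.node 788 (.node 786 (.node 785 (.leaf 988) (.leaf 989)) (.node 787 (.leaf 996) (.leaf 997))) (.node 790 (.node 789 (.leaf 1000) (.leaf 1001)) (.node 791 (.leaf 1002) (.leaf 1003)))) (.node 796 (.node 794 (.node 793 (.leaf 1006) (.leaf 1007)) (.node 795 (.leaf 1010) (.leaf 1011))) (.node 798 (.node 797 (.leaf 1030) (.leaf 1031)) (.node 799 (.leaf 1032) (.leaf 1035)))))) (.node 816 (.node 808 (.node 804 (.node 802 (.node 801 (.leaf 1038) (.leaf 1039)) (.node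 803 (.leaf 1040) (.leaf 1041))) (.node 806 (.node 805 (.leaf 1042) (.leaf 1043)) (.node 807 (.leaf 1044) (.leaf 1045)))) (.node 812 (.node 810 (.node 809 (.leaf 1046) (.leaf 1047)) (.node 811 (.leaf 1058) (.leaf 1059))) (.node 814 (.node 813 (.leaf 1060) (.leaf 1061)) (.node 815 (.leaf 1062) (.leaf 1063))))) (.node 824 (.node 820 (.node 818 (.node 817 (.leaf 1064) (.leaf 1065)) (.node 819 (.leaf 1066) (.leaf 1067))) (.node 822 (.node 821 (.leaf 1068) (.leaf 1069)) (.node 823 (.leaf 1070) (.leaf 1071)))) (.node 828 (.node 826 (.node 825 (.leaf 1074) (.leaf 1075)) (.node 827 (.leaf 1076) (.leaf 1077))) (.node 830 (.node 829 (.leaf 1078) (.leaf 1079)) (.node 831 (.leaf 1080) (.leaf 1081))))))) (.node 864 (.node 848 (.node 840 (.node 836 (.node 834 (.node 833 (.leaf 1082) (.leaf 1083)) (.node 835 (.leaf 1088) (.leaf 1089))) (.node 838 (.node 837 (.leaf 1096) (.leaf 1097)) (.node 839 (.leaf 1098) (.leaf 1099)))) (.node 844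 (.node 842 (.node 841 (.leaf 1100) (.leaf 1101)) (.node 843 (.leaf 1102) (.leaf 1103))) (.node 846 (.node 845 (.leaf 1104) (.leaf 1105)) (.node 847 (.leaf 1110) (.leaf 1111))))) (.node 856 (.node 852 (.node 850 (.node 849 (.leaf 1112) (.leaf 1113)) (.node 851 (.leaf 1114) (.leaf 1115))) (.node 854 (.node 853 (.leaf 1116) (.leaf 1117)) (.node 855 (.leaf 1118) (.leaf 1119)))) (.node 860 (.node 858 (.node 857 (.leaf 1120) (.leaf 1121)) (.node 859 (.leaf 1122) (.leaf 1123))) (.node 862 (.node 861 (.leaf 1124) (.leaf 1125)) (.node 863 (.leaf 1128) (.leaf 1129)))))) (.node 880 (.node 872 (.node 868 (.node 866 (.node 865 (.leaf 1131) (.leaf 1132)) (.node 867 (.leaf 1133) (.leaf 1134))) (.node 870 (.node 869 (.leaf 1135) (.leaf 1136)) (.node 871 (.leaf 1137) (.leaf 1138)))) (.node 876 (.node 874 (.node 873 (.leaf 1139) (.leaf 1140)) (.node 875 (.leaf 1141) (.leaf 1142))) (.node 878 (.node 877 (.leaf 1145) (.leaf 1146)) (.node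 879 (.leaf 1147) (.leaf 1148))))) (.node 888 (.node 884 (.node 882 (.node 881 (.leaf 1154) (.leaf 1155)) (.node 883 (.leaf 1156) (.leaf 1157))) (.node 886 (.node 885 (.leaf 1158) (.leaf 1159)) (.node 887 (.leaf 1160) (.leaf 1161)))) (.node 892 (.node 890 (.node 889 (.leaf 1162) (.leaf 1163)) (.node 891 (.leaf 1164) (.leaf 1165))) (.node 894 (.node 893 (.leaf 1166) (.leaf 1167)) (.node 895 (.leaf 1170) (.leaf 1171)))))))) (.node 960 (.node 928 (.node 912 (.node 904 (.node 900 (.node 898 (.node 897 (.leaf 1172) (.leaf 1173)) (.node 899 (.leaf 1174) (.leaf 1175))) (.node 902 (.node 901 (.leaf 1176) (.leaf 1177)) (.node 903 (.leaf 1182) (.leaf 1183)))) (.node 908 (.node 906 (.node 905 (.leaf 1188) (.leaf 1189)) (.node 907 (.leaf 1194) (.leaf 1195))) (.node 910 (.node 909 (.leaf 1196) (.leaf 1197)) (.node 911 (.leaf 1200) (.leaf 1201))))) (.node 920 (.node 916 (.node 914 (.node 913 (.leaf 1202) (.leaf 1203)) (.node 915 (.leaf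 1204) (.leaf 1205))) (.node 918 (.node 917 (.leaf 1208) (.leaf 1209)) (.node 919 (.leaf 1210) (.leaf 1211)))) (.node 924 (.node 922 (.node 921 (.leaf 1212) (.leaf 1213)) (.node 923 (.leaf 1214) (.leaf 1215))) (.node 926 (.node 925 (.leaf 1216) (.leaf 1217)) (.node 927 (.leaf 1218) (.leaf 1219)))))) (.node 944 (.node 936 (.node 932 (.node 930 (.node 929 (.leaf 1222) (.leaf 1223)) (.node 931 (.leaf 1224) (.leaf 1225))) (.node 934 (.node 933 (.leaf 1226) (.leaf 1227)) (.node 935 (.leaf 1228) (.leaf 1229)))) (.node 940 (.node 938 (.node 937 (.leaf 1230) (.leaf 1231)) (.node 939 (.leaf 1232) (.leaf 1235))) (.node 942 (.node 941 (.leaf 1245) (.leaf 1246)) (.node 943 (.leaf 1261) (.leaf 1262))))) (.node 952 (.node 948 (.node 946 (.node 945 (.leaf 1263) (.leaf 1264)) (.node 947 (.leaf 1265) (.leaf 1266))) (.node 950 (.node 949 (.leaf 1271) (.leaf 1272)) (.node 951 (.leaf 1273) (.leaf 1274)))) (.node 956 (.node 954 (.node 953 (.leaf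 1275) (.leaf 1276)) (.node 955 (.leaf 1288) (.leaf 1289))) (.node 958 (.node 957 (.leaf 1290) (.leaf 1291)) (.node 959 (.leaf 1292) (.leaf 1293))))))) (.node 992 (.node 976 (.node 968 (.node 964 (.node 962 (.node 961 (.leaf 1294) (.leaf 1295)) (.node 963 (.leaf 1296) (.leaf 1297))) (.node 966 (.node 965 (.leaf 1298) (.leaf 1299)) (.node 967 (.leaf 1300) (.leaf 1301)))) (.node 972 (.node 970 (.node 969 (.leaf 1302) (.leaf 1303)) (.node 971 (.leaf 1306) (.leaf 1307))) (.node 974 (.node 973 (.leaf 1308) (.leaf 1309)) (.node 975 (.leaf 1310) (.leaf 1311))))) (.node 984 (.node 980 (.node 978 (.node 977 (.leaf 1312) (.leaf 1313)) (.node 979 (.leaf 1314) (.leaf 1315))) (.node 982 (.node 981 (.leaf 1318) (.leaf 1319)) (.node 983 (.leaf 1322) (.leaf 1323)))) (.node 988 (.node 986 (.node 985 (.leaf 1324) (.leaf 1325)) (.node 987 (.leaf 1337) (.leaf 1338))) (.node 990 (.node 989 (.leaf 1342) (.leaf 1343)) (.node 991 (.leaf 1344)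 (.leaf 1345)))))) (.node 1008 (.node 1000 (.node 996 (.node 994 (.node 993 (.leaf 1348) (.leaf 1349)) (.node 995 (.leaf 1350) (.leaf 1351))) (.node 998 (.node 997 (.leaf 1356) (.leaf 1357)) (.node 999 (.leaf 1358) (.leaf 1359)))) (.node 1004 (.node 1002 (.node 1001 (.leaf 1360) (.leaf 1361)) (.node 1003 (.leaf 1362) (.leaf 1363))) (.node 1006 (.node 1005 (.leaf 1364) (.leaf 1365)) (.node 1007 (.leaf 1370) (.leaf 1371))))) (.node 1016 (.node 1012 (.node 1010 (.node 1009 (.leaf 1374) (.leaf 1375)) (.node 1011 (.leaf 1376) (.leaf 1377))) (.node 1014 (.node 1013 (.leaf 1378) (.leaf 1379)) (.node 1015 (.leaf 1380) (.leaf 1381)))) (.node 1020 (.node 1018 (.node 1017 (.leaf 1382) (.leaf 1383)) (.node 1019 (.leaf 1384) (.leaf 1385))) (.node 1022 (.node 1021 (.leaf 1386) (.leaf 1387)) (.node 1023 (.leaf 1388) (.leaf 1389))))))))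

/-- block of `live` -/
def live_4 : Tr := .node 1152 (.node 1088 (.node 1056 (.node 1040 (.node 1032 (.node 1028 (.node 1026 (.node 1025 (.leaf 1392) (.leaf 1393)) (.node 1027 (.leaf 1394) (.leaf 1395))) (.node 1030 (.node 1029 (.leaf 1398) (.leaf 1399)) (.node 1031 (.leaf 1402) (.leaf 1403)))) (.node 1036 (.node 1034 (.node 1033 (.leaf 1404) (.leaf 1405)) (.node 1035 (.leaf 1408) (.leaf 1409))) (.node 1038 (.node 1037 (.leaf 1410) (.leaf 1411)) (.node 1039 (.leaf 1414) (.leaf 1415))))) (.node 1048 (.node 1044 (.node 1042 (.node 1041 (.leaf 1416) (.leaf 1417)) (.node 1043 (.leaf 1418) (.leaf 1419))) (.node 1046 (.node 1045 (.leaf 1420) (.leaf 1423)) (.node 1047 (.leaf 1428) (.leaf 1429)))) (.node 1052 (.node 1050 (.node 1049 (.leaf 1430) (.leaf 1431)) (.node 1051 (.leaf 1434) (.leaf 1435))) (.node 1054 (.node 1053 (.leaf 1436) (.leaf 1437)) (.node 1055 (.leaf 1440) (.leaf 1441)))))) (.node 1072 (.node 1064 (.node 1060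 (.node 1058 (.node 1057 (.leaf 1442) (.leaf 1443)) (.node 1059 (.leaf 1444) (.leaf 1445))) (.node 1062 (.node 1061 (.leaf 1446) (.leaf 1447)) (.node 1063 (.leaf 1448) (.leaf 1449)))) (.node 1068 (.node 1066 (.node 1065 (.leaf 1450) (.leaf 1451)) (.node 1067 (.leaf 1452) (.leaf 1453))) (.node 1070 (.node 1069 (.leaf 1454) (.leaf 1455)) (.node 1071 (.leaf 1456) (.leaf 1457))))) (.node 1080 (.node 1076 (.node 1074 (.node 1073 (.leaf 1458) (.leaf 1459)) (.node 1075 (.leaf 1460) (.leaf 1461))) (.node 1078 (.node 1077 (.leaf 1462) (.leaf 1463)) (.node 1079 (.leaf 1464) (.leaf 1465)))) (.node 1084 (.node 1082 (.node 1081 (.leaf 1466) (.leaf 1467)) (.node 1083 (.leaf 1468) (.leaf 1469))) (.node 1086 (.node 1085 (.leaf 1470) (.leaf 1471)) (.node 1087 (.leaf 1474) (.leaf 1479))))))) (.node 1120 (.node 1104 (.node 1096 (.node 1092 (.node 1090 (.node 1089 (.leaf 1480) (.leaf 1481)) (.node 1091 (.leaf 1482) (.leaf 1483))) (.node 1094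 (.node 1093 (.leaf 1484) (.leaf 1485)) (.node 1095 (.leaf 1486) (.leaf 1487)))) (.node 1100 (.node 1098 (.node 1097 (.leaf 1488) (.leaf 1489)) (.node 1099 (.leaf 1490) (.leaf 1491))) (.node 1102 (.node 1101 (.leaf 1492) (.leaf 1493)) (.node 1103 (.leaf 1494) (.leaf 1495))))) (.node 1112 (.node 1108 (.node 1106 (.node 1105 (.leaf 1496) (.leaf 1497)) (.node 1107 (.leaf 1500) (.leaf 1501))) (.node 1110 (.node 1109 (.leaf 1507) (.leaf 1508)) (.node 1111 (.leaf 1509) (.leaf 1510)))) (.node 1116 (.node 1114 (.node 1113 (.leaf 1511) (.leaf 1512)) (.node 1115 (.leaf 1522) (.leaf 1523))) (.node 1118 (.node 1117 (.leaf 1525) (.leaf 1526)) (.node 1119 (.leaf 1529) (.leaf 1530)))))) (.node 1136 (.node 1128 (.node 1124 (.node 1122 (.node 1121 (.leaf 1531) (.leaf 1532)) (.node 1123 (.leaf 1533) (.leaf 1534))) (.node 1126 (.node 1125 (.leaf 1535) (.leaf 1536)) (.node 1127 (.leaf 1537) (.leaf 1538)))) (.node 1132 (.node 1130 (.node 1129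 (.leaf 1539) (.leaf 1540)) (.node 1131 (.leaf 1541) (.leaf 1542))) (.node 1134 (.node 1133 (.leaf 1543) (.leaf 1544)) (.node 1135 (.leaf 1545) (.leaf 1546))))) (.node 1144 (.node 1140 (.node 1138 (.node 1137 (.leaf 1547) (.leaf 1548)) (.node 1139 (.leaf 1549) (.leaf 1550))) (.node 1142 (.node 1141 (.leaf 1551) (.leaf 1552)) (.node 1143 (.leaf 1553) (.leaf 1554)))) (.node 1148 (.node 1146 (.node 1145 (.leaf 1555) (.leaf 1556)) (.node 1147 (.leaf 1557) (.leaf 1558))) (.node 1150 (.node 1149 (.leaf 1559) (.leaf 1560)) (.node 1151 (.leaf 1561) (.leaf 1562)))))))) (.node 1216 (.node 1184 (.node 1168 (.node 1160 (.node 1156 (.node 1154 (.node 1153 (.leaf 1563) (.leaf 1564)) (.node 1155 (.leaf 1565) (.leaf 1566))) (.node 1158 (.node 1157 (.leaf 1569) (.leaf 1570)) (.node 1159 (.leaf 1571) (.leaf 1572)))) (.node 1164 (.node 1162 (.node 1161 (.leaf 1573) (.leaf 1574)) (.node 1163 (.leaf 1575) (.leaf 1576))) (.node 1166 (.node 1165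 (.leaf 1577) (.leaf 1578)) (.node 1167 (.leaf 1579) (.leaf 1580))))) (.node 1176 (.node 1172 (.node 1170 (.node 1169 (.leaf 1581) (.leaf 1582)) (.node 1171 (.leaf 1583) (.leaf 1584))) (.node 1174 (.node 1173 (.leaf 1585) (.leaf 1586)) (.node 1175 (.leaf 1587) (.leaf 1588)))) (.node 1180 (.node 1178 (.node 1177 (.leaf 1589) (.leaf 1590)) (.node 1179 (.leaf 1591) (.leaf 1592))) (.node 1182 (.node 1181 (.leaf 1593) (.leaf 1594)) (.node 1183 (.leaf 1596) (.leaf 1597)))))) (.node 1200 (.node 1192 (.node 1188 (.node 1186 (.node 1185 (.leaf 1598) (.leaf 1599)) (.node 1187 (.leaf 1600) (.leaf 1601))) (.node 1190 (.node 1189 (.leaf 1609) (.leaf 1610)) (.node 1191 (.leaf 1613) (.leaf 1614)))) (.node 1196 (.node 1194 (.node 1193 (.leaf 1617) (.leaf 1618)) (.node 1195 (.leaf 1619) (.leaf 1620))) (.node 1198 (.node 1197 (.leaf 1621) (.leaf 1622)) (.node 1199 (.leaf 1625) (.leaf 1626))))) (.node 1208 (.node 1204 (.node 1202 (.node 1201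 (.leaf 1627) (.leaf 1628)) (.node 1203 (.leaf 1629) (.leaf 1630))) (.node 1206 (.node 1205 (.leaf 1631) (.leaf 1632)) (.node 1207 (.leaf 1637) (.leaf 1638)))) (.node 1212 (.node 1210 (.node 1209 (.leaf 1639) (.leaf 1640)) (.node 1211 (.leaf 1648) (.leaf 1649))) (.node 1214 (.node 1213 (.leaf 1650) (.leaf 1651)) (.node 1215 (.leaf 1670) (.leaf 1671))))))) (.node 1248 (.node 1232 (.node 1224 (.node 1220 (.node 1218 (.node 1217 (.leaf 1676) (.leaf 1677)) (.node 1219 (.leaf 1680) (.leaf 1681))) (.node 1222 (.node 1221 (.leaf 1682) (.leaf 1683)) (.node 1223 (.leaf 1684) (.leaf 1685)))) (.node 1228 (.node 1226 (.node 1225 (.leaf 1686) (.leaf 1687)) (.node 1227 (.leaf 1690) (.leaf 1691))) (.node 1230 (.node 1229 (.leaf 1692) (.leaf 1693)) (.node 1231 (.leaf 1696) (.leaf 1697))))) (.node 1240 (.node 1236 (.node 1234 (.node 1233 (.leaf 1698) (.leaf 1699)) (.node 1235 (.leaf 1700) (.leaf 1701))) (.node 1238 (.node 1237 (.leaf 1702)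 (.leaf 1703)) (.node 1239 (.leaf 1704) (.leaf 1705)))) (.node 1244 (.node 1242 (.node 1241 (.leaf 1706) (.leaf 1707)) (.node 1243 (.leaf 1708) (.leaf 1709))) (.node 1246 (.node 1245 (.leaf 1710) (.leaf 1711)) (.node 1247 (.leaf 1722) (.leaf 1723)))))) (.node 1264 (.node 1256 (.node 1252 (.node 1250 (.node 1249 (.leaf 1726) (.leaf 1727)) (.node 1251 (.leaf 1728) (.leaf 1729))) (.node 1254 (.node 1253 (.leaf 1732) (.leaf 1733)) (.node 1255 (.leaf 1734) (.leaf 1735)))) (.node 1260 (.node 1258 (.node 1257 (.leaf 1736) (.leaf 1737)) (.node 1259 (.leaf 1738) (.leaf 1739))) (.node 1262 (.node 1261 (.leaf 1742) (.leaf 1743)) (.node 1263 (.leaf 1748) (.leaf 1749))))) (.node 1272 (.node 1268 (.node 1266 (.node 1265 (.leaf 1752) (.leaf 1753)) (.node 1267 (.leaf 1754) (.leaf 1755))) (.node 1270 (.node 1269 (.leaf 1756) (.leaf 1757)) (.node 1271 (.leaf 1760) (.leaf 1761)))) (.node 1276 (.node 1274 (.node 1273 (.leaf 1762) (.leaf 1763))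 (.node 1275 (.leaf 1764) (.leaf 1765))) (.node 1278 (.node 1277 (.leaf 1768) (.leaf 1769)) (.node 1279 (.leaf 1772) (.leaf 1773))))))))

/-- block of `live` -/
def live_5 : Tr := .node 1408 (.node 1344 (.node 1312 (.node 1296 (.node 1288 (.node 1284 (.node 1282 (.node 1281 (.leaf 1774) (.leaf 1775)) (.node 1283 (.leaf 1791) (.leaf 1792))) (.node 1286 (.node 1285 (.leaf 1800) (.leaf 1803)) (.node 1287 (.leaf 1808) (.leaf 1809)))) (.node 1292 (.node 1290 (.node 1289 (.leaf 1810) (.leaf 1811)) (.node 1291 (.leaf 1812) (.leaf 1813))) (.node 1294 (.node 1293 (.leaf 1818) (.leaf 1819)) (.node 1295 (.leaf 1820) (.leaf 1821))))) (.node 1304 (.node 1300 (.node 1298 (.node 1297 (.leaf 1857) (.leaf 1858)) (.node 1299 (.leaf 1859) (.leaf 1860))) (.node 1302 (.node 1301 (.leaf 1861) (.leaf 1862)) (.node 1303 (.leaf 1865) (.leaf 1866)))) (.node 1308 (.node 1306 (.node 1305 (.leaf 1872) (.leaf 1873)) (.node 1307 (.leaf 1896) (.leaf 1897)))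 (.node 1310 (.node 1309 (.leaf 1898) (.leaf 1899)) (.node 1311 (.leaf 1900) (.leaf 1901)))))) (.node 1328 (.node 1320 (.node 1316 (.node 1314 (.node 1313 (.leaf 1902) (.leaf 1903)) (.node 1315 (.leaf 1904) (.leaf 1905))) (.node 1318 (.node 1317 (.leaf 1908) (.leaf 1909)) (.node 1319 (.leaf 1910) (.leaf 1911)))) (.node 1324 (.node 1322 (.node 1321 (.leaf 1912) (.leaf 1913)) (.node 1323 (.leaf 1914) (.leaf 1915))) (.node 1326 (.node 1325 (.leaf 1916) (.leaf 1917)) (.node 1327 (.leaf 1918) (.leaf 1919))))) (.node 1336 (.node 1332 (.node 1330 (.node 1329 (.leaf 1920) (.leaf 1921)) (.node 1331 (.leaf 1922) (.leaf 1923))) (.node 1334 (.node 1333 (.leaf 1924) (.leaf 1925)) (.node 1335 (.leaf 1940) (.leaf 1941)))) (.node 1340 (.node 1338 (.node 1337 (.leaf 1942) (.leaf 1943)) (.node 1339 (.leaf 1945) (.leaf 1946))) (.node 1342 (.node 1341 (.leaf 1978) (.leaf 1979)) (.node 1343 (.leaf 1980) (.leaf 1981))))))) (.node 1376 (.node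 1360 (.node 1352 (.node 1348 (.node 1346 (.node 1345 (.leaf 1986) (.leaf 1987)) (.node 1347 (.leaf 1988) (.leaf 1989))) (.node 1350 (.node 1349 (.leaf 1990) (.leaf 1991)) (.node 1351 (.leaf 1992) (.leaf 1993)))) (.node 1356 (.node 1354 (.node 1353 (.leaf 1994) (.leaf 1995)) (.node 1355 (.leaf 1996) (.leaf 1997))) (.node 1358 (.node 1357 (.leaf 2000) (.leaf 2001)) (.node 1359 (.leaf 2002) (.leaf 2003))))) (.node 1368 (.node 1364 (.node 1362 (.node 1361 (.leaf 2007) (.leaf 2008)) (.node 1363 (.leaf 2011) (.leaf 2012))) (.node 1366 (.node 1365 (.leaf 2015) (.leaf 2016)) (.node 1367 (.leaf 2023) (.leaf 2024)))) (.node 1372 (.node 1370 (.node 1369 (.leaf 2025) (.leaf 2026)) (.node 1371 (.leaf 2027) (.leaf 2028))) (.node 1374 (.node 1373 (.leaf 2034) (.leaf 2035)) (.node 1375 (.leaf 2036) (.leaf 2037)))))) (.node 1392 (.node 1384 (.node 1380 (.node 1378 (.node 1377 (.leaf 2045) (.leaf 2046)) (.node 1379 (.leaf 2047) (.leaf 2048)))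 (.node 1382 (.node 1381 (.leaf 2049) (.leaf 2050)) (.node 1383 (.leaf 2054) (.leaf 2055)))) (.node 1388 (.node 1386 (.node 1385 (.leaf 2059) (.leaf 2060)) (.node 1387 (.leaf 2061) (.leaf 2062))) (.node 1390 (.node 1389 (.leaf 2063) (.leaf 2064)) (.node 1391 (.leaf 2065) (.leaf 2066))))) (.node 1400 (.node 1396 (.node 1394 (.node 1393 (.leaf 2067) (.leaf 2068)) (.node 1395 (.leaf 2069) (.leaf 2070))) (.node 1398 (.node 1397 (.leaf 2071) (.leaf 2072)) (.node 1399 (.leaf 2073) (.leaf 2074)))) (.node 1404 (.node 1402 (.node 1401 (.leaf 2075) (.leaf 2076)) (.node 1403 (.leaf 2077) (.leaf 2078))) (.node 1406 (.node 1405 (.leaf 2081) (.leaf 2082)) (.node 1407 (.leaf 2083) (.leaf 2084)))))))) (.node 1472 (.node 1440 (.node 1424 (.node 1416 (.node 1412 (.node 1410 (.node 1409 (.leaf 2085) (.leaf 2086)) (.node 1411 (.leaf 2087) (.leaf 2088))) (.node 1414 (.node 1413 (.leaf 2089) (.leaf 2090)) (.node 1415 (.leaf 2093) (.leaf 2094))))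 (.node 1420 (.node 1418 (.node 1417 (.leaf 2095) (.leaf 2096)) (.node 1419 (.leaf 2101) (.leaf 2102))) (.node 1422 (.node 1421 (.leaf 2103) (.leaf 2104)) (.node 1423 (.leaf 2105) (.leaf 2106))))) (.node 1432 (.node 1428 (.node 1426 (.node 1425 (.leaf 2107) (.leaf 2108)) (.node 1427 (.leaf 2113) (.leaf 2114))) (.node 1430 (.node 1429 (.leaf 2115) (.leaf 2116)) (.node 1431 (.leaf 2117) (.leaf 2118)))) (.node 1436 (.node 1434 (.node 1433 (.leaf 2131) (.leaf 2132)) (.node 1435 (.leaf 2133) (.leaf 2134))) (.node 1438 (.node 1437 (.leaf 2135) (.leaf 2136)) (.node 1439 (.leaf 2137) (.leaf 2138)))))) (.node 1456 (.node 1448 (.node 1444 (.node 1442 (.node 1441 (.leaf 2141) (.leaf 2142)) (.node 1443 (.leaf 2145) (.leaf 2146))) (.node 1446 (.node 1445 (.leaf 2147) (.leaf 2148)) (.node 1447 (.leaf 2149) (.leaf 2150)))) (.node 1452 (.node 1450 (.node 1449 (.leaf 2157) (.leaf 2158)) (.node 1451 (.leaf 2173) (.leaf 2174))) (.node 1454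 (.node 1453 (.leaf 2179) (.leaf 2180)) (.node 1455 (.leaf 2181) (.leaf 2182))))) (.node 1464 (.node 1460 (.node 1458 (.node 1457 (.leaf 2183) (.leaf 2184)) (.node 1459 (.leaf 2185) (.leaf 2186))) (.node 1462 (.node 1461 (.leaf 2187) (.leaf 2188)) (.node 1463 (.leaf 2199) (.leaf 2200)))) (.node 1468 (.node 1466 (.node 1465 (.leaf 2203) (.leaf 2204)) (.node 1467 (.leaf 2207) (.leaf 2208))) (.node 1470 (.node 1469 (.leaf 2209) (.leaf 2210)) (.node 1471 (.leaf 2212) (.leaf 2213))))))) (.node 1504 (.node 1488 (.node 1480 (.node 1476 (.node 1474 (.node 1473 (.leaf 2214) (.leaf 2215)) (.node 1475 (.leaf 2216) (.leaf 2217))) (.node 1478 (.node 1477 (.leaf 2218) (.leaf 2219)) (.node 1479 (.leaf 2220) (.leaf 2221)))) (.node 1484 (.node 1482 (.node 1481 (.leaf 2222) (.leaf 2223)) (.node 1483 (.leaf 2224) (.leaf 2225))) (.node 1486 (.node 1485 (.leaf 2226) (.leaf 2227)) (.node 1487 (.leaf 2230) (.leaf 2231))))) (.node 1496 (.node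 1492 (.node 1490 (.node 1489 (.leaf 2232) (.leaf 2233)) (.node 1491 (.leaf 2234) (.leaf 2235))) (.node 1494 (.node 1493 (.leaf 2236) (.leaf 2237)) (.node 1495 (.leaf 2238) (.leaf 2239)))) (.node 1500 (.node 1498 (.node 1497 (.leaf 2241) (.leaf 2242)) (.node 1499 (.leaf 2243) (.leaf 2244))) (.node 1502 (.node 1501 (.leaf 2247) (.leaf 2248)) (.node 1503 (.leaf 2249) (.leaf 2250)))))) (.node 1520 (.node 1512 (.node 1508 (.node 1506 (.node 1505 (.leaf 2251) (.leaf 2252)) (.node 1507 (.leaf 2253) (.leaf 2254))) (.node 1510 (.node 1509 (.leaf 2255) (.leaf 2256)) (.node 1511 (.leaf 2261) (.leaf 2262)))) (.node 1516 (.node 1514 (.node 1513 (.leaf 2267) (.leaf 2268)) (.node 1515 (.leaf 2272) (.leaf 2273))) (.node 1518 (.node 1517 (.leaf 2274) (.leaf 2275)) (.node 1519 (.leaf 2280) (.leaf 2281))))) (.node 1528 (.node 1524 (.node 1522 (.node 1521 (.leaf 2282) (.leaf 2286)) (.node 1523 (.leaf 2302) (.leaf 2303))) (.node 1526 (.node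 1525 (.leaf 2306) (.leaf 2307)) (.node 1527 (.leaf 2310) (.leaf 2311)))) (.node 1532 (.node 1530 (.node 1529 (.leaf 2316) (.leaf 2317)) (.node 1531 (.leaf 2318) (.leaf 2319))) (.node 1534 (.node 1533 (.leaf 2322) (.leaf 2323)) (.node 1535 (.leaf 2324) (.leaf 2325))))))))

/-- block of `live` -/
def live_6 : Tr := .node 1664 (.node 1600 (.node 1568 (.node 1552 (.node 1544 (.node 1540 (.node 1538 (.node 1537 (.leaf 2326) (.leaf 2327)) (.node 1539 (.leaf 2328) (.leaf 2329))) (.node 1542 (.node 1541 (.leaf 2330) (.leaf 2331)) (.node 1543 (.leaf 2332) (.leaf 2333)))) (.node 1548 (.node 1546 (.node 1545 (.leaf 2334) (.leaf 2335)) (.node 1547 (.leaf 2338) (.leaf 2339))) (.node 1550 (.node 1549 (.leaf 2344) (.leaf 2345)) (.node 1551 (.leaf 2349) (.leaf 2350))))) (.node 1560 (.node 1556 (.node 1554 (.node 1553 (.leaf 2353) (.leaf 2354)) (.node 1555 (.leaf 2359) (.leaf 2360))) (.node 1558 (.node 1557 (.leaf 2363) (.leaf 2364)) (.node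 1559 (.leaf 2365) (.leaf 2366)))) (.node 1564 (.node 1562 (.node 1561 (.leaf 2367) (.leaf 2368)) (.node 1563 (.leaf 2369) (.leaf 2370))) (.node 1566 (.node 1565 (.leaf 2371) (.leaf 2372)) (.node 1567 (.leaf 2373) (.leaf 2374)))))) (.node 1584 (.node 1576 (.node 1572 (.node 1570 (.node 1569 (.leaf 2375) (.leaf 2376)) (.node 1571 (.leaf 2381) (.leaf 2382))) (.node 1574 (.node 1573 (.leaf 2383) (.leaf 2384)) (.node 1575 (.leaf 2389) (.leaf 2390)))) (.node 1580 (.node 1578 (.node 1577 (.leaf 2391) (.leaf 2392)) (.node 1579 (.leaf 2393) (.leaf 2394))) (.node 1582 (.node 1581 (.leaf 2395) (.leaf 2396)) (.node 1583 (.leaf 2397) (.leaf 2398))))) (.node 1592 (.node 1588 (.node 1586 (.node 1585 (.leaf 2399) (.leaf 2400)) (.node 1587 (.leaf 2401) (.leaf 2402))) (.node 1590 (.node 1589 (.leaf 2405) (.leaf 2406)) (.node 1591 (.leaf 2407) (.leaf 2408)))) (.node 1596 (.node 1594 (.node 1593 (.leaf 2409) (.leaf 2410)) (.node 1595 (.leaf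 2411) (.leaf 2412))) (.node 1598 (.node 1597 (.leaf 2415) (.leaf 2416)) (.node 1599 (.leaf 2417) (.leaf 2418))))))) (.node 1632 (.node 1616 (.node 1608 (.node 1604 (.node 1602 (.node 1601 (.leaf 2424) (.leaf 2425)) (.node 1603 (.leaf 2432) (.leaf 2433))) (.node 1606 (.node 1605 (.leaf 2434) (.leaf 2435)) (.node 1607 (.leaf 2436) (.leaf 2437)))) (.node 1612 (.node 1610 (.node 1609 (.leaf 2441) (.leaf 2442)) (.node 1611 (.leaf 2447) (.leaf 2448))) (.node 1614 (.node 1613 (.leaf 2449) (.leaf 2451)) (.node 1615 (.leaf 2454) (.leaf 2455))))) (.node 1624 (.node 1620 (.node 1618 (.node 1617 (.leaf 2462) (.leaf 2463)) (.node 1619 (.leaf 2467) (.leaf 2468))) (.node 1622 (.node 1621 (.leaf 2472) (.leaf 2473)) (.node 1623 (.leaf 2474) (.leaf 2475)))) (.node 1628 (.node 1626 (.node 1625 (.leaf 2476) (.leaf 2477)) (.node 1627 (.leaf 2517) (.leaf 2518))) (.node 1630 (.node 1629 (.leaf 2525) (.leaf 2526)) (.node 1631 (.leaf 2527) (.leaf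 2528)))))) (.node 1648 (.node 1640 (.node 1636 (.node 1634 (.node 1633 (.leaf 2529) (.leaf 2530)) (.node 1635 (.leaf 2531) (.leaf 2532))) (.node 1638 (.node 1637 (.leaf 2533) (.leaf 2534)) (.node 1639 (.leaf 2535) (.leaf 2536)))) (.node 1644 (.node 1642 (.node 1641 (.leaf 2537) (.leaf 2538)) (.node 1643 (.leaf 2539) (.leaf 2540))) (.node 1646 (.node 1645 (.leaf 2541) (.leaf 2542)) (.node 1647 (.leaf 2543) (.leaf 2544))))) (.node 1656 (.node 1652 (.node 1650 (.node 1649 (.leaf 2545) (.leaf 2546)) (.node 1651 (.leaf 2549) (.leaf 2550))) (.node 1654 (.node 1653 (.leaf 2564) (.leaf 2565)) (.node 1655 (.leaf 2566) (.leaf 2567)))) (.node 1660 (.node 1658 (.node 1657 (.leaf 2572) (.leaf 2573)) (.node 1659 (.leaf 2574) (.leaf 2575))) (.node 1662 (.node 1661 (.leaf 2576) (.leaf 2577)) (.node 1663 (.leaf 2578) (.leaf 2579)))))))) (.node 1728 (.node 1696 (.node 1680 (.node 1672 (.node 1668 (.node 1666 (.node 1665 (.leaf 2580) (.leaf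 2581)) (.node 1667 (.leaf 2582) (.leaf 2583))) (.node 1670 (.node 1669 (.leaf 2584) (.leaf 2585)) (.node 1671 (.leaf 2586) (.leaf 2587)))) (.node 1676 (.node 1674 (.node 1673 (.leaf 2588) (.leaf 2589)) (.node 1675 (.leaf 2590) (.leaf 2591))) (.node 1678 (.node 1677 (.leaf 2592) (.leaf 2593)) (.node 1679 (.leaf 2594) (.leaf 2595))))) (.node 1688 (.node 1684 (.node 1682 (.node 1681 (.leaf 2596) (.leaf 2597)) (.node 1683 (.leaf 2610) (.leaf 2611))) (.node 1686 (.node 1685 (.leaf 2614) (.leaf 2615)) (.node 1687 (.leaf 2622) (.leaf 2623)))) (.node 1692 (.node 1690 (.node 1689 (.leaf 2626) (.leaf 2627)) (.node 1691 (.leaf 2628) (.leaf 2629))) (.node 1694 (.node 1693 (.leaf 2634) (.leaf 2635)) (.node 1695 (.leaf 2643) (.leaf 2644)))))) (.node 1712 (.node 1704 (.node 1700 (.node 1698 (.node 1697 (.leaf 2645) (.leaf 2646)) (.node 1699 (.leaf 2662) (.leaf 2663))) (.node 1702 (.node 1701 (.leaf 2666) (.leaf 2667)) (.node 1703 (.leaf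 2668) (.leaf 2669)))) (.node 1708 (.node 1706 (.node 1705 (.leaf 2676) (.leaf 2677)) (.node 1707 (.leaf 2678) (.leaf 2679))) (.node 1710 (.node 1709 (.leaf 2693) (.leaf 2694)) (.node 1711 (.leaf 2695) (.leaf 2696))))) (.node 1720 (.node 1716 (.node 1714 (.node 1713 (.leaf 2697) (.leaf 2698)) (.node 1715 (.leaf 2700) (.leaf 2701))) (.node 1718 (.node 1717 (.leaf 2702) (.leaf 2703)) (.node 1719 (.leaf 2704) (.leaf 2705)))) (.node 1724 (.node 1722 (.node 1721 (.leaf 2706) (.leaf 2707)) (.node 1723 (.leaf 2708) (.leaf 2709))) (.node 1726 (.node 1725 (.leaf 2710) (.leaf 2711)) (.node 1727 (.leaf 2712) (.leaf 2713))))))) (.node 1760 (.node 1744 (.node 1736 (.node 1732 (.node 1730 (.node 1729 (.leaf 2714) (.leaf 2715)) (.node 1731 (.leaf 2717) (.leaf 2718))) (.node 1734 (.node 1733 (.leaf 2719) (.leaf 2720)) (.node 1735 (.leaf 2747) (.leaf 2748)))) (.node 1740 (.node 1738 (.node 1737 (.leaf 2749) (.leaf 2750)) (.node 1739 (.leaf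 2754) (.leaf 2755))) (.node 1742 (.node 1741 (.leaf 2758) (.leaf 2759)) (.node 1743 (.leaf 2760) (.leaf 2761))))) (.node 1752 (.node 1748 (.node 1746 (.node 1745 (.leaf 2762) (.leaf 2763)) (.node 1747 (.leaf 2764) (.leaf 2765))) (.node 1750 (.node 1749 (.leaf 2766) (.leaf 2767)) (.node 1751 (.leaf 2774) (.leaf 2775)))) (.node 1756 (.node 1754 (.node 1753 (.leaf 2780) (.leaf 2781)) (.node 1755 (.leaf 2789) (.leaf 2790))) (.node 1758 (.node 1757 (.leaf 2793) (.leaf 2794)) (.node 1759 (.leaf 2795) (.leaf 2796)))))) (.node 1776 (.node 1768 (.node 1764 (.node 1762 (.node 1761 (.leaf 2797) (.leaf 2798)) (.node 1763 (.leaf 2799) (.leaf 2800))) (.node 1766 (.node 1765 (.leaf 2803) (.leaf 2804)) (.node 1767 (.leaf 2805) (.leaf 2806)))) (.node 1772 (.node 1770 (.node 1769 (.leaf 2807) (.leaf 2808)) (.node 1771 (.leaf 2809) (.leaf 2810))) (.node 1774 (.node 1773 (.leaf 2811) (.leaf 2812)) (.node 1775 (.leaf 2834) (.leaf 2835)))))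 (.node 1784 (.node 1780 (.node 1778 (.node 1777 (.leaf 2856) (.leaf 2857)) (.node 1779 (.leaf 2868) (.leaf 2869))) (.node 1782 (.node 1781 (.leaf 2872) (.leaf 2873)) (.node 1783 (.leaf 2876) (.leaf 2877)))) (.node 1788 (.node 1786 (.node 1785 (.leaf 2880) (.leaf 2881)) (.node 1787 (.leaf 2882) (.leaf 2883))) (.node 1790 (.node 1789 (.leaf 2884) (.leaf 2885)) (.node 1791 (.leaf 2905) (.leaf 2906))))))))

/-- block of `live` -/
def live_7 : Tr := .node 1920 (.node 1856 (.node 1824 (.node 1808 (.node 1800 (.node 1796 (.node 1794 (.node 1793 (.leaf 2907) (.leaf 2908)) (.node 1795 (.leaf 2909) (.leaf 2910))) (.node 1798 (.node 1797 (.leaf 2911) (.leaf 2912)) (.node 1799 (.leaf 2913) (.leaf 2914)))) (.node 1804 (.node 1802 (.node 1801 (.leaf 2917) (.leaf 2918)) (.node 1803 (.leaf 2919) (.leaf 2920))) (.node 1806 (.node 1805 (.leaf 2921) (.leaf 2922)) (.node 1807 (.leaf 2923) (.leaf 2924))))) (.node 1816 (.node 1812 (.node 1810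 (.node 1809 (.leaf 2925) (.leaf 2926)) (.node 1811 (.leaf 2927) (.leaf 2928))) (.node 1814 (.node 1813 (.leaf 2929) (.leaf 2930)) (.node 1815 (.leaf 2931) (.leaf 2932)))) (.node 1820 (.node 1818 (.node 1817 (.leaf 2934) (.leaf 2935)) (.node 1819 (.leaf 2938) (.leaf 2939))) (.node 1822 (.node 1821 (.leaf 2940) (.leaf 2941)) (.node 1823 (.leaf 2942) (.leaf 2943)))))) (.node 1840 (.node 1832 (.node 1828 (.node 1826 (.node 1825 (.leaf 2944) (.leaf 2945)) (.node 1827 (.leaf 2948) (.leaf 2949))) (.node 1830 (.node 1829 (.leaf 2954) (.leaf 2955)) (.node 1831 (.leaf 2974) (.leaf 2975)))) (.node 1836 (.node 1834 (.node 1833 (.leaf 2987) (.leaf 2988)) (.node 1835 (.leaf 2993) (.leaf 2994))) (.node 1838 (.node 1837 (.leaf 2995) (.leaf 2996)) (.node 1839 (.leaf 2997) (.leaf 2998))))) (.node 1848 (.node 1844 (.node 1842 (.node 1841 (.leaf 3002) (.leaf 3003)) (.node 1843 (.leaf 3004) (.leaf 3005))) (.node 1846 (.node 1845 (.leaf 3013)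 (.leaf 3014)) (.node 1847 (.leaf 3015) (.leaf 3016)))) (.node 1852 (.node 1850 (.node 1849 (.leaf 3019) (.leaf 3020)) (.node 1851 (.leaf 3022) (.leaf 3023))) (.node 1854 (.node 1853 (.leaf 3024) (.leaf 3025)) (.node 1855 (.leaf 3045) (.leaf 3046))))))) (.node 1888 (.node 1872 (.node 1864 (.node 1860 (.node 1858 (.node 1857 (.leaf 3047) (.leaf 3048)) (.node 1859 (.leaf 3049) (.leaf 3050))) (.node 1862 (.node 1861 (.leaf 3051) (.leaf 3052)) (.node 1863 (.leaf 3053) (.leaf 3054)))) (.node 1868 (.node 1866 (.node 1865 (.leaf 3055) (.leaf 3056)) (.node 1867 (.leaf 3059) (.leaf 3060))) (.node 1870 (.node 1869 (.leaf 3061) (.leaf 3062)) (.node 1871 (.leaf 3063) (.leaf 3064))))) (.node 1880 (.node 1876 (.node 1874 (.node 1873 (.leaf 3065) (.leaf 3066)) (.node 1875 (.leaf 3067) (.leaf 3068))) (.node 1878 (.node 1877 (.leaf 3069) (.leaf 3070)) (.node 1879 (.leaf 3071) (.leaf 3072)))) (.node 1884 (.node 1882 (.node 1881 (.leaf 3073)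 (.leaf 3074)) (.node 1883 (.leaf 3083) (.leaf 3084))) (.node 1886 (.node 1885 (.leaf 3085) (.leaf 3086)) (.node 1887 (.leaf 3087) (.leaf 3088)))))) (.node 1904 (.node 1896 (.node 1892 (.node 1890 (.node 1889 (.leaf 3091) (.leaf 3092)) (.node 1891 (.leaf 3093) (.leaf 3094))) (.node 1894 (.node 1893 (.leaf 3097) (.leaf 3098)) (.node 1895 (.leaf 3099) (.leaf 3100)))) (.node 1900 (.node 1898 (.node 1897 (.leaf 3103) (.leaf 3104)) (.node 1899 (.leaf 3105) (.leaf 3106))) (.node 1902 (.node 1901 (.leaf 3115) (.leaf 3116)) (.node 1903 (.leaf 3123) (.leaf 3124))))) (.node 1912 (.node 1908 (.node 1906 (.node 1905 (.leaf 3125) (.leaf 3126)) (.node 1907 (.leaf 3128) (.leaf 3129))) (.node 1910 (.node 1909 (.leaf 3178) (.leaf 3179)) (.node 1911 (.leaf 3180) (.leaf 3181)))) (.node 1916 (.node 1914 (.node 1913 (.leaf 3182) (.leaf 3183)) (.node 1915 (.leaf 3184) (.leaf 3185))) (.node 1918 (.node 1917 (.leaf 3186) (.leaf 3187)) (.node 1919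 (.leaf 3188) (.leaf 3189)))))))) (.node 1984 (.node 1952 (.node 1936 (.node 1928 (.node 1924 (.node 1922 (.node 1921 (.leaf 3198) (.leaf 3199)) (.node 1923 (.leaf 3200) (.leaf 3201))) (.node 1926 (.node 1925 (.leaf 3204) (.leaf 3205)) (.node 1927 (.leaf 3206) (.leaf 3207)))) (.node 1932 (.node 1930 (.node 1929 (.leaf 3208) (.leaf 3209)) (.node 1931 (.leaf 3210) (.leaf 3211))) (.node 1934 (.node 1933 (.leaf 3212) (.leaf 3213)) (.node 1935 (.leaf 3214) (.leaf 3215))))) (.node 1944 (.node 1940 (.node 1938 (.node 1937 (.leaf 3216) (.leaf 3217)) (.node 1939 (.leaf 3218) (.leaf 3219))) (.node 1942 (.node 1941 (.leaf 3220) (.leaf 3221)) (.node 1943 (.leaf 3228) (.leaf 3229)))) (.node 1948 (.node 1946 (.node 1945 (.leaf 3230) (.leaf 3231)) (.node 1947 (.leaf 3233) (.leaf 3234))) (.node 1950 (.node 1949 (.leaf 3237) (.leaf 3238)) (.node 1951 (.leaf 3240) (.leaf 3241)))))) (.node 1968 (.node 1960 (.node 1956 (.node 1954 (.node 1953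 (.leaf 3242) (.leaf 3243)) (.node 1955 (.leaf 3245) (.leaf 3246))) (.node 1958 (.node 1957 (.leaf 3247) (.leaf 3248)) (.node 1959 (.leaf 3251) (.leaf 3252)))) (.node 1964 (.node 1962 (.node 1961 (.leaf 3261) (.leaf 3262)) (.node 1963 (.leaf 3263) (.leaf 3264))) (.node 1966 (.node 1965 (.leaf 3265) (.leaf 3266)) (.node 1967 (.leaf 3267) (.leaf 3268))))) (.node 1976 (.node 1972 (.node 1970 (.node 1969 (.leaf 3270) (.leaf 3271)) (.node 1971 (.leaf 3281) (.leaf 3282))) (.node 1974 (.node 1973 (.leaf 3296) (.leaf 3297)) (.node 1975 (.leaf 3303) (.leaf 3304)))) (.node 1980 (.node 1978 (.node 1977 (.leaf 3305) (.leaf 3306)) (.node 1979 (.leaf 3307) (.leaf 3308))) (.node 1982 (.node 1981 (.leaf 3309) (.leaf 3310)) (.node 1983 (.leaf 3311) (.leaf 3312))))))) (.node 2016 (.node 2000 (.node 1992 (.node 1988 (.node 1986 (.node 1985 (.leaf 3315) (.leaf 3316)) (.node 1987 (.leaf 3322) (.leaf 3323))) (.node 1990 (.node 1989 (.leaf 3324)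 (.leaf 3325)) (.node 1991 (.leaf 3326) (.leaf 3327)))) (.node 1996 (.node 1994 (.node 1993 (.leaf 3335) (.leaf 3336)) (.node 1995 (.leaf 3337) (.leaf 3338))) (.node 1998 (.node 1997 (.leaf 3342) (.leaf 3343)) (.node 1999 (.leaf 3346) (.leaf 3347))))) (.node 2008 (.node 2004 (.node 2002 (.node 2001 (.leaf 3348) (.leaf 3349)) (.node 2003 (.leaf 3359) (.leaf 3360))) (.node 2006 (.node 2005 (.leaf 3363) (.leaf 3364)) (.node 2007 (.leaf 3366) (.leaf 3367)))) (.node 2012 (.node 2010 (.node 2009 (.leaf 3368) (.leaf 3369)) (.node 2011 (.leaf 3370) (.leaf 3371))) (.node 2014 (.node 2013 (.leaf 3379) (.leaf 3380)) (.node 2015 (.leaf 3381) (.leaf 3382)))))) (.node 2032 (.node 2024 (.node 2020 (.node 2018 (.node 2017 (.leaf 3385) (.leaf 3386)) (.node 2019 (.leaf 3387) (.leaf 3388))) (.node 2022 (.node 2021 (.leaf 3389) (.leaf 3390)) (.node 2023 (.leaf 3391) (.leaf 3392)))) (.node 2028 (.node 2026 (.node 2025 (.leaf 3393) (.leaf 3394))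 (.node 2027 (.leaf 3397) (.leaf 3398))) (.node 2030 (.node 2029 (.leaf 3403) (.leaf 3404)) (.node 2031 (.leaf 3407) (.leaf 3408))))) (.node 2040 (.node 2036 (.node 2034 (.node 2033 (.leaf 3409) (.leaf 3410)) (.node 2035 (.leaf 3411) (.leaf 3412))) (.node 2038 (.node 2037 (.leaf 3413) (.leaf 3414)) (.node 2039 (.leaf 3415) (.leaf 3416)))) (.node 2044 (.node 2042 (.node 2041 (.leaf 3418) (.leaf 3419)) (.node 2043 (.leaf 3422) (.leaf 3423))) (.node 2046 (.node 2045 (.leaf 3424) (.leaf 3425)) (.node 2047 (.leaf 3426) (.leaf 3427))))))))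

/-- block of `live` -/
def live_8 : Tr := .node 2176 (.node 2112 (.node 2080 (.node 2064 (.node 2056 (.node 2052 (.node 2050 (.node 2049 (.leaf 3428) (.leaf 3429)) (.node 2051 (.leaf 3430) (.leaf 3431))) (.node 2054 (.node 2053 (.leaf 3435) (.leaf 3436)) (.node 2055 (.leaf 3437) (.leaf 3438)))) (.node 2060 (.node 2058 (.node 2057 (.leaf 3439) (.leaf 3440)) (.node 2059 (.leaf 3441) (.leaf 3442))) (.node 2062 (.node 2061 (.leaf 3443) (.leaf 3444)) (.node 2063 (.leaf 3445) (.leaf 3446))))) (.node 2072 (.node 2068 (.node 2066 (.node 2065 (.leaf 3457) (.leaf 3458)) (.node 2067 (.leaf 3459) (.leaf 3460))) (.node 2070 (.node 2069 (.leaf 3468) (.leaf 3469)) (.node 2071 (.leaf 3470) (.leaf 3471)))) (.node 2076 (.node 2074 (.node 2073 (.leaf 3474) (.leaf 3475)) (.node 2075 (.leaf 3476) (.leaf 3477))) (.node 2078 (.node 2077 (.leaf 3478) (.leaf 3479)) (.node 2079 (.leaf 3480) (.leaf 3481)))))) (.node 2096 (.node 2088 (.node 2084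 (.node 2082 (.node 2081 (.leaf 3482) (.leaf 3483)) (.node 2083 (.leaf 3490) (.leaf 3491))) (.node 2086 (.node 2085 (.leaf 3492) (.leaf 3493)) (.node 2087 (.leaf 3494) (.leaf 3495)))) (.node 2092 (.node 2090 (.node 2089 (.leaf 3501) (.leaf 3502)) (.node 2091 (.leaf 3503) (.leaf 3504))) (.node 2094 (.node 2093 (.leaf 3513) (.leaf 3514)) (.node 2095 (.leaf 3515) (.leaf 3516))))) (.node 2104 (.node 2100 (.node 2098 (.node 2097 (.leaf 3517) (.leaf 3518)) (.node 2099 (.leaf 3540) (.leaf 3541))) (.node 2102 (.node 2101 (.leaf 3545) (.leaf 3546)) (.node 2103 (.leaf 3557) (.leaf 3558)))) (.node 2108 (.node 2106 (.node 2105 (.leaf 3559) (.leaf 3560)) (.node 2107 (.leaf 3561) (.leaf 3562))) (.node 2110 (.node 2109 (.leaf 3565) (.leaf 3566)) (.node 2111 (.leaf 3571) (.leaf 3572))))))) (.node 2144 (.node 2128 (.node 2120 (.node 2116 (.node 2114 (.node 2113 (.leaf 3575) (.leaf 3576)) (.node 2115 (.leaf 3581) (.leaf 3582))) (.node 2118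 (.node 2117 (.leaf 3589) (.leaf 3592)) (.node 2119 (.leaf 3593) (.leaf 3594)))) (.node 2124 (.node 2122 (.node 2121 (.leaf 3596) (.leaf 3597)) (.node 2123 (.leaf 3607) (.leaf 3608))) (.node 2126 (.node 2125 (.leaf 3609) (.leaf 3610)) (.node 2127 (.leaf 3611) (.leaf 3612))))) (.node 2136 (.node 2132 (.node 2130 (.node 2129 (.leaf 3613) (.leaf 3614)) (.node 2131 (.leaf 3615) (.leaf 3616))) (.node 2134 (.node 2133 (.leaf 3617) (.leaf 3618)) (.node 2135 (.leaf 3619) (.leaf 3620)))) (.node 2140 (.node 2138 (.node 2137 (.leaf 3621) (.leaf 3622)) (.node 2139 (.leaf 3623) (.leaf 3624))) (.node 2142 (.node 2141 (.leaf 3625) (.leaf 3626)) (.node 2143 (.leaf 3630) (.leaf 3631)))))) (.node 2160 (.node 2152 (.node 2148 (.node 2146 (.node 2145 (.leaf 3632) (.leaf 3635)) (.node 2147 (.leaf 3637) (.leaf 3638))) (.node 2150 (.node 2149 (.leaf 3641) (.leaf 3642)) (.node 2151 (.leaf 3645) (.leaf 3646)))) (.node 2156 (.node 2154 (.node 2153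 (.leaf 3647) (.leaf 3648)) (.node 2155 (.leaf 3649) (.leaf 3650))) (.node 2158 (.node 2157 (.leaf 3651) (.leaf 3652)) (.node 2159 (.leaf 3655) (.leaf 3656))))) (.node 2168 (.node 2164 (.node 2162 (.node 2161 (.leaf 3661) (.leaf 3662)) (.node 2163 (.leaf 3667) (.leaf 3668))) (.node 2166 (.node 2165 (.leaf 3671) (.leaf 3672)) (.node 2167 (.leaf 3674) (.leaf 3675)))) (.node 2172 (.node 2170 (.node 2169 (.leaf 3676) (.leaf 3677)) (.node 2171 (.leaf 3678) (.leaf 3679))) (.node 2174 (.node 2173 (.leaf 3680) (.leaf 3681)) (.node 2175 (.leaf 3684) (.leaf 3685)))))))) (.node 2240 (.node 2208 (.node 2192 (.node 2184 (.node 2180 (.node 2178 (.node 2177 (.leaf 3686) (.leaf 3687)) (.node 2179 (.leaf 3689) (.leaf 3690))) (.node 2182 (.node 2181 (.leaf 3691) (.leaf 3692)) (.node 2183 (.leaf 3694) (.leaf 3695)))) (.node 2188 (.node 2186 (.node 2185 (.leaf 3698) (.leaf 3699)) (.node 2187 (.leaf 3708) (.leaf 3709))) (.node 2190 (.node 2189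 (.leaf 3710) (.leaf 3711)) (.node 2191 (.leaf 3712) (.leaf 3713))))) (.node 2200 (.node 2196 (.node 2194 (.node 2193 (.leaf 3718) (.leaf 3719)) (.node 2195 (.leaf 3733) (.leaf 3734))) (.node 2198 (.node 2197 (.leaf 3735) (.leaf 3736)) (.node 2199 (.leaf 3737) (.leaf 3738)))) (.node 2204 (.node 2202 (.node 2201 (.leaf 3744) (.leaf 3745)) (.node 2203 (.leaf 3746) (.leaf 3747))) (.node 2206 (.node 2205 (.leaf 3753) (.leaf 3754)) (.node 2207 (.leaf 3780) (.leaf 3781)))))) (.node 2224 (.node 2216 (.node 2212 (.node 2210 (.node 2209 (.leaf 3782) (.leaf 3783)) (.node 2211 (.leaf 3784) (.leaf 3785))) (.node 2214 (.node 2213 (.leaf 3786) (.leaf 3787)) (.node 2215 (.leaf 3788) (.leaf 3789)))) (.node 2220 (.node 2218 (.node 2217 (.leaf 3790) (.leaf 3791)) (.node 2219 (.leaf 3792) (.leaf 3793))) (.node 2222 (.node 2221 (.leaf 3814) (.leaf 3815)) (.node 2223 (.leaf 3833) (.leaf 3834))))) (.node 2232 (.node 2228 (.node 2226 (.node 2225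 (.leaf 3867) (.leaf 3868)) (.node 2227 (.leaf 3871) (.leaf 3872))) (.node 2230 (.node 2229 (.leaf 3882) (.leaf 3883)) (.node 2231 (.leaf 3886) (.leaf 3887)))) (.node 2236 (.node 2234 (.node 2233 (.leaf 3888) (.leaf 3889)) (.node 2235 (.leaf 3892) (.leaf 3893))) (.node 2238 (.node 2237 (.leaf 3894) (.leaf 3895)) (.node 2239 (.leaf 3896) (.leaf 3897))))))) (.node 2272 (.node 2256 (.node 2248 (.node 2244 (.node 2242 (.node 2241 (.leaf 3904) (.leaf 3905)) (.node 2243 (.leaf 3906) (.leaf 3907))) (.node 2246 (.node 2245 (.leaf 3908) (.leaf 3909)) (.node 2247 (.leaf 3916) (.leaf 3917)))) (.node 2252 (.node 2250 (.node 2249 (.leaf 3931) (.leaf 3932)) (.node 2251 (.leaf 3933) (.leaf 3934))) (.node 2254 (.node 2253 (.leaf 3935) (.leaf 3936)) (.node 2255 (.leaf 3939) (.leaf 3940))))) (.node 2264 (.node 2260 (.node 2258 (.node 2257 (.leaf 3941) (.leaf 3942)) (.node 2259 (.leaf 3943) (.leaf 3944))) (.node 2262 (.node 2261 (.leaf 3945)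 (.leaf 3946)) (.node 2263 (.leaf 3948) (.leaf 3949)))) (.node 2268 (.node 2266 (.node 2265 (.leaf 3950) (.leaf 3951)) (.node 2267 (.leaf 3952) (.leaf 3953))) (.node 2270 (.node 2269 (.leaf 3973) (.leaf 3974)) (.node 2271 (.leaf 3975) (.leaf 3976)))))) (.node 2288 (.node 2280 (.node 2276 (.node 2274 (.node 2273 (.leaf 3979) (.leaf 3980)) (.node 2275 (.leaf 3981) (.leaf 3982))) (.node 2278 (.node 2277 (.leaf 3991) (.leaf 3992)) (.node 2279 (.leaf 3993) (.leaf 3994)))) (.node 2284 (.node 2282 (.node 2281 (.leaf 3995) (.leaf 3996)) (.node 2283 (.leaf 3999) (.leaf 4000))) (.node 2286 (.node 2285 (.leaf 4007) (.leaf 4008)) (.node 2287 (.leaf 4009) (.leaf 4010))))) (.node 2296 (.node 2292 (.node 2290 (.node 2289 (.leaf 4021) (.leaf 4022)) (.node 2291 (.leaf 4023) (.leaf 4024))) (.node 2294 (.node 2293 (.leaf 4025) (.leaf 4026)) (.node 2295 (.leaf 4028) (.leaf 4029)))) (.node 2300 (.node 2298 (.node 2297 (.leaf 4032) (.leaf 4033))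 (.node 2299 (.leaf 4034) (.leaf 4035))) (.node 2302 (.node 2301 (.leaf 4039) (.leaf 4040)) (.node 2303 (.leaf 4041) (.leaf 4042))))))))

/-- block of `live` -/
def live_9 : Tr := .node 2432 (.node 2368 (.node 2336 (.node 2320 (.node 2312 (.node 2308 (.node 2306 (.node 2305 (.leaf 4043) (.leaf 4044)) (.node 2307 (.leaf 4045) (.leaf 4046))) (.node 2310 (.node 2309 (.leaf 4047) (.leaf 4048)) (.node 2311 (.leaf 4055) (.leaf 4056)))) (.node 2316 (.node 2314 (.node 2313 (.leaf 4057) (.leaf 4058)) (.node 2315 (.leaf 4059) (.leaf 4060))) (.node 2318 (.node 2317 (.leaf 4062) (.leaf 4063)) (.node 2319 (.leaf 4064) (.leaf 4065))))) (.node 2328 (.node 2324 (.node 2322 (.node 2321 (.leaf 4066) (.leaf 4067)) (.node 2323 (.leaf 4068) (.leaf 4069))) (.node 2326 (.node 2325 (.leaf 4079) (.leaf 4080)) (.node 2327 (.leaf 4081) (.leaf 4082)))) (.node 2332 (.node 2330 (.node 2329 (.leaf 4084) (.leaf 4085)) (.node 2331 (.leaf 4089) (.leaf 4090)))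 (.node 2334 (.node 2333 (.leaf 4091) (.leaf 4092)) (.node 2335 (.leaf 4095) (.leaf 4096)))))) (.node 2352 (.node 2344 (.node 2340 (.node 2338 (.node 2337 (.leaf 4120) (.leaf 4121)) (.node 2339 (.leaf 4122) (.leaf 4123))) (.node 2342 (.node 2341 (.leaf 4124) (.leaf 4125)) (.node 2343 (.leaf 4126) (.leaf 4127)))) (.node 2348 (.node 2346 (.node 2345 (.leaf 4155) (.leaf 4156)) (.node 2347 (.leaf 4160) (.leaf 4161))) (.node 2350 (.node 2349 (.leaf 4162) (.leaf 4163)) (.node 2351 (.leaf 4175) (.leaf 4176))))) (.node 2360 (.node 2356 (.node 2354 (.node 2353 (.leaf 4177) (.leaf 4178)) (.node 2355 (.leaf 4183) (.leaf 4184))) (.node 2358 (.node 2357 (.leaf 4185) (.leaf 4186)) (.node 2359 (.leaf 4233) (.leaf 4234)))) (.node 2364 (.node 2362 (.node 2361 (.leaf 4235) (.leaf 4236)) (.node 2363 (.leaf 4237) (.leaf 4238))) (.node 2366 (.node 2365 (.leaf 4239) (.leaf 4240)) (.node 2367 (.leaf 4241) (.leaf 4242))))))) (.node 2400 (.node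 2384 (.node 2376 (.node 2372 (.node 2370 (.node 2369 (.leaf 4243) (.leaf 4244)) (.node 2371 (.leaf 4245) (.leaf 4246))) (.node 2374 (.node 2373 (.leaf 4249) (.leaf 4250)) (.node 2375 (.leaf 4251) (.leaf 4252)))) (.node 2380 (.node 2378 (.node 2377 (.leaf 4253) (.leaf 4254)) (.node 2379 (.leaf 4257) (.leaf 4258))) (.node 2382 (.node 2381 (.leaf 4268) (.leaf 4269)) (.node 2383 (.leaf 4277) (.leaf 4278))))) (.node 2392 (.node 2388 (.node 2386 (.node 2385 (.leaf 4279) (.leaf 4280)) (.node 2387 (.leaf 4320) (.leaf 4321))) (.node 2390 (.node 2389 (.leaf 4324) (.leaf 4325)) (.node 2391 (.leaf 4326) (.leaf 4327)))) (.node 2396 (.node 2394 (.node 2393 (.leaf 4328) (.leaf 4329)) (.node 2395 (.leaf 4330) (.leaf 4331))) (.node 2398 (.node 2397 (.leaf 4333) (.leaf 4334)) (.node 2399 (.leaf 4349) (.leaf 4350)))))) (.node 2416 (.node 2408 (.node 2404 (.node 2402 (.node 2401 (.leaf 4357) (.leaf 4358)) (.node 2403 (.leaf 4359) (.leaf 4360)))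 (.node 2406 (.node 2405 (.leaf 4361) (.leaf 4362)) (.node 2407 (.leaf 4363) (.leaf 4364)))) (.node 2412 (.node 2410 (.node 2409 (.leaf 4365) (.leaf 4366)) (.node 2411 (.leaf 4367) (.leaf 4368))) (.node 2414 (.node 2413 (.leaf 4369) (.leaf 4370)) (.node 2415 (.leaf 4371) (.leaf 4372))))) (.node 2424 (.node 2420 (.node 2418 (.node 2417 (.leaf 4373) (.leaf 4374)) (.node 2419 (.leaf 4375) (.leaf 4376))) (.node 2422 (.node 2421 (.leaf 4377) (.leaf 4378)) (.node 2423 (.leaf 4387) (.leaf 4388)))) (.node 2428 (.node 2426 (.node 2425 (.leaf 4407) (.leaf 4408)) (.node 2427 (.leaf 4410) (.leaf 4411))) (.node 2430 (.node 2429 (.leaf 4415) (.leaf 4416)) (.node 2431 (.leaf 4417) (.leaf 4418)))))))) (.node 2496 (.node 2464 (.node 2448 (.node 2440 (.node 2436 (.node 2434 (.node 2433 (.leaf 4483) (.leaf 4484)) (.node 2435 (.leaf 4497) (.leaf 4498))) (.node 2438 (.node 2437 (.leaf 4499) (.leaf 4500)) (.node 2439 (.leaf 4501) (.leaf 4502))))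 (.node 2444 (.node 2442 (.node 2441 (.leaf 4503) (.leaf 4504)) (.node 2443 (.leaf 4505) (.leaf 4506))) (.node 2446 (.node 2445 (.leaf 4509) (.leaf 4510)) (.node 2447 (.leaf 4511) (.leaf 4512))))) (.node 2456 (.node 2452 (.node 2450 (.node 2449 (.leaf 4517) (.leaf 4518)) (.node 2451 (.leaf 4527) (.leaf 4528))) (.node 2454 (.node 2453 (.leaf 4533) (.leaf 4534)) (.node 2455 (.leaf 4535) (.leaf 4536)))) (.node 2460 (.node 2458 (.node 2457 (.leaf 4556) (.leaf 4557)) (.node 2459 (.leaf 4562) (.leaf 4563))) (.node 2462 (.node 2461 (.leaf 4564) (.leaf 4565)) (.node 2463 (.leaf 4571) (.leaf 4572)))))) (.node 2480 (.node 2472 (.node 2468 (.node 2466 (.node 2465 (.leaf 4573) (.leaf 4574)) (.node 2467 (.leaf 4580) (.leaf 4581))) (.node 2470 (.node 2469 (.leaf 4582) (.leaf 4583)) (.node 2471 (.leaf 4597) (.leaf 4599)))) (.node 2476 (.node 2474 (.node 2473 (.leaf 4613) (.leaf 4614)) (.node 2475 (.leaf 4620) (.leaf 4621))) (.node 2478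 (.node 2477 (.leaf 4622) (.leaf 4623)) (.node 2479 (.leaf 4629) (.leaf 4630))))) (.node 2488 (.node 2484 (.node 2482 (.node 2481 (.leaf 4631) (.leaf 4632)) (.node 2483 (.leaf 4638) (.leaf 4639))) (.node 2486 (.node 2485 (.leaf 4642) (.leaf 4643)) (.node 2487 (.leaf 4647) (.leaf 4648)))) (.node 2492 (.node 2490 (.node 2489 (.leaf 4650) (.leaf 4651)) (.node 2491 (.leaf 4654) (.leaf 4655))) (.node 2494 (.node 2493 (.leaf 4656) (.leaf 4659)) (.node 2495 (.leaf 4660) (.leaf 4661))))))) (.node 2528 (.node 2512 (.node 2504 (.node 2500 (.node 2498 (.node 2497 (.leaf 4668) (.leaf 4669)) (.node 2499 (.leaf 4670) (.leaf 4671))) (.node 2502 (.node 2501 (.leaf 4672) (.leaf 4673)) (.node 2503 (.leaf 4674) (.leaf 4675)))) (.node 2508 (.node 2506 (.node 2505 (.leaf 4676) (.leaf 4677)) (.node 2507 (.leaf 4687) (.leaf 4688))) (.node 2510 (.node 2509 (.leaf 4689) (.leaf 4690)) (.node 2511 (.leaf 4691) (.leaf 4692))))) (.node 2520 (.node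 2516 (.node 2514 (.node 2513 (.leaf 4695) (.leaf 4696)) (.node 2515 (.leaf 4697) (.leaf 4698))) (.node 2518 (.node 2517 (.leaf 4700) (.leaf 4701)) (.node 2519 (.leaf 4702) (.leaf 4703)))) (.node 2524 (.node 2522 (.node 2521 (.leaf 4705) (.leaf 4706)) (.node 2523 (.leaf 4707) (.leaf 4708))) (.node 2526 (.node 2525 (.leaf 4709) (.leaf 4710)) (.node 2527 (.leaf 4712) (.leaf 4713)))))) (.node 2544 (.node 2536 (.node 2532 (.node 2530 (.node 2529 (.leaf 4714) (.leaf 4715)) (.node 2531 (.leaf 4718) (.leaf 4719))) (.node 2534 (.node 2533 (.leaf 4727) (.leaf 4728)) (.node 2535 (.leaf 4731) (.leaf 4732)))) (.node 2540 (.node 2538 (.node 2537 (.leaf 4744) (.leaf 4745)) (.node 2539 (.leaf 4746) (.leaf 4747))) (.node 2542 (.node 2541 (.leaf 4759) (.leaf 4760)) (.node 2543 (.leaf 4761) (.leaf 4762))))) (.node 2552 (.node 2548 (.node 2546 (.node 2545 (.leaf 4765) (.leaf 4766)) (.node 2547 (.leaf 4767) (.leaf 4768))) (.node 2550 (.node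 2549 (.leaf 4769) (.leaf 4770)) (.node 2551 (.leaf 4783) (.leaf 4784)))) (.node 2556 (.node 2554 (.node 2553 (.leaf 4785) (.leaf 4786)) (.node 2555 (.leaf 4789) (.leaf 4790))) (.node 2558 (.node 2557 (.leaf 4791) (.leaf 4792)) (.node 2559 (.leaf 4795) (.leaf 4796))))))))

/-- block of `live` -/
def live_10 : Tr := .node 2688 (.node 2624 (.node 2592 (.node 2576 (.node 2568 (.node 2564 (.node 2562 (.node 2561 (.leaf 4798) (.leaf 4799)) (.node 2563 (.leaf 4800) (.leaf 4801))) (.node 2566 (.node 2565 (.leaf 4802) (.leaf 4803)) (.node 2567 (.leaf 4809) (.leaf 4810)))) (.node 2572 (.node 2570 (.node 2569 (.leaf 4811) (.leaf 4812)) (.node 2571 (.leaf 4813) (.leaf 4814))) (.node 2574 (.node 2573 (.leaf 4815) (.leaf 4816)) (.node 2575 (.leaf 4817) (.leaf 4818))))) (.node 2584 (.node 2580 (.node 2578 (.node 2577 (.leaf 4819) (.leaf 4820)) (.node 2579 (.leaf 4821) (.leaf 4822))) (.node 2582 (.node 2581 (.leaf 4825) (.leaf 4826))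 (.node 2583 (.leaf 4831) (.leaf 4832)))) (.node 2588 (.node 2586 (.node 2585 (.leaf 4848) (.leaf 4849)) (.node 2587 (.leaf 4865) (.leaf 4866))) (.node 2590 (.node 2589 (.leaf 4869) (.leaf 4870)) (.node 2591 (.leaf 4874) (.leaf 4875)))))) (.node 2608 (.node 2600 (.node 2596 (.node 2594 (.node 2593 (.leaf 4878) (.leaf 4879)) (.node 2595 (.leaf 4880) (.leaf 4881))) (.node 2598 (.node 2597 (.leaf 4884) (.leaf 4885)) (.node 2599 (.leaf 4889) (.leaf 4890)))) (.node 2604 (.node 2602 (.node 2601 (.leaf 4901) (.leaf 4902)) (.node 2603 (.leaf 4903) (.leaf 4904))) (.node 2606 (.node 2605 (.leaf 4919) (.leaf 4920)) (.node 2607 (.leaf 4921) (.leaf 4922))))) (.node 2616 (.node 2612 (.node 2610 (.node 2609 (.leaf 4925) (.leaf 4926)) (.node 2611 (.leaf 4927) (.leaf 4928))) (.node 2614 (.node 2613 (.leaf 4929) (.leaf 4930)) (.node 2615 (.leaf 4935) (.leaf 4936)))) (.node 2620 (.node 2618 (.node 2617 (.leaf 4937) (.leaf 4938)) (.node 2619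 (.leaf 4941) (.leaf 4942))) (.node 2622 (.node 2621 (.leaf 4943) (.leaf 4948)) (.node 2623 (.leaf 4953) (.leaf 4954))))))) (.node 2656 (.node 2640 (.node 2632 (.node 2628 (.node 2626 (.node 2625 (.leaf 4955) (.leaf 4956)) (.node 2627 (.leaf 4959) (.leaf 4960))) (.node 2630 (.node 2629 (.leaf 4961) (.leaf 4962)) (.node 2631 (.leaf 4963) (.leaf 4966)))) (.node 2636 (.node 2634 (.node 2633 (.leaf 4967) (.leaf 4968)) (.node 2635 (.leaf 4969) (.leaf 4970))) (.node 2638 (.node 2637 (.leaf 4971) (.leaf 4972)) (.node 2639 (.leaf 4973) (.leaf 4974))))) (.node 2648 (.node 2644 (.node 2642 (.node 2641 (.leaf 4999) (.leaf 5000)) (.node 2643 (.leaf 5001) (.leaf 5002))) (.node 2646 (.node 2645 (.leaf 5003) (.leaf 5004)) (.node 2647 (.leaf 5005) (.leaf 5006)))) (.node 2652 (.node 2650 (.node 2649 (.leaf 5009) (.leaf 5010)) (.node 2651 (.leaf 5011) (.leaf 5012))) (.node 2654 (.node 2653 (.leaf 5014) (.leaf 5015)) (.node 2655 (.leaf 5016)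 (.leaf 5017)))))) (.node 2672 (.node 2664 (.node 2660 (.node 2658 (.node 2657 (.leaf 5018) (.leaf 5019)) (.node 2659 (.leaf 5020) (.leaf 5021))) (.node 2662 (.node 2661 (.leaf 5024) (.leaf 5025)) (.node 2663 (.leaf 5027) (.leaf 5028)))) (.node 2668 (.node 2666 (.node 2665 (.leaf 5029) (.leaf 5030)) (.node 2667 (.leaf 5031) (.leaf 5032))) (.node 2670 (.node 2669 (.leaf 5035) (.leaf 5036)) (.node 2671 (.leaf 5041) (.leaf 5042))))) (.node 2680 (.node 2676 (.node 2674 (.node 2673 (.leaf 5043) (.leaf 5044)) (.node 2675 (.leaf 5054) (.leaf 5055))) (.node 2678 (.node 2677 (.leaf 5086) (.leaf 5087)) (.node 2679 (.leaf 5134) (.leaf 5135)))) (.node 2684 (.node 2682 (.node 2681 (.leaf 5143) (.leaf 5144)) (.node 2683 (.leaf 5145) (.leaf 5146))) (.node 2686 (.node 2685 (.leaf 5147) (.leaf 5148)) (.node 2687 (.leaf 5156) (.leaf 5157)))))))) (.node 2752 (.node 2720 (.node 2704 (.node 2696 (.node 2692 (.node 2690 (.node 2689 (.leaf 5158)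 (.leaf 5159)) (.node 2691 (.leaf 5160) (.leaf 5161))) (.node 2694 (.node 2693 (.leaf 5170) (.leaf 5171)) (.node 2695 (.leaf 5174) (.leaf 5175)))) (.node 2700 (.node 2698 (.node 2697 (.leaf 5206) (.leaf 5207)) (.node 2699 (.leaf 5237) (.leaf 5238))) (.node 2702 (.node 2701 (.leaf 5239) (.leaf 5240)) (.node 2703 (.leaf 5241) (.leaf 5242))))) (.node 2712 (.node 2708 (.node 2706 (.node 2705 (.leaf 5243) (.leaf 5244)) (.node 2707 (.leaf 5245) (.leaf 5246))) (.node 2710 (.node 2709 (.leaf 5247) (.leaf 5248)) (.node 2711 (.leaf 5249) (.leaf 5250)))) (.node 2716 (.node 2714 (.node 2713 (.leaf 5255) (.leaf 5256)) (.node 2715 (.leaf 5258) (.leaf 5259))) (.node 2718 (.node 2717 (.leaf 5264) (.leaf 5265)) (.node 2719 (.leaf 5266) (.leaf 5267)))))) (.node 2736 (.node 2728 (.node 2724 (.node 2722 (.node 2721 (.leaf 5268) (.leaf 5269)) (.node 2723 (.leaf 5270) (.leaf 5271))) (.node 2726 (.node 2725 (.leaf 5285) (.leaf 5286)) (.node 2727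 (.leaf 5296) (.leaf 5297)))) (.node 2732 (.node 2730 (.node 2729 (.leaf 5298) (.leaf 5299)) (.node 2731 (.leaf 5300) (.leaf 5301))) (.node 2734 (.node 2733 (.leaf 5302) (.leaf 5303)) (.node 2735 (.leaf 5304) (.leaf 5305))))) (.node 2744 (.node 2740 (.node 2738 (.node 2737 (.leaf 5313) (.leaf 5314)) (.node 2739 (.leaf 5315) (.leaf 5316))) (.node 2742 (.node 2741 (.leaf 5317) (.leaf 5318)) (.node 2743 (.leaf 5319) (.leaf 5320)))) (.node 2748 (.node 2746 (.node 2745 (.leaf 5331) (.leaf 5332)) (.node 2747 (.leaf 5335) (.leaf 5336))) (.node 2750 (.node 2749 (.leaf 5337) (.leaf 5338)) (.node 2751 (.leaf 5339) (.leaf 5340))))))) (.node 2784 (.node 2768 (.node 2760 (.node 2756 (.node 2754 (.node 2753 (.leaf 5341) (.leaf 5342)) (.node 2755 (.leaf 5347) (.leaf 5348))) (.node 2758 (.node 2757 (.leaf 5349) (.leaf 5350)) (.node 2759 (.leaf 5357) (.leaf 5358)))) (.node 2764 (.node 2762 (.node 2761 (.leaf 5360) (.leaf 5361)) (.node 2763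 (.leaf 5370) (.leaf 5371))) (.node 2766 (.node 2765 (.leaf 5403) (.leaf 5404)) (.node 2767 (.leaf 5444) (.leaf 5445))))) (.node 2776 (.node 2772 (.node 2770 (.node 2769 (.leaf 5446) (.leaf 5447)) (.node 2771 (.leaf 5449) (.leaf 5450))) (.node 2774 (.node 2773 (.leaf 5451) (.leaf 5452)) (.node 2775 (.leaf 5513) (.leaf 5514)))) (.node 2780 (.node 2778 (.node 2777 (.leaf 5527) (.leaf 5528)) (.node 2779 (.leaf 5530) (.leaf 5531))) (.node 2782 (.node 2781 (.leaf 5532) (.leaf 5533)) (.node 2783 (.leaf 5537) (.leaf 5538)))))) (.node 2800 (.node 2792 (.node 2788 (.node 2786 (.node 2785 (.leaf 5545) (.leaf 5546)) (.node 2787 (.leaf 5547) (.leaf 5548))) (.node 2790 (.node 2789 (.leaf 5561) (.leaf 5562)) (.node 2791 (.leaf 5563) (.leaf 5565)))) (.node 2796 (.node 2794 (.node 2793 (.leaf 5566) (.leaf 5567)) (.node 2795 (.leaf 5568) (.leaf 5569))) (.node 2798 (.node 2797 (.leaf 5570) (.leaf 5571)) (.node 2799 (.leaf 5574) (.leaf 5575)))))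 (.node 2808 (.node 2804 (.node 2802 (.node 2801 (.leaf 5576) (.leaf 5577)) (.node 2803 (.leaf 5578) (.leaf 5579))) (.node 2806 (.node 2805 (.leaf 5580) (.leaf 5581)) (.node 2807 (.leaf 5597) (.leaf 5598)))) (.node 2812 (.node 2810 (.node 2809 (.leaf 5601) (.leaf 5602)) (.node 2811 (.leaf 5603) (.leaf 5604))) (.node 2814 (.node 2813 (.leaf 5605) (.leaf 5606)) (.node 2815 (.leaf 5609) (.leaf 5610))))))))

/-- block of `live` -/
def live_11 : Tr := .node 2944 (.node 2880 (.node 2848 (.node 2832 (.node 2824 (.node 2820 (.node 2818 (.node 2817 (.leaf 5611) (.leaf 5612)) (.node 2819 (.leaf 5619) (.leaf 5620))) (.node 2822 (.node 2821 (.leaf 5622) (.leaf 5623)) (.node 2823 (.leaf 5626) (.leaf 5627)))) (.node 2828 (.node 2826 (.node 2825 (.leaf 5628) (.leaf 5629)) (.node 2827 (.leaf 5630) (.leaf 5631))) (.node 2830 (.node 2829 (.leaf 5634) (.leaf 5635)) (.node 2831 (.leaf 5636) (.leaf 5637))))) (.node 2840 (.node 2836 (.node 2834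 (.node 2833 (.leaf 5648) (.leaf 5649)) (.node 2835 (.leaf 5650) (.leaf 5651))) (.node 2838 (.node 2837 (.leaf 5656) (.leaf 5657)) (.node 2839 (.leaf 5658) (.leaf 5659)))) (.node 2844 (.node 2842 (.node 2841 (.leaf 5660) (.leaf 5661)) (.node 2843 (.leaf 5662) (.leaf 5663))) (.node 2846 (.node 2845 (.leaf 5664) (.leaf 5665)) (.node 2847 (.leaf 5666) (.leaf 5667)))))) (.node 2864 (.node 2856 (.node 2852 (.node 2850 (.node 2849 (.leaf 5671) (.leaf 5672)) (.node 2851 (.leaf 5673) (.leaf 5674))) (.node 2854 (.node 2853 (.leaf 5709) (.leaf 5710)) (.node 2855 (.leaf 5714) (.leaf 5715)))) (.node 2860 (.node 2858 (.node 2857 (.leaf 5716) (.leaf 5717)) (.node 2859 (.leaf 5728) (.leaf 5729))) (.node 2862 (.node 2861 (.leaf 5753) (.leaf 5754)) (.node 2863 (.leaf 5755) (.leaf 5756))))) (.node 2872 (.node 2868 (.node 2866 (.node 2865 (.leaf 5757) (.leaf 5758)) (.node 2867 (.leaf 5759) (.leaf 5760))) (.node 2870 (.node 2869 (.leaf 5790)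 (.leaf 5791)) (.node 2871 (.leaf 5834) (.leaf 5835)))) (.node 2876 (.node 2874 (.node 2873 (.leaf 5839) (.leaf 5840)) (.node 2875 (.leaf 5844) (.leaf 5845))) (.node 2878 (.node 2877 (.leaf 5848) (.leaf 5849)) (.node 2879 (.leaf 5850) (.leaf 5851))))))) (.node 2912 (.node 2896 (.node 2888 (.node 2884 (.node 2882 (.node 2881 (.leaf 5856) (.leaf 5857)) (.node 2883 (.leaf 5860) (.leaf 5861))) (.node 2886 (.node 2885 (.leaf 5862) (.leaf 5863)) (.node 2887 (.leaf 5865) (.leaf 5866)))) (.node 2892 (.node 2890 (.node 2889 (.leaf 5868) (.leaf 5869)) (.node 2891 (.leaf 5872) (.leaf 5873))) (.node 2894 (.node 2893 (.leaf 5874) (.leaf 5875)) (.node 2895 (.leaf 5876) (.leaf 5877))))) (.node 2904 (.node 2900 (.node 2898 (.node 2897 (.leaf 5880) (.leaf 5881)) (.node 2899 (.leaf 5882) (.leaf 5883))) (.node 2902 (.node 2901 (.leaf 5884) (.leaf 5885)) (.node 2903 (.leaf 5889) (.leaf 5890)))) (.node 2908 (.node 2906 (.node 2905 (.leaf 5891)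 (.leaf 5892)) (.node 2907 (.leaf 5896) (.leaf 5897))) (.node 2910 (.node 2909 (.leaf 5898) (.leaf 5899)) (.node 2911 (.leaf 5900) (.leaf 5901)))))) (.node 2928 (.node 2920 (.node 2916 (.node 2914 (.node 2913 (.leaf 5933) (.leaf 5934)) (.node 2915 (.leaf 5965) (.leaf 5966))) (.node 2918 (.node 2917 (.leaf 5967) (.leaf 5968)) (.node 2919 (.leaf 5973) (.leaf 5974)))) (.node 2924 (.node 2922 (.node 2921 (.leaf 5996) (.leaf 5997)) (.node 2923 (.leaf 6016) (.leaf 6017))) (.node 2926 (.node 2925 (.leaf 6020) (.leaf 6021)) (.node 2927 (.leaf 6022) (.leaf 6023))))) (.node 2936 (.node 2932 (.node 2930 (.node 2929 (.leaf 6024) (.leaf 6025)) (.node 2931 (.leaf 6026) (.leaf 6027))) (.node 2934 (.node 2933 (.leaf 6028) (.leaf 6029)) (.node 2935 (.leaf 6030) (.leaf 6031)))) (.node 2940 (.node 2938 (.node 2937 (.leaf 6032) (.leaf 6033)) (.node 2939 (.leaf 6050) (.leaf 6051))) (.node 2942 (.node 2941 (.leaf 6052) (.leaf 6053)) (.node 2943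 (.leaf 6054) (.leaf 6055)))))))) (.node 3008 (.node 2976 (.node 2960 (.node 2952 (.node 2948 (.node 2946 (.node 2945 (.leaf 6057) (.leaf 6058)) (.node 2947 (.leaf 6059) (.leaf 6060))) (.node 2950 (.node 2949 (.leaf 6081) (.leaf 6082)) (.node 2951 (.leaf 6131) (.leaf 6132)))) (.node 2956 (.node 2954 (.node 2953 (.leaf 6133) (.leaf 6134)) (.node 2955 (.leaf 6143) (.leaf 6144))) (.node 2958 (.node 2957 (.leaf 6155) (.leaf 6156)) (.node 2959 (.leaf 6157) (.leaf 6158))))) (.node 2968 (.node 2964 (.node 2962 (.node 2961 (.leaf 6161) (.leaf 6162)) (.node 2963 (.leaf 6180) (.leaf 6181))) (.node 2966 (.node 2965 (.leaf 6183) (.leaf 6184)) (.node 2967 (.leaf 6190) (.leaf 6191)))) (.node 2972 (.node 2970 (.node 2969 (.leaf 6194) (.leaf 6195)) (.node 2971 (.leaf 6198) (.leaf 6199))) (.node 2974 (.node 2973 (.leaf 6202) (.leaf 6203)) (.node 2975 (.leaf 6204) (.leaf 6205)))))) (.node 2992 (.node 2984 (.node 2980 (.node 2978 (.node 2977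 (.leaf 6206) (.leaf 6207)) (.node 2979 (.leaf 6212) (.leaf 6213))) (.node 2982 (.node 2981 (.leaf 6216) (.leaf 6217)) (.node 2983 (.leaf 6220) (.leaf 6221)))) (.node 2988 (.node 2986 (.node 2985 (.leaf 6222) (.leaf 6223)) (.node 2987 (.leaf 6224) (.leaf 6225))) (.node 2990 (.node 2989 (.leaf 6226) (.leaf 6227)) (.node 2991 (.leaf 6228) (.leaf 6229))))) (.node 3000 (.node 2996 (.node 2994 (.node 2993 (.leaf 6232) (.leaf 6233)) (.node 2995 (.leaf 6234) (.leaf 6235))) (.node 2998 (.node 2997 (.leaf 6239) (.leaf 6240)) (.node 2999 (.leaf 6243) (.leaf 6244)))) (.node 3004 (.node 3002 (.node 3001 (.leaf 6245) (.leaf 6246)) (.node 3003 (.leaf 6247) (.leaf 6248))) (.node 3006 (.node 3005 (.leaf 6249) (.leaf 6250)) (.node 3007 (.leaf 6253) (.leaf 6254))))))) (.node 3040 (.node 3024 (.node 3016 (.node 3012 (.node 3010 (.node 3009 (.leaf 6255) (.leaf 6256)) (.node 3011 (.leaf 6265) (.leaf 6266))) (.node 3014 (.node 3013 (.leaf 6267)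 (.leaf 6268)) (.node 3015 (.leaf 6271) (.leaf 6272)))) (.node 3020 (.node 3018 (.node 3017 (.leaf 6273) (.leaf 6274)) (.node 3019 (.leaf 6275) (.leaf 6276))) (.node 3022 (.node 3021 (.leaf 6279) (.leaf 6280)) (.node 3023 (.leaf 6281) (.leaf 6282))))) (.node 3032 (.node 3028 (.node 3026 (.node 3025 (.leaf 6293) (.leaf 6294)) (.node 3027 (.leaf 6302) (.leaf 6303))) (.node 3030 (.node 3029 (.leaf 6304) (.leaf 6305)) (.node 3031 (.leaf 6327) (.leaf 6328)))) (.node 3036 (.node 3034 (.node 3033 (.leaf 6346) (.leaf 6347)) (.node 3035 (.leaf 6348) (.leaf 6349))) (.node 3038 (.node 3037 (.leaf 6350) (.leaf 6351)) (.node 3039 (.leaf 6361) (.leaf 6362)))))) (.node 3056 (.node 3048 (.node 3044 (.node 3042 (.node 3041 (.leaf 6377) (.leaf 6378)) (.node 3043 (.leaf 6379) (.leaf 6380))) (.node 3046 (.node 3045 (.leaf 6382) (.leaf 6383)) (.node 3047 (.leaf 6404) (.leaf 6405)))) (.node 3052 (.node 3050 (.node 3049 (.leaf 6413) (.leaf 6414))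 (.node 3051 (.leaf 6415) (.leaf 6416))) (.node 3054 (.node 3053 (.leaf 6417) (.leaf 6418)) (.node 3055 (.leaf 6419) (.leaf 6420))))) (.node 3064 (.node 3060 (.node 3058 (.node 3057 (.leaf 6445) (.leaf 6446)) (.node 3059 (.leaf 6452) (.leaf 6453))) (.node 3062 (.node 3061 (.leaf 6457) (.leaf 6458)) (.node 3063 (.leaf 6459) (.leaf 6460)))) (.node 3068 (.node 3066 (.node 3065 (.leaf 6461) (.leaf 6462)) (.node 3067 (.leaf 6491) (.leaf 6492))) (.node 3070 (.node 3069 (.leaf 6495) (.leaf 6496)) (.node 3071 (.leaf 6509) (.leaf 6510))))))))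

/-- block of `live` -/
def live_12 : Tr := .node 3200 (.node 3136 (.node 3104 (.node 3088 (.node 3080 (.node 3076 (.node 3074 (.node 3073 (.leaf 6513) (.leaf 6514)) (.node 3075 (.leaf 6523) (.leaf 6524))) (.node 3078 (.node 3077 (.leaf 6527) (.leaf 6528)) (.node 3079 (.leaf 6529) (.leaf 6530)))) (.node 3084 (.node 3082 (.node 3081 (.leaf 6533) (.leaf 6534)) (.node 3083 (.leaf 6543) (.leaf 6544))) (.node 3086 (.node 3085 (.leaf 6545) (.leaf 6546)) (.node 3087 (.leaf 6556) (.leaf 6557))))) (.node 3096 (.node 3092 (.node 3090 (.node 3089 (.leaf 6559) (.leaf 6560)) (.node 3091 (.leaf 6563) (.leaf 6564))) (.node 3094 (.node 3093 (.leaf 6591) (.leaf 6592)) (.node 3095 (.leaf 6597) (.leaf 6598)))) (.node 3100 (.node 3098 (.node 3097 (.leaf 6661) (.leaf 6662)) (.node 3099 (.leaf 6663) (.leaf 6664))) (.node 3102 (.node 3101 (.leaf 6665) (.leaf 6666)) (.node 3103 (.leaf 6668) (.leaf 6669)))))) (.node 3120 (.node 3112 (.node 3108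 (.node 3106 (.node 3105 (.leaf 6670) (.leaf 6671)) (.node 3107 (.leaf 6672) (.leaf 6673))) (.node 3110 (.node 3109 (.leaf 6675) (.leaf 6676)) (.node 3111 (.leaf 6678) (.leaf 6679)))) (.node 3116 (.node 3114 (.node 3113 (.leaf 6682) (.leaf 6683)) (.node 3115 (.leaf 6688) (.leaf 6689))) (.node 3118 (.node 3117 (.leaf 6690) (.leaf 6691)) (.node 3119 (.leaf 6692) (.leaf 6693))))) (.node 3128 (.node 3124 (.node 3122 (.node 3121 (.leaf 6694) (.leaf 6695)) (.node 3123 (.leaf 6696) (.leaf 6697))) (.node 3126 (.node 3125 (.leaf 6698) (.leaf 6699)) (.node 3127 (.leaf 6700) (.leaf 6701)))) (.node 3132 (.node 3130 (.node 3129 (.leaf 6704) (.leaf 6705)) (.node 3131 (.leaf 6710) (.leaf 6711))) (.node 3134 (.node 3133 (.leaf 6712) (.leaf 6713)) (.node 3135 (.leaf 6714) (.leaf 6715))))))) (.node 3168 (.node 3152 (.node 3144 (.node 3140 (.node 3138 (.node 3137 (.leaf 6716) (.leaf 6717)) (.node 3139 (.leaf 6720) (.leaf 6721))) (.node 3142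 (.node 3141 (.leaf 6724) (.leaf 6725)) (.node 3143 (.leaf 6728) (.leaf 6729)))) (.node 3148 (.node 3146 (.node 3145 (.leaf 6732) (.leaf 6733)) (.node 3147 (.leaf 6734) (.leaf 6735))) (.node 3150 (.node 3149 (.leaf 6736) (.leaf 6737)) (.node 3151 (.leaf 6739) (.leaf 6740))))) (.node 3160 (.node 3156 (.node 3154 (.node 3153 (.leaf 6741) (.leaf 6742)) (.node 3155 (.leaf 6744) (.leaf 6745))) (.node 3158 (.node 3157 (.leaf 6753) (.leaf 6754)) (.node 3159 (.leaf 6755) (.leaf 6756)))) (.node 3164 (.node 3162 (.node 3161 (.leaf 6757) (.leaf 6758)) (.node 3163 (.leaf 6759) (.leaf 6760))) (.node 3166 (.node 3165 (.leaf 6766) (.leaf 6767)) (.node 3167 (.leaf 6768) (.leaf 6769)))))) (.node 3184 (.node 3176 (.node 3172 (.node 3170 (.node 3169 (.leaf 6773) (.leaf 6774)) (.node 3171 (.leaf 6778) (.leaf 6779))) (.node 3174 (.node 3173 (.leaf 6784) (.leaf 6785)) (.node 3175 (.leaf 6794) (.leaf 6795)))) (.node 3180 (.node 3178 (.node 3177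 (.leaf 6807) (.leaf 6808)) (.node 3179 (.leaf 6809) (.leaf 6810))) (.node 3182 (.node 3181 (.leaf 6811) (.leaf 6812)) (.node 3183 (.leaf 6813) (.leaf 6814))))) (.node 3192 (.node 3188 (.node 3186 (.node 3185 (.leaf 6816) (.leaf 6817)) (.node 3187 (.leaf 6819) (.leaf 6820))) (.node 3190 (.node 3189 (.leaf 6822) (.leaf 6823)) (.node 3191 (.leaf 6825) (.leaf 6826)))) (.node 3196 (.node 3194 (.node 3193 (.leaf 6827) (.leaf 6828)) (.node 3195 (.leaf 6853) (.leaf 6854))) (.node 3198 (.node 3197 (.leaf 6860) (.leaf 6861)) (.node 3199 (.leaf 6862) (.leaf 6863)))))))) (.node 3264 (.node 3232 (.node 3216 (.node 3208 (.node 3204 (.node 3202 (.node 3201 (.leaf 6864) (.leaf 6865)) (.node 3203 (.leaf 6866) (.leaf 6867))) (.node 3206 (.node 3205 (.leaf 6869) (.leaf 6870)) (.node 3207 (.leaf 6871) (.leaf 6872)))) (.node 3212 (.node 3210 (.node 3209 (.leaf 6873) (.leaf 6874)) (.node 3211 (.leaf 6875) (.leaf 6876))) (.node 3214 (.node 3213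 (.leaf 6879) (.leaf 6880)) (.node 3215 (.leaf 6881) (.leaf 6882))))) (.node 3224 (.node 3220 (.node 3218 (.node 3217 (.leaf 6899) (.leaf 6900)) (.node 3219 (.leaf 6901) (.leaf 6902))) (.node 3222 (.node 3221 (.leaf 6912) (.leaf 6913)) (.node 3223 (.leaf 6914) (.leaf 6915)))) (.node 3228 (.node 3226 (.node 3225 (.leaf 6924) (.leaf 6925)) (.node 3227 (.leaf 6933) (.leaf 6934))) (.node 3230 (.node 3229 (.leaf 6955) (.leaf 6956)) (.node 3231 (.leaf 6957) (.leaf 6958)))))) (.node 3248 (.node 3240 (.node 3236 (.node 3234 (.node 3233 (.leaf 6961) (.leaf 6962)) (.node 3235 (.leaf 6969) (.leaf 6970))) (.node 3238 (.node 3237 (.leaf 6971) (.leaf 6972)) (.node 3239 (.leaf 6976) (.leaf 6977)))) (.node 3244 (.node 3242 (.node 3241 (.leaf 6978) (.leaf 6979)) (.node 3243 (.leaf 6986) (.leaf 6987))) (.node 3246 (.node 3245 (.leaf 6990) (.leaf 6991)) (.node 3247 (.leaf 6995) (.leaf 6996))))) (.node 3256 (.node 3252 (.node 3250 (.node 3249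 (.leaf 6999) (.leaf 7000)) (.node 3251 (.leaf 7001) (.leaf 7002))) (.node 3254 (.node 3253 (.leaf 7004) (.leaf 7005)) (.node 3255 (.leaf 7006) (.leaf 7007)))) (.node 3260 (.node 3258 (.node 3257 (.leaf 7008) (.leaf 7009)) (.node 3259 (.leaf 7010) (.leaf 7011))) (.node 3262 (.node 3261 (.leaf 7012) (.leaf 7013)) (.node 3263 (.leaf 7014) (.leaf 7015))))))) (.node 3296 (.node 3280 (.node 3272 (.node 3268 (.node 3266 (.node 3265 (.leaf 7018) (.leaf 7019)) (.node 3267 (.leaf 7021) (.leaf 7022))) (.node 3270 (.node 3269 (.leaf 7023) (.leaf 7024)) (.node 3271 (.leaf 7025) (.leaf 7026)))) (.node 3276 (.node 3274 (.node 3273 (.leaf 7029) (.leaf 7030)) (.node 3275 (.leaf 7031) (.leaf 7032))) (.node 3278 (.node 3277 (.leaf 7040) (.leaf 7041)) (.node 3279 (.leaf 7045) (.leaf 7046))))) (.node 3288 (.node 3284 (.node 3282 (.node 3281 (.leaf 7052) (.leaf 7053)) (.node 3283 (.leaf 7054) (.leaf 7055))) (.node 3286 (.node 3285 (.leaf 7056)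 (.leaf 7057)) (.node 3287 (.leaf 7060) (.leaf 7061)))) (.node 3292 (.node 3290 (.node 3289 (.leaf 7062) (.leaf 7063)) (.node 3291 (.leaf 7064) (.leaf 7065))) (.node 3294 (.node 3293 (.leaf 7066) (.leaf 7067)) (.node 3295 (.leaf 7069) (.leaf 7070)))))) (.node 3312 (.node 3304 (.node 3300 (.node 3298 (.node 3297 (.leaf 7071) (.leaf 7072)) (.node 3299 (.leaf 7074) (.leaf 7075))) (.node 3302 (.node 3301 (.leaf 7079) (.leaf 7080)) (.node 3303 (.leaf 7082) (.leaf 7083)))) (.node 3308 (.node 3306 (.node 3305 (.leaf 7084) (.leaf 7085)) (.node 3307 (.leaf 7086) (.leaf 7087))) (.node 3310 (.node 3309 (.leaf 7088) (.leaf 7089)) (.node 3311 (.leaf 7092) (.leaf 7093))))) (.node 3320 (.node 3316 (.node 3314 (.node 3313 (.leaf 7094) (.leaf 7095)) (.node 3315 (.leaf 7096) (.leaf 7097))) (.node 3318 (.node 3317 (.leaf 7098) (.leaf 7099)) (.node 3319 (.leaf 7100) (.leaf 7101)))) (.node 3324 (.node 3322 (.node 3321 (.leaf 7105) (.leaf 7106))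 (.node 3323 (.leaf 7108) (.leaf 7109))) (.node 3326 (.node 3325 (.leaf 7112) (.leaf 7113)) (.node 3327 (.leaf 7119) (.leaf 7120))))))))

/-- block of `live` -/
def live_13 : Tr := .node 3456 (.node 3392 (.node 3360 (.node 3344 (.node 3336 (.node 3332 (.node 3330 (.node 3329 (.leaf 7123) (.leaf 7124)) (.node 3331 (.leaf 7125) (.leaf 7126))) (.node 3334 (.node 3333 (.leaf 7129) (.leaf 7130)) (.node 3335 (.leaf 7133) (.leaf 7134)))) (.node 3340 (.node 3338 (.node 3337 (.leaf 7137) (.leaf 7138)) (.node 3339 (.leaf 7140) (.leaf 7141))) (.node 3342 (.node 3341 (.leaf 7161) (.leaf 7162)) (.node 3343 (.leaf 7163) (.leaf 7164))))) (.node 3352 (.node 3348 (.node 3346 (.node 3345 (.leaf 7174) (.leaf 7175)) (.node 3347 (.leaf 7178) (.leaf 7179))) (.node 3350 (.node 3349 (.leaf 7187) (.leaf 7188)) (.node 3351 (.leaf 7189) (.leaf 7190)))) (.node 3356 (.node 3354 (.node 3353 (.leaf 7191) (.leaf 7192)) (.node 3355 (.leaf 7197) (.leaf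 7198))) (.node 3358 (.node 3357 (.leaf 7199) (.leaf 7200)) (.node 3359 (.leaf 7205) (.leaf 7206)))))) (.node 3376 (.node 3368 (.node 3364 (.node 3362 (.node 3361 (.leaf 7212) (.leaf 7213)) (.node 3363 (.leaf 7214) (.leaf 7215))) (.node 3366 (.node 3365 (.leaf 7229) (.leaf 7230)) (.node 3367 (.leaf 7235) (.leaf 7236)))) (.node 3372 (.node 3370 (.node 3369 (.leaf 7237) (.leaf 7238)) (.node 3371 (.leaf 7239) (.leaf 7240))) (.node 3374 (.node 3373 (.leaf 7241) (.leaf 7242)) (.node 3375 (.leaf 7243) (.leaf 7244))))) (.node 3384 (.node 3380 (.node 3378 (.node 3377 (.leaf 7246) (.leaf 7247)) (.node 3379 (.leaf 7262) (.leaf 7263))) (.node 3382 (.node 3381 (.leaf 7270) (.leaf 7271)) (.node 3383 (.leaf 7272) (.leaf 7273)))) (.node 3388 (.node 3386 (.node 3385 (.leaf 7276) (.leaf 7277)) (.node 3387 (.leaf 7281) (.leaf 7282))) (.node 3390 (.node 3389 (.leaf 7311) (.leaf 7312)) (.node 3391 (.leaf 7313) (.leaf 7314))))))) (.node 3424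 (.node 3408 (.node 3400 (.node 3396 (.node 3394 (.node 3393 (.leaf 7316) (.leaf 7317)) (.node 3395 (.leaf 7341) (.leaf 7342))) (.node 3398 (.node 3397 (.leaf 7345) (.leaf 7346)) (.node 3399 (.leaf 7349) (.leaf 7350)))) (.node 3404 (.node 3402 (.node 3401 (.leaf 7359) (.leaf 7360)) (.node 3403 (.leaf 7361) (.leaf 7362))) (.node 3406 (.node 3405 (.leaf 7367) (.leaf 7368)) (.node 3407 (.leaf 7376) (.leaf 7377))))) (.node 3416 (.node 3412 (.node 3410 (.node 3409 (.leaf 7385) (.leaf 7386)) (.node 3411 (.leaf 7387) (.leaf 7388))) (.node 3414 (.node 3413 (.leaf 7402) (.leaf 7403)) (.node 3415 (.leaf 7416) (.leaf 7417)))) (.node 3420 (.node 3418 (.node 3417 (.leaf 7429) (.leaf 7430)) (.node 3419 (.leaf 7431) (.leaf 7432))) (.node 3422 (.node 3421 (.leaf 7435) (.leaf 7436)) (.node 3423 (.leaf 7437) (.leaf 7438)))))) (.node 3440 (.node 3432 (.node 3428 (.node 3426 (.node 3425 (.leaf 7439) (.leaf 7440)) (.node 3427 (.leaf 7441) (.leaf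 7442))) (.node 3430 (.node 3429 (.leaf 7445) (.leaf 7446)) (.node 3431 (.leaf 7448) (.leaf 7449)))) (.node 3436 (.node 3434 (.node 3433 (.leaf 7450) (.leaf 7451)) (.node 3435 (.leaf 7452) (.leaf 7453))) (.node 3438 (.node 3437 (.leaf 7461) (.leaf 7462)) (.node 3439 (.leaf 7465) (.leaf 7466))))) (.node 3448 (.node 3444 (.node 3442 (.node 3441 (.leaf 7467) (.leaf 7468)) (.node 3443 (.leaf 7472) (.leaf 7473))) (.node 3446 (.node 3445 (.leaf 7474) (.leaf 7475)) (.node 3447 (.leaf 7482) (.leaf 7483)))) (.node 3452 (.node 3450 (.node 3449 (.leaf 7489) (.leaf 7490)) (.node 3451 (.leaf 7496) (.leaf 7497))) (.node 3454 (.node 3453 (.leaf 7505) (.leaf 7506)) (.node 3455 (.leaf 7513) (.leaf 7514)))))))) (.node 3520 (.node 3488 (.node 3472 (.node 3464 (.node 3460 (.node 3458 (.node 3457 (.leaf 7515) (.leaf 7516)) (.node 3459 (.leaf 7517) (.leaf 7518))) (.node 3462 (.node 3461 (.leaf 7527) (.leaf 7528)) (.node 3463 (.leaf 7531) (.leaf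 7532)))) (.node 3468 (.node 3466 (.node 3465 (.leaf 7535) (.leaf 7536)) (.node 3467 (.leaf 7546) (.leaf 7547))) (.node 3470 (.node 3469 (.leaf 7548) (.leaf 7549)) (.node 3471 (.leaf 7550) (.leaf 7551))))) (.node 3480 (.node 3476 (.node 3474 (.node 3473 (.leaf 7558) (.leaf 7559)) (.node 3475 (.leaf 7563) (.leaf 7564))) (.node 3478 (.node 3477 (.leaf 7568) (.leaf 7569)) (.node 3479 (.leaf 7574) (.leaf 7575)))) (.node 3484 (.node 3482 (.node 3481 (.leaf 7579) (.leaf 7580)) (.node 3483 (.leaf 7581) (.leaf 7582))) (.node 3486 (.node 3485 (.leaf 7611) (.leaf 7612)) (.node 3487 (.leaf 7643) (.leaf 7644)))))) (.node 3504 (.node 3496 (.node 3492 (.node 3490 (.node 3489 (.leaf 7647) (.leaf 7648)) (.node 3491 (.leaf 7655) (.leaf 7656))) (.node 3494 (.node 3493 (.leaf 7657) (.leaf 7658)) (.node 3495 (.leaf 7659) (.leaf 7660)))) (.node 3500 (.node 3498 (.node 3497 (.leaf 7661) (.leaf 7662)) (.node 3499 (.leaf 7706) (.leaf 7707))) (.node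 3502 (.node 3501 (.leaf 7708) (.leaf 7709)) (.node 3503 (.leaf 7711) (.leaf 7712))))) (.node 3512 (.node 3508 (.node 3506 (.node 3505 (.leaf 7713) (.leaf 7714)) (.node 3507 (.leaf 7715) (.leaf 7716))) (.node 3510 (.node 3509 (.leaf 7719) (.leaf 7720)) (.node 3511 (.leaf 7721) (.leaf 7722)))) (.node 3516 (.node 3514 (.node 3513 (.leaf 7724) (.leaf 7725)) (.node 3515 (.leaf 7730) (.leaf 7731))) (.node 3518 (.node 3517 (.leaf 7759) (.leaf 7760)) (.node 3519 (.leaf 7761) (.leaf 7762))))))) (.node 3552 (.node 3536 (.node 3528 (.node 3524 (.node 3522 (.node 3521 (.leaf 7783) (.leaf 7784)) (.node 3523 (.leaf 7837) (.leaf 7838))) (.node 3526 (.node 3525 (.leaf 7847) (.leaf 7848)) (.node 3527 (.leaf 7849) (.leaf 7850)))) (.node 3532 (.node 3530 (.node 3529 (.leaf 7851) (.leaf 7852)) (.node 3531 (.leaf 7858) (.leaf 7859))) (.node 3534 (.node 3533 (.leaf 7861) (.leaf 7862)) (.node 3535 (.leaf 7863) (.leaf 7864))))) (.node 3544 (.node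 3540 (.node 3538 (.node 3537 (.leaf 7887) (.leaf 7888)) (.node 3539 (.leaf 7896) (.leaf 7897))) (.node 3542 (.node 3541 (.leaf 7918) (.leaf 7919)) (.node 3543 (.leaf 7927) (.leaf 7928)))) (.node 3548 (.node 3546 (.node 3545 (.leaf 7940) (.leaf 7941)) (.node 3547 (.leaf 7944) (.leaf 7945))) (.node 3550 (.node 3549 (.leaf 7946) (.leaf 7947)) (.node 3551 (.leaf 7952) (.leaf 7953)))))) (.node 3568 (.node 3560 (.node 3556 (.node 3554 (.node 3553 (.leaf 7960) (.leaf 7961)) (.node 3555 (.leaf 7962) (.leaf 7963))) (.node 3558 (.node 3557 (.leaf 7964) (.leaf 7965)) (.node 3559 (.leaf 7989) (.leaf 7990)))) (.node 3564 (.node 3562 (.node 3561 (.leaf 8007) (.leaf 8008)) (.node 3563 (.leaf 8041) (.leaf 8042))) (.node 3566 (.node 3565 (.leaf 8048) (.leaf 8049)) (.node 3567 (.leaf 8058) (.leaf 8059))))) (.node 3576 (.node 3572 (.node 3570 (.node 3569 (.leaf 8064) (.leaf 8065)) (.node 3571 (.leaf 8069) (.leaf 8070))) (.node 3574 (.node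 3573 (.leaf 8080) (.leaf 8081)) (.node 3575 (.leaf 8085) (.leaf 8086)))) (.node 3580 (.node 3578 (.node 3577 (.leaf 8089) (.leaf 8090)) (.node 3579 (.leaf 8091) (.leaf 8092))) (.node 3582 (.node 3581 (.leaf 8095) (.leaf 8096)) (.node 3583 (.leaf 8100) (.leaf 8101))))))))

/-- block of `live` -/
def live_14 : Tr := .node 3712 (.node 3648 (.node 3616 (.node 3600 (.node 3592 (.node 3588 (.node 3586 (.node 3585 (.leaf 8102) (.leaf 8103)) (.node 3587 (.leaf 8106) (.leaf 8107))) (.node 3590 (.node 3589 (.leaf 8136) (.leaf 8137)) (.node 3591 (.leaf 8138) (.leaf 8139)))) (.node 3596 (.node 3594 (.node 3593 (.leaf 8140) (.leaf 8141)) (.node 3595 (.leaf 8148) (.leaf 8150))) (.node 3598 (.node 3597 (.leaf 8155) (.leaf 8156)) (.node 3599 (.leaf 8159) (.leaf 8160))))) (.node 3608 (.node 3604 (.node 3602 (.node 3601 (.leaf 8264) (.leaf 8265)) (.node 3603 (.leaf 8267) (.leaf 8268))) (.node 3606 (.node 3605 (.leaf 8291) (.leaf 8292))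 (.node 3607 (.leaf 8344) (.leaf 8345)))) (.node 3612 (.node 3610 (.node 3609 (.leaf 8347) (.leaf 8348)) (.node 3611 (.leaf 8349) (.leaf 8350))) (.node 3614 (.node 3613 (.leaf 8351) (.leaf 8352)) (.node 3615 (.leaf 8358) (.leaf 8359)))))) (.node 3632 (.node 3624 (.node 3620 (.node 3618 (.node 3617 (.leaf 8360) (.leaf 8361)) (.node 3619 (.leaf 8366) (.leaf 8367))) (.node 3622 (.node 3621 (.leaf 8368) (.leaf 8369)) (.node 3623 (.leaf 8371) (.leaf 8372)))) (.node 3628 (.node 3626 (.node 3625 (.leaf 8398) (.leaf 8399)) (.node 3627 (.leaf 8407) (.leaf 8408))) (.node 3630 (.node 3629 (.leaf 8409) (.leaf 8410)) (.node 3631 (.leaf 8412) (.leaf 8413))))) (.node 3640 (.node 3636 (.node 3634 (.node 3633 (.leaf 8414) (.leaf 8415)) (.node 3635 (.leaf 8469) (.leaf 8470))) (.node 3638 (.node 3637 (.leaf 8471) (.leaf 8472)) (.node 3639 (.leaf 8479) (.leaf 8480)))) (.node 3644 (.node 3642 (.node 3641 (.leaf 8482) (.leaf 8483)) (.node 3643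 (.leaf 8496) (.leaf 8497))) (.node 3646 (.node 3645 (.leaf 8502) (.leaf 8503)) (.node 3647 (.leaf 8513) (.leaf 8514))))))) (.node 3680 (.node 3664 (.node 3656 (.node 3652 (.node 3650 (.node 3649 (.leaf 8516) (.leaf 8517)) (.node 3651 (.leaf 8520) (.leaf 8521))) (.node 3654 (.node 3653 (.leaf 8532) (.leaf 8533)) (.node 3655 (.leaf 8534) (.leaf 8535)))) (.node 3660 (.node 3658 (.node 3657 (.leaf 8538) (.leaf 8539)) (.node 3659 (.leaf 8540) (.leaf 8541))) (.node 3662 (.node 3661 (.leaf 8551) (.leaf 8552)) (.node 3663 (.leaf 8554) (.leaf 8555))))) (.node 3672 (.node 3668 (.node 3666 (.node 3665 (.leaf 8556) (.leaf 8557)) (.node 3667 (.leaf 8559) (.leaf 8560))) (.node 3670 (.node 3669 (.leaf 8561) (.leaf 8562)) (.node 3671 (.leaf 8563) (.leaf 8564)))) (.node 3676 (.node 3674 (.node 3673 (.leaf 8565) (.leaf 8566)) (.node 3675 (.leaf 8577) (.leaf 8578))) (.node 3678 (.node 3677 (.leaf 8580) (.leaf 8581)) (.node 3679 (.leaf 8594)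 (.leaf 8595)))))) (.node 3696 (.node 3688 (.node 3684 (.node 3682 (.node 3681 (.leaf 8597) (.leaf 8598)) (.node 3683 (.leaf 8648) (.leaf 8649))) (.node 3686 (.node 3685 (.leaf 8698) (.leaf 8699)) (.node 3687 (.leaf 8700) (.leaf 8701)))) (.node 3692 (.node 3690 (.node 3689 (.leaf 8702) (.leaf 8703)) (.node 3691 (.leaf 8714) (.leaf 8715))) (.node 3694 (.node 3693 (.leaf 8716) (.leaf 8717)) (.node 3695 (.leaf 8719) (.leaf 8720))))) (.node 3704 (.node 3700 (.node 3698 (.node 3697 (.leaf 8721) (.leaf 8722)) (.node 3699 (.leaf 8730) (.leaf 8731))) (.node 3702 (.node 3701 (.leaf 8745) (.leaf 8746)) (.node 3703 (.leaf 8747) (.leaf 8748)))) (.node 3708 (.node 3706 (.node 3705 (.leaf 8750) (.leaf 8751)) (.node 3707 (.leaf 8764) (.leaf 8765))) (.node 3710 (.node 3709 (.leaf 8775) (.leaf 8776)) (.node 3711 (.leaf 8792) (.leaf 8793)))))))) (.node 3776 (.node 3744 (.node 3728 (.node 3720 (.node 3716 (.node 3714 (.node 3713 (.leaf 8815)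 (.leaf 8816)) (.node 3715 (.leaf 8818) (.leaf 8819))) (.node 3718 (.node 3717 (.leaf 8830) (.leaf 8831)) (.node 3719 (.leaf 8843) (.leaf 8844)))) (.node 3724 (.node 3722 (.node 3721 (.leaf 8845) (.leaf 8846)) (.node 3723 (.leaf 8883) (.leaf 8884))) (.node 3726 (.node 3725 (.leaf 8885) (.leaf 8886)) (.node 3727 (.leaf 8888) (.leaf 8889))))) (.node 3736 (.node 3732 (.node 3730 (.node 3729 (.leaf 8901) (.leaf 8902)) (.node 3731 (.leaf 8907) (.leaf 8908))) (.node 3734 (.node 3733 (.leaf 8910) (.leaf 8911)) (.node 3735 (.leaf 8912) (.leaf 8913)))) (.node 3740 (.node 3738 (.node 3737 (.leaf 8958) (.leaf 8959)) (.node 3739 (.leaf 8961) (.leaf 8962))) (.node 3742 (.node 3741 (.leaf 8969) (.leaf 8970)) (.node 3743 (.leaf 8972) (.leaf 8973)))))) (.node 3760 (.node 3752 (.node 3748 (.node 3746 (.node 3745 (.leaf 8984) (.leaf 8985)) (.node 3747 (.leaf 8986) (.leaf 8987))) (.node 3750 (.node 3749 (.leaf 8991) (.leaf 8992)) (.node 3751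 (.leaf 8995) (.leaf 8996)))) (.node 3756 (.node 3754 (.node 3753 (.leaf 9001) (.leaf 9002)) (.node 3755 (.leaf 9003) (.leaf 9004))) (.node 3758 (.node 3757 (.leaf 9028) (.leaf 9029)) (.node 3759 (.leaf 9030) (.leaf 9031))))) (.node 3768 (.node 3764 (.node 3762 (.node 3761 (.leaf 9035) (.leaf 9036)) (.node 3763 (.leaf 9068) (.leaf 9069))) (.node 3766 (.node 3765 (.leaf 9072) (.leaf 9073)) (.node 3767 (.leaf 9085) (.leaf 9086)))) (.node 3772 (.node 3770 (.node 3769 (.leaf 9087) (.leaf 9088)) (.node 3771 (.leaf 9095) (.leaf 9096))) (.node 3774 (.node 3773 (.leaf 9097) (.leaf 9098)) (.node 3775 (.leaf 9100) (.leaf 9101))))))) (.node 3808 (.node 3792 (.node 3784 (.node 3780 (.node 3778 (.node 3777 (.leaf 9102) (.leaf 9103)) (.node 3779 (.leaf 9104) (.leaf 9105))) (.node 3782 (.node 3781 (.leaf 9140) (.leaf 9141)) (.node 3783 (.leaf 9142) (.leaf 9143)))) (.node 3788 (.node 3786 (.node 3785 (.leaf 9146) (.leaf 9147)) (.node 3787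 (.leaf 9149) (.leaf 9150))) (.node 3790 (.node 3789 (.leaf 9153) (.leaf 9154)) (.node 3791 (.leaf 9168) (.leaf 9169))))) (.node 3800 (.node 3796 (.node 3794 (.node 3793 (.leaf 9172) (.leaf 9173)) (.node 3795 (.leaf 9178) (.leaf 9179))) (.node 3798 (.node 3797 (.leaf 9228) (.leaf 9229)) (.node 3799 (.leaf 9230) (.leaf 9231)))) (.node 3804 (.node 3802 (.node 3801 (.leaf 9232) (.leaf 9233)) (.node 3803 (.leaf 9234) (.leaf 9235))) (.node 3806 (.node 3805 (.leaf 9239) (.leaf 9240)) (.node 3807 (.leaf 9248) (.leaf 9249)))))) (.node 3824 (.node 3816 (.node 3812 (.node 3810 (.node 3809 (.leaf 9250) (.leaf 9251)) (.node 3811 (.leaf 9256) (.leaf 9257))) (.node 3814 (.node 3813 (.leaf 9258) (.leaf 9259)) (.node 3815 (.leaf 9274) (.leaf 9275)))) (.node 3820 (.node 3818 (.node 3817 (.leaf 9297) (.leaf 9298)) (.node 3819 (.leaf 9299) (.leaf 9300))) (.node 3822 (.node 3821 (.leaf 9304) (.leaf 9307)) (.node 3823 (.leaf 9308) (.leaf 9309)))))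 (.node 3832 (.node 3828 (.node 3826 (.node 3825 (.leaf 9310) (.leaf 9311)) (.node 3827 (.leaf 9319) (.leaf 9321))) (.node 3830 (.node 3829 (.leaf 9329) (.leaf 9332)) (.node 3831 (.leaf 9339) (.leaf 9340)))) (.node 3836 (.node 3834 (.node 3833 (.leaf 9341) (.leaf 9343)) (.node 3835 (.leaf 9344) (.leaf 9346))) (.node 3838 (.node 3837 (.leaf 9389) (.leaf 9390)) (.node 3839 (.leaf 9393) (.leaf 9394))))))))

/-- block of `live` -/
def live_15 : Tr := .node 3968 (.node 3904 (.node 3872 (.node 3856 (.node 3848 (.node 3844 (.node 3842 (.node 3841 (.leaf 9395) (.leaf 9396)) (.node 3843 (.leaf 9397) (.leaf 9398))) (.node 3846 (.node 3845 (.leaf 9401) (.leaf 9402)) (.node 3847 (.leaf 9405) (.leaf 9406)))) (.node 3852 (.node 3850 (.node 3849 (.leaf 9409) (.leaf 9410)) (.node 3851 (.leaf 9411) (.leaf 9412))) (.node 3854 (.node 3853 (.leaf 9413) (.leaf 9414)) (.node 3855 (.leaf 9417) (.leaf 9418))))) (.node 3864 (.node 3860 (.node 3858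 (.node 3857 (.leaf 9433) (.leaf 9434)) (.node 3859 (.leaf 9435) (.leaf 9436))) (.node 3862 (.node 3861 (.leaf 9438) (.leaf 9439)) (.node 3863 (.leaf 9441) (.leaf 9442)))) (.node 3868 (.node 3866 (.node 3865 (.leaf 9448) (.leaf 9449)) (.node 3867 (.leaf 9453) (.leaf 9454))) (.node 3870 (.node 3869 (.leaf 9470) (.leaf 9471)) (.node 3871 (.leaf 9499) (.leaf 9500)))))) (.node 3888 (.node 3880 (.node 3876 (.node 3874 (.node 3873 (.leaf 9501) (.leaf 9502)) (.node 3875 (.leaf 9646) (.leaf 9647))) (.node 3878 (.node 3877 (.leaf 9648) (.leaf 9649)) (.node 3879 (.leaf 9693) (.leaf 9694)))) (.node 3884 (.node 3882 (.node 3881 (.leaf 9695) (.leaf 9696)) (.node 3883 (.leaf 9749) (.leaf 9750))) (.node 3886 (.node 3885 (.leaf 9754) (.leaf 9755)) (.node 3887 (.leaf 9757) (.leaf 9758))))) (.node 3896 (.node 3892 (.node 3890 (.node 3889 (.leaf 9765) (.leaf 9766)) (.node 3891 (.leaf 9787) (.leaf 9788))) (.node 3894 (.node 3893 (.leaf 9807)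 (.leaf 9808)) (.node 3895 (.leaf 9824) (.leaf 9825)))) (.node 3900 (.node 3898 (.node 3897 (.leaf 9850) (.leaf 9851)) (.node 3899 (.leaf 9868) (.leaf 9869))) (.node 3902 (.node 3901 (.leaf 9870) (.leaf 9871)) (.node 3903 (.leaf 9882) (.leaf 9884))))))) (.node 3936 (.node 3920 (.node 3912 (.node 3908 (.node 3906 (.node 3905 (.leaf 9891) (.leaf 9892)) (.node 3907 (.leaf 10007) (.leaf 10008))) (.node 3910 (.node 3909 (.leaf 10033) (.leaf 10034)) (.node 3911 (.leaf 10040) (.leaf 10041)))) (.node 3916 (.node 3914 (.node 3913 (.leaf 10043) (.leaf 10044)) (.node 3915 (.leaf 10055) (.leaf 10056))) (.node 3918 (.node 3917 (.leaf 10063) (.leaf 10064)) (.node 3919 (.leaf 10076) (.leaf 10077))))) (.node 3928 (.node 3924 (.node 3922 (.node 3921 (.leaf 10078) (.leaf 10079)) (.node 3923 (.leaf 10084) (.leaf 10085))) (.node 3926 (.node 3925 (.leaf 10090) (.leaf 10091)) (.node 3927 (.leaf 10092) (.leaf 10093)))) (.node 3932 (.node 3930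 (.node 3929 (.leaf 10121) (.leaf 10122)) (.node 3931 (.leaf 10129) (.leaf 10130))) (.node 3934 (.node 3933 (.leaf 10141) (.leaf 10142)) (.node 3935 (.leaf 10143) (.leaf 10144)))))) (.node 3952 (.node 3944 (.node 3940 (.node 3938 (.node 3937 (.leaf 10159) (.leaf 10160)) (.node 3939 (.leaf 10167) (.leaf 10168))) (.node 3942 (.node 3941 (.leaf 10169) (.leaf 10170)) (.node 3943 (.leaf 10196) (.leaf 10197)))) (.node 3948 (.node 3946 (.node 3945 (.leaf 10201) (.leaf 10202)) (.node 3947 (.leaf 10217) (.leaf 10218))) (.node 3950 (.node 3949 (.leaf 10239) (.leaf 10240)) (.node 3951 (.leaf 10241) (.leaf 10242))))) (.node 3960 (.node 3956 (.node 3954 (.node 3953 (.leaf 10262) (.leaf 10263)) (.node 3955 (.leaf 10286) (.leaf 10287))) (.node 3958 (.node 3957 (.leaf 10288) (.leaf 10289)) (.node 3959 (.leaf 10290) (.leaf 10291)))) (.node 3964 (.node 3962 (.node 3961 (.leaf 10300) (.leaf 10301)) (.node 3963 (.leaf 10304) (.leaf 10305)))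 (.node 3966 (.node 3965 (.leaf 10306) (.leaf 10307)) (.node 3967 (.leaf 10308) (.leaf 10309)))))))) (.node 4032 (.node 4000 (.node 3984 (.node 3976 (.node 3972 (.node 3970 (.node 3969 (.leaf 10315) (.leaf 10316)) (.node 3971 (.leaf 10322) (.leaf 10323))) (.node 3974 (.node 3973 (.leaf 10336) (.leaf 10337)) (.node 3975 (.leaf 10338) (.leaf 10339)))) (.node 3980 (.node 3978 (.node 3977 (.leaf 10351) (.leaf 10352)) (.node 3979 (.leaf 10353) (.leaf 10354))) (.node 3982 (.node 3981 (.leaf 10373) (.leaf 10376)) (.node 3983 (.leaf 10443) (.leaf 10444))))) (.node 3992 (.node 3988 (.node 3986 (.node 3985 (.leaf 10462) (.leaf 10463)) (.node 3987 (.leaf 10466) (.leaf 10467))) (.node 3990 (.node 3989 (.leaf 10502) (.leaf 10503)) (.node 3991 (.leaf 10547) (.leaf 10555)))) (.node 3996 (.node 3994 (.node 3993 (.leaf 10556) (.leaf 10557)) (.node 3995 (.leaf 10558) (.leaf 10559))) (.node 3998 (.node 3997 (.leaf 10561) (.leaf 10562)) (.node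 3999 (.leaf 10568) (.leaf 10569)))))) (.node 4016 (.node 4008 (.node 4004 (.node 4002 (.node 4001 (.leaf 10573) (.leaf 10574)) (.node 4003 (.leaf 10584) (.leaf 10585))) (.node 4006 (.node 4005 (.leaf 10588) (.leaf 10589)) (.node 4007 (.leaf 10590) (.leaf 10591)))) (.node 4012 (.node 4010 (.node 4009 (.leaf 10593) (.leaf 10594)) (.node 4011 (.leaf 10611) (.leaf 10612))) (.node 4014 (.node 4013 (.leaf 10613) (.leaf 10614)) (.node 4015 (.leaf 10617) (.leaf 10618))))) (.node 4024 (.node 4020 (.node 4018 (.node 4017 (.leaf 10619) (.leaf 10625)) (.node 4019 (.leaf 10630) (.leaf 10631))) (.node 4022 (.node 4021 (.leaf 10632) (.leaf 10633)) (.node 4023 (.leaf 10636) (.leaf 10637)))) (.node 4028 (.node 4026 (.node 4025 (.leaf 10638) (.leaf 10639)) (.node 4027 (.leaf 10643) (.leaf 10644))) (.node 4030 (.node 4029 (.leaf 10645) (.leaf 10646)) (.node 4031 (.leaf 10682) (.leaf 10683))))))) (.node 4064 (.node 4048 (.node 4040 (.node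 4036 (.node 4034 (.node 4033 (.leaf 10684) (.leaf 10685)) (.node 4035 (.leaf 10704) (.leaf 10705))) (.node 4038 (.node 4037 (.leaf 10706) (.leaf 10707)) (.node 4039 (.leaf 10708) (.leaf 10709)))) (.node 4044 (.node 4042 (.node 4041 (.leaf 10733) (.leaf 10734)) (.node 4043 (.leaf 10745) (.leaf 10746))) (.node 4046 (.node 4045 (.leaf 10747) (.leaf 10748)) (.node 4047 (.leaf 10750) (.leaf 10751))))) (.node 4056 (.node 4052 (.node 4050 (.node 4049 (.leaf 10752) (.leaf 10753)) (.node 4051 (.leaf 10760) (.leaf 10761))) (.node 4054 (.node 4053 (.leaf 10764) (.leaf 10765)) (.node 4055 (.leaf 10766) (.leaf 10767)))) (.node 4060 (.node 4058 (.node 4057 (.leaf 10780) (.leaf 10781)) (.node 4059 (.leaf 10783) (.leaf 10784))) (.node 4062 (.node 4061 (.leaf 10785) (.leaf 10786)) (.node 4063 (.leaf 10787) (.leaf 10788)))))) (.node 4080 (.node 4072 (.node 4068 (.node 4066 (.node 4065 (.leaf 10792) (.leaf 10793)) (.node 4067 (.leaf 10807)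 (.leaf 10808))) (.node 4070 (.node 4069 (.leaf 10854) (.leaf 10855)) (.node 4071 (.leaf 10956) (.leaf 10957)))) (.node 4076 (.node 4074 (.node 4073 (.leaf 10958) (.leaf 10959)) (.node 4075 (.leaf 10960) (.leaf 10961))) (.node 4078 (.node 4077 (.leaf 10962) (.leaf 10963)) (.node 4079 (.leaf 10964) (.leaf 10965))))) (.node 4088 (.node 4084 (.node 4082 (.node 4081 (.leaf 10966) (.leaf 10967)) (.node 4083 (.leaf 10968) (.leaf 10969))) (.node 4086 (.node 4085 (.leaf 10970) (.leaf 10971)) (.node 4087 (.leaf 10972) (.leaf 10973)))) (.node 4092 (.node 4090 (.node 4089 (.leaf 10974) (.leaf 10975)) (.node 4091 (.leaf 10976) (.leaf 10977))) (.node 4094 (.node 4093 (.leaf 10978) (.leaf 10979)) (.node 4095 (.leaf 10980) (.leaf 10981))))))))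

/-- block of `live` -/
def live_16 : Tr := .node 4224 (.node 4160 (.node 4128 (.node 4112 (.node 4104 (.node 4100 (.node 4098 (.node 4097 (.leaf 10982) (.leaf 10983)) (.node 4099 (.leaf 10984) (.leaf 10985))) (.node 4102 (.node 4101 (.leaf 10986) (.leaf 10987)) (.node 4103 (.leaf 10988) (.leaf 10989)))) (.node 4108 (.node 4106 (.node 4105 (.leaf 10990) (.leaf 10991)) (.node 4107 (.leaf 10992) (.leaf 10993))) (.node 4110 (.node 4109 (.leaf 10994) (.leaf 10995)) (.node 4111 (.leaf 10996) (.leaf 10997))))) (.node 4120 (.node 4116 (.node 4114 (.node 4113 (.leaf 10998) (.leaf 10999)) (.node 4115 (.leaf 11000) (.leaf 11001))) (.node 4118 (.node 4117 (.leaf 11002) (.leaf 11003)) (.node 4119 (.leaf 11004) (.leaf 11005)))) (.node 4124 (.node 4122 (.node 4121 (.leaf 11006) (.leaf 11007)) (.node 4123 (.leaf 11008) (.leaf 11009))) (.node 4126 (.node 4125 (.leaf 11010) (.leaf 11011)) (.node 4127 (.leaf 11012) (.leaf 11013)))))) (.node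 4144 (.node 4136 (.node 4132 (.node 4130 (.node 4129 (.leaf 11014) (.leaf 11015)) (.node 4131 (.leaf 11016) (.leaf 11017))) (.node 4134 (.node 4133 (.leaf 11018) (.leaf 11019)) (.node 4135 (.leaf 11020) (.leaf 11021)))) (.node 4140 (.node 4138 (.node 4137 (.leaf 11022) (.leaf 11023)) (.node 4139 (.leaf 11024) (.leaf 11025))) (.node 4142 (.node 4141 (.leaf 11026) (.leaf 11027)) (.node 4143 (.leaf 11028) (.leaf 11029))))) (.node 4152 (.node 4148 (.node 4146 (.node 4145 (.leaf 11030) (.leaf 11031)) (.node 4147 (.leaf 11032) (.leaf 11033))) (.node 4150 (.node 4149 (.leaf 11034) (.leaf 11035)) (.node 4151 (.leaf 11036) (.leaf 11037)))) (.node 4156 (.node 4154 (.node 4153 (.leaf 11038) (.leaf 11039)) (.node 4155 (.leaf 11040) (.leaf 11041))) (.node 4158 (.node 4157 (.leaf 11042) (.leaf 11043)) (.node 4159 (.leaf 11044) (.leaf 11045))))))) (.node 4192 (.node 4176 (.node 4168 (.node 4164 (.node 4162 (.node 4161 (.leaf 11046) (.leaf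 11047)) (.node 4163 (.leaf 11048) (.leaf 11049))) (.node 4166 (.node 4165 (.leaf 11050) (.leaf 11051)) (.node 4167 (.leaf 11052) (.leaf 11053)))) (.node 4172 (.node 4170 (.node 4169 (.leaf 11054) (.leaf 11055)) (.node 4171 (.leaf 11056) (.leaf 11057))) (.node 4174 (.node 4173 (.leaf 11058) (.leaf 11059)) (.node 4175 (.leaf 11060) (.leaf 11061))))) (.node 4184 (.node 4180 (.node 4178 (.node 4177 (.leaf 11062) (.leaf 11063)) (.node 4179 (.leaf 11064) (.leaf 11065))) (.node 4182 (.node 4181 (.leaf 11066) (.leaf 11067)) (.node 4183 (.leaf 11068) (.leaf 11069)))) (.node 4188 (.node 4186 (.node 4185 (.leaf 11070) (.leaf 11071)) (.node 4187 (.leaf 11072) (.leaf 11073))) (.node 4190 (.node 4189 (.leaf 11074) (.leaf 11075)) (.node 4191 (.leaf 11076) (.leaf 11077)))))) (.node 4208 (.node 4200 (.node 4196 (.node 4194 (.node 4193 (.leaf 11078) (.leaf 11079)) (.node 4195 (.leaf 11080) (.leaf 11081))) (.node 4198 (.node 4197 (.leaf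 11082) (.leaf 11083)) (.node 4199 (.leaf 11084) (.leaf 11085)))) (.node 4204 (.node 4202 (.node 4201 (.leaf 11086) (.leaf 11087)) (.node 4203 (.leaf 11088) (.leaf 11089))) (.node 4206 (.node 4205 (.leaf 11090) (.leaf 11091)) (.node 4207 (.leaf 11092) (.leaf 11093))))) (.node 4216 (.node 4212 (.node 4210 (.node 4209 (.leaf 11094) (.leaf 11095)) (.node 4211 (.leaf 11096) (.leaf 11097))) (.node 4214 (.node 4213 (.leaf 11098) (.leaf 11099)) (.node 4215 (.leaf 11100) (.leaf 11101)))) (.node 4220 (.node 4218 (.node 4217 (.leaf 11102) (.leaf 11103)) (.node 4219 (.leaf 11104) (.leaf 11105))) (.node 4222 (.node 4221 (.leaf 11106) (.leaf 11107)) (.node 4223 (.leaf 11108) (.leaf 11109)))))))) (.node 4288 (.node 4256 (.node 4240 (.node 4232 (.node 4228 (.node 4226 (.node 4225 (.leaf 11110) (.leaf 11111)) (.node 4227 (.leaf 11112) (.leaf 11113))) (.node 4230 (.node 4229 (.leaf 11114) (.leaf 11115)) (.node 4231 (.leaf 11116) (.leaf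 11117)))) (.node 4236 (.node 4234 (.node 4233 (.leaf 11118) (.leaf 11119)) (.node 4235 (.leaf 11120) (.leaf 11121))) (.node 4238 (.node 4237 (.leaf 11122) (.leaf 11123)) (.node 4239 (.leaf 11124) (.leaf 11125))))) (.node 4248 (.node 4244 (.node 4242 (.node 4241 (.leaf 11126) (.leaf 11127)) (.node 4243 (.leaf 11128) (.leaf 11129))) (.node 4246 (.node 4245 (.leaf 11130) (.leaf 11131)) (.node 4247 (.leaf 11132) (.leaf 11133)))) (.node 4252 (.node 4250 (.node 4249 (.leaf 11134) (.leaf 11135)) (.node 4251 (.leaf 11136) (.leaf 11137))) (.node 4254 (.node 4253 (.leaf 11138) (.leaf 11139)) (.node 4255 (.leaf 11140) (.leaf 11141)))))) (.node 4272 (.node 4264 (.node 4260 (.node 4258 (.node 4257 (.leaf 11142) (.leaf 11143)) (.node 4259 (.leaf 11144) (.leaf 11145))) (.node 4262 (.node 4261 (.leaf 11146) (.leaf 11147)) (.node 4263 (.leaf 11148) (.leaf 11149)))) (.node 4268 (.node 4266 (.node 4265 (.leaf 11150) (.leaf 11151)) (.node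 4267 (.leaf 11152) (.leaf 11153))) (.node 4270 (.node 4269 (.leaf 11154) (.leaf 11155)) (.node 4271 (.leaf 11156) (.leaf 11157))))) (.node 4280 (.node 4276 (.node 4274 (.node 4273 (.leaf 11158) (.leaf 11159)) (.node 4275 (.leaf 11160) (.leaf 11161))) (.node 4278 (.node 4277 (.leaf 11162) (.leaf 11163)) (.node 4279 (.leaf 11164) (.leaf 11165)))) (.node 4284 (.node 4282 (.node 4281 (.leaf 11166) (.leaf 11167)) (.node 4283 (.leaf 11168) (.leaf 11169))) (.node 4286 (.node 4285 (.leaf 11170) (.leaf 11171)) (.node 4287 (.leaf 11172) (.leaf 11173))))))) (.node 4320 (.node 4304 (.node 4296 (.node 4292 (.node 4290 (.node 4289 (.leaf 11174) (.leaf 11175)) (.node 4291 (.leaf 11176) (.leaf 11177))) (.node 4294 (.node 4293 (.leaf 11178) (.leaf 11179)) (.node 4295 (.leaf 11180) (.leaf 11181)))) (.node 4300 (.node 4298 (.node 4297 (.leaf 11182) (.leaf 11183)) (.node 4299 (.leaf 11184) (.leaf 11185))) (.node 4302 (.node 4301 (.leaf 11186)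 (.leaf 11187)) (.node 4303 (.leaf 11188) (.leaf 11189))))) (.node 4312 (.node 4308 (.node 4306 (.node 4305 (.leaf 11190) (.leaf 11191)) (.node 4307 (.leaf 11192) (.leaf 11193))) (.node 4310 (.node 4309 (.leaf 11194) (.leaf 11195)) (.node 4311 (.leaf 11196) (.leaf 11197)))) (.node 4316 (.node 4314 (.node 4313 (.leaf 11198) (.leaf 11199)) (.node 4315 (.leaf 11200) (.leaf 11201))) (.node 4318 (.node 4317 (.leaf 11202) (.leaf 11203)) (.node 4319 (.leaf 11204) (.leaf 11205)))))) (.node 4336 (.node 4328 (.node 4324 (.node 4322 (.node 4321 (.leaf 11206) (.leaf 11207)) (.node 4323 (.leaf 11208) (.leaf 11209))) (.node 4326 (.node 4325 (.leaf 11210) (.leaf 11211)) (.node 4327 (.leaf 11212) (.leaf 11213)))) (.node 4332 (.node 4330 (.node 4329 (.leaf 11214) (.leaf 11215)) (.node 4331 (.leaf 11216) (.leaf 11217))) (.node 4334 (.node 4333 (.leaf 11218) (.leaf 11219)) (.node 4335 (.leaf 11220) (.leaf 11221))))) (.node 4344 (.node 4340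 (.node 4338 (.node 4337 (.leaf 11222) (.leaf 11223)) (.node 4339 (.leaf 11224) (.leaf 11225))) (.node 4342 (.node 4341 (.leaf 11226) (.leaf 11227)) (.node 4343 (.leaf 11228) (.leaf 11229)))) (.node 4348 (.node 4346 (.node 4345 (.leaf 11230) (.leaf 11231)) (.node 4347 (.leaf 11232) (.leaf 11233))) (.node 4350 (.node 4349 (.leaf 11234) (.leaf 11235)) (.node 4351 (.leaf 11236) (.leaf 11237))))))))

/-- block of `live` -/
def live_17 : Tr := .node 4426 (.node 4389 (.node 4370 (.node 4361 (.node 4356 (.node 4354 (.node 4353 (.leaf 11238) (.leaf 11239)) (.node 4355 (.leaf 11240) (.leaf 11241))) (.node 4358 (.node 4357 (.leaf 11242) (.leaf 11243)) (.node 4359 (.leaf 11244) (.node 4360 (.leaf 11245) (.leaf 11246))))) (.node 4365 (.node 4363 (.node 4362 (.leaf 11247) (.leaf 11248)) (.node 4364 (.leaf 11249) (.leaf 11250))) (.node 4367 (.node 4366 (.leaf 11251) (.leaf 11252)) (.node 4368 (.leaf 11253) (.node 4369 (.leaf 11254) (.leaf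 11255)))))) (.node 4379 (.node 4374 (.node 4372 (.node 4371 (.leaf 11256) (.leaf 11257)) (.node 4373 (.leaf 11258) (.leaf 11259))) (.node 4376 (.node 4375 (.leaf 11260) (.leaf 11261)) (.node 4377 (.leaf 11262) (.node 4378 (.leaf 11263) (.leaf 11264))))) (.node 4384 (.node 4381 (.node 4380 (.leaf 11265) (.leaf 11266)) (.node 4382 (.leaf 11267) (.node 4383 (.leaf 11268) (.leaf 11269)))) (.node 4386 (.node 4385 (.leaf 11270) (.leaf 11271)) (.node 4387 (.leaf 11272) (.node 4388 (.leaf 11273) (.leaf 11274))))))) (.node 4407 (.node 4398 (.node 4393 (.node 4391 (.node 4390 (.leaf 11275) (.leaf 11276)) (.node 4392 (.leaf 11277) (.leaf 11278))) (.node 4395 (.node 4394 (.leaf 11279) (.leaf 11280)) (.node 4396 (.leaf 11281) (.node 4397 (.leaf 11282) (.leaf 11283))))) (.node 4402 (.node 4400 (.node 4399 (.leaf 11284) (.leaf 11285)) (.node 4401 (.leaf 11286) (.leaf 11287))) (.node 4404 (.node 4403 (.leaf 11288) (.leaf 11289)) (.node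 4405 (.leaf 11290) (.node 4406 (.leaf 11291) (.leaf 11293)))))) (.node 4416 (.node 4411 (.node 4409 (.node 4408 (.leaf 11294) (.leaf 11295)) (.node 4410 (.leaf 11296) (.leaf 11297))) (.node 4413 (.node 4412 (.leaf 11298) (.leaf 11299)) (.node 4414 (.leaf 11300) (.node 4415 (.leaf 11301) (.leaf 11302))))) (.node 4421 (.node 4418 (.node 4417 (.leaf 11303) (.leaf 11304)) (.node 4419 (.leaf 11305) (.node 4420 (.leaf 11306) (.leaf 11307)))) (.node 4423 (.node 4422 (.leaf 11308) (.leaf 11309)) (.node 4424 (.leaf 11310) (.node 4425 (.leaf 11311) (.leaf 11312)))))))) (.node 4463 (.node 4444 (.node 4435 (.node 4430 (.node 4428 (.node 4427 (.leaf 11313) (.leaf 11314)) (.node 4429 (.leaf 11315) (.leaf 11316))) (.node 4432 (.node 4431 (.leaf 11317) (.leaf 11318)) (.node 4433 (.leaf 11319) (.node 4434 (.leaf 11320) (.leaf 11321))))) (.node 4439 (.node 4437 (.node 4436 (.leaf 11322) (.leaf 11323)) (.node 4438 (.leaf 11324) (.leaf 11325)))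 (.node 4441 (.node 4440 (.leaf 11326) (.leaf 11327)) (.node 4442 (.leaf 11328) (.node 4443 (.leaf 11329) (.leaf 11330)))))) (.node 4453 (.node 4448 (.node 4446 (.node 4445 (.leaf 11331) (.leaf 11332)) (.node 4447 (.leaf 11333) (.leaf 11334))) (.node 4450 (.node 4449 (.leaf 11335) (.leaf 11336)) (.node 4451 (.leaf 11337) (.node 4452 (.leaf 11338) (.leaf 11339))))) (.node 4458 (.node 4455 (.node 4454 (.leaf 11340) (.leaf 11341)) (.node 4456 (.leaf 11342) (.node 4457 (.leaf 11343) (.leaf 11344)))) (.node 4460 (.node 4459 (.leaf 11345) (.leaf 11346)) (.node 4461 (.leaf 11347) (.node 4462 (.leaf 11348) (.leaf 11349))))))) (.node 4481 (.node 4472 (.node 4467 (.node 4465 (.node 4464 (.leaf 11350) (.leaf 11351)) (.node 4466 (.leaf 11352) (.leaf 11353))) (.node 4469 (.node 4468 (.leaf 11354) (.leaf 11355)) (.node 4470 (.leaf 11356) (.node 4471 (.leaf 11357) (.leaf 11358))))) (.node 4476 (.node 4474 (.node 4473 (.leaf 11359) (.leaf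 11360)) (.node 4475 (.leaf 11361) (.leaf 11362))) (.node 4478 (.node 4477 (.leaf 11363) (.leaf 11364)) (.node 4479 (.leaf 11365) (.node 4480 (.leaf 11366) (.leaf 11367)))))) (.node 4490 (.node 4485 (.node 4483 (.node 4482 (.leaf 11368) (.leaf 11369)) (.node 4484 (.leaf 11370) (.leaf 11371))) (.node 4487 (.node 4486 (.leaf 11372) (.leaf 11373)) (.node 4488 (.leaf 11374) (.node 4489 (.leaf 11375) (.leaf 11376))))) (.node 4495 (.node 4492 (.node 4491 (.leaf 11377) (.leaf 11378)) (.node 4493 (.leaf 11379) (.node 4494 (.leaf 11380) (.leaf 11381)))) (.node 4497 (.node 4496 (.leaf 11382) (.leaf 11383)) (.node 4498 (.leaf 11384) (.node 4499 (.leaf 11385) (.leaf 11386))))))))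

/-- live nodes -/
def live : Tr := (.node 2304 (.node 1024 (.node 512 (.node 256 live_0 live_1) (.node 768 live_2 live_3)) (.node 1536 (.node 1280 live_4 live_5) (.node 1792 live_6 (.node 2048 live_7 live_8)))) (.node 3328 (.node 2816 (.node 2560 live_9 live_10) (.node 3072 live_11 live_12)) (.node 3840 (.node 3584 live_13 live_14) (.node 4096 live_15 (.node 4352 live_16 live_17)))))

/-- block of `tab` -/
def tab_0 : Tr := .node 128 (.node 64 (.node 32 (.node 16 (.node 8 (.node 4 (.node 2 (.node 1 (.leaf 0x4f990001) (.leaf 0x4f9a0003)) (.node 3 (.leaf 0x4f9b0003) (.leaf 0x4f9c0000))) (.node 6 (.node 5 (.leaf 0x4f9d0002) (.leaf 0x4f9e0004)) (.node 7 (.leaf 0x4f9f0003) (.leaf 0x4fa00006)))) (.node 12 (.node 10 (.node 9 (.leaf 0x4fa10001) (.leaf 0x4fa20002)) (.node 11 (.leaf 0x4fa30000) (.leaf 0x4fa40000))) (.node 14 (.node 13 (.leaf 0x4fa50005) (.leaf 0x4fa60001)) (.node 15 (.leaf 0x4fa70008) (.leaf 0x4fa80004))))) (.node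 24 (.node 20 (.node 18 (.node 17 (.leaf 0x4fa9000c) (.leaf 0x4faa000e)) (.node 19 (.leaf 0x4fab0007) (.leaf 0x4fac000a))) (.node 22 (.node 21 (.leaf 0x4fad0002) (.leaf 0x4fae0006)) (.node 23 (.leaf 0x4faf0010) (.leaf 0x4fb00012)))) (.node 28 (.node 26 (.node 25 (.leaf 0x4fb10009) (.leaf 0x4fb20004)) (.node 27 (.leaf 0x4fb3000a) (.leaf 0x4fb40008))) (.node 30 (.node 29 (.leaf 0x4fb50014) (.leaf 0x4fb60016)) (.node 31 (.leaf 0x4fb7000b) (.leaf 0x4fb80008)))))) (.node 48 (.node 40 (.node 36 (.node 34 (.node 33 (.leaf 0x4fb90006) (.leaf 0x4fba000a)) (.node 35 (.leaf 0x4fbb0018) (.leaf 0x4fbc001a))) (.node 38 (.node 37 (.leaf 0x4fbd000d) (.leaf 0x4fbe001c)) (.node 39 (.leaf 0x4fbf0005) (.leaf 0x4fc0000c)))) (.node 44 (.node 42 (.node 41 (.leaf 0x4fc1001e) (.leaf 0x4fc20013)) (.node 43 (.leaf 0x4fc3000f) (.leaf 0x4fc40005))) (.node 46 (.node 45 (.leaf 0x4fc50020) (.leaf 0x4fc6000e)) (.node 47 (.leaf 0x4fc70024) (.leaf 0x4fc80026)))))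 (.node 56 (.node 52 (.node 50 (.node 49 (.leaf 0x4fc90011) (.leaf 0x4fca0028)) (.node 51 (.leaf 0x4fcb0007) (.leaf 0x4fcc0010))) (.node 54 (.node 53 (.leaf 0x4fcd002a) (.leaf 0x4fce002c)) (.node 55 (.leaf 0x4fcf0013) (.leaf 0x4fd00007)))) (.node 60 (.node 58 (.node 57 (.leaf 0x4fd1002e) (.leaf 0x4fd20012)) (.node 59 (.leaf 0x4fd3000d) (.leaf 0x4fd40034))) (.node 62 (.node 61 (.leaf 0x4fd50015) (.leaf 0x4fd60036)) (.node 63 (.leaf 0x4fd70009) (.leaf 0x4fd80014))))))) (.node 96 (.node 80 (.node 72 (.node 68 (.node 66 (.node 65 (.leaf 0x4fd90038) (.leaf 0x4fda003a)) (.node 67 (.leaf 0x4fdb0017) (.leaf 0x4fdc0009))) (.node 70 (.node 69 (.leaf 0x4fdd003c) (.leaf 0x4fde0016)) (.node 71 (.leaf 0x4fdf0040) (.leaf 0x4fe00042)))) (.node 76 (.node 74 (.node 73 (.leaf 0x4fe10019) (.leaf 0x4fe20044)) (.node 75 (.leaf 0x4fe3000b) (.leaf 0x4fe40018))) (.node 78 (.node 77 (.leaf 0x4fe50046) (.leaf 0x4fe60048)) (.node 79 (.leaf 0x4fe7001b)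 (.leaf 0x4fe8000b))))) (.node 88 (.node 84 (.node 82 (.node 81 (.leaf 0x4fe9004a) (.leaf 0x4fea001a)) (.node 83 (.leaf 0x4feb0050) (.leaf 0x4fec0052))) (.node 86 (.node 85 (.leaf 0x4fed001d) (.leaf 0x4fee0022)) (.node 87 (.leaf 0x4fef000c) (.leaf 0x4ff0001c)))) (.node 92 (.node 90 (.node 89 (.leaf 0x4ff10054) (.leaf 0x4ff20056)) (.node 91 (.leaf 0x4ff3001f) (.leaf 0x4ff40058))) (.node 94 (.node 93 (.leaf 0x4ff5000d) (.leaf 0x4ff6001e)) (.node 95 (.leaf 0x4ff7005c) (.leaf 0x4ff8005e)))))) (.node 112 (.node 104 (.node 100 (.node 98 (.node 97 (.leaf 0x4ff90021) (.leaf 0x4ffa000e)) (.node 99 (.leaf 0x4ffb0022) (.leaf 0x4ffc0020))) (.node 102 (.node 101 (.leaf 0x4ffd0060) (.leaf 0x4ffe0062)) (.node 103 (.leaf 0x4fff0023) (.leaf 0x50000020)))) (.node 108 (.node 106 (.node 105 (.leaf 0x5001001c) (.leaf 0x50020022)) (.node 107 (.leaf 0x50030064) (.leaf 0x50040032))) (.node 110 (.node 109 (.leaf 0x50050025) (.leaf 0x50060066))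 (.node 111 (.leaf 0x5007000f) (.leaf 0x50080024))))) (.node 120 (.node 116 (.node 114 (.node 113 (.leaf 0x50090068) (.leaf 0x500a003b)) (.node 115 (.leaf 0x500b0027) (.leaf 0x500c000f))) (.node 118 (.node 117 (.leaf 0x500d006a) (.leaf 0x500e0026)) (.node 119 (.leaf 0x500f006e) (.leaf 0x5010002b)))) (.node 124 (.node 122 (.node 121 (.leaf 0x50110029) (.leaf 0x50120030)) (.node 123 (.leaf 0x50130010) (.leaf 0x50140028))) (.node 126 (.node 125 (.leaf 0x50150070) (.leaf 0x50160072)) (.node 127 (.leaf 0x5017002b) (.leaf 0x50180074)))))))) (.node 192 (.node 160 (.node 144 (.node 136 (.node 132 (.node 130 (.node 129 (.leaf 0x50190011) (.leaf 0x501a002a)) (.node 131 (.leaf 0x501b0027) (.leaf 0x501c006e))) (.node 134 (.node 133 (.leaf 0x501d002d) (.leaf 0x501e0011)) (.node 135 (.leaf 0x501f0076) (.leaf 0x5020002c)))) (.node 140 (.node 138 (.node 137 (.leaf 0x50210051) (.leaf 0x5022007a)) (.node 139 (.leaf 0x5023002f) (.leaf 0x50240012)))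 (.node 142 (.node 141 (.leaf 0x50250030) (.leaf 0x5026002e)) (.node 143 (.leaf 0x5027007c) (.leaf 0x5028007e))))) (.node 152 (.node 148 (.node 146 (.node 145 (.leaf 0x50290031) (.leaf 0x502a002e)) (.node 147 (.leaf 0x502b0028) (.leaf 0x502c0030))) (.node 150 (.node 149 (.leaf 0x502d0032) (.leaf 0x502e0080)) (.node 151 (.leaf 0x502f0033) (.leaf 0x50300023)))) (.node 156 (.node 154 (.node 153 (.leaf 0x50310031) (.leaf 0x50320032)) (.node 155 (.leaf 0x50330084) (.leaf 0x50340085))) (.node 158 (.node 157 (.leaf 0x50350035) (.leaf 0x50360013)) (.node 159 (.leaf 0x5037005a) (.leaf 0x50380034)))))) (.node 176 (.node 168 (.node 164 (.node 162 (.node 161 (.leaf 0x50390088) (.leaf 0x503a008a)) (.node 163 (.leaf 0x503b0037) (.leaf 0x503c003e))) (.node 166 (.node 165 (.leaf 0x503d0014) (.leaf 0x503e0036)) (.node 167 (.leaf 0x503f008c) (.leaf 0x50400090)))) (.node 172 (.node 170 (.node 169 (.leaf 0x50410039) (.leaf 0x50420094)) (.node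 171 (.leaf 0x50430015) (.leaf 0x50440038))) (.node 174 (.node 173 (.leaf 0x50450096) (.leaf 0x50460098)) (.node 175 (.leaf 0x5047003b) (.leaf 0x50480015))))) (.node 184 (.node 180 (.node 178 (.node 177 (.leaf 0x5049009a) (.leaf 0x504a003a)) (.node 179 (.leaf 0x504b0025) (.leaf 0x504c009e))) (.node 182 (.node 181 (.leaf 0x504d003d) (.leaf 0x504e0016)) (.node 183 (.leaf 0x504f003e) (.leaf 0x5050003c)))) (.node 188 (.node 186 (.node 185 (.leaf 0x50510092) (.leaf 0x5052008d)) (.node 187 (.leaf 0x5053003f) (.leaf 0x5054003c))) (.node 190 (.node 189 (.leaf 0x50550036) (.leaf 0x5056003e)) (.node 191 (.leaf 0x5057004d) (.leaf 0x5058004e))))))) (.node 224 (.node 208 (.node 200 (.node 196 (.node 194 (.node 193 (.leaf 0x50590041) (.leaf 0x505a00a0)) (.node 195 (.leaf 0x505b0017) (.leaf 0x505c0040))) (.node 198 (.node 197 (.leaf 0x505d00a2) (.leaf 0x505e0049)) (.node 199 (.leaf 0x505f0043) (.leaf 0x50600017)))) (.node 204 (.node 202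 (.node 201 (.leaf 0x506100a4) (.leaf 0x50620042)) (.node 203 (.leaf 0x506300a8) (.leaf 0x506400aa))) (.node 206 (.node 205 (.leaf 0x50650045) (.leaf 0x5066004c)) (.node 207 (.leaf 0x50670018) (.leaf 0x50680044))))) (.node 216 (.node 212 (.node 210 (.node 209 (.leaf 0x506900ac) (.leaf 0x506a00b0)) (.node 211 (.leaf 0x506b0047) (.leaf 0x506c00b4))) (.node 214 (.node 213 (.leaf 0x506d0019) (.leaf 0x506e0046)) (.node 215 (.leaf 0x506f00b6) (.leaf 0x507000b8)))) (.node 220 (.node 218 (.node 217 (.leaf 0x50710049) (.leaf 0x50720019)) (.node 219 (.leaf 0x507300ba) (.leaf 0x50740048))) (.node 222 (.node 221 (.leaf 0x50750041) (.leaf 0x507600be)) (.node 223 (.leaf 0x5077004b) (.leaf 0x5078001a)))))) (.node 240 (.node 232 (.node 228 (.node 226 (.node 225 (.leaf 0x5079004c) (.leaf 0x507a004a)) (.node 227 (.leaf 0x507b00b2) (.leaf 0x507c00ad))) (.node 230 (.node 229 (.leaf 0x507d004d) (.leaf 0x507e004a)) (.node 231 (.leaf 0x507f0044)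 (.leaf 0x5080004c)))) (.node 236 (.node 234 (.node 233 (.leaf 0x5081004e) (.leaf 0x5082003f)) (.node 235 (.leaf 0x5083004f) (.leaf 0x5084003f))) (.node 238 (.node 237 (.leaf 0x5085004d) (.leaf 0x5086004e)) (.node 239 (.leaf 0x508700c0) (.leaf 0x508800c2))))) (.node 248 (.node 244 (.node 242 (.node 241 (.leaf 0x50890051) (.leaf 0x508a00c4)) (.node 243 (.leaf 0x508b001b) (.leaf 0x508c0050))) (.node 246 (.node 245 (.leaf 0x508d00c6) (.leaf 0x508e002d)) (.node 247 (.leaf 0x508f0053) (.leaf 0x5090001b)))) (.node 252 (.node 250 (.node 249 (.leaf 0x509100c8) (.leaf 0x50920052)) (.node 251 (.leaf 0x509300cc) (.leaf 0x509400ce))) (.node 254 (.node 253 (.leaf 0x50950055) (.leaf 0x509600d0)) (.node 255 (.leaf 0x5097001d) (.leaf 0x50980054))))))))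

/-- block of `tab` -/
def tab_1 : Tr := .node 384 (.node 320 (.node 288 (.node 272 (.node 264 (.node 260 (.node 258 (.node 257 (.leaf 0x509900d2) (.leaf 0x509a00d4)) (.node 259 (.leaf 0x509b0057) (.leaf 0x509c001d))) (.node 262 (.node 261 (.leaf 0x509d00d6) (.leaf 0x509e0056)) (.node 263 (.leaf 0x509f00da) (.leaf 0x50a000dc)))) (.node 268 (.node 266 (.node 265 (.leaf 0x50a10059) (.leaf 0x50a2005a)) (.node 267 (.leaf 0x50a3001e) (.leaf 0x50a40058))) (.node 270 (.node 269 (.leaf 0x50a500de) (.leaf 0x50a600e0)) (.node 271 (.leaf 0x50a7005b) (.leaf 0x50a80034))))) (.node 280 (.node 276 (.node 274 (.node 273 (.leaf 0x50a90058) (.leaf 0x50aa005a)) (.node 275 (.leaf 0x50ab00e2) (.leaf 0x50ac00e4))) (.node 278 (.node 277 (.leaf 0x50ad005d) (.leaf 0x50ae00e6)) (.node 279 (.leaf 0x50af001f) (.leaf 0x50b0005c)))) (.node 284 (.node 282 (.node 281 (.leaf 0x50b100ab) (.leaf 0x50b200e8)) (.node 283 (.leaf 0x50b3005f) (.leaf 0x50b4001f)))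 (.node 286 (.node 285 (.leaf 0x50b500ea) (.leaf 0x50b6005e)) (.node 287 (.leaf 0x50b700db) (.leaf 0x50b800ee)))))) (.node 304 (.node 296 (.node 292 (.node 290 (.node 289 (.leaf 0x50b90061) (.leaf 0x50ba00f0)) (.node 291 (.leaf 0x50bb0021) (.leaf 0x50bc0060))) (.node 294 (.node 293 (.leaf 0x50bd00f2) (.leaf 0x50be00f4)) (.node 295 (.leaf 0x50bf0063) (.leaf 0x50c00021)))) (.node 300 (.node 298 (.node 297 (.leaf 0x50c100f6) (.leaf 0x50c20062)) (.node 299 (.leaf 0x50c300fa) (.leaf 0x50c400fc))) (.node 302 (.node 301 (.leaf 0x50c50065) (.leaf 0x50c60082)) (.node 303 (.leaf 0x50c70023) (.leaf 0x50c80064))))) (.node 312 (.node 308 (.node 306 (.node 305 (.leaf 0x50c900fe) (.leaf 0x50ca0100)) (.node 307 (.leaf 0x50cb0067) (.leaf 0x50cc006c))) (.node 310 (.node 309 (.leaf 0x50cd0024) (.leaf 0x50ce0066)) (.node 311 (.leaf 0x50cf0102) (.leaf 0x50d00104)))) (.node 316 (.node 314 (.node 313 (.leaf 0x50d10069) (.leaf 0x50d20106)) (.node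 315 (.leaf 0x50d30025) (.leaf 0x50d40068))) (.node 318 (.node 317 (.leaf 0x50d5010a) (.leaf 0x50d6010c)) (.node 319 (.leaf 0x50d7006b) (.leaf 0x50d80026))))))) (.node 352 (.node 336 (.node 328 (.node 324 (.node 322 (.node 321 (.leaf 0x50d9006c) (.leaf 0x50da006a)) (.node 323 (.leaf 0x50db010e) (.leaf 0x50dc0110))) (.node 326 (.node 325 (.leaf 0x50dd006d) (.leaf 0x50de006a)) (.node 327 (.leaf 0x50df0066) (.leaf 0x50e0006c)))) (.node 332 (.node 330 (.node 329 (.leaf 0x50e10112) (.leaf 0x50e20114)) (.node 331 (.leaf 0x50e3006f) (.leaf 0x50e4002b))) (.node 334 (.node 333 (.leaf 0x50e50027) (.leaf 0x50e6006e)) (.node 335 (.leaf 0x50e70111) (.leaf 0x50e800f5))))) (.node 344 (.node 340 (.node 338 (.node 337 (.leaf 0x50e90071) (.leaf 0x50ea0116)) (.node 339 (.leaf 0x50eb0029) (.leaf 0x50ec0070))) (.node 342 (.node 341 (.leaf 0x50ed00fc) (.leaf 0x50ee0118)) (.node 343 (.leaf 0x50ef0073) (.leaf 0x50f00029)))) (.node 348 (.node 346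 (.node 345 (.leaf 0x50f1011a) (.leaf 0x50f20072)) (.node 347 (.leaf 0x50f30110) (.leaf 0x50f40120))) (.node 350 (.node 349 (.leaf 0x50f50075) (.leaf 0x50f60078)) (.node 351 (.leaf 0x50f7002a) (.leaf 0x50f80074)))))) (.node 368 (.node 360 (.node 356 (.node 354 (.node 353 (.leaf 0x50f900f4) (.leaf 0x50fa0122)) (.node 355 (.leaf 0x50fb0077) (.leaf 0x50fc002c))) (.node 358 (.node 357 (.leaf 0x50fd0078) (.leaf 0x50fe0076)) (.node 359 (.leaf 0x50ff0124) (.leaf 0x51000126)))) (.node 364 (.node 362 (.node 361 (.leaf 0x51010079) (.leaf 0x51020076)) (.node 363 (.leaf 0x51030074) (.leaf 0x51040078))) (.node 366 (.node 365 (.leaf 0x51050128) (.leaf 0x5106012a)) (.node 367 (.leaf 0x5107007b) (.leaf 0x5108002d))))) (.node 376 (.node 372 (.node 370 (.node 369 (.leaf 0x5109012c) (.leaf 0x510a007a)) (.node 371 (.leaf 0x510b0130) (.leaf 0x510c0132))) (.node 374 (.node 373 (.leaf 0x510d007d) (.leaf 0x510e0134)) (.node 375 (.leaf 0x510f002f)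 (.leaf 0x5110007c)))) (.node 380 (.node 378 (.node 377 (.leaf 0x51110136) (.leaf 0x51120138)) (.node 379 (.leaf 0x5113007f) (.leaf 0x5114002f))) (.node 382 (.node 381 (.leaf 0x5115013a) (.leaf 0x5116007e)) (.node 383 (.leaf 0x51170140) (.leaf 0x51180142)))))))) (.node 448 (.node 416 (.node 400 (.node 392 (.node 388 (.node 386 (.node 385 (.leaf 0x51190081) (.leaf 0x511a0031)) (.node 387 (.leaf 0x511b0082) (.leaf 0x511c0080))) (.node 390 (.node 389 (.leaf 0x511d0144) (.leaf 0x511e0146)) (.node 391 (.leaf 0x511f0083) (.leaf 0x51200080)))) (.node 396 (.node 394 (.node 393 (.leaf 0x51210064) (.leaf 0x51220082)) (.node 395 (.leaf 0x51230148) (.leaf 0x5124014a))) (.node 398 (.node 397 (.leaf 0x51250087) (.leaf 0x51260085)) (.node 399 (.leaf 0x51270033) (.leaf 0x51280086))))) (.node 408 (.node 404 (.node 402 (.node 401 (.leaf 0x51290033) (.leaf 0x512a0084)) (.node 403 (.leaf 0x512b0085) (.leaf 0x512c0141))) (.node 406 (.node 405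 (.leaf 0x512d014c) (.leaf 0x512e0084)) (.node 407 (.leaf 0x512f014e) (.leaf 0x513000d5)))) (.node 412 (.node 410 (.node 409 (.leaf 0x51310089) (.leaf 0x51320150)) (.node 411 (.leaf 0x51330035) (.leaf 0x51340088))) (.node 414 (.node 413 (.leaf 0x51350152) (.leaf 0x51360139)) (.node 415 (.leaf 0x5137008b) (.leaf 0x51380035)))))) (.node 432 (.node 424 (.node 420 (.node 418 (.node 417 (.leaf 0x51390154) (.leaf 0x513a008a)) (.node 419 (.leaf 0x513b0158) (.leaf 0x513c00b7))) (.node 422 (.node 421 (.leaf 0x513d008f) (.leaf 0x513e008d)) (.node 423 (.leaf 0x513f0037) (.leaf 0x5140008e)))) (.node 428 (.node 426 (.node 425 (.leaf 0x5141003d) (.leaf 0x5142008c)) (.node 427 (.leaf 0x5143008d) (.leaf 0x514400af))) (.node 430 (.node 429 (.leaf 0x5145015a) (.leaf 0x5146008c)) (.node 431 (.leaf 0x5147015c) (.leaf 0x5148015e))))) (.node 440 (.node 436 (.node 434 (.node 433 (.leaf 0x51490091) (.leaf 0x514a0037)) (.node 435 (.leaf 0x514b0092)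 (.leaf 0x514c0090))) (.node 438 (.node 437 (.leaf 0x514d0160) (.leaf 0x514e0162)) (.node 439 (.leaf 0x514f0093) (.leaf 0x51500090)))) (.node 444 (.node 442 (.node 441 (.leaf 0x5151003d) (.leaf 0x51520092)) (.node 443 (.leaf 0x51530164) (.leaf 0x51540166))) (.node 446 (.node 445 (.leaf 0x51550095) (.leaf 0x5156009c)) (.node 447 (.leaf 0x51570038) (.leaf 0x51580094))))))) (.node 480 (.node 464 (.node 456 (.node 452 (.node 450 (.node 449 (.leaf 0x51590168) (.leaf 0x515a016a)) (.node 451 (.leaf 0x515b0097) (.leaf 0x515c009b))) (.node 454 (.node 453 (.leaf 0x515d0039) (.leaf 0x515e0096)) (.node 455 (.leaf 0x515f00cf) (.leaf 0x5160016c)))) (.node 460 (.node 458 (.node 457 (.leaf 0x51610099) (.leaf 0x51620039)) (.node 459 (.leaf 0x5163016e) (.leaf 0x51640098))) (.node 462 (.node 461 (.leaf 0x51650161) (.leaf 0x51660172)) (.node 463 (.leaf 0x5167009b) (.leaf 0x5168003a))))) (.node 472 (.node 468 (.node 466 (.node 465 (.leaf 0x5169009c)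 (.leaf 0x516a009a)) (.node 467 (.leaf 0x516b0170) (.leaf 0x516c0096))) (.node 470 (.node 469 (.leaf 0x516d009d) (.leaf 0x516e009a)) (.node 471 (.leaf 0x516f0094) (.leaf 0x5170009c)))) (.node 476 (.node 474 (.node 473 (.leaf 0x517100cb) (.leaf 0x51720174)) (.node 475 (.leaf 0x5173009f) (.leaf 0x5174003b))) (.node 478 (.node 477 (.leaf 0x51750108) (.leaf 0x5176009e)) (.node 479 (.leaf 0x51770176) (.leaf 0x51780178)))))) (.node 496 (.node 488 (.node 484 (.node 482 (.node 481 (.leaf 0x517900a1) (.leaf 0x517a00a6)) (.node 483 (.leaf 0x517b0040) (.leaf 0x517c00a0))) (.node 486 (.node 485 (.leaf 0x517d017a) (.leaf 0x517e017c)) (.node 487 (.leaf 0x517f00a3) (.leaf 0x5180017e)))) (.node 492 (.node 490 (.node 489 (.leaf 0x51810041) (.leaf 0x518200a2)) (.node 491 (.leaf 0x51830182) (.leaf 0x51840184))) (.node 494 (.node 493 (.leaf 0x518500a5) (.leaf 0x51860042)) (.node 495 (.leaf 0x518700a6) (.leaf 0x518800a4))))) (.node 504 (.node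 500 (.node 498 (.node 497 (.leaf 0x518900b5) (.leaf 0x518a0186)) (.node 499 (.leaf 0x518b00a7) (.leaf 0x518c00a4))) (.node 502 (.node 501 (.leaf 0x518d00a0) (.leaf 0x518e00a6)) (.node 503 (.leaf 0x518f0174) (.leaf 0x519000bd)))) (.node 508 (.node 506 (.node 505 (.leaf 0x519100a9) (.leaf 0x51920188)) (.node 507 (.leaf 0x51930043) (.leaf 0x519400a8))) (.node 510 (.node 509 (.leaf 0x5195018a) (.leaf 0x51960167)) (.node 511 (.leaf 0x519700ab) (.leaf 0x51980043))))))))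

/-- block of `tab` -/
def tab_2 : Tr := .node 640 (.node 576 (.node 544 (.node 528 (.node 520 (.node 516 (.node 514 (.node 513 (.leaf 0x5199018c) (.leaf 0x519a00aa)) (.node 515 (.leaf 0x519b00b7) (.leaf 0x519c005d))) (.node 518 (.node 517 (.leaf 0x519d00af) (.leaf 0x519e00ad)) (.node 519 (.leaf 0x519f0045) (.leaf 0x51a000ae)))) (.node 524 (.node 522 (.node 521 (.leaf 0x51a1004b) (.leaf 0x51a200ac)) (.node 523 (.leaf 0x51a300ad) (.leaf 0x51a40190))) (.node 526 (.node 525 (.leaf 0x51a50192) (.leaf 0x51a600ac)) (.node 527 (.leaf 0x51a70194) (.leaf 0x51a8008e))))) (.node 536 (.node 532 (.node 530 (.node 529 (.leaf 0x51a900b1) (.leaf 0x51aa0045)) (.node 531 (.leaf 0x51ab00b2) (.leaf 0x51ac00b0))) (.node 534 (.node 533 (.leaf 0x51ad0196) (.leaf 0x51ae0198)) (.node 535 (.leaf 0x51af00b3) (.leaf 0x51b000b0)))) (.node 540 (.node 538 (.node 537 (.leaf 0x51b1004b) (.leaf 0x51b200b2)) (.node 539 (.leaf 0x51b3019a) (.leaf 0x51b4019c)))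 (.node 542 (.node 541 (.leaf 0x51b500b5) (.leaf 0x51b600bc)) (.node 543 (.leaf 0x51b70046) (.leaf 0x51b800b4)))))) (.node 560 (.node 552 (.node 548 (.node 546 (.node 545 (.leaf 0x51b9019e) (.leaf 0x51ba00a5)) (.node 547 (.leaf 0x51bb00b7) (.leaf 0x51bc01a0))) (.node 550 (.node 549 (.leaf 0x51bd0047) (.leaf 0x51be00b6)) (.node 551 (.leaf 0x51bf008b) (.leaf 0x51c000ab)))) (.node 556 (.node 554 (.node 553 (.leaf 0x51c100b9) (.leaf 0x51c20047)) (.node 555 (.leaf 0x51c301a2) (.leaf 0x51c400b8))) (.node 558 (.node 557 (.leaf 0x51c50197) (.leaf 0x51c601a6)) (.node 559 (.leaf 0x51c700bb) (.leaf 0x51c80048))))) (.node 568 (.node 564 (.node 562 (.node 561 (.leaf 0x51c900bc) (.leaf 0x51ca00ba)) (.node 563 (.leaf 0x51cb01a8) (.leaf 0x51cc01aa))) (.node 566 (.node 565 (.leaf 0x51cd00bd) (.leaf 0x51ce00ba)) (.node 567 (.leaf 0x51cf00b4) (.leaf 0x51d000bc)))) (.node 572 (.node 570 (.node 569 (.leaf 0x51d100a7) (.leaf 0x51d201ac)) (.node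 571 (.leaf 0x51d300bf) (.leaf 0x51d40049))) (.node 574 (.node 573 (.leaf 0x51d50180) (.leaf 0x51d600be)) (.node 575 (.leaf 0x51d70184) (.leaf 0x51d801ae))))))) (.node 608 (.node 592 (.node 584 (.node 580 (.node 578 (.node 577 (.leaf 0x51d900c1) (.leaf 0x51da014a)) (.node 579 (.leaf 0x51db004f) (.leaf 0x51dc00c0))) (.node 582 (.node 581 (.leaf 0x51dd01b0) (.leaf 0x51de015f)) (.node 583 (.leaf 0x51df00c3) (.leaf 0x51e0004f)))) (.node 588 (.node 586 (.node 585 (.leaf 0x51e10148) (.leaf 0x51e200c2)) (.node 587 (.leaf 0x51e30191) (.leaf 0x51e401b2))) (.node 590 (.node 589 (.leaf 0x51e500c5) (.leaf 0x51e600ca)) (.node 591 (.leaf 0x51e70050) (.leaf 0x51e800c4))))) (.node 600 (.node 596 (.node 594 (.node 593 (.leaf 0x51e900ce) (.leaf 0x51ea01b4)) (.node 595 (.leaf 0x51eb00c7) (.leaf 0x51ec012e))) (.node 598 (.node 597 (.leaf 0x51ed0051) (.leaf 0x51ee00c6)) (.node 599 (.leaf 0x51ef01b6) (.leaf 0x51f001b8)))) (.node 604 (.node 602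 (.node 601 (.leaf 0x51f100c9) (.leaf 0x51f20052)) (.node 603 (.leaf 0x51f300ca) (.leaf 0x51f400c8))) (.node 606 (.node 605 (.leaf 0x51f501ba) (.leaf 0x51f601bc)) (.node 607 (.leaf 0x51f700cb) (.leaf 0x51f800c8)))))) (.node 624 (.node 616 (.node 612 (.node 610 (.node 609 (.leaf 0x51f900c4) (.leaf 0x51fa00ca)) (.node 611 (.leaf 0x51fb01ac) (.leaf 0x51fc009d))) (.node 614 (.node 613 (.leaf 0x51fd00cd) (.leaf 0x51fe01be)) (.node 615 (.leaf 0x51ff0053) (.leaf 0x520000cc)))) (.node 620 (.node 618 (.node 617 (.leaf 0x520101c0) (.leaf 0x5202019d)) (.node 619 (.leaf 0x520300cf) (.leaf 0x52040053))) (.node 622 (.node 621 (.leaf 0x520500c5) (.leaf 0x520600ce)) (.node 623 (.leaf 0x5207016c) (.leaf 0x52080097))))) (.node 632 (.node 628 (.node 626 (.node 625 (.leaf 0x520900d1) (.leaf 0x520a00d8)) (.node 627 (.leaf 0x520b0054) (.leaf 0x520c00d0))) (.node 630 (.node 629 (.leaf 0x520d01c2) (.leaf 0x520e01c4)) (.node 631 (.leaf 0x520f00d3)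 (.leaf 0x5210014f)))) (.node 636 (.node 634 (.node 633 (.leaf 0x52110055) (.leaf 0x521200d2)) (.node 635 (.leaf 0x52130143) (.leaf 0x521401c6))) (.node 638 (.node 637 (.leaf 0x521500d5) (.leaf 0x52160055)) (.node 639 (.leaf 0x521701c8) (.leaf 0x521800d4)))))))) (.node 704 (.node 672 (.node 656 (.node 648 (.node 644 (.node 642 (.node 641 (.leaf 0x52190087) (.leaf 0x521a01cc)) (.node 643 (.leaf 0x521b00d7) (.leaf 0x521c0056))) (.node 646 (.node 645 (.leaf 0x521d00d8) (.leaf 0x521e00d6)) (.node 647 (.leaf 0x521f01ce) (.leaf 0x522001d0)))) (.node 652 (.node 650 (.node 649 (.leaf 0x522100d9) (.leaf 0x522200d6)) (.node 651 (.leaf 0x522300d0) (.leaf 0x522400d8))) (.node 654 (.node 653 (.leaf 0x5225013e) (.leaf 0x522601d2)) (.node 655 (.leaf 0x522700db) (.leaf 0x522801d4))))) (.node 664 (.node 660 (.node 658 (.node 657 (.leaf 0x52290057) (.leaf 0x522a00da)) (.node 659 (.leaf 0x522b01d6) (.leaf 0x522c005f))) (.node 662 (.node 661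 (.leaf 0x522d00dd) (.leaf 0x522e0057)) (.node 663 (.leaf 0x522f01d8) (.leaf 0x523000dc)))) (.node 668 (.node 666 (.node 665 (.leaf 0x523101dc) (.leaf 0x523201de)) (.node 667 (.leaf 0x523300df) (.leaf 0x523401e0))) (.node 670 (.node 669 (.leaf 0x52350059) (.leaf 0x523600de)) (.node 671 (.leaf 0x523701e2) (.leaf 0x523801e4)))))) (.node 688 (.node 680 (.node 676 (.node 674 (.node 673 (.leaf 0x523900e1) (.leaf 0x523a0059)) (.node 675 (.leaf 0x523b01e6) (.leaf 0x523c00e0))) (.node 678 (.node 677 (.leaf 0x523d01ea) (.leaf 0x523e01ec)) (.node 679 (.leaf 0x523f00e3) (.leaf 0x524001f2)))) (.node 684 (.node 682 (.node 681 (.leaf 0x5241005b) (.leaf 0x524200e2)) (.node 683 (.leaf 0x524301ed) (.leaf 0x524401ee))) (.node 686 (.node 685 (.leaf 0x524500e5) (.leaf 0x5246005b)) (.node 687 (.leaf 0x524701f4) (.leaf 0x524800e4))))) (.node 696 (.node 692 (.node 690 (.node 689 (.leaf 0x524901f8) (.leaf 0x524a01fa)) (.node 691 (.leaf 0x524b00e7)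 (.leaf 0x524c00ec))) (.node 694 (.node 693 (.leaf 0x524d005c) (.leaf 0x524e00e6)) (.node 695 (.leaf 0x524f012b) (.leaf 0x525001fc)))) (.node 700 (.node 698 (.node 697 (.leaf 0x525100e9) (.leaf 0x5252005d)) (.node 699 (.leaf 0x52530158) (.leaf 0x525400e8))) (.node 702 (.node 701 (.leaf 0x525501eb) (.leaf 0x525601fe)) (.node 703 (.leaf 0x525700eb) (.leaf 0x5258005e))))))) (.node 736 (.node 720 (.node 712 (.node 708 (.node 706 (.node 705 (.leaf 0x525900ec) (.leaf 0x525a00ea)) (.node 707 (.leaf 0x525b0200) (.leaf 0x525c0202))) (.node 710 (.node 709 (.leaf 0x525d00ed) (.leaf 0x525e00ea)) (.node 711 (.leaf 0x525f00e6) (.leaf 0x526000ec)))) (.node 716 (.node 714 (.node 713 (.leaf 0x52610204) (.leaf 0x52620206)) (.node 715 (.leaf 0x526300ef) (.leaf 0x5264005f))) (.node 718 (.node 717 (.leaf 0x52650208) (.leaf 0x526600ee)) (.node 719 (.leaf 0x5267020c) (.leaf 0x5268020e))))) (.node 728 (.node 724 (.node 722 (.node 721 (.leaf 0x526900f1)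 (.leaf 0x526a00f8)) (.node 723 (.leaf 0x526b0060) (.leaf 0x526c00f0))) (.node 726 (.node 725 (.leaf 0x526d0210) (.leaf 0x526e0212)) (.node 727 (.leaf 0x526f00f3) (.leaf 0x52700214)))) (.node 732 (.node 730 (.node 729 (.leaf 0x52710061) (.leaf 0x527200f2)) (.node 731 (.leaf 0x52730216) (.leaf 0x52740218))) (.node 734 (.node 733 (.leaf 0x527500f5) (.leaf 0x52760061)) (.node 735 (.leaf 0x52770075) (.leaf 0x527800f4)))))) (.node 752 (.node 744 (.node 740 (.node 738 (.node 737 (.leaf 0x5279006f) (.leaf 0x527a021a)) (.node 739 (.leaf 0x527b00f7) (.leaf 0x527c0062))) (.node 742 (.node 741 (.leaf 0x527d00f8) (.leaf 0x527e00f6)) (.node 743 (.leaf 0x527f021c) (.leaf 0x5280021e)))) (.node 748 (.node 746 (.node 745 (.leaf 0x528100f9) (.leaf 0x528200f6)) (.node 747 (.leaf 0x528300f0) (.leaf 0x528400f8))) (.node 750 (.node 749 (.leaf 0x52850220) (.leaf 0x5286011e)) (.node 751 (.leaf 0x528700fb) (.leaf 0x52880222))))) (.node 760 (.node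 756 (.node 754 (.node 753 (.leaf 0x52890063) (.leaf 0x528a00fa)) (.node 755 (.leaf 0x528b0224) (.leaf 0x528c0101))) (.node 758 (.node 757 (.leaf 0x528d00fd) (.leaf 0x528e0063)) (.node 759 (.leaf 0x528f0071) (.leaf 0x529000fc)))) (.node 764 (.node 762 (.node 761 (.leaf 0x52910226) (.leaf 0x52920228)) (.node 763 (.leaf 0x529300ff) (.leaf 0x52940100))) (.node 766 (.node 765 (.leaf 0x52950065) (.leaf 0x529600fe)) (.node 767 (.leaf 0x5297022a) (.leaf 0x5298022c))))))))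

/-- block of `tab` -/
def tab_3 : Tr := .node 896 (.node 832 (.node 800 (.node 784 (.node 776 (.node 772 (.node 770 (.node 769 (.leaf 0x52990101) (.leaf 0x529a0065)) (.node 771 (.leaf 0x529b00fe) (.leaf 0x529c0100))) (.node 774 (.node 773 (.leaf 0x529d00fb) (.leaf 0x529e022e)) (.node 775 (.leaf 0x529f0103) (.leaf 0x52a00230)))) (.node 780 (.node 778 (.node 777 (.leaf 0x52a10067) (.leaf 0x52a20102)) (.node 779 (.leaf 0x52a30232) (.leaf 0x52a40234))) (.node 782 (.node 781 (.leaf 0x52a50105) (.leaf 0x52a60067)) (.node 783 (.leaf 0x52a70236) (.leaf 0x52a80104))))) (.node 792 (.node 788 (.node 786 (.node 785 (.leaf 0x52a9023a) (.leaf 0x52aa023c)) (.node 787 (.leaf 0x52ab0107) (.leaf 0x52ac0108))) (.node 790 (.node 789 (.leaf 0x52ad0068) (.leaf 0x52ae0106)) (.node 791 (.leaf 0x52af01c3) (.leaf 0x52b0023e)))) (.node 796 (.node 794 (.node 793 (.leaf 0x52b10109) (.leaf 0x52b2009e)) (.node 795 (.leaf 0x52b30106) (.leaf 0x52b40108)))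 (.node 798 (.node 797 (.leaf 0x52b50240) (.leaf 0x52b601d3)) (.node 799 (.leaf 0x52b7010b) (.leaf 0x52b80242)))))) (.node 816 (.node 808 (.node 804 (.node 802 (.node 801 (.leaf 0x52b90069) (.leaf 0x52ba010a)) (.node 803 (.leaf 0x52bb0229) (.leaf 0x52bc0244))) (.node 806 (.node 805 (.leaf 0x52bd010d) (.leaf 0x52be0069)) (.node 807 (.leaf 0x52bf0246) (.leaf 0x52c0010c)))) (.node 812 (.node 810 (.node 809 (.leaf 0x52c1023b) (.leaf 0x52c20247)) (.node 811 (.leaf 0x52c3010f) (.leaf 0x52c4024a))) (.node 814 (.node 813 (.leaf 0x52c5006b) (.leaf 0x52c6010e)) (.node 815 (.leaf 0x52c70115) (.leaf 0x52c80123))))) (.node 824 (.node 820 (.node 818 (.node 817 (.leaf 0x52c90111) (.leaf 0x52ca006b)) (.node 819 (.leaf 0x52cb0073) (.leaf 0x52cc0110))) (.node 822 (.node 821 (.leaf 0x52cd024c) (.leaf 0x52ce006f)) (.node 823 (.leaf 0x52cf0113) (.leaf 0x52d0024e)))) (.node 828 (.node 826 (.node 825 (.leaf 0x52d1006d) (.leaf 0x52d20112)) (.node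 827 (.leaf 0x52d30155) (.leaf 0x52d40250))) (.node 830 (.node 829 (.leaf 0x52d50115) (.leaf 0x52d6006d)) (.node 831 (.leaf 0x52d70252) (.leaf 0x52d80114))))))) (.node 864 (.node 848 (.node 840 (.node 836 (.node 834 (.node 833 (.leaf 0x52d90256) (.leaf 0x52da010f)) (.node 835 (.leaf 0x52db0117) (.leaf 0x52dc011c))) (.node 838 (.node 837 (.leaf 0x52dd0070) (.leaf 0x52de0116)) (.node 839 (.leaf 0x52df025c) (.leaf 0x52e0025e)))) (.node 844 (.node 842 (.node 841 (.leaf 0x52e10119) (.leaf 0x52e20071)) (.node 843 (.leaf 0x52e30222) (.leaf 0x52e40118))) (.node 846 (.node 845 (.leaf 0x52e50145) (.leaf 0x52e60260)) (.node 847 (.leaf 0x52e7011b) (.leaf 0x52e80072))))) (.node 856 (.node 852 (.node 850 (.node 849 (.leaf 0x52e9011c) (.leaf 0x52ea011a)) (.node 851 (.leaf 0x52eb0262) (.leaf 0x52ec0264))) (.node 854 (.node 853 (.leaf 0x52ed011d) (.leaf 0x52ee011a)) (.node 855 (.leaf 0x52ef0116) (.leaf 0x52f0011c)))) (.node 860 (.node 858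 (.node 857 (.leaf 0x52f1011e) (.leaf 0x52f20266)) (.node 859 (.leaf 0x52f3011f) (.leaf 0x52f400f9))) (.node 862 (.node 861 (.leaf 0x52f5011d) (.leaf 0x52f6011e)) (.node 863 (.leaf 0x52f7026a) (.leaf 0x52f8026c)))))) (.node 880 (.node 872 (.node 868 (.node 866 (.node 865 (.leaf 0x52f90121) (.leaf 0x52fa0073)) (.node 867 (.leaf 0x52fb024a) (.leaf 0x52fc0120))) (.node 870 (.node 869 (.leaf 0x52fd026e) (.leaf 0x52fe01cb)) (.node 871 (.leaf 0x52ff0123) (.leaf 0x53000075)))) (.node 876 (.node 874 (.node 873 (.leaf 0x53010214) (.leaf 0x53020122)) (.node 875 (.leaf 0x5303010f) (.leaf 0x53040129))) (.node 878 (.node 877 (.leaf 0x53050125) (.leaf 0x53060270)) (.node 879 (.leaf 0x53070077) (.leaf 0x53080124))))) (.node 888 (.node 884 (.node 882 (.node 881 (.leaf 0x530901ff) (.leaf 0x530a0272)) (.node 883 (.leaf 0x530b0127) (.leaf 0x530c0077))) (.node 886 (.node 885 (.leaf 0x530d0274) (.leaf 0x530e0126)) (.node 887 (.leaf 0x530f0278)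 (.leaf 0x5310027a)))) (.node 892 (.node 890 (.node 889 (.leaf 0x53110129) (.leaf 0x5312027c)) (.node 891 (.leaf 0x53130079) (.leaf 0x53140128))) (.node 894 (.node 893 (.leaf 0x53150123) (.leaf 0x53160258)) (.node 895 (.leaf 0x5317012b) (.leaf 0x53180079)))))))) (.node 960 (.node 928 (.node 912 (.node 904 (.node 900 (.node 898 (.node 897 (.leaf 0x5319027e) (.leaf 0x531a012a)) (.node 899 (.leaf 0x531b0282) (.leaf 0x531c00e7))) (.node 902 (.node 901 (.leaf 0x531d012d) (.leaf 0x531e007a)) (.node 903 (.leaf 0x531f012e) (.leaf 0x5320012c)))) (.node 908 (.node 906 (.node 905 (.leaf 0x53210284) (.leaf 0x53220286)) (.node 907 (.leaf 0x5323012f) (.leaf 0x5324012c))) (.node 910 (.node 909 (.leaf 0x532500c6) (.leaf 0x5326012e)) (.node 911 (.leaf 0x53270288) (.leaf 0x5328028a))))) (.node 920 (.node 916 (.node 914 (.node 913 (.leaf 0x53290131) (.leaf 0x532a028c)) (.node 915 (.leaf 0x532b007b) (.leaf 0x532c0130))) (.node 918 (.node 917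 (.leaf 0x532d028d) (.leaf 0x532e0273)) (.node 919 (.leaf 0x532f0133) (.leaf 0x5330007b)))) (.node 924 (.node 922 (.node 921 (.leaf 0x5331028e) (.leaf 0x53320132)) (.node 923 (.leaf 0x53330292) (.leaf 0x53340227))) (.node 926 (.node 925 (.leaf 0x53350135) (.leaf 0x5336013c)) (.node 927 (.leaf 0x5337007c) (.leaf 0x53380134)))))) (.node 944 (.node 936 (.node 932 (.node 930 (.node 929 (.leaf 0x53390294) (.leaf 0x533a0296)) (.node 931 (.leaf 0x533b0137) (.leaf 0x533c0298))) (.node 934 (.node 933 (.leaf 0x533d007d) (.leaf 0x533e0136)) (.node 935 (.leaf 0x533f029a) (.leaf 0x5340029c)))) (.node 940 (.node 938 (.node 937 (.leaf 0x53410139) (.leaf 0x5342007d)) (.node 939 (.leaf 0x5343029e) (.leaf 0x53440138))) (.node 942 (.node 941 (.leaf 0x53450089) (.leaf 0x534602a2)) (.node 943 (.leaf 0x5347013b) (.leaf 0x5348007e))))) (.node 952 (.node 948 (.node 946 (.node 945 (.leaf 0x5349013c) (.leaf 0x534a013a)) (.node 947 (.leaf 0x534b02a4)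 (.leaf 0x534c0287))) (.node 950 (.node 949 (.leaf 0x534d013d) (.leaf 0x534e013a)) (.node 951 (.leaf 0x534f0134) (.leaf 0x5350013c)))) (.node 956 (.node 954 (.node 953 (.leaf 0x53510289) (.leaf 0x5352013e)) (.node 955 (.leaf 0x5353013f) (.leaf 0x5354013d))) (.node 958 (.node 957 (.leaf 0x535500d9) (.leaf 0x5356013e)) (.node 959 (.leaf 0x535702a8) (.leaf 0x535802aa))))))) (.node 992 (.node 976 (.node 968 (.node 964 (.node 962 (.node 961 (.leaf 0x53590141) (.leaf 0x535a02ac)) (.node 963 (.leaf 0x535b007f) (.leaf 0x535c0140))) (.node 966 (.node 965 (.leaf 0x535d02ae) (.leaf 0x535e0086)) (.node 967 (.leaf 0x535f0143) (.leaf 0x5360007f)))) (.node 972 (.node 970 (.node 969 (.leaf 0x5361014d) (.leaf 0x53620142)) (.node 971 (.leaf 0x536302b0) (.leaf 0x536400d3))) (.node 974 (.node 973 (.leaf 0x53650145) (.leaf 0x53660146)) (.node 975 (.leaf 0x53670081) (.leaf 0x53680144))))) (.node 984 (.node 980 (.node 978 (.node 977 (.leaf 0x536902b2)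 (.leaf 0x536a0119)) (.node 979 (.leaf 0x536b0147) (.leaf 0x536c0081))) (.node 982 (.node 981 (.leaf 0x536d0144) (.leaf 0x536e0146)) (.node 983 (.leaf 0x536f02b4) (.leaf 0x537002b6)))) (.node 988 (.node 986 (.node 985 (.leaf 0x53710149) (.leaf 0x537200c2)) (.node 987 (.leaf 0x53730083) (.leaf 0x53740148))) (.node 990 (.node 989 (.leaf 0x537502b8) (.leaf 0x537602ba)) (.node 991 (.leaf 0x5377014b) (.leaf 0x53780083)))))) (.node 1008 (.node 1000 (.node 996 (.node 994 (.node 993 (.leaf 0x537900c0) (.leaf 0x537a014a)) (.node 995 (.leaf 0x537b02bc) (.leaf 0x537c02be))) (.node 998 (.node 997 (.leaf 0x537d014d) (.leaf 0x537e0086)) (.node 999 (.leaf 0x537f02c0) (.leaf 0x5380014c)))) (.node 1004 (.node 1002 (.node 1001 (.leaf 0x53810142) (.leaf 0x53820217)) (.node 1003 (.leaf 0x5383014f) (.leaf 0x538402c4))) (.node 1006 (.node 1005 (.leaf 0x53850087) (.leaf 0x5386014e)) (.node 1007 (.leaf 0x538701ca) (.leaf 0x538800d2))))) (.node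 1016 (.node 1012 (.node 1010 (.node 1009 (.leaf 0x53890151) (.leaf 0x538a0156)) (.node 1011 (.leaf 0x538b0088) (.leaf 0x538c0150))) (.node 1014 (.node 1013 (.leaf 0x538d02c8) (.leaf 0x538e02ca)) (.node 1015 (.leaf 0x538f0153) (.leaf 0x539002cc)))) (.node 1020 (.node 1018 (.node 1017 (.leaf 0x53910089) (.leaf 0x53920152)) (.node 1019 (.leaf 0x539302d0) (.leaf 0x539402d2))) (.node 1022 (.node 1021 (.leaf 0x53950155) (.leaf 0x5396008a)) (.node 1023 (.leaf 0x53970156) (.leaf 0x53980154))))))))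

/-- block of `tab` -/
def tab_4 : Tr := .node 1152 (.node 1088 (.node 1056 (.node 1040 (.node 1032 (.node 1028 (.node 1026 (.node 1025 (.leaf 0x539902d4) (.leaf 0x539a0113)) (.node 1027 (.leaf 0x539b0157) (.leaf 0x539c0154))) (.node 1030 (.node 1029 (.leaf 0x539d0150) (.leaf 0x539e0156)) (.node 1031 (.leaf 0x539f02d6) (.leaf 0x53a002d8)))) (.node 1036 (.node 1034 (.node 1033 (.leaf 0x53a10159) (.leaf 0x53a200e8)) (.node 1035 (.leaf 0x53a3008b) (.leaf 0x53a40158))) (.node 1038 (.node 1037 (.leaf 0x53a5023d) (.leaf 0x53a601ef)) (.node 1039 (.leaf 0x53a7015b) (.leaf 0x53a8008e))))) (.node 1048 (.node 1044 (.node 1042 (.node 1041 (.leaf 0x53a902da) (.leaf 0x53aa015a)) (.node 1043 (.leaf 0x53ab02de) (.leaf 0x53ac02e0))) (.node 1046 (.node 1045 (.leaf 0x53ad015d) (.leaf 0x53ae02e2)) (.node 1047 (.leaf 0x53af008f) (.leaf 0x53b0015c)))) (.node 1052 (.node 1050 (.node 1049 (.leaf 0x53b102e4) (.leaf 0x53b202e6)) (.node 1051 (.leaf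 0x53b3015f) (.leaf 0x53b4008f))) (.node 1054 (.node 1053 (.leaf 0x53b502e8) (.leaf 0x53b6015e)) (.node 1055 (.leaf 0x53b700c1) (.leaf 0x53b802ec)))))) (.node 1072 (.node 1064 (.node 1060 (.node 1058 (.node 1057 (.leaf 0x53b90161) (.leaf 0x53ba02ee)) (.node 1059 (.leaf 0x53bb0091) (.leaf 0x53bc0160))) (.node 1062 (.node 1061 (.leaf 0x53bd02f0) (.leaf 0x53be0099)) (.node 1063 (.leaf 0x53bf0163) (.leaf 0x53c00091)))) (.node 1068 (.node 1066 (.node 1065 (.leaf 0x53c102f2) (.leaf 0x53c20162)) (.node 1067 (.leaf 0x53c302f6) (.leaf 0x53c4019b))) (.node 1070 (.node 1069 (.leaf 0x53c50165) (.leaf 0x53c602f8)) (.node 1071 (.leaf 0x53c70093) (.leaf 0x53c80164))))) (.node 1080 (.node 1076 (.node 1074 (.node 1073 (.leaf 0x53c902fa) (.leaf 0x53ca02fc)) (.node 1075 (.leaf 0x53cb0167) (.leaf 0x53cc0093))) (.node 1078 (.node 1077 (.leaf 0x53cd02fe) (.leaf 0x53ce0166)) (.node 1079 (.leaf 0x53cf00a9) (.leaf 0x53d00302)))) (.node 1084 (.node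 1082 (.node 1081 (.leaf 0x53d10169) (.leaf 0x53d20304)) (.node 1083 (.leaf 0x53d30095) (.leaf 0x53d40168))) (.node 1086 (.node 1085 (.leaf 0x53d50306) (.leaf 0x53d60308)) (.node 1087 (.leaf 0x53d7016b) (.leaf 0x53d80095))))))) (.node 1120 (.node 1104 (.node 1096 (.node 1092 (.node 1090 (.node 1089 (.leaf 0x53d9030a) (.leaf 0x53da016a)) (.node 1091 (.leaf 0x53db027a) (.leaf 0x53dc0310))) (.node 1094 (.node 1093 (.leaf 0x53dd016d) (.leaf 0x53de0097)) (.node 1095 (.leaf 0x53df00cf) (.leaf 0x53e0016c)))) (.node 1100 (.node 1098 (.node 1097 (.leaf 0x53e1027b) (.leaf 0x53e20233)) (.node 1099 (.leaf 0x53e3016f) (.leaf 0x53e40098))) (.node 1102 (.node 1101 (.leaf 0x53e50170) (.leaf 0x53e6016e)) (.node 1103 (.leaf 0x53e70312) (.leaf 0x53e801bf))))) (.node 1112 (.node 1108 (.node 1106 (.node 1105 (.leaf 0x53e90171) (.leaf 0x53ea016e)) (.node 1107 (.leaf 0x53eb009b) (.leaf 0x53ec0170))) (.node 1110 (.node 1109 (.leaf 0x53ed0314)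 (.leaf 0x53ee0316)) (.node 1111 (.leaf 0x53ef0173) (.leaf 0x53f00099)))) (.node 1116 (.node 1114 (.node 1113 (.leaf 0x53f102f5) (.leaf 0x53f20172)) (.node 1115 (.leaf 0x53f302cb) (.leaf 0x53f4031a))) (.node 1118 (.node 1117 (.leaf 0x53f50175) (.leaf 0x53f6009d)) (.node 1119 (.leaf 0x53f700a7) (.leaf 0x53f80174)))))) (.node 1136 (.node 1128 (.node 1124 (.node 1122 (.node 1121 (.leaf 0x53f9031c) (.leaf 0x53fa031e)) (.node 1123 (.leaf 0x53fb0177) (.leaf 0x53fc0320))) (.node 1126 (.node 1125 (.leaf 0x53fd009f) (.leaf 0x53fe0176)) (.node 1127 (.leaf 0x53ff0322) (.leaf 0x54000317)))) (.node 1132 (.node 1130 (.node 1129 (.leaf 0x54010179) (.leaf 0x5402009f)) (.node 1131 (.leaf 0x54030324) (.leaf 0x54040178))) (.node 1134 (.node 1133 (.leaf 0x54050328) (.leaf 0x540602e5)) (.node 1135 (.leaf 0x5407017b) (.leaf 0x5408032a))))) (.node 1144 (.node 1140 (.node 1138 (.node 1137 (.leaf 0x540900a1) (.leaf 0x540a017a)) (.node 1139 (.leaf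 0x540b032c) (.leaf 0x540c01ab))) (.node 1142 (.node 1141 (.leaf 0x540d017d) (.leaf 0x540e00a1)) (.node 1143 (.leaf 0x540f032e) (.leaf 0x5410017c)))) (.node 1148 (.node 1146 (.node 1145 (.leaf 0x54110334) (.leaf 0x54120336)) (.node 1147 (.leaf 0x5413017f) (.leaf 0x54140180))) (.node 1150 (.node 1149 (.leaf 0x541500a2) (.leaf 0x5416017e)) (.node 1151 (.leaf 0x54170316) (.leaf 0x54180338)))))))) (.node 1216 (.node 1184 (.node 1168 (.node 1160 (.node 1156 (.node 1154 (.node 1153 (.leaf 0x54190181) (.leaf 0x541a00be)) (.node 1155 (.leaf 0x541b017e) (.leaf 0x541c0180))) (.node 1158 (.node 1157 (.leaf 0x541d033a) (.leaf 0x541e033c)) (.node 1159 (.leaf 0x541f0183) (.leaf 0x5420033e)))) (.node 1164 (.node 1162 (.node 1161 (.leaf 0x542100a3) (.leaf 0x54220182)) (.node 1163 (.leaf 0x542302e1) (.leaf 0x54240340))) (.node 1166 (.node 1165 (.leaf 0x54250185) (.leaf 0x542600a3)) (.node 1167 (.leaf 0x542700bf) (.leaf 0x54280184))))) (.node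 1176 (.node 1172 (.node 1170 (.node 1169 (.leaf 0x54290335) (.leaf 0x542a0342)) (.node 1171 (.leaf 0x542b0187) (.leaf 0x542c00a5))) (.node 1174 (.node 1173 (.leaf 0x542d0344) (.leaf 0x542e0186)) (.node 1175 (.leaf 0x542f034a) (.leaf 0x5430034c)))) (.node 1180 (.node 1178 (.node 1177 (.leaf 0x54310189) (.leaf 0x5432018e)) (.node 1179 (.leaf 0x543300a8) (.leaf 0x54340188))) (.node 1182 (.node 1181 (.leaf 0x5435034e) (.leaf 0x54360350)) (.node 1183 (.leaf 0x5437018b) (.leaf 0x54380352)))))) (.node 1200 (.node 1192 (.node 1188 (.node 1186 (.node 1185 (.leaf 0x543900a9) (.leaf 0x543a018a)) (.node 1187 (.leaf 0x543b0356) (.leaf 0x543c0358))) (.node 1190 (.node 1189 (.leaf 0x543d018d) (.leaf 0x543e00aa)) (.node 1191 (.leaf 0x543f018e) (.leaf 0x5440018c)))) (.node 1196 (.node 1194 (.node 1193 (.leaf 0x5441035a) (.leaf 0x5442035c)) (.node 1195 (.leaf 0x5443018f) (.leaf 0x5444018c))) (.node 1198 (.node 1197 (.leaf 0x54450188) (.leaf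 0x5446018e)) (.node 1199 (.leaf 0x54470286) (.leaf 0x5448035e))))) (.node 1208 (.node 1204 (.node 1202 (.node 1201 (.leaf 0x54490191) (.leaf 0x544a0360)) (.node 1203 (.leaf 0x544b00ae) (.leaf 0x544c0190))) (.node 1206 (.node 1205 (.leaf 0x544d0362) (.leaf 0x544e00c3)) (.node 1207 (.leaf 0x544f0193) (.leaf 0x545000ae)))) (.node 1212 (.node 1210 (.node 1209 (.leaf 0x54510364) (.leaf 0x54520192)) (.node 1211 (.leaf 0x54530368) (.leaf 0x5454036a))) (.node 1214 (.node 1213 (.leaf 0x54550195) (.leaf 0x545602dc)) (.node 1215 (.leaf 0x545700af) (.leaf 0x54580194))))))) (.node 1248 (.node 1232 (.node 1224 (.node 1220 (.node 1218 (.node 1217 (.leaf 0x5459036c) (.leaf 0x545a036e)) (.node 1219 (.leaf 0x545b0197) (.leaf 0x545c0370))) (.node 1222 (.node 1221 (.leaf 0x545d00b1) (.leaf 0x545e0196)) (.node 1223 (.leaf 0x545f0372) (.leaf 0x546000b9)))) (.node 1228 (.node 1226 (.node 1225 (.leaf 0x54610199) (.leaf 0x546200b1)) (.node 1227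 (.leaf 0x54630374) (.leaf 0x54640198))) (.node 1230 (.node 1229 (.leaf 0x54650378) (.leaf 0x5466037a)) (.node 1231 (.leaf 0x5467019b) (.leaf 0x5468037c))))) (.node 1240 (.node 1236 (.node 1234 (.node 1233 (.leaf 0x546900b3) (.leaf 0x546a019a)) (.node 1235 (.leaf 0x546b0163) (.leaf 0x546c037e))) (.node 1238 (.node 1237 (.leaf 0x546d019d) (.leaf 0x546e00b3)) (.node 1239 (.leaf 0x546f0380) (.leaf 0x5470019c)))) (.node 1244 (.node 1242 (.node 1241 (.leaf 0x547100cd) (.leaf 0x54720384)) (.node 1243 (.leaf 0x5473019f) (.leaf 0x54740346))) (.node 1246 (.node 1245 (.leaf 0x547500b5) (.leaf 0x5476019e)) (.node 1247 (.leaf 0x5477034c) (.leaf 0x54780386)))))) (.node 1264 (.node 1256 (.node 1252 (.node 1250 (.node 1249 (.leaf 0x547901a1) (.leaf 0x547a01a4)) (.node 1251 (.leaf 0x547b00b6) (.leaf 0x547c01a0))) (.node 1254 (.node 1253 (.leaf 0x547d038a) (.leaf 0x547e038c)) (.node 1255 (.leaf 0x547f01a3) (.leaf 0x548000b8)))) (.node 1260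 (.node 1258 (.node 1257 (.leaf 0x548101a4) (.leaf 0x548201a2)) (.node 1259 (.leaf 0x5483038e) (.leaf 0x54840390))) (.node 1262 (.node 1261 (.leaf 0x548501a5) (.leaf 0x548601a2)) (.node 1263 (.leaf 0x548701a0) (.leaf 0x548801a4))))) (.node 1272 (.node 1268 (.node 1266 (.node 1265 (.leaf 0x54890392) (.leaf 0x548a01c3)) (.node 1267 (.leaf 0x548b01a7) (.leaf 0x548c00b9))) (.node 1270 (.node 1269 (.leaf 0x548d0394) (.leaf 0x548e01a6)) (.node 1271 (.leaf 0x548f0398) (.leaf 0x5490039a)))) (.node 1276 (.node 1274 (.node 1273 (.leaf 0x549101a9) (.leaf 0x5492039c)) (.node 1275 (.leaf 0x549300bb) (.leaf 0x549401a8))) (.node 1278 (.node 1277 (.leaf 0x5495039e) (.leaf 0x54960343)) (.node 1279 (.leaf 0x549701ab) (.leaf 0x549800bb))))))))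

/-- block of `tab` -/
def tab_5 : Tr := .node 1408 (.node 1344 (.node 1312 (.node 1296 (.node 1288 (.node 1284 (.node 1282 (.node 1281 (.leaf 0x549903a0) (.leaf 0x549a01aa)) (.node 1283 (.leaf 0x549b017b) (.leaf 0x549c03a6))) (.node 1286 (.node 1285 (.leaf 0x549d01ad) (.leaf 0x549e00bd)) (.node 1287 (.leaf 0x549f00cb) (.leaf 0x54a001ac)))) (.node 1292 (.node 1290 (.node 1289 (.leaf 0x54a103a8) (.leaf 0x54a203aa)) (.node 1291 (.leaf 0x54a301af) (.leaf 0x54a400bf))) (.node 1294 (.node 1293 (.leaf 0x54a5033e) (.leaf 0x54a601ae)) (.node 1295 (.leaf 0x54a703ac) (.leaf 0x54a8036d))))) (.node 1304 (.node 1300 (.node 1298 (.node 1297 (.leaf 0x54a901b1) (.leaf 0x54aa03ae)) (.node 1299 (.leaf 0x54ab00c1) (.leaf 0x54ac01b0))) (.node 1302 (.node 1301 (.leaf 0x54ad037b) (.leaf 0x54ae03b2)) (.node 1303 (.leaf 0x54af01b3) (.leaf 0x54b000c3)))) (.node 1308 (.node 1306 (.node 1305 (.leaf 0x54b103b4) (.leaf 0x54b201b2)) (.node 1307 (.leaf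 0x54b303b8) (.leaf 0x54b402fb))) (.node 1310 (.node 1309 (.leaf 0x54b501b5) (.leaf 0x54b600c5)) (.node 1311 (.leaf 0x54b701be) (.leaf 0x54b801b4)))))) (.node 1328 (.node 1320 (.node 1316 (.node 1314 (.node 1313 (.leaf 0x54b9033c) (.leaf 0x54ba03ba)) (.node 1315 (.leaf 0x54bb01b7) (.leaf 0x54bc03bc))) (.node 1318 (.node 1317 (.leaf 0x54bd00c7) (.leaf 0x54be01b6)) (.node 1319 (.leaf 0x54bf036b) (.leaf 0x54c003be)))) (.node 1324 (.node 1322 (.node 1321 (.leaf 0x54c101b9) (.leaf 0x54c200c7)) (.node 1323 (.leaf 0x54c303c0) (.leaf 0x54c401b8))) (.node 1326 (.node 1325 (.leaf 0x54c5033d) (.leaf 0x54c603c4)) (.node 1327 (.leaf 0x54c701bb) (.leaf 0x54c803c6))))) (.node 1336 (.node 1332 (.node 1330 (.node 1329 (.leaf 0x54c900c9) (.leaf 0x54ca01ba)) (.node 1331 (.leaf 0x54cb03c8) (.leaf 0x54cc0232))) (.node 1334 (.node 1333 (.leaf 0x54cd01bd) (.leaf 0x54ce00c9)) (.node 1335 (.leaf 0x54cf03ca) (.leaf 0x54d001bc)))) (.node 1340 (.node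 1338 (.node 1337 (.leaf 0x54d103d0) (.leaf 0x54d203d2)) (.node 1339 (.leaf 0x54d301bf) (.leaf 0x54d401b4))) (.node 1342 (.node 1341 (.leaf 0x54d500cc) (.leaf 0x54d601be)) (.node 1343 (.leaf 0x54d7016f) (.leaf 0x54d803d4))))))) (.node 1376 (.node 1360 (.node 1352 (.node 1348 (.node 1346 (.node 1345 (.leaf 0x54d901c1) (.leaf 0x54da0383)) (.node 1347 (.leaf 0x54db00cd) (.leaf 0x54dc01c0))) (.node 1350 (.node 1349 (.leaf 0x54dd03d8) (.leaf 0x54de0201)) (.node 1351 (.leaf 0x54df01c3) (.leaf 0x54e003da)))) (.node 1356 (.node 1354 (.node 1353 (.leaf 0x54e100d1) (.leaf 0x54e201c2)) (.node 1355 (.leaf 0x54e301a5) (.leaf 0x54e40107))) (.node 1358 (.node 1357 (.leaf 0x54e501c5) (.leaf 0x54e600d1)) (.node 1359 (.leaf 0x54e703dc) (.leaf 0x54e801c4))))) (.node 1368 (.node 1364 (.node 1362 (.node 1361 (.leaf 0x54e903e0) (.leaf 0x54ea03e2)) (.node 1363 (.leaf 0x54eb01c7) (.leaf 0x54ec00d3))) (.node 1366 (.node 1365 (.leaf 0x54ed03e4)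 (.leaf 0x54ee01c6)) (.node 1367 (.leaf 0x54ef03e1) (.leaf 0x54f003e8)))) (.node 1372 (.node 1370 (.node 1369 (.leaf 0x54f101c9) (.leaf 0x54f200d4)) (.node 1371 (.leaf 0x54f301ca) (.leaf 0x54f401c8))) (.node 1374 (.node 1373 (.leaf 0x54f503ea) (.leaf 0x54f603ec)) (.node 1375 (.leaf 0x54f701cb) (.leaf 0x54f801c8)))))) (.node 1392 (.node 1384 (.node 1380 (.node 1378 (.node 1377 (.leaf 0x54f9014f) (.leaf 0x54fa01ca)) (.node 1379 (.leaf 0x54fb0121) (.leaf 0x54fc03df))) (.node 1382 (.node 1381 (.leaf 0x54fd01cd) (.leaf 0x54fe00d5)) (.node 1383 (.leaf 0x54ff02c6) (.leaf 0x550001cc)))) (.node 1388 (.node 1386 (.node 1385 (.leaf 0x550103ee) (.leaf 0x5502038f)) (.node 1387 (.leaf 0x550301cf) (.leaf 0x550403f0))) (.node 1390 (.node 1389 (.leaf 0x550500d7) (.leaf 0x550601ce)) (.node 1391 (.leaf 0x550703f2) (.leaf 0x550803f4))))) (.node 1400 (.node 1396 (.node 1394 (.node 1393 (.leaf 0x550901d1) (.leaf 0x550a00d7)) (.node 1395 (.leaf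 0x550b03f6) (.leaf 0x550c01d0))) (.node 1398 (.node 1397 (.leaf 0x550d03fc) (.leaf 0x550e03fe)) (.node 1399 (.leaf 0x550f01d3) (.leaf 0x551000d9)))) (.node 1404 (.node 1402 (.node 1401 (.leaf 0x551102a6) (.leaf 0x551201d2)) (.node 1403 (.leaf 0x55130109) (.leaf 0x55140400))) (.node 1406 (.node 1405 (.leaf 0x551501d5) (.leaf 0x551601da)) (.node 1407 (.leaf 0x551700da) (.leaf 0x551801d4)))))))) (.node 1472 (.node 1440 (.node 1424 (.node 1416 (.node 1412 (.node 1410 (.node 1409 (.leaf 0x55190402) (.leaf 0x551a029f)) (.node 1411 (.leaf 0x551b01d7) (.leaf 0x551c020a))) (.node 1414 (.node 1413 (.leaf 0x551d00db) (.leaf 0x551e01d6)) (.node 1415 (.leaf 0x551f0404) (.leaf 0x552002a3)))) (.node 1420 (.node 1418 (.node 1417 (.leaf 0x552101d9) (.leaf 0x552200dc)) (.node 1419 (.leaf 0x552301da) (.leaf 0x552401d8))) (.node 1422 (.node 1421 (.leaf 0x55250406) (.leaf 0x55260408)) (.node 1423 (.leaf 0x552701db) (.leaf 0x552801d8))))) (.node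 1432 (.node 1428 (.node 1426 (.node 1425 (.leaf 0x552901d4) (.leaf 0x552a01da)) (.node 1427 (.leaf 0x552b02a1) (.leaf 0x552c040a))) (.node 1430 (.node 1429 (.leaf 0x552d01dd) (.leaf 0x552e040c)) (.node 1431 (.leaf 0x552f00dd) (.leaf 0x553001dc)))) (.node 1436 (.node 1434 (.node 1433 (.leaf 0x553101fe) (.leaf 0x553203f5)) (.node 1435 (.leaf 0x553301df) (.leaf 0x553400dd))) (.node 1438 (.node 1437 (.leaf 0x5535040e) (.leaf 0x553601de)) (.node 1439 (.leaf 0x55370412) (.leaf 0x5538022b)))))) (.node 1456 (.node 1448 (.node 1444 (.node 1442 (.node 1441 (.leaf 0x553901e1) (.leaf 0x553a01e8)) (.node 1443 (.leaf 0x553b00de) (.leaf 0x553c01e0))) (.node 1446 (.node 1445 (.leaf 0x553d0414) (.leaf 0x553e02ff)) (.node 1447 (.leaf 0x553f01e3) (.leaf 0x55400416)))) (.node 1452 (.node 1450 (.node 1449 (.leaf 0x554100df) (.leaf 0x554201e2)) (.node 1451 (.leaf 0x55430418) (.leaf 0x55440303))) (.node 1454 (.node 1453 (.leaf 0x554501e5) (.leaf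 0x554600df)) (.node 1455 (.leaf 0x5547041a) (.leaf 0x554801e4))))) (.node 1464 (.node 1460 (.node 1458 (.node 1457 (.leaf 0x554901f9) (.leaf 0x554a0404)) (.node 1459 (.leaf 0x554b01e7) (.leaf 0x554c00e0))) (.node 1462 (.node 1461 (.leaf 0x554d01e8) (.leaf 0x554e01e6)) (.node 1463 (.leaf 0x554f041e) (.leaf 0x55500420)))) (.node 1468 (.node 1466 (.node 1465 (.leaf 0x555101e9) (.leaf 0x555201e6)) (.node 1467 (.leaf 0x555301e0) (.leaf 0x555401e8))) (.node 1470 (.node 1469 (.leaf 0x55550426) (.leaf 0x55560428)) (.node 1471 (.leaf 0x555701eb) (.leaf 0x555801ee))))))) (.node 1504 (.node 1488 (.node 1480 (.node 1476 (.node 1474 (.node 1473 (.leaf 0x555900e1) (.leaf 0x555a01ea)) (.node 1475 (.leaf 0x555b042a) (.leaf 0x555c00e9))) (.node 1478 (.node 1477 (.leaf 0x555d01f1) (.leaf 0x555e00e1)) (.node 1479 (.leaf 0x555f01ed) (.leaf 0x556001f0)))) (.node 1484 (.node 1482 (.node 1481 (.leaf 0x556101ec) (.leaf 0x556200e3)) (.node 1483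 (.leaf 0x556301ef) (.leaf 0x556400e3))) (.node 1486 (.node 1485 (.leaf 0x556501ea) (.leaf 0x556601ee)) (.node 1487 (.leaf 0x55670159) (.leaf 0x5568042c))))) (.node 1496 (.node 1492 (.node 1490 (.node 1489 (.leaf 0x556901ed) (.leaf 0x556a042e)) (.node 1491 (.leaf 0x556b0430) (.leaf 0x556c01ec))) (.node 1494 (.node 1493 (.leaf 0x556d0432) (.leaf 0x556e0434)) (.node 1495 (.leaf 0x556f01f3) (.leaf 0x557001f6)))) (.node 1500 (.node 1498 (.node 1497 (.leaf 0x557100e2) (.leaf 0x557201f2)) (.node 1499 (.leaf 0x55730436) (.leaf 0x5574043a))) (.node 1502 (.node 1501 (.leaf 0x557501f5) (.leaf 0x557600e4)) (.node 1503 (.leaf 0x557701f6) (.leaf 0x557801f4)))))) (.node 1520 (.node 1512 (.node 1508 (.node 1506 (.node 1505 (.leaf 0x55790371) (.leaf 0x557a043e)) (.node 1507 (.leaf 0x557b01f7) (.leaf 0x557c01f4))) (.node 1510 (.node 1509 (.leaf 0x557d01f2) (.leaf 0x557e01f6)) (.node 1511 (.leaf 0x557f0440) (.leaf 0x55800442)))) (.node 1516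 (.node 1514 (.node 1513 (.leaf 0x558101f9) (.leaf 0x55820444)) (.node 1515 (.leaf 0x558300e5) (.leaf 0x558401f8))) (.node 1518 (.node 1517 (.leaf 0x55850446) (.leaf 0x558601e5)) (.node 1519 (.leaf 0x558701fb) (.leaf 0x558800e5))))) (.node 1528 (.node 1524 (.node 1522 (.node 1521 (.leaf 0x55890448) (.leaf 0x558a01fa)) (.node 1523 (.leaf 0x558b0373) (.leaf 0x558c0452))) (.node 1526 (.node 1525 (.leaf 0x558d01fd) (.leaf 0x558e00e7)) (.node 1527 (.leaf 0x558f0454) (.leaf 0x559001fc)))) (.node 1532 (.node 1530 (.node 1529 (.leaf 0x5591035b) (.leaf 0x55920458)) (.node 1531 (.leaf 0x559301ff) (.leaf 0x559400e9))) (.node 1534 (.node 1533 (.leaf 0x559501dd) (.leaf 0x559601fe)) (.node 1535 (.leaf 0x5597045a) (.leaf 0x55980125))))))))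

/-- block of `tab` -/
def tab_6 : Tr := .node 1664 (.node 1600 (.node 1568 (.node 1552 (.node 1544 (.node 1540 (.node 1538 (.node 1537 (.leaf 0x55990201) (.leaf 0x559a045c)) (.node 1539 (.leaf 0x559b00eb) (.leaf 0x559c0200))) (.node 1542 (.node 1541 (.leaf 0x559d01c1) (.leaf 0x559e045e)) (.node 1543 (.leaf 0x559f0203) (.leaf 0x55a000eb)))) (.node 1548 (.node 1546 (.node 1545 (.leaf 0x55a10460) (.leaf 0x55a20202)) (.node 1547 (.leaf 0x55a30464) (.leaf 0x55a40466))) (.node 1550 (.node 1549 (.leaf 0x55a50205) (.leaf 0x55a60468)) (.node 1551 (.leaf 0x55a700ed) (.leaf 0x55a80204))))) (.node 1560 (.node 1556 (.node 1554 (.node 1553 (.leaf 0x55a9046e) (.leaf 0x55aa0470)) (.node 1555 (.leaf 0x55ab0207) (.leaf 0x55ac00ed))) (.node 1558 (.node 1557 (.leaf 0x55ad0472) (.leaf 0x55ae0206)) (.node 1559 (.leaf 0x55af0476) (.leaf 0x55b00478)))) (.node 1564 (.node 1562 (.node 1561 (.leaf 0x55b10209) (.leaf 0x55b200ee)) (.node 1563 (.leaf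 0x55b3020a) (.leaf 0x55b40208))) (.node 1566 (.node 1565 (.leaf 0x55b5047a) (.leaf 0x55b6047c)) (.node 1567 (.leaf 0x55b7020b) (.leaf 0x55b80208)))))) (.node 1584 (.node 1576 (.node 1572 (.node 1570 (.node 1569 (.leaf 0x55b901d6) (.leaf 0x55ba020a)) (.node 1571 (.leaf 0x55bb047e) (.leaf 0x55bc0480))) (.node 1574 (.node 1573 (.leaf 0x55bd020d) (.leaf 0x55be0482)) (.node 1575 (.leaf 0x55bf00ef) (.leaf 0x55c0020c)))) (.node 1580 (.node 1578 (.node 1577 (.leaf 0x55c10483) (.leaf 0x55c2045f)) (.node 1579 (.leaf 0x55c3020f) (.leaf 0x55c400ef))) (.node 1582 (.node 1581 (.leaf 0x55c50484) (.leaf 0x55c6020e)) (.node 1583 (.leaf 0x55c70488) (.leaf 0x55c80419))))) (.node 1592 (.node 1588 (.node 1586 (.node 1585 (.leaf 0x55c90211) (.leaf 0x55ca048a)) (.node 1587 (.leaf 0x55cb00f1) (.leaf 0x55cc0210))) (.node 1590 (.node 1589 (.leaf 0x55cd048c) (.leaf 0x55ce048e)) (.node 1591 (.leaf 0x55cf0213) (.leaf 0x55d000f1)))) (.node 1596 (.node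 1594 (.node 1593 (.leaf 0x55d10490) (.leaf 0x55d20212)) (.node 1595 (.leaf 0x55d30494) (.leaf 0x55d40496))) (.node 1598 (.node 1597 (.leaf 0x55d50215) (.leaf 0x55d60122)) (.node 1599 (.leaf 0x55d700f2) (.leaf 0x55d80214))))))) (.node 1632 (.node 1616 (.node 1608 (.node 1604 (.node 1602 (.node 1601 (.leaf 0x55d90498) (.leaf 0x55da049a)) (.node 1603 (.leaf 0x55db0217) (.leaf 0x55dc049c))) (.node 1606 (.node 1605 (.leaf 0x55dd00f3) (.leaf 0x55de0216)) (.node 1607 (.leaf 0x55df014d) (.leaf 0x55e002ac)))) (.node 1612 (.node 1610 (.node 1609 (.leaf 0x55e10219) (.leaf 0x55e200f3)) (.node 1611 (.leaf 0x55e3049e) (.leaf 0x55e40218))) (.node 1614 (.node 1613 (.leaf 0x55e50495) (.leaf 0x55e604a2)) (.node 1615 (.leaf 0x55e7021b) (.leaf 0x55e800f5))))) (.node 1624 (.node 1620 (.node 1618 (.node 1617 (.leaf 0x55e9025a) (.leaf 0x55ea021a)) (.node 1619 (.leaf 0x55eb0283) (.leaf 0x55ec04a4))) (.node 1622 (.node 1621 (.leaf 0x55ed021d)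 (.leaf 0x55ee035f)) (.node 1623 (.leaf 0x55ef00f7) (.leaf 0x55f0021c)))) (.node 1628 (.node 1626 (.node 1625 (.leaf 0x55f104a6) (.leaf 0x55f2038a)) (.node 1627 (.leaf 0x55f3021f) (.leaf 0x55f400f7))) (.node 1630 (.node 1629 (.leaf 0x55f504a8) (.leaf 0x55f6021e)) (.node 1631 (.leaf 0x55f704ac) (.leaf 0x55f802eb)))))) (.node 1648 (.node 1640 (.node 1636 (.node 1634 (.node 1633 (.leaf 0x55f90221) (.leaf 0x55fa0268)) (.node 1635 (.leaf 0x55fb00f9) (.leaf 0x55fc0220))) (.node 1638 (.node 1637 (.leaf 0x55fd04ae) (.leaf 0x55fe04b0)) (.node 1639 (.leaf 0x55ff0223) (.leaf 0x56000118)))) (.node 1644 (.node 1642 (.node 1641 (.leaf 0x560100fa) (.leaf 0x56020222)) (.node 1643 (.leaf 0x560304b2) (.leaf 0x560404b4))) (.node 1646 (.node 1645 (.leaf 0x56050225) (.leaf 0x5606027f)) (.node 1647 (.leaf 0x560700fb) (.leaf 0x56080224))))) (.node 1656 (.node 1652 (.node 1650 (.node 1649 (.leaf 0x560904b6) (.leaf 0x560a04b8)) (.node 1651 (.leaf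 0x560b0227) (.leaf 0x560c0228))) (.node 1654 (.node 1653 (.leaf 0x560d00fd) (.leaf 0x560e0226)) (.node 1655 (.leaf 0x560f0133) (.leaf 0x5610038b)))) (.node 1660 (.node 1658 (.node 1657 (.leaf 0x56110229) (.leaf 0x561200fd)) (.node 1659 (.leaf 0x56130226) (.leaf 0x56140228))) (.node 1662 (.node 1661 (.leaf 0x5615035d) (.leaf 0x5616010b)) (.node 1663 (.leaf 0x5617022b) (.leaf 0x561802ff)))))))) (.node 1728 (.node 1696 (.node 1680 (.node 1672 (.node 1668 (.node 1666 (.node 1665 (.leaf 0x561900ff) (.leaf 0x561a022a)) (.node 1667 (.leaf 0x561b01df) (.leaf 0x561c04be))) (.node 1670 (.node 1669 (.leaf 0x561d022d) (.leaf 0x561e00ff)) (.node 1671 (.leaf 0x561f0414) (.leaf 0x5620022c)))) (.node 1676 (.node 1674 (.node 1673 (.leaf 0x562102bd) (.leaf 0x562204c0)) (.node 1675 (.leaf 0x5623022f) (.leaf 0x56240101))) (.node 1678 (.node 1677 (.leaf 0x56250477) (.leaf 0x5626022e)) (.node 1679 (.leaf 0x562704c2) (.leaf 0x562804c4))))) (.node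 1688 (.node 1684 (.node 1682 (.node 1681 (.leaf 0x56290231) (.leaf 0x562a0238)) (.node 1683 (.leaf 0x562b0102) (.leaf 0x562c0230))) (.node 1686 (.node 1685 (.leaf 0x562d04c6) (.leaf 0x562e04c8)) (.node 1687 (.leaf 0x562f0233) (.leaf 0x563001bb)))) (.node 1692 (.node 1690 (.node 1689 (.leaf 0x56310103) (.leaf 0x56320232)) (.node 1691 (.leaf 0x5633016d) (.leaf 0x563404ca))) (.node 1694 (.node 1693 (.leaf 0x56350235) (.leaf 0x56360103)) (.node 1695 (.leaf 0x563704cc) (.leaf 0x56380234)))))) (.node 1712 (.node 1704 (.node 1700 (.node 1698 (.node 1697 (.leaf 0x56390257) (.leaf 0x563a04ce)) (.node 1699 (.leaf 0x563b0237) (.leaf 0x563c0104))) (.node 1702 (.node 1701 (.leaf 0x563d0238) (.leaf 0x563e0236)) (.node 1703 (.leaf 0x563f04d0) (.leaf 0x564004d2)))) (.node 1708 (.node 1706 (.node 1705 (.leaf 0x56410239) (.leaf 0x56420236)) (.node 1707 (.leaf 0x56430230) (.leaf 0x56440238))) (.node 1710 (.node 1709 (.leaf 0x564503fa) (.leaf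 0x564604d4)) (.node 1711 (.leaf 0x5647023b) (.leaf 0x564804d6))))) (.node 1720 (.node 1716 (.node 1714 (.node 1713 (.leaf 0x56490105) (.leaf 0x564a023a)) (.node 1715 (.leaf 0x564b04d8) (.leaf 0x564c010d))) (.node 1718 (.node 1717 (.leaf 0x564d023d) (.leaf 0x564e0105)) (.node 1719 (.leaf 0x564f04da) (.leaf 0x5650023c)))) (.node 1724 (.node 1722 (.node 1721 (.leaf 0x5651029d) (.leaf 0x56520159)) (.node 1723 (.leaf 0x5653023f) (.leaf 0x56540107))) (.node 1726 (.node 1725 (.leaf 0x565504de) (.leaf 0x5656023e)) (.node 1727 (.leaf 0x565704e0) (.leaf 0x565804e2))))))) (.node 1760 (.node 1744 (.node 1736 (.node 1732 (.node 1730 (.node 1729 (.leaf 0x56590241) (.leaf 0x565a0255)) (.node 1731 (.leaf 0x565b0109) (.leaf 0x565c0240))) (.node 1734 (.node 1733 (.leaf 0x565d04e4) (.leaf 0x565e04e8)) (.node 1735 (.leaf 0x565f0243) (.leaf 0x56600248)))) (.node 1740 (.node 1738 (.node 1737 (.leaf 0x5661010a) (.leaf 0x56620242)) (.node 1739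 (.leaf 0x566304ee) (.leaf 0x5664028f))) (.node 1742 (.node 1741 (.leaf 0x56650245) (.leaf 0x5666010b)) (.node 1743 (.leaf 0x566704f0) (.leaf 0x56680244))))) (.node 1752 (.node 1748 (.node 1746 (.node 1745 (.leaf 0x566904e1) (.leaf 0x566a04f4)) (.node 1747 (.leaf 0x566b0247) (.leaf 0x566c010c))) (.node 1750 (.node 1749 (.leaf 0x566d0248) (.leaf 0x566e0246)) (.node 1751 (.leaf 0x566f010d) (.leaf 0x567004f6)))) (.node 1756 (.node 1754 (.node 1753 (.leaf 0x56710249) (.leaf 0x56720246)) (.node 1755 (.leaf 0x56730242) (.leaf 0x56740248))) (.node 1758 (.node 1757 (.leaf 0x567504f8) (.leaf 0x567604fa)) (.node 1759 (.leaf 0x5677024b) (.leaf 0x56780120)))))) (.node 1776 (.node 1768 (.node 1764 (.node 1762 (.node 1761 (.leaf 0x5679010e) (.leaf 0x567a024a)) (.node 1763 (.leaf 0x567b04fe) (.leaf 0x567c0500))) (.node 1766 (.node 1765 (.leaf 0x567d024d) (.leaf 0x567e025a)) (.node 1767 (.leaf 0x567f0111) (.leaf 0x5680024c)))) (.node 1772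 (.node 1770 (.node 1769 (.leaf 0x56810502) (.leaf 0x56820251)) (.node 1771 (.leaf 0x5683024f) (.leaf 0x56840254))) (.node 1774 (.node 1773 (.leaf 0x56850112) (.leaf 0x5686024e)) (.node 1775 (.leaf 0x56870260) (.leaf 0x56880504))))) (.node 1784 (.node 1780 (.node 1778 (.node 1777 (.leaf 0x56890251) (.leaf 0x568a0113)) (.node 1779 (.leaf 0x568b0506) (.leaf 0x568c0250))) (.node 1782 (.node 1781 (.leaf 0x568d024d) (.leaf 0x568e050a)) (.node 1783 (.leaf 0x568f0253) (.leaf 0x56900114)))) (.node 1788 (.node 1786 (.node 1785 (.leaf 0x56910254) (.leaf 0x56920252)) (.node 1787 (.leaf 0x5693043c) (.leaf 0x56940437))) (.node 1790 (.node 1789 (.leaf 0x56950255) (.leaf 0x56960252)) (.node 1791 (.leaf 0x5697024e) (.leaf 0x56980254))))))))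

/-- block of `tab` -/
def tab_7 : Tr := .node 1920 (.node 1856 (.node 1824 (.node 1808 (.node 1800 (.node 1796 (.node 1794 (.node 1793 (.leaf 0x569904ec) (.leaf 0x569a0240)) (.node 1795 (.leaf 0x569b0257) (.leaf 0x569c0258))) (.node 1798 (.node 1797 (.leaf 0x569d0115) (.leaf 0x569e0256)) (.node 1799 (.leaf 0x569f050c) (.leaf 0x56a00235)))) (.node 1804 (.node 1802 (.node 1801 (.leaf 0x56a10259) (.leaf 0x56a20129)) (.node 1803 (.leaf 0x56a30256) (.leaf 0x56a40258))) (.node 1806 (.node 1805 (.leaf 0x56a50279) (.leaf 0x56a6050e)) (.node 1807 (.leaf 0x56a7025b) (.leaf 0x56a8021a))))) (.node 1816 (.node 1812 (.node 1810 (.node 1809 (.leaf 0x56a9024c) (.leaf 0x56aa025a)) (.node 1811 (.leaf 0x56ab0510) (.leaf 0x56ac0512))) (.node 1814 (.node 1813 (.leaf 0x56ad025d) (.leaf 0x56ae0514)) (.node 1815 (.leaf 0x56af0117) (.leaf 0x56b0025c)))) (.node 1820 (.node 1818 (.node 1817 (.leaf 0x56b10367) (.leaf 0x56b20516)) (.node 1819 (.leaf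 0x56b3025f) (.leaf 0x56b40117))) (.node 1822 (.node 1821 (.leaf 0x56b50393) (.leaf 0x56b6025e)) (.node 1823 (.leaf 0x56b7035c) (.leaf 0x56b80518)))))) (.node 1840 (.node 1832 (.node 1828 (.node 1826 (.node 1825 (.leaf 0x56b90261) (.leaf 0x56ba0119)) (.node 1827 (.leaf 0x56bb024f) (.leaf 0x56bc0260))) (.node 1830 (.node 1829 (.leaf 0x56bd04bc) (.leaf 0x56be04ba)) (.node 1831 (.leaf 0x56bf0263) (.leaf 0x56c0046c)))) (.node 1836 (.node 1834 (.node 1833 (.leaf 0x56c1011b) (.leaf 0x56c20262)) (.node 1835 (.leaf 0x56c3051a) (.leaf 0x56c4051c))) (.node 1838 (.node 1837 (.leaf 0x56c50265) (.leaf 0x56c6011b)) (.node 1839 (.leaf 0x56c7046a) (.leaf 0x56c80264))))) (.node 1848 (.node 1844 (.node 1842 (.node 1841 (.leaf 0x56c9051e) (.leaf 0x56ca0520)) (.node 1843 (.leaf 0x56cb0267) (.leaf 0x56cc011d))) (.node 1846 (.node 1845 (.leaf 0x56cd0268) (.leaf 0x56ce0266)) (.node 1847 (.leaf 0x56cf0522) (.leaf 0x56d004ab)))) (.node 1852 (.node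 1850 (.node 1849 (.leaf 0x56d10269) (.leaf 0x56d20266)) (.node 1851 (.leaf 0x56d30220) (.leaf 0x56d40268))) (.node 1854 (.node 1853 (.leaf 0x56d50524) (.leaf 0x56d60528)) (.node 1855 (.leaf 0x56d7026b) (.leaf 0x56d8052c))))))) (.node 1888 (.node 1872 (.node 1864 (.node 1860 (.node 1858 (.node 1857 (.leaf 0x56d9011f) (.leaf 0x56da026a)) (.node 1859 (.leaf 0x56db052e) (.leaf 0x56dc048f))) (.node 1862 (.node 1861 (.leaf 0x56dd026d) (.leaf 0x56de011f)) (.node 1863 (.leaf 0x56df0530) (.leaf 0x56e0026c)))) (.node 1868 (.node 1866 (.node 1865 (.leaf 0x56e1051f) (.leaf 0x56e20534)) (.node 1867 (.leaf 0x56e3026f) (.leaf 0x56e40536))) (.node 1870 (.node 1869 (.leaf 0x56e50121) (.leaf 0x56e6026e)) (.node 1871 (.leaf 0x56e70538) (.leaf 0x56e8051d))))) (.node 1880 (.node 1876 (.node 1874 (.node 1873 (.leaf 0x56e90271) (.leaf 0x56ea0276)) (.node 1875 (.leaf 0x56eb0124) (.leaf 0x56ec0270))) (.node 1878 (.node 1877 (.leaf 0x56ed053c)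 (.leaf 0x56ee053e)) (.node 1879 (.leaf 0x56ef0273) (.leaf 0x56f00125)))) (.node 1884 (.node 1882 (.node 1881 (.leaf 0x56f10540) (.leaf 0x56f20272)) (.node 1883 (.leaf 0x56f30131) (.leaf 0x56f40544))) (.node 1886 (.node 1885 (.leaf 0x56f50275) (.leaf 0x56f60126)) (.node 1887 (.leaf 0x56f70276) (.leaf 0x56f80274)))))) (.node 1904 (.node 1896 (.node 1892 (.node 1890 (.node 1889 (.leaf 0x56f90546) (.leaf 0x56fa0548)) (.node 1891 (.leaf 0x56fb0277) (.leaf 0x56fc0274))) (.node 1894 (.node 1893 (.leaf 0x56fd0270) (.leaf 0x56fe0276)) (.node 1895 (.leaf 0x56ff054a) (.leaf 0x570003f9)))) (.node 1900 (.node 1898 (.node 1897 (.leaf 0x57010279) (.leaf 0x5702054c)) (.node 1899 (.leaf 0x57030127) (.leaf 0x57040278))) (.node 1902 (.node 1901 (.leaf 0x5705054e) (.leaf 0x57060259)) (.node 1903 (.leaf 0x5707027b) (.leaf 0x57080127))))) (.node 1912 (.node 1908 (.node 1906 (.node 1905 (.leaf 0x5709016b) (.leaf 0x570a027a)) (.node 1907 (.leaf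 0x570b0550) (.leaf 0x570c016d))) (.node 1910 (.node 1909 (.leaf 0x570d027d) (.leaf 0x570e0280)) (.node 1911 (.leaf 0x570f0128) (.leaf 0x5710027c)))) (.node 1916 (.node 1914 (.node 1913 (.leaf 0x57110421) (.leaf 0x57120422)) (.node 1915 (.leaf 0x5713027f) (.leaf 0x5714012a))) (.node 1918 (.node 1917 (.leaf 0x57150280) (.leaf 0x5716027e)) (.node 1919 (.leaf 0x57170477) (.leaf 0x57180224)))))))) (.node 1984 (.node 1952 (.node 1936 (.node 1928 (.node 1924 (.node 1922 (.node 1921 (.leaf 0x57190281) (.leaf 0x571a027e)) (.node 1923 (.leaf 0x571b027c) (.leaf 0x571c0280))) (.node 1926 (.node 1925 (.leaf 0x571d028a) (.leaf 0x571e0552)) (.node 1927 (.leaf 0x571f0283) (.leaf 0x57200456)))) (.node 1932 (.node 1930 (.node 1929 (.leaf 0x5721012b) (.leaf 0x57220282)) (.node 1931 (.leaf 0x57230554) (.leaf 0x5724021b))) (.node 1934 (.node 1933 (.leaf 0x57250285) (.leaf 0x57260556)) (.node 1935 (.leaf 0x5727012d) (.leaf 0x57280284))))) (.node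 1944 (.node 1940 (.node 1938 (.node 1937 (.leaf 0x57290558) (.leaf 0x572a055a)) (.node 1939 (.leaf 0x572b0287) (.leaf 0x572c012d))) (.node 1942 (.node 1941 (.leaf 0x572d018f) (.leaf 0x572e0286)) (.node 1943 (.leaf 0x572f013b) (.leaf 0x5730055c)))) (.node 1948 (.node 1946 (.node 1945 (.leaf 0x57310289) (.leaf 0x5732055e)) (.node 1947 (.leaf 0x5733012f) (.leaf 0x57340288))) (.node 1950 (.node 1949 (.leaf 0x573502a6) (.leaf 0x5736013d)) (.node 1951 (.leaf 0x5737028b) (.leaf 0x5738012f)))))) (.node 1968 (.node 1960 (.node 1956 (.node 1954 (.node 1953 (.leaf 0x57390281) (.leaf 0x573a028a)) (.node 1955 (.leaf 0x573b0560) (.leaf 0x573c0562))) (.node 1958 (.node 1957 (.leaf 0x573d028d) (.leaf 0x573e0290)) (.node 1959 (.leaf 0x573f0130) (.leaf 0x5740028c)))) (.node 1964 (.node 1962 (.node 1961 (.leaf 0x57410564) (.leaf 0x57420131)) (.node 1963 (.leaf 0x5743028f) (.leaf 0x57440132))) (.node 1966 (.node 1965 (.leaf 0x57450290) (.leaf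 0x5746028e)) (.node 1967 (.leaf 0x57470243) (.leaf 0x57480568))))) (.node 1976 (.node 1972 (.node 1970 (.node 1969 (.leaf 0x57490291) (.leaf 0x574a028e)) (.node 1971 (.leaf 0x574b028c) (.leaf 0x574c0290))) (.node 1974 (.node 1973 (.leaf 0x574d056a) (.leaf 0x574e056c)) (.node 1975 (.leaf 0x574f0293) (.leaf 0x5750056e)))) (.node 1980 (.node 1978 (.node 1977 (.leaf 0x57510133) (.leaf 0x57520292)) (.node 1979 (.leaf 0x57530572) (.leaf 0x5754055b))) (.node 1982 (.node 1981 (.leaf 0x57550295) (.leaf 0x57560574)) (.node 1983 (.leaf 0x57570135) (.leaf 0x57580294))))))) (.node 2016 (.node 2000 (.node 1992 (.node 1988 (.node 1986 (.node 1985 (.leaf 0x57590576) (.leaf 0x575a0578)) (.node 1987 (.leaf 0x575b0297) (.leaf 0x575c0135))) (.node 1990 (.node 1989 (.leaf 0x575d057a) (.leaf 0x575e0296)) (.node 1991 (.leaf 0x575f057c) (.leaf 0x5760057e)))) (.node 1996 (.node 1994 (.node 1993 (.leaf 0x57610299) (.leaf 0x576202a0)) (.node 1995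 (.leaf 0x57630136) (.leaf 0x57640298))) (.node 1998 (.node 1997 (.leaf 0x57650580) (.leaf 0x57660582)) (.node 1999 (.leaf 0x5767029b) (.leaf 0x57680584))))) (.node 2008 (.node 2004 (.node 2002 (.node 2001 (.leaf 0x57690137) (.leaf 0x576a029a)) (.node 2003 (.leaf 0x576b02b7) (.leaf 0x576c0412))) (.node 2006 (.node 2005 (.leaf 0x576d029d) (.leaf 0x576e0137)) (.node 2007 (.leaf 0x576f0586) (.leaf 0x5770029c)))) (.node 2012 (.node 2010 (.node 2009 (.leaf 0x5771057d) (.leaf 0x5772023d)) (.node 2011 (.leaf 0x5773029f) (.leaf 0x57740138))) (.node 2014 (.node 2013 (.leaf 0x577502a0) (.leaf 0x5776029e)) (.node 2015 (.leaf 0x577701d5) (.leaf 0x5778058a)))))) (.node 2032 (.node 2024 (.node 2020 (.node 2018 (.node 2017 (.leaf 0x577902a1) (.leaf 0x577a029e)) (.node 2019 (.leaf 0x577b0298) (.leaf 0x577c02a0))) (.node 2022 (.node 2021 (.leaf 0x577d058c) (.leaf 0x577e01db)) (.node 2023 (.leaf 0x577f02a3) (.leaf 0x57800139)))) (.node 2028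 (.node 2026 (.node 2025 (.leaf 0x578102ce) (.leaf 0x578202a2)) (.node 2027 (.leaf 0x578301d7) (.leaf 0x57840446))) (.node 2030 (.node 2029 (.leaf 0x578502a5) (.leaf 0x57860592)) (.node 2031 (.leaf 0x5787013b) (.leaf 0x578802a4))))) (.node 2040 (.node 2036 (.node 2034 (.node 2033 (.leaf 0x57890594) (.leaf 0x578a0596)) (.node 2035 (.leaf 0x578b02a7) (.leaf 0x578c01d2))) (.node 2038 (.node 2037 (.leaf 0x578d0289) (.leaf 0x578e02a6)) (.node 2039 (.leaf 0x578f0529) (.leaf 0x57900525)))) (.node 2044 (.node 2042 (.node 2041 (.leaf 0x579102a9) (.leaf 0x57920450)) (.node 2043 (.leaf 0x5793013f) (.leaf 0x579402a8))) (.node 2046 (.node 2045 (.leaf 0x57950598) (.leaf 0x57960579)) (.node 2047 (.leaf 0x579702ab) (.leaf 0x5798013f))))))))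

/-- block of `tab` -/
def tab_8 : Tr := .node 2176 (.node 2112 (.node 2080 (.node 2064 (.node 2056 (.node 2052 (.node 2050 (.node 2049 (.leaf 0x5799044e) (.leaf 0x579a02aa)) (.node 2051 (.leaf 0x579b03fd) (.leaf 0x579c059a))) (.node 2054 (.node 2053 (.leaf 0x579d02ad) (.leaf 0x579e0217)) (.node 2055 (.leaf 0x579f0140) (.leaf 0x57a002ac)))) (.node 2060 (.node 2058 (.node 2057 (.leaf 0x57a1059c) (.leaf 0x57a2059e)) (.node 2059 (.leaf 0x57a302af) (.leaf 0x57a402c2))) (.node 2062 (.node 2061 (.leaf 0x57a50141) (.leaf 0x57a602ae)) (.node 2063 (.leaf 0x57a70351) (.leaf 0x57a805a0))))) (.node 2072 (.node 2068 (.node 2066 (.node 2065 (.leaf 0x57a902b1) (.leaf 0x57aa03e6)) (.node 2067 (.leaf 0x57ab0143) (.leaf 0x57ac02b0))) (.node 2070 (.node 2069 (.leaf 0x57ad05a2) (.leaf 0x57ae0597)) (.node 2071 (.leaf 0x57af02b3) (.leaf 0x57b00504)))) (.node 2076 (.node 2074 (.node 2073 (.leaf 0x57b10145) (.leaf 0x57b202b2)) (.node 2075 (.leaf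 0x57b305a4) (.leaf 0x57b405a6))) (.node 2078 (.node 2077 (.leaf 0x57b502b5) (.leaf 0x57b6043e)) (.node 2079 (.leaf 0x57b70147) (.leaf 0x57b802b4)))))) (.node 2096 (.node 2088 (.node 2084 (.node 2082 (.node 2081 (.leaf 0x57b905a8) (.leaf 0x57ba02bb)) (.node 2083 (.leaf 0x57bb02b7) (.leaf 0x57bc0147))) (.node 2086 (.node 2085 (.leaf 0x57bd0371) (.leaf 0x57be02b6)) (.node 2087 (.leaf 0x57bf04be) (.leaf 0x57c0029b)))) (.node 2092 (.node 2090 (.node 2089 (.leaf 0x57c102b9) (.leaf 0x57c205ac)) (.node 2091 (.leaf 0x57c30149) (.leaf 0x57c402b8))) (.node 2094 (.node 2093 (.leaf 0x57c505ae) (.leaf 0x57c605b0)) (.node 2095 (.leaf 0x57c702bb) (.leaf 0x57c80149))))) (.node 2104 (.node 2100 (.node 2098 (.node 2097 (.leaf 0x57c905b2) (.leaf 0x57ca02ba)) (.node 2099 (.leaf 0x57cb02b5) (.leaf 0x57cc0526))) (.node 2102 (.node 2101 (.leaf 0x57cd02bd) (.leaf 0x57ce05b8)) (.node 2103 (.leaf 0x57cf014b) (.leaf 0x57d002bc)))) (.node 2108 (.node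 2106 (.node 2105 (.leaf 0x57d1052a) (.leaf 0x57d2022d)) (.node 2107 (.leaf 0x57d302bf) (.leaf 0x57d4014b))) (.node 2110 (.node 2109 (.leaf 0x57d505ba) (.leaf 0x57d602be)) (.node 2111 (.leaf 0x57d70466) (.leaf 0x57d805be))))))) (.node 2144 (.node 2128 (.node 2120 (.node 2116 (.node 2114 (.node 2113 (.leaf 0x57d902c1) (.leaf 0x57da014c)) (.node 2115 (.leaf 0x57db02c2) (.leaf 0x57dc02c0))) (.node 2118 (.node 2117 (.leaf 0x57dd05c0) (.leaf 0x57de05c2)) (.node 2119 (.leaf 0x57df02c3) (.leaf 0x57e002c0)))) (.node 2124 (.node 2122 (.node 2121 (.leaf 0x57e102ae) (.leaf 0x57e202c2)) (.node 2123 (.leaf 0x57e305b6) (.leaf 0x57e405c4))) (.node 2126 (.node 2125 (.leaf 0x57e502c5) (.leaf 0x57e602c6)) (.node 2127 (.leaf 0x57e7014e) (.leaf 0x57e802c4))))) (.node 2136 (.node 2132 (.node 2130 (.node 2129 (.leaf 0x57e905c6) (.leaf 0x57ea05c8)) (.node 2131 (.leaf 0x57eb02c7) (.leaf 0x57ec01cc))) (.node 2134 (.node 2133 (.leaf 0x57ed02c4)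 (.leaf 0x57ee02c6)) (.node 2135 (.leaf 0x57ef05ca) (.leaf 0x57f005aa)))) (.node 2140 (.node 2138 (.node 2137 (.leaf 0x57f102c9) (.leaf 0x57f205cc)) (.node 2139 (.leaf 0x57f30151) (.leaf 0x57f402c8))) (.node 2142 (.node 2141 (.leaf 0x57f505b0) (.leaf 0x57f605ce)) (.node 2143 (.leaf 0x57f702cb) (.leaf 0x57f80151)))))) (.node 2160 (.node 2152 (.node 2148 (.node 2146 (.node 2145 (.leaf 0x57f905d0) (.leaf 0x57fa02ca)) (.node 2147 (.leaf 0x57fb05d6) (.leaf 0x57fc0173))) (.node 2150 (.node 2149 (.leaf 0x57fd02cd) (.leaf 0x57fe02ce)) (.node 2151 (.leaf 0x57ff0152) (.leaf 0x580002cc)))) (.node 2156 (.node 2154 (.node 2153 (.leaf 0x580105d8) (.leaf 0x580205da)) (.node 2155 (.leaf 0x580302cf) (.leaf 0x580402a2))) (.node 2158 (.node 2157 (.leaf 0x580502cc) (.leaf 0x580602ce)) (.node 2159 (.leaf 0x58070480) (.leaf 0x580805dc))))) (.node 2168 (.node 2164 (.node 2162 (.node 2161 (.leaf 0x580902d1) (.leaf 0x580a05de)) (.node 2163 (.leaf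 0x580b0153) (.leaf 0x580c02d0))) (.node 2166 (.node 2165 (.leaf 0x580d0453) (.leaf 0x580e05e0)) (.node 2167 (.leaf 0x580f02d3) (.leaf 0x58100153)))) (.node 2172 (.node 2170 (.node 2169 (.leaf 0x581105e2) (.leaf 0x581202d2)) (.node 2171 (.leaf 0x581305d7) (.leaf 0x581405e3))) (.node 2174 (.node 2173 (.leaf 0x581502d5) (.leaf 0x58160508)) (.node 2175 (.leaf 0x58170155) (.leaf 0x581802d4)))))))) (.node 2240 (.node 2208 (.node 2192 (.node 2184 (.node 2180 (.node 2178 (.node 2177 (.leaf 0x581905e6) (.leaf 0x581a038d)) (.node 2179 (.leaf 0x581b02d7) (.leaf 0x581c05ea))) (.node 2182 (.node 2181 (.leaf 0x581d0157) (.leaf 0x581e02d6)) (.node 2183 (.leaf 0x581f0478) (.leaf 0x58200505)))) (.node 2188 (.node 2186 (.node 2185 (.leaf 0x582102d9) (.leaf 0x58220157)) (.node 2187 (.leaf 0x58230493) (.leaf 0x582402d8))) (.node 2190 (.node 2189 (.leaf 0x582505ee) (.leaf 0x582605f0)) (.node 2191 (.leaf 0x582702db) (.leaf 0x5828015a))))) (.node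 2200 (.node 2196 (.node 2194 (.node 2193 (.leaf 0x582902dc) (.leaf 0x582a02da)) (.node 2195 (.leaf 0x582b05f2) (.leaf 0x582c0388))) (.node 2198 (.node 2197 (.leaf 0x582d02dd) (.leaf 0x582e02da)) (.node 2199 (.leaf 0x582f0194) (.leaf 0x583002dc)))) (.node 2204 (.node 2202 (.node 2201 (.leaf 0x58310348) (.leaf 0x583205f4)) (.node 2203 (.leaf 0x583302df) (.leaf 0x583402e0))) (.node 2206 (.node 2205 (.leaf 0x5835015b) (.leaf 0x583602de)) (.node 2207 (.leaf 0x583705f6) (.leaf 0x583802e7)))))) (.node 2224 (.node 2216 (.node 2212 (.node 2210 (.node 2209 (.leaf 0x583902e1) (.leaf 0x583a015b)) (.node 2211 (.leaf 0x583b02de) (.leaf 0x583c02e0))) (.node 2214 (.node 2213 (.leaf 0x583d05f8) (.leaf 0x583e0183)) (.node 2215 (.leaf 0x583f02e3) (.leaf 0x584002ea)))) (.node 2220 (.node 2218 (.node 2217 (.leaf 0x5841015c) (.leaf 0x584202e2)) (.node 2219 (.leaf 0x584305fa) (.leaf 0x584404b7))) (.node 2222 (.node 2221 (.leaf 0x584502e5) (.leaf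 0x584605fc)) (.node 2223 (.leaf 0x5847015d) (.leaf 0x584802e4))))) (.node 2232 (.node 2228 (.node 2226 (.node 2225 (.leaf 0x58490179) (.leaf 0x584a05fe)) (.node 2227 (.leaf 0x584b02e7) (.leaf 0x584c015d))) (.node 2230 (.node 2229 (.leaf 0x584d0600) (.leaf 0x584e02e6)) (.node 2231 (.leaf 0x584f02df) (.leaf 0x58500604)))) (.node 2236 (.node 2234 (.node 2233 (.leaf 0x585102e9) (.leaf 0x5852015e)) (.node 2235 (.leaf 0x585302ea) (.leaf 0x585402e8))) (.node 2238 (.node 2237 (.leaf 0x58550606) (.leaf 0x58560608)) (.node 2239 (.leaf 0x585702eb) (.leaf 0x585802e8))))))) (.node 2272 (.node 2256 (.node 2248 (.node 2244 (.node 2242 (.node 2241 (.leaf 0x585902e2) (.leaf 0x585a02ea)) (.node 2243 (.leaf 0x585b021f) (.leaf 0x585c030e))) (.node 2246 (.node 2245 (.leaf 0x585d02ed) (.leaf 0x585e015f)) (.node 2247 (.leaf 0x585f03b0) (.leaf 0x586002ec)))) (.node 2252 (.node 2250 (.node 2249 (.leaf 0x5861060a) (.leaf 0x58620363)) (.node 2251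 (.leaf 0x586302ef) (.leaf 0x586402f4))) (.node 2254 (.node 2253 (.leaf 0x58650160) (.leaf 0x586602ee)) (.node 2255 (.leaf 0x58670381) (.leaf 0x58680479))))) (.node 2264 (.node 2260 (.node 2258 (.node 2257 (.leaf 0x586902f1) (.leaf 0x586a0318)) (.node 2259 (.leaf 0x586b0161) (.leaf 0x586c02f0))) (.node 2262 (.node 2261 (.leaf 0x586d060c) (.leaf 0x586e0473)) (.node 2263 (.leaf 0x586f02f3) (.leaf 0x58700162)))) (.node 2268 (.node 2266 (.node 2265 (.leaf 0x587102f4) (.leaf 0x587202f2)) (.node 2267 (.leaf 0x58730345) (.leaf 0x5874060e))) (.node 2270 (.node 2269 (.leaf 0x587502f5) (.leaf 0x587602f2)) (.node 2271 (.leaf 0x587702ee) (.leaf 0x587802f4)))))) (.node 2288 (.node 2280 (.node 2276 (.node 2274 (.node 2273 (.leaf 0x58790172) (.leaf 0x587a0318)) (.node 2275 (.leaf 0x587b02f7) (.leaf 0x587c0610))) (.node 2278 (.node 2277 (.leaf 0x587d0163) (.leaf 0x587e02f6)) (.node 2279 (.leaf 0x587f053f) (.leaf 0x588002fd)))) (.node 2284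 (.node 2282 (.node 2281 (.leaf 0x588102f9) (.leaf 0x58820300)) (.node 2283 (.leaf 0x58830164) (.leaf 0x588402f8))) (.node 2286 (.node 2285 (.leaf 0x58850614) (.leaf 0x58860616)) (.node 2287 (.leaf 0x588702fb) (.leaf 0x58880618))))) (.node 2296 (.node 2292 (.node 2290 (.node 2289 (.leaf 0x58890165) (.leaf 0x588a02fa)) (.node 2291 (.leaf 0x588b01b3) (.leaf 0x588c061a))) (.node 2294 (.node 2293 (.leaf 0x588d02fd) (.leaf 0x588e0165)) (.node 2295 (.leaf 0x588f061c) (.leaf 0x589002fc)))) (.node 2300 (.node 2298 (.node 2297 (.leaf 0x589102f7) (.leaf 0x58920620)) (.node 2299 (.leaf 0x589302ff) (.leaf 0x58940166))) (.node 2302 (.node 2301 (.leaf 0x58950300) (.leaf 0x589602fe)) (.node 2303 (.leaf 0x589701e1) (.leaf 0x5898022a))))))))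

/-- block of `tab` -/
def tab_9 : Tr := .node 2432 (.node 2368 (.node 2336 (.node 2320 (.node 2312 (.node 2308 (.node 2306 (.node 2305 (.leaf 0x58990301) (.leaf 0x589a02fe)) (.node 2307 (.leaf 0x589b02f8) (.leaf 0x589c0300))) (.node 2310 (.node 2309 (.leaf 0x589d0622) (.leaf 0x589e0332)) (.node 2311 (.leaf 0x589f0303) (.leaf 0x58a00167)))) (.node 2316 (.node 2314 (.node 2313 (.leaf 0x58a10354) (.leaf 0x58a20302)) (.node 2315 (.leaf 0x58a301e3) (.leaf 0x58a40626))) (.node 2318 (.node 2317 (.leaf 0x58a50305) (.leaf 0x58a6030c)) (.node 2319 (.leaf 0x58a70168) (.leaf 0x58a80304))))) (.node 2328 (.node 2324 (.node 2322 (.node 2321 (.leaf 0x58a90628) (.leaf 0x58aa062a)) (.node 2323 (.leaf 0x58ab0307) (.leaf 0x58ac062c))) (.node 2326 (.node 2325 (.leaf 0x58ad0169) (.leaf 0x58ae0306)) (.node 2327 (.leaf 0x58af062e) (.leaf 0x58b00630)))) (.node 2332 (.node 2330 (.node 2329 (.leaf 0x58b10309) (.leaf 0x58b20169)) (.node 2331 (.leaf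 0x58b30632) (.leaf 0x58b40308))) (.node 2334 (.node 2333 (.leaf 0x58b5031d) (.leaf 0x58b60634)) (.node 2335 (.leaf 0x58b7030b) (.leaf 0x58b8016a)))))) (.node 2352 (.node 2344 (.node 2340 (.node 2338 (.node 2337 (.leaf 0x58b9030c) (.leaf 0x58ba030a)) (.node 2339 (.leaf 0x58bb0636) (.leaf 0x58bc0638))) (.node 2342 (.node 2341 (.leaf 0x58bd030d) (.leaf 0x58be030a)) (.node 2343 (.leaf 0x58bf0304) (.leaf 0x58c0030c)))) (.node 2348 (.node 2346 (.node 2345 (.leaf 0x58c1030e) (.leaf 0x58c2063a)) (.node 2347 (.leaf 0x58c3030f) (.leaf 0x58c402eb))) (.node 2350 (.node 2349 (.leaf 0x58c5030d) (.leaf 0x58c6030e)) (.node 2351 (.leaf 0x58c7063c) (.leaf 0x58c8063e))))) (.node 2360 (.node 2356 (.node 2354 (.node 2353 (.leaf 0x58c90311) (.leaf 0x58ca016b)) (.node 2355 (.leaf 0x58cb054c) (.leaf 0x58cc0310))) (.node 2358 (.node 2357 (.leaf 0x58cd0640) (.leaf 0x58ce03c9)) (.node 2359 (.leaf 0x58cf0313) (.leaf 0x58d00644)))) (.node 2364 (.node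 2362 (.node 2361 (.leaf 0x58d1016f) (.leaf 0x58d20312)) (.node 2363 (.leaf 0x58d30646) (.leaf 0x58d405d1))) (.node 2366 (.node 2365 (.leaf 0x58d50315) (.leaf 0x58d6064a)) (.node 2367 (.leaf 0x58d70171) (.leaf 0x58d80314))))))) (.node 2400 (.node 2384 (.node 2376 (.node 2372 (.node 2370 (.node 2369 (.leaf 0x58d9064c) (.leaf 0x58da03bb)) (.node 2371 (.leaf 0x58db0317) (.leaf 0x58dc0171))) (.node 2374 (.node 2373 (.leaf 0x58dd017f) (.leaf 0x58de0316)) (.node 2375 (.leaf 0x58df0177) (.leaf 0x58e00650)))) (.node 2380 (.node 2378 (.node 2377 (.leaf 0x58e10319) (.leaf 0x58e202f5)) (.node 2379 (.leaf 0x58e302f0) (.leaf 0x58e40318))) (.node 2382 (.node 2381 (.leaf 0x58e503d7) (.leaf 0x58e60652)) (.node 2383 (.leaf 0x58e7031b) (.leaf 0x58e80173))))) (.node 2392 (.node 2388 (.node 2386 (.node 2385 (.leaf 0x58e90654) (.leaf 0x58ea031a)) (.node 2387 (.leaf 0x58eb0658) (.leaf 0x58ec062f))) (.node 2390 (.node 2389 (.leaf 0x58ed031d)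 (.leaf 0x58ee031e)) (.node 2391 (.leaf 0x58ef0175) (.leaf 0x58f0031c)))) (.node 2396 (.node 2394 (.node 2393 (.leaf 0x58f1065a) (.leaf 0x58f20309)) (.node 2395 (.leaf 0x58f3031f) (.leaf 0x58f40175))) (.node 2398 (.node 2397 (.leaf 0x58f5031c) (.leaf 0x58f6031e)) (.node 2399 (.leaf 0x58f7034b) (.leaf 0x58f805f8)))))) (.node 2416 (.node 2408 (.node 2404 (.node 2402 (.node 2401 (.leaf 0x58f90321) (.leaf 0x58fa0326)) (.node 2403 (.leaf 0x58fb0176) (.leaf 0x58fc0320))) (.node 2406 (.node 2405 (.leaf 0x58fd065c) (.leaf 0x58fe065e)) (.node 2407 (.leaf 0x58ff0323) (.leaf 0x59000660)))) (.node 2412 (.node 2410 (.node 2409 (.leaf 0x59010177) (.leaf 0x59020322)) (.node 2411 (.leaf 0x59030664) (.leaf 0x59040666))) (.node 2414 (.node 2413 (.leaf 0x59050325) (.leaf 0x59060178)) (.node 2415 (.leaf 0x59070326) (.leaf 0x59080324))))) (.node 2424 (.node 2420 (.node 2418 (.node 2417 (.leaf 0x59090668) (.leaf 0x590a066a)) (.node 2419 (.leaf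 0x590b0327) (.leaf 0x590c0324))) (.node 2422 (.node 2421 (.leaf 0x590d0320) (.leaf 0x590e0326)) (.node 2423 (.leaf 0x590f066c) (.leaf 0x5910066e)))) (.node 2428 (.node 2426 (.node 2425 (.leaf 0x59110329) (.leaf 0x59120670)) (.node 2427 (.leaf 0x59130179) (.leaf 0x59140328))) (.node 2430 (.node 2429 (.leaf 0x59150672) (.leaf 0x591604e9)) (.node 2431 (.leaf 0x5917032b) (.leaf 0x59180330)))))))) (.node 2496 (.node 2464 (.node 2448 (.node 2440 (.node 2436 (.node 2434 (.node 2433 (.leaf 0x5919017a) (.leaf 0x591a032a)) (.node 2435 (.leaf 0x591b0674) (.leaf 0x591c0676))) (.node 2438 (.node 2437 (.leaf 0x591d032d) (.leaf 0x591e042f)) (.node 2439 (.leaf 0x591f017b) (.leaf 0x5920032c)))) (.node 2444 (.node 2442 (.node 2441 (.leaf 0x592103a7) (.leaf 0x59220678)) (.node 2443 (.leaf 0x5923032f) (.leaf 0x5924017c))) (.node 2446 (.node 2445 (.leaf 0x59250330) (.leaf 0x5926032e)) (.node 2447 (.leaf 0x5927067a) (.leaf 0x5928067c))))) (.node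 2456 (.node 2452 (.node 2450 (.node 2449 (.leaf 0x59290331) (.leaf 0x592a032e)) (.node 2451 (.leaf 0x592b032a) (.leaf 0x592c0330))) (.node 2454 (.node 2453 (.leaf 0x592d0332) (.leaf 0x592e067e)) (.node 2455 (.leaf 0x592f0333) (.leaf 0x59300301)))) (.node 2460 (.node 2458 (.node 2457 (.leaf 0x59310331) (.leaf 0x59320332)) (.node 2459 (.leaf 0x59330682) (.leaf 0x59340684))) (.node 2462 (.node 2461 (.leaf 0x59350335) (.leaf 0x59360686)) (.node 2463 (.leaf 0x5937017d) (.leaf 0x59380334)))))) (.node 2480 (.node 2472 (.node 2468 (.node 2466 (.node 2465 (.leaf 0x59390688) (.leaf 0x593a0185)) (.node 2467 (.leaf 0x593b0337) (.leaf 0x593c017d))) (.node 2470 (.node 2469 (.leaf 0x593d068a) (.leaf 0x593e0336)) (.node 2471 (.leaf 0x593f068e) (.leaf 0x59400690)))) (.node 2476 (.node 2474 (.node 2473 (.leaf 0x59410339) (.leaf 0x5942017f)) (.node 2475 (.leaf 0x5943064a) (.leaf 0x59440338))) (.node 2478 (.node 2477 (.leaf 0x59450652) (.leaf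 0x5946033b)) (.node 2479 (.leaf 0x5947033b) (.leaf 0x59480692))))) (.node 2488 (.node 2484 (.node 2482 (.node 2481 (.leaf 0x59490181) (.leaf 0x594a033a)) (.node 2483 (.leaf 0x594b0339) (.leaf 0x594c0694))) (.node 2486 (.node 2485 (.leaf 0x594d033d) (.leaf 0x594e0181)) (.node 2487 (.leaf 0x594f01b5) (.leaf 0x5950033c)))) (.node 2492 (.node 2490 (.node 2489 (.leaf 0x59510696) (.leaf 0x595201b9)) (.node 2491 (.leaf 0x5953033f) (.leaf 0x595401ae))) (.node 2494 (.node 2493 (.leaf 0x59550182) (.leaf 0x5956033e)) (.node 2495 (.leaf 0x59570698) (.leaf 0x5958069a))))))) (.node 2528 (.node 2512 (.node 2504 (.node 2500 (.node 2498 (.node 2497 (.leaf 0x59590341) (.leaf 0x595a0183)) (.node 2499 (.leaf 0x595b034b) (.leaf 0x595c0340))) (.node 2502 (.node 2501 (.leaf 0x595d0653) (.leaf 0x595e069c)) (.node 2503 (.leaf 0x595f0343) (.leaf 0x59600185)))) (.node 2508 (.node 2506 (.node 2505 (.leaf 0x5961069e) (.leaf 0x59620342)) (.node 2507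 (.leaf 0x596301a9) (.leaf 0x5964065d))) (.node 2510 (.node 2509 (.leaf 0x59650345) (.leaf 0x59660186)) (.node 2511 (.leaf 0x59670346) (.leaf 0x59680344))))) (.node 2520 (.node 2516 (.node 2514 (.node 2513 (.leaf 0x59690388) (.leaf 0x596a02f3)) (.node 2515 (.leaf 0x596b0347) (.leaf 0x596c0344))) (.node 2518 (.node 2517 (.leaf 0x596d019e) (.leaf 0x596e0346)) (.node 2519 (.leaf 0x596f037d) (.leaf 0x59700348)))) (.node 2524 (.node 2522 (.node 2521 (.leaf 0x59710349) (.leaf 0x59720347)) (.node 2523 (.leaf 0x597302dd) (.leaf 0x59740348))) (.node 2526 (.node 2525 (.leaf 0x597505c2) (.leaf 0x597606a4)) (.node 2527 (.leaf 0x5977034b) (.leaf 0x597806a6)))))) (.node 2544 (.node 2536 (.node 2532 (.node 2530 (.node 2529 (.leaf 0x59790187) (.leaf 0x597a034a)) (.node 2531 (.leaf 0x597b0340) (.leaf 0x597c031f))) (.node 2534 (.node 2533 (.leaf 0x597d034d) (.leaf 0x597e0187)) (.node 2535 (.leaf 0x597f019f) (.leaf 0x5980034c)))) (.node 2540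 (.node 2538 (.node 2537 (.leaf 0x598106a8) (.leaf 0x598206aa)) (.node 2539 (.leaf 0x5983034f) (.leaf 0x59840685))) (.node 2542 (.node 2541 (.leaf 0x59850189) (.leaf 0x5986034e)) (.node 2543 (.leaf 0x598705a6) (.leaf 0x59880427))))) (.node 2552 (.node 2548 (.node 2546 (.node 2545 (.leaf 0x59890351) (.leaf 0x598a0189)) (.node 2547 (.leaf 0x598b06ac) (.leaf 0x598c0350))) (.node 2550 (.node 2549 (.leaf 0x598d06b0) (.leaf 0x598e02af)) (.node 2551 (.leaf 0x598f0353) (.leaf 0x59900354)))) (.node 2556 (.node 2554 (.node 2553 (.leaf 0x5991018a) (.leaf 0x59920352)) (.node 2555 (.leaf 0x599306b2) (.leaf 0x599406b4))) (.node 2558 (.node 2557 (.leaf 0x59950355) (.leaf 0x59960302)) (.node 2559 (.leaf 0x59970352) (.leaf 0x59980354))))))))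

/-- block of `tab` -/
def tab_10 : Tr := .node 2688 (.node 2624 (.node 2592 (.node 2576 (.node 2568 (.node 2564 (.node 2562 (.node 2561 (.leaf 0x599906b6) (.leaf 0x599a06b8)) (.node 2563 (.leaf 0x599b0357) (.leaf 0x599c06ba))) (.node 2566 (.node 2565 (.leaf 0x599d018b) (.leaf 0x599e0356)) (.node 2567 (.leaf 0x599f06ab) (.leaf 0x59a006bc)))) (.node 2572 (.node 2570 (.node 2569 (.leaf 0x59a10359) (.leaf 0x59a2018b)) (.node 2571 (.leaf 0x59a306be) (.leaf 0x59a40358))) (.node 2574 (.node 2573 (.leaf 0x59a506b1) (.leaf 0x59a60491)) (.node 2575 (.leaf 0x59a7035b) (.leaf 0x59a806c2))))) (.node 2584 (.node 2580 (.node 2578 (.node 2577 (.leaf 0x59a9018d) (.leaf 0x59aa035a)) (.node 2579 (.leaf 0x59ab06c4) (.leaf 0x59ac01fd))) (.node 2582 (.node 2581 (.leaf 0x59ad035d) (.leaf 0x59ae018d)) (.node 2583 (.leaf 0x59af025f) (.leaf 0x59b0035c)))) (.node 2588 (.node 2586 (.node 2585 (.leaf 0x59b104f2) (.leaf 0x59b20229)) (.node 2587 (.leaf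 0x59b3035f) (.leaf 0x59b4018f))) (.node 2590 (.node 2589 (.leaf 0x59b50556) (.leaf 0x59b6035e)) (.node 2591 (.leaf 0x59b704aa) (.leaf 0x59b8021c)))))) (.node 2608 (.node 2600 (.node 2596 (.node 2594 (.node 2593 (.leaf 0x59b90361) (.leaf 0x59ba0366)) (.node 2595 (.leaf 0x59bb0190) (.leaf 0x59bc0360))) (.node 2598 (.node 2597 (.leaf 0x59bd06c6) (.leaf 0x59be06c8)) (.node 2599 (.leaf 0x59bf0363) (.leaf 0x59c003b6)))) (.node 2604 (.node 2602 (.node 2601 (.leaf 0x59c10191) (.leaf 0x59c20362)) (.node 2603 (.leaf 0x59c302ed) (.leaf 0x59c4060a))) (.node 2606 (.node 2605 (.leaf 0x59c50365) (.leaf 0x59c60192)) (.node 2607 (.leaf 0x59c70366) (.leaf 0x59c80364))))) (.node 2616 (.node 2612 (.node 2610 (.node 2609 (.leaf 0x59c904bb) (.leaf 0x59ca06ca)) (.node 2611 (.leaf 0x59cb0367) (.leaf 0x59cc0364))) (.node 2614 (.node 2613 (.leaf 0x59cd0360) (.leaf 0x59ce0366)) (.node 2615 (.leaf 0x59cf03ce) (.leaf 0x59d0025d)))) (.node 2620 (.node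 2618 (.node 2617 (.leaf 0x59d10369) (.leaf 0x59d206cc)) (.node 2619 (.leaf 0x59d30193) (.leaf 0x59d40368))) (.node 2622 (.node 2621 (.leaf 0x59d506ce) (.leaf 0x59d6036f)) (.node 2623 (.leaf 0x59d7036b) (.leaf 0x59d80193))))))) (.node 2656 (.node 2640 (.node 2632 (.node 2628 (.node 2626 (.node 2625 (.leaf 0x59d906d0) (.leaf 0x59da036a)) (.node 2627 (.leaf 0x59db06d4) (.leaf 0x59dc01b7))) (.node 2630 (.node 2629 (.leaf 0x59dd036d) (.leaf 0x59de036e)) (.node 2631 (.leaf 0x59df0195) (.leaf 0x59e0036c)))) (.node 2636 (.node 2634 (.node 2633 (.leaf 0x59e101af) (.leaf 0x59e206d6)) (.node 2635 (.leaf 0x59e3036f) (.leaf 0x59e40195))) (.node 2638 (.node 2637 (.leaf 0x59e5036c) (.leaf 0x59e6036e)) (.node 2639 (.leaf 0x59e70369) (.leaf 0x59e806d8))))) (.node 2648 (.node 2644 (.node 2642 (.node 2641 (.leaf 0x59e90371) (.leaf 0x59ea0376)) (.node 2643 (.leaf 0x59eb0196) (.leaf 0x59ec0370))) (.node 2646 (.node 2645 (.leaf 0x59ed02b6)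 (.leaf 0x59ee01f5)) (.node 2647 (.leaf 0x59ef0373) (.leaf 0x59f00396)))) (.node 2652 (.node 2650 (.node 2649 (.leaf 0x59f10197) (.leaf 0x59f20372)) (.node 2651 (.leaf 0x59f306da) (.leaf 0x59f401fb))) (.node 2654 (.node 2653 (.leaf 0x59f50375) (.leaf 0x59f60198)) (.node 2655 (.leaf 0x59f70376) (.leaf 0x59f80374)))))) (.node 2672 (.node 2664 (.node 2660 (.node 2658 (.node 2657 (.leaf 0x59f906dc) (.leaf 0x59fa06de)) (.node 2659 (.leaf 0x59fb0377) (.leaf 0x59fc0374))) (.node 2662 (.node 2661 (.leaf 0x59fd0370) (.leaf 0x59fe0376)) (.node 2663 (.leaf 0x59ff03a4) (.leaf 0x5a0006e0)))) (.node 2668 (.node 2666 (.node 2665 (.leaf 0x5a010379) (.leaf 0x5a0206e4)) (.node 2667 (.leaf 0x5a030199) (.leaf 0x5a040378))) (.node 2670 (.node 2669 (.leaf 0x5a0506e6) (.leaf 0x5a06037f)) (.node 2671 (.leaf 0x5a07037b) (.leaf 0x5a080199))))) (.node 2680 (.node 2676 (.node 2674 (.node 2673 (.leaf 0x5a0906e8) (.leaf 0x5a0a037a)) (.node 2675 (.leaf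 0x5a0b06ec) (.leaf 0x5a0c01b1))) (.node 2678 (.node 2677 (.leaf 0x5a0d037d) (.leaf 0x5a0e0382)) (.node 2679 (.leaf 0x5a0f019a) (.leaf 0x5a10037c)))) (.node 2684 (.node 2682 (.node 2681 (.leaf 0x5a1106a2) (.leaf 0x5a120347)) (.node 2683 (.leaf 0x5a13037f) (.leaf 0x5a14019b))) (.node 2686 (.node 2685 (.leaf 0x5a150612) (.leaf 0x5a16037e)) (.node 2687 (.leaf 0x5a170379) (.leaf 0x5a1804d1)))))))) (.node 2752 (.node 2720 (.node 2704 (.node 2696 (.node 2692 (.node 2690 (.node 2689 (.leaf 0x5a190381) (.leaf 0x5a1a019c)) (.node 2691 (.leaf 0x5a1b0382) (.leaf 0x5a1c0380))) (.node 2694 (.node 2693 (.leaf 0x5a1d0479) (.leaf 0x5a1e02ef)) (.node 2695 (.leaf 0x5a1f0383) (.leaf 0x5a200380)))) (.node 2700 (.node 2698 (.node 2697 (.leaf 0x5a21037c) (.leaf 0x5a220382)) (.node 2699 (.leaf 0x5a2303d6) (.leaf 0x5a2401c0))) (.node 2702 (.node 2701 (.leaf 0x5a250385) (.leaf 0x5a26019d)) (.node 2703 (.leaf 0x5a2703d6) (.leaf 0x5a280384))))) (.node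 2712 (.node 2708 (.node 2706 (.node 2705 (.leaf 0x5a2905eb) (.leaf 0x5a2a06ee)) (.node 2707 (.leaf 0x5a2b0387) (.leaf 0x5a2c019f))) (.node 2710 (.node 2709 (.leaf 0x5a2d06a6) (.leaf 0x5a2e0386)) (.node 2711 (.leaf 0x5a2f03a9) (.leaf 0x5a3003ac)))) (.node 2716 (.node 2714 (.node 2713 (.leaf 0x5a310389) (.leaf 0x5a3202db)) (.node 2715 (.leaf 0x5a330345) (.leaf 0x5a340388))) (.node 2718 (.node 2717 (.leaf 0x5a3506f0) (.leaf 0x5a3605c6)) (.node 2719 (.leaf 0x5a37038b) (.leaf 0x5a38021d)))))) (.node 2736 (.node 2728 (.node 2724 (.node 2722 (.node 2721 (.leaf 0x5a3901a1) (.leaf 0x5a3a038a)) (.node 2723 (.leaf 0x5a3b0227) (.leaf 0x5a3c0570))) (.node 2726 (.node 2725 (.leaf 0x5a3d038d) (.leaf 0x5a3e01a1)) (.node 2727 (.leaf 0x5a3f06f2) (.leaf 0x5a40038c)))) (.node 2732 (.node 2730 (.node 2729 (.leaf 0x5a4102d5) (.leaf 0x5a4206f4)) (.node 2731 (.leaf 0x5a43038f) (.leaf 0x5a4406f6))) (.node 2734 (.node 2733 (.leaf 0x5a4501a3) (.leaf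 0x5a46038e)) (.node 2735 (.leaf 0x5a4701cd) (.leaf 0x5a4806f8))))) (.node 2744 (.node 2740 (.node 2738 (.node 2737 (.leaf 0x5a490391) (.leaf 0x5a4a01a3)) (.node 2739 (.leaf 0x5a4b06fa) (.leaf 0x5a4c0390))) (.node 2742 (.node 2741 (.leaf 0x5a4d0443) (.leaf 0x5a4e04c2)) (.node 2743 (.leaf 0x5a4f0393) (.leaf 0x5a5004de)))) (.node 2748 (.node 2746 (.node 2745 (.leaf 0x5a5101a5) (.leaf 0x5a520392)) (.node 2747 (.leaf 0x5a53025e) (.leaf 0x5a5404af))) (.node 2750 (.node 2749 (.leaf 0x5a550395) (.leaf 0x5a5601a6)) (.node 2751 (.leaf 0x5a570396) (.leaf 0x5a580394))))))) (.node 2784 (.node 2768 (.node 2760 (.node 2756 (.node 2754 (.node 2753 (.leaf 0x5a5906fe) (.leaf 0x5a5a0700)) (.node 2755 (.leaf 0x5a5b0397) (.leaf 0x5a5c0394))) (.node 2758 (.node 2757 (.leaf 0x5a5d0372) (.leaf 0x5a5e0396)) (.node 2759 (.leaf 0x5a5f0702) (.leaf 0x5a600704)))) (.node 2764 (.node 2762 (.node 2761 (.leaf 0x5a610399) (.leaf 0x5a620706)) (.node 2763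 (.leaf 0x5a6301a7) (.leaf 0x5a640398))) (.node 2766 (.node 2765 (.leaf 0x5a65046d) (.leaf 0x5a6606f9)) (.node 2767 (.leaf 0x5a67039b) (.leaf 0x5a6801a7))))) (.node 2776 (.node 2772 (.node 2770 (.node 2769 (.leaf 0x5a690708) (.leaf 0x5a6a039a)) (.node 2771 (.leaf 0x5a6b070c) (.leaf 0x5a6c06a9))) (.node 2774 (.node 2773 (.leaf 0x5a6d039d) (.leaf 0x5a6e03a2)) (.node 2775 (.leaf 0x5a6f01a8) (.leaf 0x5a70039c)))) (.node 2780 (.node 2778 (.node 2777 (.leaf 0x5a71070e) (.leaf 0x5a720710)) (.node 2779 (.leaf 0x5a73039f) (.leaf 0x5a740712))) (.node 2782 (.node 2781 (.leaf 0x5a7501a9) (.leaf 0x5a76039e)) (.node 2783 (.leaf 0x5a770714) (.leaf 0x5a780716)))))) (.node 2800 (.node 2792 (.node 2788 (.node 2786 (.node 2785 (.leaf 0x5a7903a1) (.leaf 0x5a7a01aa)) (.node 2787 (.leaf 0x5a7b03a2) (.leaf 0x5a7c03a0))) (.node 2790 (.node 2789 (.leaf 0x5a7d071a) (.leaf 0x5a7e071c)) (.node 2791 (.leaf 0x5a7f03a3) (.leaf 0x5a8003a0)))) (.node 2796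 (.node 2794 (.node 2793 (.leaf 0x5a81039c) (.leaf 0x5a8203a2)) (.node 2795 (.leaf 0x5a83071e) (.leaf 0x5a8403a4))) (.node 2798 (.node 2797 (.leaf 0x5a8503a5) (.leaf 0x5a8603a3)) (.node 2799 (.leaf 0x5a870377) (.leaf 0x5a8803a4))))) (.node 2808 (.node 2804 (.node 2802 (.node 2801 (.leaf 0x5a8906fb) (.leaf 0x5a8a0722)) (.node 2803 (.leaf 0x5a8b03a7) (.leaf 0x5a8c01ab))) (.node 2806 (.node 2805 (.leaf 0x5a8d0435) (.leaf 0x5a8e03a6)) (.node 2807 (.leaf 0x5a8f0678) (.leaf 0x5a90032d)))) (.node 2812 (.node 2810 (.node 2809 (.leaf 0x5a9103a9) (.leaf 0x5a9203aa)) (.node 2811 (.leaf 0x5a9301ad) (.leaf 0x5a9403a8))) (.node 2814 (.node 2813 (.leaf 0x5a9506d6) (.leaf 0x5a960387)) (.node 2815 (.leaf 0x5a9703ab) (.leaf 0x5a9801ad))))))))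

/-- block of `tab` -/
def tab_11 : Tr := .node 2944 (.node 2880 (.node 2848 (.node 2832 (.node 2824 (.node 2820 (.node 2818 (.node 2817 (.leaf 0x5a9903a8) (.leaf 0x5a9a03aa)) (.node 2819 (.leaf 0x5a9b03d1) (.leaf 0x5a9c0724))) (.node 2822 (.node 2821 (.leaf 0x5a9d03ad) (.leaf 0x5a9e0387)) (.node 2823 (.leaf 0x5a9f01af) (.leaf 0x5aa003ac)))) (.node 2828 (.node 2826 (.node 2825 (.leaf 0x5aa10726) (.leaf 0x5aa20695)) (.node 2827 (.leaf 0x5aa303af) (.leaf 0x5aa403b0))) (.node 2830 (.node 2829 (.leaf 0x5aa501b0) (.leaf 0x5aa603ae)) (.node 2831 (.leaf 0x5aa7072a) (.leaf 0x5aa8072c))))) (.node 2840 (.node 2836 (.node 2834 (.node 2833 (.leaf 0x5aa903b1) (.leaf 0x5aaa02ec)) (.node 2835 (.leaf 0x5aab03ae) (.leaf 0x5aac03b0))) (.node 2838 (.node 2837 (.leaf 0x5aad072e) (.leaf 0x5aae05b6)) (.node 2839 (.leaf 0x5aaf03b3) (.leaf 0x5ab001b1)))) (.node 2844 (.node 2842 (.node 2841 (.leaf 0x5ab10403) (.leaf 0x5ab203b2)) (.node 2843 (.leaf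 0x5ab30467) (.leaf 0x5ab40732))) (.node 2846 (.node 2845 (.leaf 0x5ab503b5) (.leaf 0x5ab601b2)) (.node 2847 (.leaf 0x5ab703b6) (.leaf 0x5ab803b4)))))) (.node 2864 (.node 2856 (.node 2852 (.node 2850 (.node 2849 (.leaf 0x5ab90734) (.leaf 0x5aba0736)) (.node 2851 (.leaf 0x5abb03b7) (.leaf 0x5abc03b4))) (.node 2854 (.node 2853 (.leaf 0x5abd0362) (.leaf 0x5abe03b6)) (.node 2855 (.leaf 0x5abf05aa) (.leaf 0x5ac00738)))) (.node 2860 (.node 2858 (.node 2857 (.leaf 0x5ac103b9) (.leaf 0x5ac2058b)) (.node 2859 (.leaf 0x5ac301b3) (.leaf 0x5ac403b8))) (.node 2862 (.node 2861 (.leaf 0x5ac5073c) (.leaf 0x5ac605b1)) (.node 2863 (.leaf 0x5ac703bb) (.leaf 0x5ac801b5))))) (.node 2872 (.node 2868 (.node 2866 (.node 2865 (.leaf 0x5ac90692) (.leaf 0x5aca03ba)) (.node 2867 (.leaf 0x5acb0315) (.leaf 0x5acc064e))) (.node 2870 (.node 2869 (.leaf 0x5acd03bd) (.leaf 0x5ace03c2)) (.node 2871 (.leaf 0x5acf01b6) (.leaf 0x5ad003bc)))) (.node 2876 (.node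 2874 (.node 2873 (.leaf 0x5ad1073e) (.leaf 0x5ad20740)) (.node 2875 (.leaf 0x5ad303bf) (.leaf 0x5ad401b7))) (.node 2878 (.node 2877 (.leaf 0x5ad50742) (.leaf 0x5ad603be)) (.node 2879 (.leaf 0x5ad70561) (.leaf 0x5ad80746))))))) (.node 2912 (.node 2896 (.node 2888 (.node 2884 (.node 2882 (.node 2881 (.leaf 0x5ad903c1) (.leaf 0x5ada01b8)) (.node 2883 (.leaf 0x5adb03c2) (.leaf 0x5adc03c0))) (.node 2886 (.node 2885 (.leaf 0x5add0748) (.leaf 0x5ade0687)) (.node 2887 (.leaf 0x5adf03c3) (.leaf 0x5ae003c0)))) (.node 2892 (.node 2890 (.node 2889 (.leaf 0x5ae103bc) (.leaf 0x5ae203c2)) (.node 2891 (.leaf 0x5ae3074a) (.leaf 0x5ae4074c))) (.node 2894 (.node 2893 (.leaf 0x5ae503c5) (.leaf 0x5ae601b9)) (.node 2895 (.leaf 0x5ae7074e) (.leaf 0x5ae803c4))))) (.node 2904 (.node 2900 (.node 2898 (.node 2897 (.leaf 0x5ae90752) (.leaf 0x5aea0754)) (.node 2899 (.leaf 0x5aeb03c7) (.leaf 0x5aec03cc))) (.node 2902 (.node 2901 (.leaf 0x5aed01ba)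 (.leaf 0x5aee03c6)) (.node 2903 (.leaf 0x5aef0756) (.leaf 0x5af00758)))) (.node 2908 (.node 2906 (.node 2905 (.leaf 0x5af103c9) (.leaf 0x5af204cc)) (.node 2907 (.leaf 0x5af301bb) (.leaf 0x5af403c8))) (.node 2910 (.node 2909 (.leaf 0x5af50311) (.leaf 0x5af60640)) (.node 2911 (.leaf 0x5af703cb) (.leaf 0x5af801bc)))))) (.node 2928 (.node 2920 (.node 2916 (.node 2914 (.node 2913 (.leaf 0x5af903cc) (.leaf 0x5afa03ca)) (.node 2915 (.leaf 0x5afb075a) (.leaf 0x5afc075c))) (.node 2918 (.node 2917 (.leaf 0x5afd03cd) (.leaf 0x5afe03ca)) (.node 2919 (.leaf 0x5aff03c6) (.leaf 0x5b0003cc)))) (.node 2924 (.node 2922 (.node 2921 (.leaf 0x5b01075e) (.leaf 0x5b0203ce)) (.node 2923 (.leaf 0x5b0303cf) (.leaf 0x5b0403cd))) (.node 2926 (.node 2925 (.leaf 0x5b050367) (.leaf 0x5b0603ce)) (.node 2927 (.leaf 0x5b070760) (.leaf 0x5b080762))))) (.node 2936 (.node 2932 (.node 2930 (.node 2929 (.leaf 0x5b0903d1) (.leaf 0x5b0a0745)) (.node 2931 (.leaf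 0x5b0b01bd) (.leaf 0x5b0c03d0))) (.node 2934 (.node 2933 (.leaf 0x5b0d0764) (.leaf 0x5b0e03ab)) (.node 2935 (.leaf 0x5b0f03d3) (.leaf 0x5b1001bd)))) (.node 2940 (.node 2938 (.node 2937 (.leaf 0x5b110766) (.leaf 0x5b1203d2)) (.node 2939 (.leaf 0x5b130768) (.leaf 0x5b14076a))) (.node 2942 (.node 2941 (.leaf 0x5b1503d5) (.leaf 0x5b1601bf)) (.node 2943 (.leaf 0x5b170648) (.leaf 0x5b1803d4)))))))) (.node 3008 (.node 2976 (.node 2960 (.node 2952 (.node 2948 (.node 2946 (.node 2945 (.leaf 0x5b19045d) (.leaf 0x5b1a076c)) (.node 2947 (.leaf 0x5b1b03d7) (.leaf 0x5b1c0384))) (.node 2950 (.node 2949 (.leaf 0x5b1d0383) (.leaf 0x5b1e03d6)) (.node 2951 (.leaf 0x5b1f0694) (.leaf 0x5b200319)))) (.node 2956 (.node 2954 (.node 2953 (.leaf 0x5b2103d9) (.leaf 0x5b22076e)) (.node 2955 (.leaf 0x5b2301c1) (.leaf 0x5b2403d8))) (.node 2958 (.node 2957 (.leaf 0x5b25076b) (.leaf 0x5b260770)) (.node 2959 (.leaf 0x5b2703db) (.leaf 0x5b2803de))))) (.node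 2968 (.node 2964 (.node 2962 (.node 2961 (.leaf 0x5b2901c2) (.leaf 0x5b2a03da)) (.node 2963 (.leaf 0x5b2b04fb) (.leaf 0x5b2c0571))) (.node 2966 (.node 2965 (.leaf 0x5b2d03dd) (.leaf 0x5b2e01c4)) (.node 2967 (.leaf 0x5b2f03de) (.leaf 0x5b3003dc)))) (.node 2972 (.node 2970 (.node 2969 (.leaf 0x5b310657) (.leaf 0x5b3205c9)) (.node 2971 (.leaf 0x5b3303df) (.leaf 0x5b3403dc))) (.node 2974 (.node 2973 (.leaf 0x5b3503da) (.leaf 0x5b3603de)) (.node 2975 (.leaf 0x5b3701cb) (.leaf 0x5b38053a)))))) (.node 2992 (.node 2984 (.node 2980 (.node 2978 (.node 2977 (.leaf 0x5b3903e1) (.leaf 0x5b3a0774)) (.node 2979 (.leaf 0x5b3b01c5) (.leaf 0x5b3c03e0))) (.node 2982 (.node 2981 (.leaf 0x5b3d0776) (.leaf 0x5b3e01c7)) (.node 2983 (.leaf 0x5b3f03e3) (.leaf 0x5b4001c5)))) (.node 2988 (.node 2986 (.node 2985 (.leaf 0x5b410778) (.leaf 0x5b4203e2)) (.node 2987 (.leaf 0x5b43077c) (.leaf 0x5b44077e))) (.node 2990 (.node 2989 (.leaf 0x5b4503e5) (.leaf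 0x5b4601c6)) (.node 2991 (.leaf 0x5b4703e6) (.leaf 0x5b4803e4))))) (.node 3000 (.node 2996 (.node 2994 (.node 2993 (.leaf 0x5b49071d) (.leaf 0x5b4a0780)) (.node 2995 (.leaf 0x5b4b03e7) (.leaf 0x5b4c03e4))) (.node 2998 (.node 2997 (.leaf 0x5b4d02b0) (.leaf 0x5b4e03e6)) (.node 2999 (.leaf 0x5b4f0782) (.leaf 0x5b500675)))) (.node 3004 (.node 3002 (.node 3001 (.leaf 0x5b5103e9) (.leaf 0x5b5201c7)) (.node 3003 (.leaf 0x5b530784) (.leaf 0x5b5403e8))) (.node 3006 (.node 3005 (.leaf 0x5b550788) (.leaf 0x5b56078a)) (.node 3007 (.leaf 0x5b5703eb) (.leaf 0x5b58078c))))))) (.node 3040 (.node 3024 (.node 3016 (.node 3012 (.node 3010 (.node 3009 (.leaf 0x5b5901c9) (.leaf 0x5b5a03ea)) (.node 3011 (.leaf 0x5b5b078e) (.leaf 0x5b5c0790))) (.node 3014 (.node 3013 (.leaf 0x5b5d03ed) (.leaf 0x5b5e01c9)) (.node 3015 (.leaf 0x5b5f0792) (.leaf 0x5b6003ec)))) (.node 3020 (.node 3018 (.node 3017 (.leaf 0x5b6104ff) (.leaf 0x5b62059d)) (.node 3019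 (.leaf 0x5b6303ef) (.leaf 0x5b640796))) (.node 3022 (.node 3021 (.leaf 0x5b6501cd) (.leaf 0x5b6603ee)) (.node 3023 (.leaf 0x5b670798) (.leaf 0x5b680791))))) (.node 3032 (.node 3028 (.node 3026 (.node 3025 (.leaf 0x5b6903f1) (.leaf 0x5b6a03f8)) (.node 3027 (.leaf 0x5b6b01ce) (.leaf 0x5b6c03f0))) (.node 3030 (.node 3029 (.leaf 0x5b6d079c) (.leaf 0x5b6e06ed)) (.node 3031 (.leaf 0x5b6f03f3) (.leaf 0x5b70079e)))) (.node 3036 (.node 3034 (.node 3033 (.leaf 0x5b7101cf) (.leaf 0x5b7203f2)) (.node 3035 (.leaf 0x5b7307a0) (.leaf 0x5b740646))) (.node 3038 (.node 3037 (.leaf 0x5b7503f5) (.leaf 0x5b7601cf)) (.node 3039 (.leaf 0x5b7707a2) (.leaf 0x5b7803f4)))))) (.node 3056 (.node 3048 (.node 3044 (.node 3042 (.node 3041 (.leaf 0x5b7901dd) (.leaf 0x5b7a042a)) (.node 3043 (.leaf 0x5b7b03f7) (.leaf 0x5b7c01d0))) (.node 3046 (.node 3045 (.leaf 0x5b7d03f8) (.leaf 0x5b7e03f6)) (.node 3047 (.leaf 0x5b7f0575) (.leaf 0x5b8007a6)))) (.node 3052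 (.node 3050 (.node 3049 (.leaf 0x5b8103f9) (.leaf 0x5b8203f6)) (.node 3051 (.leaf 0x5b8303f0) (.leaf 0x5b8403f8))) (.node 3054 (.node 3053 (.leaf 0x5b850277) (.leaf 0x5b8603fa)) (.node 3055 (.leaf 0x5b8703fb) (.leaf 0x5b8803f9))))) (.node 3064 (.node 3060 (.node 3058 (.node 3057 (.leaf 0x5b890239) (.leaf 0x5b8a03fa)) (.node 3059 (.leaf 0x5b8b057a) (.leaf 0x5b8c0574))) (.node 3062 (.node 3061 (.leaf 0x5b8d03fd) (.leaf 0x5b8e07a8)) (.node 3063 (.leaf 0x5b8f01d1) (.leaf 0x5b9003fc)))) (.node 3068 (.node 3066 (.node 3065 (.leaf 0x5b9107aa) (.leaf 0x5b9202ab)) (.node 3067 (.leaf 0x5b9303ff) (.leaf 0x5b9401d1))) (.node 3070 (.node 3069 (.leaf 0x5b9507ac) (.leaf 0x5b9603fe)) (.node 3071 (.leaf 0x5b970577) (.leaf 0x5b9807b0))))))))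

/-- block of `tab` -/
def tab_12 : Tr := .node 3200 (.node 3136 (.node 3104 (.node 3088 (.node 3080 (.node 3076 (.node 3074 (.node 3073 (.leaf 0x5b990401) (.leaf 0x5b9a01d3)) (.node 3075 (.leaf 0x5b9b04ec) (.leaf 0x5b9c0400))) (.node 3078 (.node 3077 (.leaf 0x5b9d05b9) (.leaf 0x5b9e07b2)) (.node 3079 (.leaf 0x5b9f0403) (.leaf 0x5ba00651)))) (.node 3084 (.node 3082 (.node 3081 (.leaf 0x5ba101d5) (.leaf 0x5ba20402)) (.node 3083 (.leaf 0x5ba303b2) (.leaf 0x5ba40730))) (.node 3086 (.node 3085 (.leaf 0x5ba50405) (.leaf 0x5ba601e5)) (.node 3087 (.leaf 0x5ba701d7) (.leaf 0x5ba80404))))) (.node 3096 (.node 3092 (.node 3090 (.node 3089 (.leaf 0x5ba907b1) (.leaf 0x5baa07b4)) (.node 3091 (.leaf 0x5bab0407) (.leaf 0x5bac07b6))) (.node 3094 (.node 3093 (.leaf 0x5bad01d9) (.leaf 0x5bae0406)) (.node 3095 (.leaf 0x5baf07b8) (.leaf 0x5bb007ba)))) (.node 3100 (.node 3098 (.node 3097 (.leaf 0x5bb10409) (.leaf 0x5bb201d9)) (.node 3099 (.leaf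 0x5bb307bc) (.leaf 0x5bb40408))) (.node 3102 (.node 3101 (.leaf 0x5bb50581) (.leaf 0x5bb607c0)) (.node 3103 (.leaf 0x5bb7040b) (.leaf 0x5bb801db)))))) (.node 3120 (.node 3112 (.node 3108 (.node 3106 (.node 3105 (.leaf 0x5bb907c2) (.leaf 0x5bba040a)) (.node 3107 (.leaf 0x5bbb04ea) (.leaf 0x5bbc04e5))) (.node 3110 (.node 3109 (.leaf 0x5bbd040d) (.leaf 0x5bbe0410)) (.node 3111 (.leaf 0x5bbf01dc) (.leaf 0x5bc0040c)))) (.node 3116 (.node 3114 (.node 3113 (.leaf 0x5bc107c6) (.leaf 0x5bc2053f)) (.node 3115 (.leaf 0x5bc3040f) (.leaf 0x5bc401de))) (.node 3118 (.node 3117 (.leaf 0x5bc50410) (.leaf 0x5bc6040e)) (.node 3119 (.leaf 0x5bc70623) (.leaf 0x5bc804e0))))) (.node 3128 (.node 3124 (.node 3122 (.node 3121 (.leaf 0x5bc90411) (.leaf 0x5bca040e)) (.node 3123 (.leaf 0x5bcb040c) (.leaf 0x5bcc0410))) (.node 3126 (.node 3125 (.leaf 0x5bcd07c8) (.leaf 0x5bce07ca)) (.node 3127 (.leaf 0x5bcf0413) (.leaf 0x5bd0029b)))) (.node 3132 (.node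 3130 (.node 3129 (.leaf 0x5bd101df) (.leaf 0x5bd20412)) (.node 3131 (.leaf 0x5bd307cc) (.leaf 0x5bd407bb))) (.node 3134 (.node 3133 (.leaf 0x5bd50415) (.leaf 0x5bd6022c)) (.node 3135 (.leaf 0x5bd701e1) (.leaf 0x5bd80414))))))) (.node 3168 (.node 3152 (.node 3144 (.node 3140 (.node 3138 (.node 3137 (.leaf 0x5bd907ce) (.leaf 0x5bda07d0)) (.node 3139 (.leaf 0x5bdb0417) (.leaf 0x5bdc041c))) (.node 3142 (.node 3141 (.leaf 0x5bdd01e2) (.leaf 0x5bde0416)) (.node 3143 (.leaf 0x5bdf0767) (.leaf 0x5be007d2)))) (.node 3148 (.node 3146 (.node 3145 (.leaf 0x5be10419) (.leaf 0x5be20601)) (.node 3147 (.leaf 0x5be301e3) (.leaf 0x5be40418))) (.node 3150 (.node 3149 (.leaf 0x5be5020f) (.leaf 0x5be607d4)) (.node 3151 (.leaf 0x5be7041b) (.leaf 0x5be801e4))))) (.node 3160 (.node 3156 (.node 3154 (.node 3153 (.leaf 0x5be9041c) (.leaf 0x5bea041a)) (.node 3155 (.leaf 0x5beb07d8) (.leaf 0x5bec07da))) (.node 3158 (.node 3157 (.leaf 0x5bed041d)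 (.leaf 0x5bee041a)) (.node 3159 (.leaf 0x5bef0416) (.leaf 0x5bf0041c)))) (.node 3164 (.node 3162 (.node 3161 (.leaf 0x5bf1044c) (.leaf 0x5bf20455)) (.node 3163 (.leaf 0x5bf3041f) (.leaf 0x5bf40422))) (.node 3166 (.node 3165 (.leaf 0x5bf501e7) (.leaf 0x5bf6041e)) (.node 3167 (.leaf 0x5bf707dc) (.leaf 0x5bf807de)))))) (.node 3184 (.node 3176 (.node 3172 (.node 3170 (.node 3169 (.leaf 0x5bf90425) (.leaf 0x5bfa01e7)) (.node 3171 (.leaf 0x5bfb0421) (.leaf 0x5bfc0424))) (.node 3174 (.node 3173 (.leaf 0x5bfd0420) (.leaf 0x5bfe027d)) (.node 3175 (.leaf 0x5bff0423) (.leaf 0x5c00027d)))) (.node 3180 (.node 3178 (.node 3177 (.leaf 0x5c01041e) (.leaf 0x5c020422)) (.node 3179 (.leaf 0x5c030499) (.leaf 0x5c0407e0))) (.node 3182 (.node 3181 (.leaf 0x5c050421) (.leaf 0x5c0607e2)) (.node 3183 (.leaf 0x5c0707e4) (.leaf 0x5c080420))))) (.node 3192 (.node 3188 (.node 3186 (.node 3185 (.leaf 0x5c0907e6) (.leaf 0x5c0a07e8)) (.node 3187 (.leaf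 0x5c0b0427) (.leaf 0x5c0c04ab))) (.node 3190 (.node 3189 (.leaf 0x5c0d01e9) (.leaf 0x5c0e0426)) (.node 3191 (.leaf 0x5c0f034f) (.leaf 0x5c1007ea)))) (.node 3196 (.node 3194 (.node 3193 (.leaf 0x5c110429) (.leaf 0x5c1201e9)) (.node 3195 (.leaf 0x5c130522) (.leaf 0x5c140428))) (.node 3198 (.node 3197 (.leaf 0x5c1507ec) (.leaf 0x5c16054e)) (.node 3199 (.leaf 0x5c17042b) (.leaf 0x5c1803f5)))))))) (.node 3264 (.node 3232 (.node 3216 (.node 3208 (.node 3204 (.node 3202 (.node 3201 (.leaf 0x5c1901eb) (.leaf 0x5c1a042a)) (.node 3203 (.leaf 0x5c1b07ee) (.leaf 0x5c1c07f0))) (.node 3206 (.node 3205 (.leaf 0x5c1d042d) (.leaf 0x5c1e01ef)) (.node 3207 (.leaf 0x5c1f057d) (.leaf 0x5c20042c)))) (.node 3212 (.node 3210 (.node 3209 (.leaf 0x5c2107f2) (.leaf 0x5c2207f4)) (.node 3211 (.leaf 0x5c23042f) (.leaf 0x5c2407f6))) (.node 3214 (.node 3213 (.leaf 0x5c2501f0) (.leaf 0x5c26042e)) (.node 3215 (.leaf 0x5c270435) (.leaf 0x5c28032c))))) (.node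 3224 (.node 3220 (.node 3218 (.node 3217 (.leaf 0x5c290431) (.leaf 0x5c2a01f0)) (.node 3219 (.leaf 0x5c2b07f8) (.leaf 0x5c2c0430))) (.node 3222 (.node 3221 (.leaf 0x5c2d07fa) (.leaf 0x5c2e07fc)) (.node 3223 (.leaf 0x5c2f0433) (.leaf 0x5c3007fe)))) (.node 3228 (.node 3226 (.node 3225 (.leaf 0x5c3101f1) (.leaf 0x5c320432)) (.node 3227 (.leaf 0x5c330800) (.leaf 0x5c3407df))) (.node 3230 (.node 3229 (.leaf 0x5c350435) (.leaf 0x5c3601f1)) (.node 3231 (.leaf 0x5c370802) (.leaf 0x5c380434)))))) (.node 3248 (.node 3240 (.node 3236 (.node 3234 (.node 3233 (.leaf 0x5c3903a6) (.leaf 0x5c3a042f)) (.node 3235 (.leaf 0x5c3b0439) (.leaf 0x5c3c0437))) (.node 3238 (.node 3237 (.leaf 0x5c3d01f3) (.leaf 0x5c3e0438)) (.node 3239 (.leaf 0x5c3f0253) (.leaf 0x5c400436)))) (.node 3244 (.node 3242 (.node 3241 (.leaf 0x5c410437) (.leaf 0x5c420804)) (.node 3243 (.leaf 0x5c430806) (.leaf 0x5c440436))) (.node 3246 (.node 3245 (.leaf 0x5c450808) (.leaf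 0x5c46080a)) (.node 3247 (.leaf 0x5c47043b) (.leaf 0x5c4801f3))))) (.node 3256 (.node 3252 (.node 3250 (.node 3249 (.leaf 0x5c49043c) (.leaf 0x5c4a043a)) (.node 3251 (.leaf 0x5c4b07fb) (.leaf 0x5c4c080c))) (.node 3254 (.node 3253 (.leaf 0x5c4d043d) (.leaf 0x5c4e043a)) (.node 3255 (.leaf 0x5c4f0253) (.leaf 0x5c50043c)))) (.node 3260 (.node 3258 (.node 3257 (.leaf 0x5c51080e) (.leaf 0x5c520501)) (.node 3259 (.leaf 0x5c53043f) (.leaf 0x5c5401f5))) (.node 3262 (.node 3261 (.leaf 0x5c5502b4) (.leaf 0x5c56043e)) (.node 3263 (.leaf 0x5c570810) (.leaf 0x5c580812))))))) (.node 3296 (.node 3280 (.node 3272 (.node 3268 (.node 3266 (.node 3265 (.leaf 0x5c590441) (.leaf 0x5c5a04b0)) (.node 3267 (.leaf 0x5c5b01f7) (.leaf 0x5c5c0440))) (.node 3270 (.node 3269 (.leaf 0x5c5d04ce) (.leaf 0x5c5e0814)) (.node 3271 (.leaf 0x5c5f0443) (.leaf 0x5c6001f7)))) (.node 3276 (.node 3274 (.node 3273 (.leaf 0x5c6104ae) (.leaf 0x5c620442)) (.node 3275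 (.leaf 0x5c630816) (.leaf 0x5c640391))) (.node 3278 (.node 3277 (.leaf 0x5c650445) (.leaf 0x5c66044a)) (.node 3279 (.leaf 0x5c6701f8) (.leaf 0x5c680444))))) (.node 3288 (.node 3284 (.node 3282 (.node 3281 (.leaf 0x5c690818) (.leaf 0x5c6a081a)) (.node 3283 (.leaf 0x5c6b0447) (.leaf 0x5c6c02a3))) (.node 3286 (.node 3285 (.leaf 0x5c6d01f9) (.leaf 0x5c6e0446)) (.node 3287 (.leaf 0x5c6f081c) (.leaf 0x5c70081e)))) (.node 3292 (.node 3290 (.node 3289 (.leaf 0x5c710449) (.leaf 0x5c7201fa)) (.node 3291 (.leaf 0x5c73044a) (.leaf 0x5c740448))) (.node 3294 (.node 3293 (.leaf 0x5c750820) (.leaf 0x5c76062d)) (.node 3295 (.leaf 0x5c77044b) (.leaf 0x5c780448)))))) (.node 3312 (.node 3304 (.node 3300 (.node 3298 (.node 3297 (.leaf 0x5c790444) (.leaf 0x5c7a044a)) (.node 3299 (.leaf 0x5c7b0509) (.leaf 0x5c7c044c))) (.node 3302 (.node 3301 (.leaf 0x5c7d044d) (.leaf 0x5c7e044b)) (.node 3303 (.leaf 0x5c7f041d) (.leaf 0x5c80044c)))) (.node 3308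 (.node 3306 (.node 3305 (.leaf 0x5c81044e) (.leaf 0x5c820450)) (.node 3307 (.leaf 0x5c83044f) (.leaf 0x5c8402aa))) (.node 3310 (.node 3309 (.leaf 0x5c85044d) (.leaf 0x5c86044e)) (.node 3311 (.leaf 0x5c870822) (.leaf 0x5c880824))))) (.node 3320 (.node 3316 (.node 3314 (.node 3313 (.leaf 0x5c890451) (.leaf 0x5c8a044d)) (.node 3315 (.leaf 0x5c8b02a8) (.leaf 0x5c8c0450))) (.node 3318 (.node 3317 (.leaf 0x5c8d0826) (.leaf 0x5c8e07ad)) (.node 3319 (.leaf 0x5c8f0453) (.leaf 0x5c9001fb)))) (.node 3324 (.node 3322 (.node 3321 (.leaf 0x5c9106cd) (.leaf 0x5c920452)) (.node 3323 (.leaf 0x5c93082a) (.leaf 0x5c9402d1))) (.node 3326 (.node 3325 (.leaf 0x5c950455) (.leaf 0x5c9601fc)) (.node 3327 (.leaf 0x5c970456) (.leaf 0x5c980454))))))))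

/-- block of `tab` -/
def tab_13 : Tr := .node 3456 (.node 3392 (.node 3360 (.node 3344 (.node 3336 (.node 3332 (.node 3330 (.node 3329 (.leaf 0x5c99041d) (.leaf 0x5c9a0533)) (.node 3331 (.leaf 0x5c9b0457) (.leaf 0x5c9c0454))) (.node 3334 (.node 3333 (.leaf 0x5c9d0282) (.leaf 0x5c9e0456)) (.node 3335 (.leaf 0x5c9f05e8) (.leaf 0x5ca0082c)))) (.node 3340 (.node 3338 (.node 3337 (.leaf 0x5ca10459) (.leaf 0x5ca201fd)) (.node 3339 (.leaf 0x5ca3082e) (.leaf 0x5ca40458))) (.node 3342 (.node 3341 (.leaf 0x5ca50766) (.leaf 0x5ca60745)) (.node 3343 (.leaf 0x5ca7045b) (.leaf 0x5ca80542))))) (.node 3352 (.node 3348 (.node 3346 (.node 3345 (.leaf 0x5ca901ff) (.leaf 0x5caa045a)) (.node 3347 (.leaf 0x5cab0832) (.leaf 0x5cac04db))) (.node 3350 (.node 3349 (.leaf 0x5cad045d) (.leaf 0x5cae0462)) (.node 3351 (.leaf 0x5caf0200) (.leaf 0x5cb0045c)))) (.node 3356 (.node 3354 (.node 3353 (.leaf 0x5cb10834) (.leaf 0x5cb203d5)) (.node 3355 (.leaf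 0x5cb3045f) (.leaf 0x5cb40201))) (.node 3358 (.node 3357 (.leaf 0x5cb50772) (.leaf 0x5cb6045e)) (.node 3359 (.leaf 0x5cb7020d) (.leaf 0x5cb80836)))))) (.node 3376 (.node 3368 (.node 3364 (.node 3362 (.node 3361 (.leaf 0x5cb90461) (.leaf 0x5cba0202)) (.node 3363 (.leaf 0x5cbb0462) (.leaf 0x5cbc0460))) (.node 3366 (.node 3365 (.leaf 0x5cbd0838) (.leaf 0x5cbe083a)) (.node 3367 (.leaf 0x5cbf0463) (.leaf 0x5cc00460)))) (.node 3372 (.node 3370 (.node 3369 (.leaf 0x5cc1045c) (.leaf 0x5cc20462)) (.node 3371 (.leaf 0x5cc305d3) (.leaf 0x5cc405d4))) (.node 3374 (.node 3373 (.leaf 0x5cc50465) (.leaf 0x5cc6083c)) (.node 3375 (.leaf 0x5cc70203) (.leaf 0x5cc80464))))) (.node 3384 (.node 3380 (.node 3378 (.node 3377 (.leaf 0x5cc9083b) (.leaf 0x5cca0471)) (.node 3379 (.leaf 0x5ccb0467) (.leaf 0x5ccc0203))) (.node 3382 (.node 3381 (.leaf 0x5ccd02bf) (.leaf 0x5cce0466)) (.node 3383 (.leaf 0x5ccf083e) (.leaf 0x5cd003b3)))) (.node 3388 (.node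 3386 (.node 3385 (.leaf 0x5cd10469) (.leaf 0x5cd20474)) (.node 3387 (.leaf 0x5cd30204) (.leaf 0x5cd40468))) (.node 3390 (.node 3389 (.leaf 0x5cd5046a) (.leaf 0x5cd6046c)) (.node 3391 (.leaf 0x5cd7046b) (.leaf 0x5cd80264))))))) (.node 3424 (.node 3408 (.node 3400 (.node 3396 (.node 3394 (.node 3393 (.leaf 0x5cd90469) (.leaf 0x5cda046a)) (.node 3395 (.leaf 0x5cdb048b) (.leaf 0x5cdc048b))) (.node 3398 (.node 3397 (.leaf 0x5cdd046d) (.leaf 0x5cde0469)) (.node 3399 (.leaf 0x5cdf0262) (.leaf 0x5ce0046c)))) (.node 3404 (.node 3402 (.node 3401 (.leaf 0x5ce10840) (.leaf 0x5ce20399)) (.node 3403 (.leaf 0x5ce3046f) (.leaf 0x5ce404ba))) (.node 3406 (.node 3405 (.leaf 0x5ce50205) (.leaf 0x5ce6046e)) (.node 3407 (.leaf 0x5ce706d5) (.leaf 0x5ce80842))))) (.node 3416 (.node 3412 (.node 3410 (.node 3409 (.leaf 0x5ce90471) (.leaf 0x5cea0205)) (.node 3411 (.leaf 0x5ceb04bc) (.leaf 0x5cec0470))) (.node 3414 (.node 3413 (.leaf 0x5ced0465)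 (.leaf 0x5cee05ef)) (.node 3415 (.leaf 0x5cef0473) (.leaf 0x5cf00206)))) (.node 3420 (.node 3418 (.node 3417 (.leaf 0x5cf10474) (.leaf 0x5cf20472)) (.node 3419 (.leaf 0x5cf302f1) (.leaf 0x5cf40844))) (.node 3422 (.node 3421 (.leaf 0x5cf50475) (.leaf 0x5cf60472)) (.node 3423 (.leaf 0x5cf70468) (.leaf 0x5cf80474)))))) (.node 3440 (.node 3432 (.node 3428 (.node 3426 (.node 3425 (.leaf 0x5cf90846) (.leaf 0x5cfa05ed)) (.node 3427 (.leaf 0x5cfb0477) (.leaf 0x5cfc0848))) (.node 3430 (.node 3429 (.leaf 0x5cfd0207) (.leaf 0x5cfe0476)) (.node 3431 (.leaf 0x5cff022e) (.leaf 0x5d00027f)))) (.node 3436 (.node 3434 (.node 3433 (.leaf 0x5d010479) (.leaf 0x5d020207)) (.node 3435 (.leaf 0x5d0302d7) (.leaf 0x5d040478))) (.node 3438 (.node 3437 (.leaf 0x5d0502ef) (.leaf 0x5d060381)) (.node 3439 (.leaf 0x5d07047b) (.leaf 0x5d08084a))))) (.node 3448 (.node 3444 (.node 3442 (.node 3441 (.leaf 0x5d090209) (.leaf 0x5d0a047a)) (.node 3443 (.leaf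 0x5d0b084c) (.leaf 0x5d0c084e))) (.node 3446 (.node 3445 (.leaf 0x5d0d047d) (.leaf 0x5d0e0209)) (.node 3447 (.leaf 0x5d0f0850) (.leaf 0x5d10047c)))) (.node 3452 (.node 3450 (.node 3449 (.leaf 0x5d110854) (.leaf 0x5d120856)) (.node 3451 (.leaf 0x5d13047f) (.leaf 0x5d140858))) (.node 3454 (.node 3453 (.leaf 0x5d15020b) (.leaf 0x5d16047e)) (.node 3455 (.leaf 0x5d17085a) (.leaf 0x5d18085c)))))))) (.node 3520 (.node 3488 (.node 3472 (.node 3464 (.node 3460 (.node 3458 (.node 3457 (.leaf 0x5d190481) (.leaf 0x5d1a020b)) (.node 3459 (.leaf 0x5d1b02cf) (.leaf 0x5d1c0480))) (.node 3462 (.node 3461 (.leaf 0x5d1d085e) (.leaf 0x5d1e0860)) (.node 3463 (.leaf 0x5d1f0483) (.leaf 0x5d200486)))) (.node 3468 (.node 3466 (.node 3465 (.leaf 0x5d21020c) (.leaf 0x5d220482)) (.node 3467 (.leaf 0x5d230862) (.leaf 0x5d24020d))) (.node 3470 (.node 3469 (.leaf 0x5d250485) (.leaf 0x5d26020e)) (.node 3471 (.leaf 0x5d270486) (.leaf 0x5d280484))))) (.node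 3480 (.node 3476 (.node 3474 (.node 3473 (.leaf 0x5d290866) (.leaf 0x5d2a0868)) (.node 3475 (.leaf 0x5d2b0487) (.leaf 0x5d2c0484))) (.node 3478 (.node 3477 (.leaf 0x5d2d0482) (.leaf 0x5d2e0486)) (.node 3479 (.leaf 0x5d2f086a) (.leaf 0x5d30086c)))) (.node 3484 (.node 3482 (.node 3481 (.leaf 0x5d310489) (.leaf 0x5d320715)) (.node 3483 (.leaf 0x5d33020f) (.leaf 0x5d340488))) (.node 3486 (.node 3485 (.leaf 0x5d35086e) (.leaf 0x5d36084f)) (.node 3487 (.leaf 0x5d37048b) (.leaf 0x5d380492)))))) (.node 3504 (.node 3496 (.node 3492 (.node 3490 (.node 3489 (.leaf 0x5d390210) (.leaf 0x5d3a048a)) (.node 3491 (.leaf 0x5d3b046b) (.leaf 0x5d3c046b))) (.node 3494 (.node 3493 (.leaf 0x5d3d048d) (.leaf 0x5d3e0520)) (.node 3495 (.leaf 0x5d3f0211) (.leaf 0x5d40048c)))) (.node 3500 (.node 3498 (.node 3497 (.leaf 0x5d410870) (.leaf 0x5d420521)) (.node 3499 (.leaf 0x5d43048f) (.leaf 0x5d440211))) (.node 3502 (.node 3501 (.leaf 0x5d45051e) (.leaf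 0x5d46048e)) (.node 3503 (.leaf 0x5d47026b) (.leaf 0x5d480872))))) (.node 3512 (.node 3508 (.node 3506 (.node 3505 (.leaf 0x5d490491) (.leaf 0x5d4a0212)) (.node 3507 (.leaf 0x5d4b0492) (.leaf 0x5d4c0490))) (.node 3510 (.node 3509 (.leaf 0x5d4d0359) (.leaf 0x5d4e0874)) (.node 3511 (.leaf 0x5d4f0493) (.leaf 0x5d500490)))) (.node 3516 (.node 3514 (.node 3513 (.leaf 0x5d51048a) (.leaf 0x5d520492)) (.node 3515 (.leaf 0x5d5302d8) (.leaf 0x5d5405ec))) (.node 3518 (.node 3517 (.leaf 0x5d550495) (.leaf 0x5d5607cb)) (.node 3519 (.leaf 0x5d570213) (.leaf 0x5d580494))))))) (.node 3552 (.node 3536 (.node 3528 (.node 3524 (.node 3522 (.node 3521 (.leaf 0x5d590876) (.leaf 0x5d5a0219)) (.node 3523 (.leaf 0x5d5b0497) (.leaf 0x5d5c0213))) (.node 3526 (.node 3525 (.leaf 0x5d5d0878) (.leaf 0x5d5e0496)) (.node 3527 (.leaf 0x5d5f087c) (.leaf 0x5d6004df)))) (.node 3532 (.node 3530 (.node 3529 (.leaf 0x5d610499) (.leaf 0x5d62087e)) (.node 3531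 (.leaf 0x5d630215) (.leaf 0x5d640498))) (.node 3534 (.node 3533 (.leaf 0x5d650880) (.leaf 0x5d660423)) (.node 3535 (.leaf 0x5d67049b) (.leaf 0x5d680215))))) (.node 3544 (.node 3540 (.node 3538 (.node 3537 (.leaf 0x5d690882) (.leaf 0x5d6a049a)) (.node 3539 (.leaf 0x5d6b059d) (.leaf 0x5d6c0886))) (.node 3542 (.node 3541 (.leaf 0x5d6d049d) (.leaf 0x5d6e04a0)) (.node 3543 (.leaf 0x5d6f0216) (.leaf 0x5d70049c)))) (.node 3548 (.node 3546 (.node 3545 (.leaf 0x5d71055c) (.leaf 0x5d720592)) (.node 3547 (.leaf 0x5d73049f) (.leaf 0x5d740218))) (.node 3550 (.node 3549 (.leaf 0x5d7504a0) (.leaf 0x5d76049e)) (.node 3551 (.leaf 0x5d770771) (.leaf 0x5d780681)))))) (.node 3568 (.node 3560 (.node 3556 (.node 3554 (.node 3553 (.leaf 0x5d7904a1) (.leaf 0x5d7a049e)) (.node 3555 (.leaf 0x5d7b049c) (.leaf 0x5d7c04a0))) (.node 3558 (.node 3557 (.leaf 0x5d7d088a) (.leaf 0x5d7e088c)) (.node 3559 (.leaf 0x5d7f04a3) (.leaf 0x5d800219)))) (.node 3564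 (.node 3562 (.node 3561 (.leaf 0x5d81088e) (.leaf 0x5d8204a2)) (.node 3563 (.leaf 0x5d830717) (.leaf 0x5d840890))) (.node 3566 (.node 3565 (.leaf 0x5d8504a5) (.leaf 0x5d86021b)) (.node 3567 (.leaf 0x5d870892) (.leaf 0x5d8804a4))))) (.node 3576 (.node 3572 (.node 3570 (.node 3569 (.leaf 0x5d890896) (.leaf 0x5d8a0871)) (.node 3571 (.leaf 0x5d8b04a7) (.leaf 0x5d8c06f2))) (.node 3574 (.node 3573 (.leaf 0x5d8d021d) (.leaf 0x5d8e04a6)) (.node 3575 (.leaf 0x5d8f0898) (.leaf 0x5d90089a)))) (.node 3580 (.node 3578 (.node 3577 (.leaf 0x5d9104a9) (.leaf 0x5d92021e)) (.node 3579 (.leaf 0x5d9304aa) (.leaf 0x5d9404a8))) (.node 3582 (.node 3581 (.leaf 0x5d95089c) (.leaf 0x5d9606c6)) (.node 3583 (.leaf 0x5d9704ab) (.leaf 0x5d9804a8))))))))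

/-- block of `tab` -/
def tab_14 : Tr := .node 3712 (.node 3648 (.node 3616 (.node 3600 (.node 3592 (.node 3588 (.node 3586 (.node 3585 (.leaf 0x5d99035f) (.leaf 0x5d9a04aa)) (.node 3587 (.leaf 0x5d9b0267) (.leaf 0x5d9c0426))) (.node 3590 (.node 3589 (.leaf 0x5d9d04ad) (.leaf 0x5d9e063a)) (.node 3591 (.leaf 0x5d9f021f) (.leaf 0x5da004ac)))) (.node 3596 (.node 3594 (.node 3593 (.leaf 0x5da10844) (.leaf 0x5da204b1)) (.node 3595 (.leaf 0x5da304af) (.leaf 0x5da40442))) (.node 3598 (.node 3597 (.leaf 0x5da50221) (.leaf 0x5da604ae)) (.node 3599 (.leaf 0x5da70393) (.leaf 0x5da80514))))) (.node 3608 (.node 3604 (.node 3602 (.node 3601 (.leaf 0x5da904b1) (.leaf 0x5daa0221)) (.node 3603 (.leaf 0x5dab0440) (.leaf 0x5dac04b0))) (.node 3606 (.node 3605 (.leaf 0x5dad04ad) (.leaf 0x5dae060c)) (.node 3607 (.leaf 0x5daf04b3) (.leaf 0x5db0089e)))) (.node 3612 (.node 3610 (.node 3609 (.leaf 0x5db10223) (.leaf 0x5db204b2)) (.node 3611 (.leaf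 0x5db308a0) (.leaf 0x5db408a2))) (.node 3614 (.node 3613 (.leaf 0x5db504b5) (.leaf 0x5db60223)) (.node 3615 (.leaf 0x5db708a4) (.leaf 0x5db804b4)))))) (.node 3632 (.node 3624 (.node 3620 (.node 3618 (.node 3617 (.leaf 0x5db908a8) (.leaf 0x5dba08aa)) (.node 3619 (.leaf 0x5dbb04b7) (.leaf 0x5dbc05f0))) (.node 3622 (.node 3621 (.leaf 0x5dbd0225) (.leaf 0x5dbe04b6)) (.node 3623 (.leaf 0x5dbf02e3) (.leaf 0x5dc00563)))) (.node 3628 (.node 3626 (.node 3625 (.leaf 0x5dc104b9) (.leaf 0x5dc20225)) (.node 3627 (.leaf 0x5dc305ee) (.leaf 0x5dc404b8))) (.node 3630 (.node 3629 (.leaf 0x5dc508a9) (.leaf 0x5dc608ac)) (.node 3631 (.leaf 0x5dc704bb) (.leaf 0x5dc80261))))) (.node 3640 (.node 3636 (.node 3634 (.node 3633 (.leaf 0x5dc9046e) (.leaf 0x5dca04ba)) (.node 3635 (.leaf 0x5dcb04e7) (.leaf 0x5dcc0365))) (.node 3638 (.node 3637 (.leaf 0x5dcd04bd) (.leaf 0x5dce0470)) (.node 3639 (.leaf 0x5dcf0261) (.leaf 0x5dd004bc)))) (.node 3644 (.node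 3642 (.node 3641 (.leaf 0x5dd108ae) (.leaf 0x5dd208a3)) (.node 3643 (.leaf 0x5dd304bf) (.leaf 0x5dd4022b))) (.node 3646 (.node 3645 (.leaf 0x5dd502b7) (.leaf 0x5dd604be)) (.node 3647 (.leaf 0x5dd704c3) (.leaf 0x5dd805a7))))))) (.node 3680 (.node 3664 (.node 3656 (.node 3652 (.node 3650 (.node 3649 (.leaf 0x5dd904c1) (.leaf 0x5dda022d)) (.node 3651 (.leaf 0x5ddb08b0) (.leaf 0x5ddc04c0))) (.node 3654 (.node 3653 (.leaf 0x5ddd08b2) (.leaf 0x5dde08a1)) (.node 3655 (.leaf 0x5ddf04c3) (.leaf 0x5de00391)))) (.node 3660 (.node 3658 (.node 3657 (.leaf 0x5de1022f) (.leaf 0x5de204c2)) (.node 3659 (.leaf 0x5de308b4) (.leaf 0x5de404bf))) (.node 3662 (.node 3661 (.leaf 0x5de504c5) (.leaf 0x5de6022f)) (.node 3663 (.leaf 0x5de70816) (.leaf 0x5de804c4))))) (.node 3672 (.node 3668 (.node 3666 (.node 3665 (.leaf 0x5de908b6) (.leaf 0x5dea05af)) (.node 3667 (.leaf 0x5deb04c7) (.leaf 0x5dec08b8))) (.node 3670 (.node 3669 (.leaf 0x5ded0231)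 (.leaf 0x5dee04c6)) (.node 3671 (.leaf 0x5def0603) (.leaf 0x5df008ba)))) (.node 3676 (.node 3674 (.node 3673 (.leaf 0x5df104c9) (.leaf 0x5df20231)) (.node 3675 (.leaf 0x5df308bc) (.leaf 0x5df404c8))) (.node 3678 (.node 3677 (.leaf 0x5df507d0) (.leaf 0x5df60619)) (.node 3679 (.leaf 0x5df704cb) (.leaf 0x5df80233)))))) (.node 3696 (.node 3688 (.node 3684 (.node 3682 (.node 3681 (.leaf 0x5df90642) (.leaf 0x5dfa04ca)) (.node 3683 (.leaf 0x5dfb07d1) (.leaf 0x5dfc08c0))) (.node 3686 (.node 3685 (.leaf 0x5dfd04cd) (.leaf 0x5dfe0234)) (.node 3687 (.leaf 0x5dff03c8) (.leaf 0x5e0004cc)))) (.node 3692 (.node 3690 (.node 3689 (.leaf 0x5e0108c2) (.leaf 0x5e0208c4)) (.node 3691 (.leaf 0x5e0304cf) (.leaf 0x5e040235))) (.node 3694 (.node 3693 (.leaf 0x5e050441) (.leaf 0x5e0604ce)) (.node 3695 (.leaf 0x5e0708c6) (.leaf 0x5e0807d7))))) (.node 3704 (.node 3700 (.node 3698 (.node 3697 (.leaf 0x5e0904d1) (.leaf 0x5e0a053e)) (.node 3699 (.leaf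 0x5e0b0237) (.leaf 0x5e0c04d0))) (.node 3702 (.node 3701 (.leaf 0x5e0d037f) (.leaf 0x5e0e0587)) (.node 3703 (.leaf 0x5e0f04d3) (.leaf 0x5e100237)))) (.node 3708 (.node 3706 (.node 3705 (.leaf 0x5e11053c) (.leaf 0x5e1204d2)) (.node 3707 (.leaf 0x5e1308c8) (.leaf 0x5e1408ca))) (.node 3710 (.node 3709 (.leaf 0x5e1504d5) (.leaf 0x5e160239)) (.node 3711 (.leaf 0x5e17054a) (.leaf 0x5e1804d4)))))))) (.node 3776 (.node 3744 (.node 3728 (.node 3720 (.node 3716 (.node 3714 (.node 3713 (.leaf 0x5e1908cc) (.leaf 0x5e1a06a3)) (.node 3715 (.leaf 0x5e1b04d7) (.leaf 0x5e1c04dc))) (.node 3718 (.node 3717 (.leaf 0x5e1d023a) (.leaf 0x5e1e04d6)) (.node 3719 (.leaf 0x5e1f08ce) (.leaf 0x5e2008d0)))) (.node 3724 (.node 3722 (.node 3721 (.leaf 0x5e2104d9) (.leaf 0x5e2204fc)) (.node 3723 (.leaf 0x5e23023b) (.leaf 0x5e2404d8))) (.node 3726 (.node 3725 (.leaf 0x5e2508d2) (.leaf 0x5e2608d4)) (.node 3727 (.leaf 0x5e2704db) (.leaf 0x5e28023c))))) (.node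 3736 (.node 3732 (.node 3730 (.node 3729 (.leaf 0x5e2904dc) (.leaf 0x5e2a04da)) (.node 3731 (.leaf 0x5e2b045b) (.leaf 0x5e2c08d6))) (.node 3734 (.node 3733 (.leaf 0x5e2d04dd) (.leaf 0x5e2e04da)) (.node 3735 (.leaf 0x5e2f04d6) (.leaf 0x5e3004dc)))) (.node 3740 (.node 3738 (.node 3737 (.leaf 0x5e3108d8) (.leaf 0x5e3208da)) (.node 3739 (.leaf 0x5e3304df) (.leaf 0x5e34023e))) (.node 3742 (.node 3741 (.leaf 0x5e350392) (.leaf 0x5e3604de)) (.node 3743 (.leaf 0x5e370497) (.leaf 0x5e3808dc)))))) (.node 3760 (.node 3752 (.node 3748 (.node 3746 (.node 3745 (.leaf 0x5e3904e1) (.leaf 0x5e3a040f)) (.node 3747 (.leaf 0x5e3b023f) (.leaf 0x5e3c04e0))) (.node 3750 (.node 3749 (.leaf 0x5e3d08e0) (.leaf 0x5e3e0245)) (.node 3751 (.leaf 0x5e3f04e3) (.leaf 0x5e40023f)))) (.node 3756 (.node 3754 (.node 3753 (.leaf 0x5e410624) (.leaf 0x5e4204e2)) (.node 3755 (.leaf 0x5e4308e2) (.leaf 0x5e440664))) (.node 3758 (.node 3757 (.leaf 0x5e4504e7) (.leaf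 0x5e4604e5)) (.node 3759 (.leaf 0x5e470241) (.leaf 0x5e4804e6))))) (.node 3768 (.node 3764 (.node 3762 (.node 3761 (.leaf 0x5e49040b) (.leaf 0x5e4a04e4)) (.node 3763 (.leaf 0x5e4b04e5) (.leaf 0x5e4c08e4))) (.node 3766 (.node 3765 (.leaf 0x5e4d08e6) (.leaf 0x5e4e04e4)) (.node 3767 (.leaf 0x5e4f08e8) (.leaf 0x5e5004bb)))) (.node 3772 (.node 3770 (.node 3769 (.leaf 0x5e5104e9) (.leaf 0x5e520241)) (.node 3771 (.leaf 0x5e5304ea) (.leaf 0x5e5404e8))) (.node 3774 (.node 3773 (.leaf 0x5e550329) (.leaf 0x5e5608ea)) (.node 3775 (.leaf 0x5e5704eb) (.leaf 0x5e5804e8))))))) (.node 3808 (.node 3792 (.node 3784 (.node 3780 (.node 3778 (.node 3777 (.leaf 0x5e59040b) (.leaf 0x5e5a04ea)) (.node 3779 (.leaf 0x5e5b0591) (.leaf 0x5e5c0731))) (.node 3782 (.node 3781 (.leaf 0x5e5d04ed) (.leaf 0x5e5e0400)) (.node 3783 (.leaf 0x5e5f0255) (.leaf 0x5e6004ec)))) (.node 3788 (.node 3786 (.node 3785 (.leaf 0x5e6108ec) (.leaf 0x5e6208ee)) (.node 3787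 (.leaf 0x5e6304ef) (.leaf 0x5e6408f0))) (.node 3790 (.node 3789 (.leaf 0x5e650243) (.leaf 0x5e6604ee)) (.node 3791 (.leaf 0x5e6708f2) (.leaf 0x5e6808f4))))) (.node 3800 (.node 3796 (.node 3794 (.node 3793 (.leaf 0x5e6904f1) (.leaf 0x5e6a0244)) (.node 3795 (.leaf 0x5e6b04f2) (.leaf 0x5e6c04f0))) (.node 3798 (.node 3797 (.leaf 0x5e6d08f8) (.leaf 0x5e6e08fa)) (.node 3799 (.leaf 0x5e6f04f3) (.leaf 0x5e7004f0)))) (.node 3804 (.node 3802 (.node 3801 (.leaf 0x5e71035d) (.leaf 0x5e7204f2)) (.node 3803 (.leaf 0x5e7306f5) (.leaf 0x5e74055d))) (.node 3806 (.node 3805 (.leaf 0x5e7504f5) (.leaf 0x5e760245)) (.node 3807 (.leaf 0x5e7708fc) (.leaf 0x5e7804f4)))))) (.node 3824 (.node 3816 (.node 3812 (.node 3810 (.node 3809 (.leaf 0x5e790902) (.leaf 0x5e7a0904)) (.node 3811 (.leaf 0x5e7b04f7) (.leaf 0x5e7c0247))) (.node 3814 (.node 3813 (.leaf 0x5e7d04fc) (.leaf 0x5e7e04f6)) (.node 3815 (.leaf 0x5e7f0906) (.leaf 0x5e800908)))) (.node 3820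 (.node 3818 (.node 3817 (.leaf 0x5e8104f9) (.leaf 0x5e82090a)) (.node 3819 (.leaf 0x5e830249) (.leaf 0x5e8404f8))) (.node 3822 (.node 3821 (.leaf 0x5e85090e) (.leaf 0x5e860910)) (.node 3823 (.leaf 0x5e8704fb) (.leaf 0x5e880249))))) (.node 3832 (.node 3828 (.node 3826 (.node 3825 (.leaf 0x5e890912) (.leaf 0x5e8a04fa)) (.node 3827 (.leaf 0x5e8b0605) (.leaf 0x5e8c03db))) (.node 3830 (.node 3829 (.leaf 0x5e8d04fd) (.leaf 0x5e8e04f6)) (.node 3831 (.leaf 0x5e8f04d8) (.leaf 0x5e9004fc)))) (.node 3836 (.node 3834 (.node 3833 (.leaf 0x5e910914) (.leaf 0x5e920916)) (.node 3835 (.leaf 0x5e9304ff) (.leaf 0x5e940918))) (.node 3838 (.node 3837 (.leaf 0x5e95024b) (.leaf 0x5e9604fe)) (.node 3839 (.leaf 0x5e970887) (.leaf 0x5e9803ed))))))))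

/-- block of `tab` -/
def tab_15 : Tr := .node 3968 (.node 3904 (.node 3872 (.node 3856 (.node 3848 (.node 3844 (.node 3842 (.node 3841 (.leaf 0x5e990501) (.leaf 0x5e9a024b)) (.node 3843 (.leaf 0x5e9b091a) (.leaf 0x5e9c0500))) (.node 3846 (.node 3845 (.leaf 0x5e9d043d) (.leaf 0x5e9e091e)) (.node 3847 (.leaf 0x5e9f0503) (.leaf 0x5ea00920)))) (.node 3852 (.node 3850 (.node 3849 (.leaf 0x5ea1024d) (.leaf 0x5ea20502)) (.node 3851 (.leaf 0x5ea30924) (.leaf 0x5ea40926))) (.node 3854 (.node 3853 (.leaf 0x5ea50505) (.leaf 0x5ea6024f)) (.node 3855 (.leaf 0x5ea702b2) (.leaf 0x5ea80504))))) (.node 3864 (.node 3860 (.node 3858 (.node 3857 (.leaf 0x5ea902d7) (.leaf 0x5eaa0848)) (.node 3859 (.leaf 0x5eab0507) (.leaf 0x5eac0250))) (.node 3862 (.node 3861 (.leaf 0x5ead0508) (.leaf 0x5eae0506)) (.node 3863 (.leaf 0x5eaf0928) (.leaf 0x5eb005e8)))) (.node 3868 (.node 3866 (.node 3865 (.leaf 0x5eb10509) (.leaf 0x5eb20506)) (.node 3867 (.leaf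 0x5eb302d4) (.leaf 0x5eb40508))) (.node 3870 (.node 3869 (.leaf 0x5eb50533) (.leaf 0x5eb6044b)) (.node 3871 (.leaf 0x5eb7050b) (.leaf 0x5eb80251)))))) (.node 3888 (.node 3880 (.node 3876 (.node 3874 (.node 3873 (.leaf 0x5eb90922) (.leaf 0x5eba050a)) (.node 3875 (.leaf 0x5ebb092a) (.leaf 0x5ebc092c))) (.node 3878 (.node 3877 (.leaf 0x5ebd050d) (.leaf 0x5ebe0814)) (.node 3879 (.leaf 0x5ebf0257) (.leaf 0x5ec0050c)))) (.node 3884 (.node 3882 (.node 3881 (.leaf 0x5ec1092e) (.leaf 0x5ec20930)) (.node 3883 (.leaf 0x5ec3050f) (.leaf 0x5ec40259))) (.node 3886 (.node 3885 (.leaf 0x5ec507ec) (.leaf 0x5ec6050e)) (.node 3887 (.leaf 0x5ec70932) (.leaf 0x5ec80934))))) (.node 3896 (.node 3892 (.node 3890 (.node 3889 (.leaf 0x5ec90511) (.leaf 0x5eca0936)) (.node 3891 (.leaf 0x5ecb025b) (.leaf 0x5ecc0510))) (.node 3894 (.node 3893 (.leaf 0x5ecd093c) (.leaf 0x5ece0940)) (.node 3895 (.leaf 0x5ecf0513) (.leaf 0x5ed0025b)))) (.node 3900 (.node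 3898 (.node 3897 (.leaf 0x5ed108bf) (.leaf 0x5ed20512)) (.node 3899 (.leaf 0x5ed30946) (.leaf 0x5ed40948))) (.node 3902 (.node 3901 (.leaf 0x5ed50515) (.leaf 0x5ed604af)) (.node 3903 (.leaf 0x5ed7025c) (.leaf 0x5ed80514))))))) (.node 3936 (.node 3920 (.node 3912 (.node 3908 (.node 3906 (.node 3905 (.leaf 0x5ed90608) (.leaf 0x5eda094a)) (.node 3907 (.leaf 0x5edb0517) (.leaf 0x5edc025d))) (.node 3910 (.node 3909 (.leaf 0x5edd075e) (.leaf 0x5ede0516)) (.node 3911 (.leaf 0x5edf0523) (.leaf 0x5ee0094c)))) (.node 3916 (.node 3914 (.node 3913 (.leaf 0x5ee10519) (.leaf 0x5ee2025f)) (.node 3915 (.leaf 0x5ee306c2) (.leaf 0x5ee40518))) (.node 3918 (.node 3917 (.leaf 0x5ee5094e) (.leaf 0x5ee60950)) (.node 3919 (.leaf 0x5ee7051b) (.leaf 0x5ee80952))))) (.node 3928 (.node 3924 (.node 3922 (.node 3921 (.leaf 0x5ee90263) (.leaf 0x5eea051a)) (.node 3923 (.leaf 0x5eeb0557) (.leaf 0x5eec0954))) (.node 3926 (.node 3925 (.leaf 0x5eed051d)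 (.leaf 0x5eee0263)) (.node 3927 (.leaf 0x5eef0956) (.leaf 0x5ef0051c)))) (.node 3932 (.node 3930 (.node 3929 (.leaf 0x5ef1026f) (.leaf 0x5ef2095a)) (.node 3931 (.leaf 0x5ef3051f) (.leaf 0x5ef4048e))) (.node 3934 (.node 3933 (.leaf 0x5ef50265) (.leaf 0x5ef6051e)) (.node 3935 (.leaf 0x5ef7095c) (.leaf 0x5ef8026d)))))) (.node 3952 (.node 3944 (.node 3940 (.node 3938 (.node 3937 (.leaf 0x5ef90521) (.leaf 0x5efa0265)) (.node 3939 (.leaf 0x5efb048c) (.leaf 0x5efc0520))) (.node 3942 (.node 3941 (.leaf 0x5efd048d) (.leaf 0x5efe0925)) (.node 3943 (.leaf 0x5eff0523) (.leaf 0x5f000428)))) (.node 3948 (.node 3946 (.node 3945 (.leaf 0x5f010267) (.leaf 0x5f020522)) (.node 3947 (.leaf 0x5f0306ee) (.leaf 0x5f040517))) (.node 3950 (.node 3949 (.leaf 0x5f050527) (.leaf 0x5f060525)) (.node 3951 (.leaf 0x5f070269) (.leaf 0x5f080526))))) (.node 3960 (.node 3956 (.node 3954 (.node 3953 (.leaf 0x5f0902a7) (.leaf 0x5f0a0524)) (.node 3955 (.leaf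 0x5f0b0525) (.leaf 0x5f0c02bb))) (.node 3958 (.node 3957 (.leaf 0x5f0d0665) (.leaf 0x5f0e0524)) (.node 3959 (.leaf 0x5f0f095e) (.leaf 0x5f1006c7)))) (.node 3964 (.node 3962 (.node 3961 (.leaf 0x5f11052b) (.leaf 0x5f120269)) (.node 3963 (.leaf 0x5f130529) (.leaf 0x5f14052a))) (.node 3966 (.node 3965 (.leaf 0x5f150528) (.leaf 0x5f1602a7)) (.node 3967 (.leaf 0x5f170529) (.leaf 0x5f180755)))))))) (.node 4032 (.node 4000 (.node 3984 (.node 3976 (.node 3972 (.node 3970 (.node 3969 (.leaf 0x5f1902bd) (.leaf 0x5f1a0528)) (.node 3971 (.leaf 0x5f1b0609) (.leaf 0x5f1c0960))) (.node 3974 (.node 3973 (.leaf 0x5f1d052d) (.leaf 0x5f1e0532)) (.node 3975 (.leaf 0x5f1f026a) (.leaf 0x5f20052c)))) (.node 3980 (.node 3978 (.node 3977 (.leaf 0x5f210962) (.leaf 0x5f220964)) (.node 3979 (.leaf 0x5f23052f) (.leaf 0x5f240966))) (.node 3982 (.node 3981 (.leaf 0x5f25026b) (.leaf 0x5f26052e)) (.node 3983 (.leaf 0x5f270951) (.leaf 0x5f28096a))))) (.node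 3992 (.node 3988 (.node 3986 (.node 3985 (.leaf 0x5f290531) (.leaf 0x5f2a026c)) (.node 3987 (.leaf 0x5f2b0532) (.leaf 0x5f2c0530))) (.node 3990 (.node 3989 (.leaf 0x5f2d096c) (.leaf 0x5f2e096e)) (.node 3991 (.leaf 0x5f2f0533) (.leaf 0x5f300530)))) (.node 3996 (.node 3994 (.node 3993 (.leaf 0x5f31052c) (.leaf 0x5f320532)) (.node 3995 (.leaf 0x5f330455) (.leaf 0x5f340509))) (.node 3998 (.node 3997 (.leaf 0x5f350535) (.leaf 0x5f36026d)) (.node 3999 (.leaf 0x5f370970) (.leaf 0x5f380534)))))) (.node 4016 (.node 4008 (.node 4004 (.node 4002 (.node 4001 (.leaf 0x5f390974) (.leaf 0x5f3a0899)) (.node 4003 (.leaf 0x5f3b0537) (.leaf 0x5f3c053a))) (.node 4006 (.node 4005 (.leaf 0x5f3d026e) (.leaf 0x5f3e0536)) (.node 4007 (.leaf 0x5f3f0721) (.leaf 0x5f400659)))) (.node 4012 (.node 4010 (.node 4009 (.leaf 0x5f410539) (.leaf 0x5f420978)) (.node 4011 (.leaf 0x5f43026f) (.leaf 0x5f440538))) (.node 4014 (.node 4013 (.leaf 0x5f45097a) (.leaf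 0x5f46068f)) (.node 4015 (.leaf 0x5f47053b) (.leaf 0x5f4803df))))) (.node 4024 (.node 4020 (.node 4018 (.node 4017 (.leaf 0x5f490536) (.leaf 0x5f4a053a)) (.node 4019 (.leaf 0x5f4b097c) (.leaf 0x5f4c097e))) (.node 4022 (.node 4021 (.leaf 0x5f4d053d) (.leaf 0x5f4e04d2)) (.node 4023 (.leaf 0x5f4f0271) (.leaf 0x5f50053c)))) (.node 4028 (.node 4026 (.node 4025 (.leaf 0x5f510980) (.leaf 0x5f5207a7)) (.node 4027 (.leaf 0x5f53053f) (.leaf 0x5f540271))) (.node 4030 (.node 4029 (.leaf 0x5f5504d0) (.leaf 0x5f56053e)) (.node 4031 (.leaf 0x5f57040d) (.leaf 0x5f5802f7))))))) (.node 4064 (.node 4048 (.node 4040 (.node 4036 (.node 4034 (.node 4033 (.leaf 0x5f590541) (.leaf 0x5f5a0272)) (.node 4035 (.leaf 0x5f5b0542) (.leaf 0x5f5c0540))) (.node 4038 (.node 4037 (.leaf 0x5f5d0982) (.leaf 0x5f5e0984)) (.node 4039 (.leaf 0x5f5f0543) (.leaf 0x5f600540)))) (.node 4044 (.node 4042 (.node 4041 (.leaf 0x5f61045a) (.leaf 0x5f620542)) (.node 4043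 (.leaf 0x5f630986) (.leaf 0x5f6408d8))) (.node 4046 (.node 4045 (.leaf 0x5f650545) (.leaf 0x5f660273)) (.node 4047 (.leaf 0x5f670566) (.leaf 0x5f680544))))) (.node 4056 (.node 4052 (.node 4050 (.node 4049 (.leaf 0x5f69098c) (.leaf 0x5f6a098e)) (.node 4051 (.leaf 0x5f6b0547) (.leaf 0x5f6c093a))) (.node 4054 (.node 4053 (.leaf 0x5f6d0275) (.leaf 0x5f6e0546)) (.node 4055 (.leaf 0x5f6f06e9) (.leaf 0x5f700810)))) (.node 4060 (.node 4058 (.node 4057 (.leaf 0x5f710549) (.leaf 0x5f720275)) (.node 4059 (.leaf 0x5f730938) (.leaf 0x5f740548))) (.node 4062 (.node 4061 (.leaf 0x5f750990) (.leaf 0x5f7606d3)) (.node 4063 (.leaf 0x5f77054b) (.leaf 0x5f7804d4)))))) (.node 4080 (.node 4072 (.node 4068 (.node 4066 (.node 4065 (.leaf 0x5f790277) (.leaf 0x5f7a054a)) (.node 4067 (.leaf 0x5f7b060f) (.leaf 0x5f7c0992))) (.node 4070 (.node 4069 (.leaf 0x5f7d054d) (.leaf 0x5f7e0310)) (.node 4071 (.leaf 0x5f7f0278) (.leaf 0x5f80054c)))) (.node 4076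 (.node 4074 (.node 4073 (.leaf 0x5f810994) (.leaf 0x5f820996)) (.node 4075 (.leaf 0x5f83054f) (.leaf 0x5f840429))) (.node 4078 (.node 4077 (.leaf 0x5f850279) (.leaf 0x5f86054e)) (.node 4079 (.leaf 0x5f870829) (.leaf 0x5f880853))))) (.node 4088 (.node 4084 (.node 4082 (.node 4081 (.leaf 0x5f890551) (.leaf 0x5f8a0642)) (.node 4083 (.leaf 0x5f8b027b) (.leaf 0x5f8c0550))) (.node 4086 (.node 4085 (.leaf 0x5f8d08ed) (.leaf 0x5f8e0811)) (.node 4087 (.leaf 0x5f8f0553) (.leaf 0x5f900281)))) (.node 4092 (.node 4090 (.node 4089 (.leaf 0x5f91055e) (.leaf 0x5f920552)) (.node 4091 (.leaf 0x5f930998) (.leaf 0x5f9408c1))) (.node 4094 (.node 4093 (.leaf 0x5f950555) (.leaf 0x5f960894)) (.node 4095 (.leaf 0x5f970283) (.leaf 0x5f980554))))))))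

/-- block of `tab` -/
def tab_16 : Tr := .node 4224 (.node 4160 (.node 4128 (.node 4112 (.node 4104 (.node 4100 (.node 4098 (.node 4097 (.leaf 0x5f99099a) (.leaf 0x5f9a099c)) (.node 4099 (.leaf 0x5f9b0557) (.leaf 0x5f9c035e))) (.node 4102 (.node 4101 (.leaf 0x5f9d0284) (.leaf 0x5f9e0556)) (.node 4103 (.leaf 0x5f9f099e) (.leaf 0x5fa0051b)))) (.node 4108 (.node 4106 (.node 4105 (.leaf 0x5fa10559) (.leaf 0x5fa206e2)) (.node 4107 (.leaf 0x5fa30285) (.leaf 0x5fa40558))) (.node 4110 (.node 4109 (.leaf 0x5fa50754) (.leaf 0x5fa609a2)) (.node 4111 (.leaf 0x5fa7055b) (.leaf 0x5fa80285))))) (.node 4120 (.node 4116 (.node 4114 (.node 4113 (.leaf 0x5fa90585) (.leaf 0x5faa055a)) (.node 4115 (.leaf 0x5fab0293) (.leaf 0x5fac09a4))) (.node 4118 (.node 4117 (.leaf 0x5fad055d) (.leaf 0x5fae0287)) (.node 4119 (.leaf 0x5faf049d) (.leaf 0x5fb0055c)))) (.node 4124 (.node 4122 (.node 4121 (.leaf 0x5fb104f3) (.leaf 0x5fb2056b)) (.node 4123 (.leaf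 0x5fb3055f) (.leaf 0x5fb40552))) (.node 4126 (.node 4125 (.leaf 0x5fb50288) (.leaf 0x5fb6055e)) (.node 4127 (.leaf 0x5fb709a6) (.leaf 0x5fb805b3)))))) (.node 4144 (.node 4136 (.node 4132 (.node 4130 (.node 4129 (.leaf 0x5fb90561) (.leaf 0x5fba0590)) (.node 4131 (.leaf 0x5fbb028b) (.leaf 0x5fbc0560))) (.node 4134 (.node 4133 (.leaf 0x5fbd09a8) (.leaf 0x5fbe03bf)) (.node 4135 (.leaf 0x5fbf0563) (.leaf 0x5fc0028b)))) (.node 4140 (.node 4138 (.node 4137 (.leaf 0x5fc1058e) (.leaf 0x5fc20562)) (.node 4139 (.leaf 0x5fc304b7) (.leaf 0x5fc408b1))) (.node 4142 (.node 4141 (.leaf 0x5fc50565) (.leaf 0x5fc60566)) (.node 4143 (.leaf 0x5fc7028d) (.leaf 0x5fc80564))))) (.node 4152 (.node 4148 (.node 4146 (.node 4145 (.leaf 0x5fc909aa) (.leaf 0x5fca09ac)) (.node 4147 (.leaf 0x5fcb0567) (.leaf 0x5fcc0544))) (.node 4150 (.node 4149 (.leaf 0x5fcd0564) (.leaf 0x5fce0566)) (.node 4151 (.leaf 0x5fcf09ae) (.leaf 0x5fd009b0)))) (.node 4156 (.node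 4154 (.node 4153 (.leaf 0x5fd10569) (.leaf 0x5fd2028f)) (.node 4155 (.leaf 0x5fd308f6) (.leaf 0x5fd40568))) (.node 4158 (.node 4157 (.leaf 0x5fd509b2) (.leaf 0x5fd608f2)) (.node 4159 (.leaf 0x5fd7056b) (.leaf 0x5fd809b4))))))) (.node 4192 (.node 4176 (.node 4168 (.node 4164 (.node 4162 (.node 4161 (.leaf 0x5fd90291) (.leaf 0x5fda056a)) (.node 4163 (.leaf 0x5fdb055d) (.leaf 0x5fdc06cf))) (.node 4166 (.node 4165 (.leaf 0x5fdd056d) (.leaf 0x5fde0291)) (.node 4167 (.leaf 0x5fdf09b6) (.leaf 0x5fe0056c)))) (.node 4172 (.node 4170 (.node 4169 (.leaf 0x5fe109ba) (.leaf 0x5fe209bc)) (.node 4171 (.leaf 0x5fe3056f) (.leaf 0x5fe40570))) (.node 4174 (.node 4173 (.leaf 0x5fe50292) (.leaf 0x5fe6056e)) (.node 4175 (.leaf 0x5fe709be) (.leaf 0x5fe8078f))))) (.node 4184 (.node 4180 (.node 4178 (.node 4177 (.leaf 0x5fe90571) (.leaf 0x5fea038b)) (.node 4179 (.leaf 0x5feb056e) (.leaf 0x5fec0570))) (.node 4182 (.node 4181 (.leaf 0x5fed03db)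 (.leaf 0x5fee06c5)) (.node 4183 (.leaf 0x5fef0573) (.leaf 0x5ff009c0)))) (.node 4188 (.node 4186 (.node 4185 (.leaf 0x5ff10293) (.leaf 0x5ff20572)) (.node 4187 (.leaf 0x5ff309c6) (.leaf 0x5ff409c8))) (.node 4190 (.node 4189 (.leaf 0x5ff50575) (.leaf 0x5ff603fb)) (.node 4191 (.leaf 0x5ff70294) (.leaf 0x5ff80574)))))) (.node 4208 (.node 4200 (.node 4196 (.node 4194 (.node 4193 (.leaf 0x5ff908c9) (.leaf 0x5ffa03f7)) (.node 4195 (.leaf 0x5ffb0577) (.leaf 0x5ffc0823))) (.node 4198 (.node 4197 (.leaf 0x5ffd0295) (.leaf 0x5ffe0576)) (.node 4199 (.leaf 0x5fff081f) (.leaf 0x600003ff)))) (.node 4204 (.node 4202 (.node 4201 (.leaf 0x60010579) (.leaf 0x60020295)) (.node 4203 (.leaf 0x600309ca) (.leaf 0x60040578))) (.node 4206 (.node 4205 (.leaf 0x600502a9) (.leaf 0x600609ce)) (.node 4207 (.leaf 0x6007057b) (.leaf 0x60080296))))) (.node 4216 (.node 4212 (.node 4210 (.node 4209 (.leaf 0x600903fb) (.leaf 0x600a057a)) (.node 4211 (.leaf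 0x600b061b) (.leaf 0x600c09d0))) (.node 4214 (.node 4213 (.leaf 0x600d057d) (.leaf 0x600e09d2)) (.node 4215 (.leaf 0x600f0297) (.leaf 0x6010057c)))) (.node 4220 (.node 4218 (.node 4217 (.leaf 0x6011042c) (.leaf 0x6012029d)) (.node 4219 (.leaf 0x6013057f) (.leaf 0x60140297))) (.node 4222 (.node 4221 (.leaf 0x601509d4) (.leaf 0x6016057e)) (.node 4223 (.leaf 0x6017076c) (.leaf 0x601809d8)))))))) (.node 4288 (.node 4256 (.node 4240 (.node 4232 (.node 4228 (.node 4226 (.node 4225 (.leaf 0x60190581) (.leaf 0x601a09da)) (.node 4227 (.leaf 0x601b0299) (.leaf 0x601c0580))) (.node 4230 (.node 4229 (.leaf 0x601d09dc) (.leaf 0x601e0409)) (.node 4231 (.leaf 0x601f0583) (.leaf 0x60200299)))) (.node 4236 (.node 4234 (.node 4233 (.leaf 0x602109de) (.leaf 0x60220582)) (.node 4235 (.leaf 0x602307cd) (.leaf 0x602409e2))) (.node 4238 (.node 4237 (.leaf 0x60250585) (.leaf 0x60260588)) (.node 4239 (.leaf 0x6027029a) (.leaf 0x60280584))))) (.node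 4248 (.node 4244 (.node 4242 (.node 4241 (.leaf 0x6029055a) (.leaf 0x602a06e1)) (.node 4243 (.leaf 0x602b0587) (.leaf 0x602c029c))) (.node 4246 (.node 4245 (.leaf 0x602d0588) (.leaf 0x602e0586)) (.node 4247 (.leaf 0x602f04d1) (.leaf 0x603009e4)))) (.node 4252 (.node 4250 (.node 4249 (.leaf 0x60310589) (.leaf 0x60320586)) (.node 4251 (.leaf 0x60330584) (.leaf 0x60340588))) (.node 4254 (.node 4253 (.leaf 0x60350957) (.leaf 0x603609e6)) (.node 4255 (.leaf 0x6037058b) (.leaf 0x6038029f)))))) (.node 4272 (.node 4264 (.node 4260 (.node 4258 (.node 4257 (.leaf 0x60390697) (.leaf 0x603a058a)) (.node 4259 (.leaf 0x603b073a) (.leaf 0x603c03b8))) (.node 4262 (.node 4261 (.leaf 0x603d058d) (.leaf 0x603e07c4)) (.node 4263 (.leaf 0x603f02a1) (.leaf 0x6040058c)))) (.node 4268 (.node 4266 (.node 4265 (.leaf 0x6041058e) (.leaf 0x60420590)) (.node 4267 (.leaf 0x6043058f) (.leaf 0x60440562))) (.node 4270 (.node 4269 (.leaf 0x6045058d) (.leaf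 0x6046058e)) (.node 4271 (.leaf 0x604709e8) (.leaf 0x604809ea))))) (.node 4280 (.node 4276 (.node 4274 (.node 4273 (.leaf 0x60490591) (.leaf 0x604a058d)) (.node 4275 (.leaf 0x604b0560) (.leaf 0x604c0590))) (.node 4278 (.node 4277 (.leaf 0x604d073b) (.leaf 0x604e04eb)) (.node 4279 (.leaf 0x604f0593) (.leaf 0x6050049d)))) (.node 4284 (.node 4282 (.node 4281 (.leaf 0x605102a4) (.leaf 0x60520592)) (.node 4283 (.leaf 0x605305c1) (.leaf 0x60540773))) (.node 4286 (.node 4285 (.leaf 0x60550595) (.leaf 0x605609ec)) (.node 4287 (.leaf 0x605702a5) (.leaf 0x60580594))))))) (.node 4320 (.node 4304 (.node 4296 (.node 4292 (.node 4290 (.node 4289 (.leaf 0x605909ee) (.leaf 0x605a0837)) (.node 4291 (.leaf 0x605b0597) (.leaf 0x605c02a5))) (.node 4294 (.node 4293 (.leaf 0x605d09f0) (.leaf 0x605e0596)) (.node 4295 (.leaf 0x605f02b1) (.leaf 0x606009f4)))) (.node 4300 (.node 4298 (.node 4297 (.leaf 0x60610599) (.leaf 0x606209f6)) (.node 4299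 (.leaf 0x606302a9) (.leaf 0x60640598))) (.node 4302 (.node 4301 (.leaf 0x6065077f) (.leaf 0x606607b1)) (.node 4303 (.leaf 0x6067059b) (.leaf 0x606802ab))))) (.node 4312 (.node 4308 (.node 4306 (.node 4305 (.leaf 0x606909fa) (.leaf 0x606a059a)) (.node 4307 (.leaf 0x606b081e) (.leaf 0x606c09ef))) (.node 4310 (.node 4309 (.leaf 0x606d059d) (.leaf 0x606e09fe)) (.node 4311 (.leaf 0x606f02ad) (.leaf 0x6070059c)))) (.node 4316 (.node 4314 (.node 4313 (.leaf 0x607103ed) (.leaf 0x6072049b)) (.node 4315 (.leaf 0x6073059f) (.leaf 0x607402ad))) (.node 4318 (.node 4317 (.leaf 0x60750a00) (.leaf 0x6076059e)) (.node 4319 (.leaf 0x60770a04) (.leaf 0x607808f9)))))) (.node 4336 (.node 4328 (.node 4324 (.node 4322 (.node 4321 (.leaf 0x607905a1) (.leaf 0x607a02af)) (.node 4323 (.leaf 0x607b0a06) (.leaf 0x607c05a0))) (.node 4326 (.node 4325 (.leaf 0x607d0a05) (.leaf 0x607e0a0a)) (.node 4327 (.leaf 0x607f05a3) (.leaf 0x60800a0c)))) (.node 4332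 (.node 4330 (.node 4329 (.leaf 0x608102b1) (.leaf 0x608205a2)) (.node 4331 (.leaf 0x60830a10) (.leaf 0x60840a12))) (.node 4334 (.node 4333 (.leaf 0x608505a5) (.leaf 0x608607ea)) (.node 4335 (.leaf 0x608702b3) (.leaf 0x608805a4))))) (.node 4344 (.node 4340 (.node 4338 (.node 4337 (.leaf 0x608905bf) (.leaf 0x608a0a14)) (.node 4339 (.leaf 0x608b05a7) (.leaf 0x608c02b3))) (.node 4342 (.node 4341 (.leaf 0x608d034f) (.leaf 0x608e05a6)) (.node 4343 (.leaf 0x608f04bf) (.leaf 0x60900a16)))) (.node 4348 (.node 4346 (.node 4345 (.leaf 0x609105a9) (.leaf 0x609208e9)) (.node 4347 (.leaf 0x609302b5) (.leaf 0x609405a8))) (.node 4350 (.node 4349 (.leaf 0x609508ab) (.leaf 0x60960a18)) (.node 4351 (.leaf 0x609705ab) (.leaf 0x609802c7))))))))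

/-- block of `tab` -/
def tab_17 : Tr := .node 4480 (.node 4416 (.node 4384 (.node 4368 (.node 4360 (.node 4356 (.node 4354 (.node 4353 (.leaf 0x609903b7) (.leaf 0x609a05aa)) (.node 4355 (.leaf 0x609b065f) (.leaf 0x609c0a1c))) (.node 4358 (.node 4357 (.leaf 0x609d05ad) (.leaf 0x609e05b4)) (.node 4359 (.leaf 0x609f02b8) (.leaf 0x60a005ac)))) (.node 4364 (.node 4362 (.node 4361 (.leaf 0x60a10a1e) (.leaf 0x60a2075b)) (.node 4363 (.leaf 0x60a305af) (.leaf 0x60a40a20))) (.node 4366 (.node 4365 (.leaf 0x60a502b9) (.leaf 0x60a605ae)) (.node 4367 (.leaf 0x60a704c5) (.leaf 0x60a80a22))))) (.node 4376 (.node 4372 (.node 4370 (.node 4369 (.leaf 0x60a905b1) (.leaf 0x60aa02b9)) (.node 4371 (.leaf 0x60ab02c9) (.leaf 0x60ac05b0))) (.node 4374 (.node 4373 (.leaf 0x60ad03b9) (.leaf 0x60ae0a24)) (.node 4375 (.leaf 0x60af05b3) (.leaf 0x60b002ba)))) (.node 4380 (.node 4378 (.node 4377 (.leaf 0x60b105b4) (.leaf 0x60b205b2)) (.node 4379 (.leaf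 0x60b3055f) (.leaf 0x60b409a6))) (.node 4382 (.node 4381 (.leaf 0x60b505b5) (.leaf 0x60b605b2)) (.node 4383 (.leaf 0x60b705ac) (.leaf 0x60b805b4)))))) (.node 4400 (.node 4392 (.node 4388 (.node 4386 (.node 4385 (.leaf 0x60b90a26) (.leaf 0x60ba0728)) (.node 4387 (.leaf 0x60bb05b7) (.leaf 0x60bc03b1))) (.node 4390 (.node 4389 (.leaf 0x60bd02c3) (.leaf 0x60be05b6)) (.node 4391 (.leaf 0x60bf0a2a) (.leaf 0x60c00749)))) (.node 4396 (.node 4394 (.node 4393 (.leaf 0x60c105b9) (.leaf 0x60c205bc)) (.node 4395 (.leaf 0x60c302bc) (.leaf 0x60c405b8))) (.node 4398 (.node 4397 (.leaf 0x60c507b2) (.leaf 0x60c60401)) (.node 4399 (.leaf 0x60c705bb) (.leaf 0x60c802be))))) (.node 4408 (.node 4404 (.node 4402 (.node 4401 (.leaf 0x60c905bc) (.leaf 0x60ca05ba)) (.node 4403 (.leaf 0x60cb062b) (.leaf 0x60cc0a2c))) (.node 4406 (.node 4405 (.leaf 0x60cd05bd) (.leaf 0x60ce05ba)) (.node 4407 (.leaf 0x60cf05b8) (.leaf 0x60d005bc)))) (.node 4412 (.node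 4410 (.node 4409 (.leaf 0x60d10728) (.leaf 0x60d20a2e)) (.node 4411 (.leaf 0x60d305bf) (.leaf 0x60d402bf))) (.node 4414 (.node 4413 (.leaf 0x60d5083c) (.leaf 0x60d605be)) (.node 4415 (.leaf 0x60d70a30) (.leaf 0x60d805a5))))))) (.node 4448 (.node 4432 (.node 4424 (.node 4420 (.node 4418 (.node 4417 (.leaf 0x60d905c1) (.leaf 0x60da0a32)) (.node 4419 (.leaf 0x60db02c1) (.leaf 0x60dc05c0))) (.node 4422 (.node 4421 (.leaf 0x60dd0a34) (.leaf 0x60de0593)) (.node 4423 (.leaf 0x60df05c3) (.leaf 0x60e002c1)))) (.node 4428 (.node 4426 (.node 4425 (.leaf 0x60e10349) (.leaf 0x60e205c2)) (.node 4427 (.leaf 0x60e30a38) (.leaf 0x60e406ab))) (.node 4430 (.node 4429 (.leaf 0x60e505c5) (.leaf 0x60e602c3)) (.node 4431 (.leaf 0x60e70a28) (.leaf 0x60e805c4))))) (.node 4440 (.node 4436 (.node 4434 (.node 4433 (.leaf 0x60e90a3a) (.leaf 0x60ea0a3c)) (.node 4435 (.leaf 0x60eb05c7) (.leaf 0x60ec0389))) (.node 4438 (.node 4437 (.leaf 0x60ed02c5)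 (.leaf 0x60ee05c6)) (.node 4439 (.leaf 0x60ef06a9) (.leaf 0x60f00a3e)))) (.node 4444 (.node 4442 (.node 4441 (.leaf 0x60f105c9) (.leaf 0x60f202c5)) (.node 4443 (.leaf 0x60f30a40) (.leaf 0x60f405c8))) (.node 4446 (.node 4445 (.leaf 0x60f503dd) (.leaf 0x60f60a44)) (.node 4447 (.leaf 0x60f705cb) (.leaf 0x60f80a1a)))))) (.node 4464 (.node 4456 (.node 4452 (.node 4450 (.node 4449 (.leaf 0x60f902c7) (.leaf 0x60fa05ca)) (.node 4451 (.leaf 0x60fb0a46) (.leaf 0x60fc0a48))) (.node 4454 (.node 4453 (.leaf 0x60fd05cd) (.leaf 0x60fe05d2)) (.node 4455 (.leaf 0x60ff02c8) (.leaf 0x610005cc)))) (.node 4460 (.node 4458 (.node 4457 (.leaf 0x61010a4c) (.leaf 0x61020a4e)) (.node 4459 (.leaf 0x610305cf) (.leaf 0x610402c9))) (.node 4462 (.node 4461 (.leaf 0x61050a20) (.leaf 0x610605ce)) (.node 4463 (.leaf 0x610705ef) (.leaf 0x61080a4d))))) (.node 4472 (.node 4468 (.node 4466 (.node 4465 (.leaf 0x610905d1) (.leaf 0x610a02ca)) (.node 4467 (.leaf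 0x610b05d2) (.leaf 0x610c05d0))) (.node 4470 (.node 4469 (.leaf 0x610d0313) (.leaf 0x610e0a4b)) (.node 4471 (.leaf 0x610f05d3) (.leaf 0x611005d0)))) (.node 4476 (.node 4474 (.node 4473 (.leaf 0x611105cc) (.leaf 0x611205d2)) (.node 4475 (.leaf 0x611305d4) (.leaf 0x61140463))) (.node 4478 (.node 4477 (.leaf 0x611505d5) (.leaf 0x61160463)) (.node 4479 (.leaf 0x611705d3) (.leaf 0x611805d4)))))))) (.node 4544 (.node 4512 (.node 4496 (.node 4488 (.node 4484 (.node 4482 (.node 4481 (.leaf 0x61190a4f) (.leaf 0x611a0839)) (.node 4483 (.leaf 0x611b05d7) (.leaf 0x611c0656))) (.node 4486 (.node 4485 (.leaf 0x611d02cb) (.leaf 0x611e05d6)) (.node 4487 (.leaf 0x611f077d) (.leaf 0x612002d3)))) (.node 4492 (.node 4490 (.node 4489 (.leaf 0x612105d9) (.leaf 0x61220a50)) (.node 4491 (.leaf 0x612302cd) (.leaf 0x612405d8))) (.node 4494 (.node 4493 (.leaf 0x61250a52) (.leaf 0x61260a54)) (.node 4495 (.leaf 0x612705db) (.leaf 0x612802cd))))) (.node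 4504 (.node 4500 (.node 4498 (.node 4497 (.leaf 0x61290a56) (.leaf 0x612a05da)) (.node 4499 (.leaf 0x612b0a58) (.leaf 0x612c0a5a))) (.node 4502 (.node 4501 (.leaf 0x612d05dd) (.leaf 0x612e02cf)) (.node 4503 (.leaf 0x612f0858) (.leaf 0x613005dc)))) (.node 4508 (.node 4506 (.node 4505 (.leaf 0x61310a5c) (.leaf 0x61320a5e)) (.node 4507 (.leaf 0x613305df) (.leaf 0x613405e4))) (.node 4510 (.node 4509 (.leaf 0x613502d0) (.leaf 0x613605de)) (.node 4511 (.leaf 0x61370a60) (.leaf 0x61380a62)))))) (.node 4528 (.node 4520 (.node 4516 (.node 4514 (.node 4513 (.leaf 0x613905e1) (.leaf 0x613a02d1)) (.node 4515 (.leaf 0x613b0691) (.leaf 0x613c05e0))) (.node 4518 (.node 4517 (.leaf 0x613d0a59) (.leaf 0x613e0a64)) (.node 4519 (.leaf 0x613f05e3) (.leaf 0x614002d2)))) (.node 4524 (.node 4522 (.node 4521 (.leaf 0x614105e4) (.leaf 0x614205e2)) (.node 4523 (.leaf 0x614302d3) (.leaf 0x61440a66))) (.node 4526 (.node 4525 (.leaf 0x614505e5) (.leaf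 0x614605e2)) (.node 4527 (.leaf 0x614705de) (.leaf 0x614805e4))))) (.node 4536 (.node 4532 (.node 4530 (.node 4529 (.leaf 0x61490a68) (.leaf 0x614a0a6a)) (.node 4531 (.leaf 0x614b05e7) (.leaf 0x614c0a6e))) (.node 4534 (.node 4533 (.leaf 0x614d02d5) (.leaf 0x614e05e6)) (.node 4535 (.leaf 0x614f0632) (.leaf 0x6150062c)))) (.node 4540 (.node 4538 (.node 4537 (.leaf 0x615105e9) (.leaf 0x61520507)) (.node 4539 (.leaf 0x61530457) (.leaf 0x615405e8))) (.node 4542 (.node 4541 (.leaf 0x61550963) (.leaf 0x6156096f)) (.node 4543 (.leaf 0x615705eb) (.leaf 0x615805ec))))))) (.node 4576 (.node 4560 (.node 4552 (.node 4548 (.node 4546 (.node 4545 (.leaf 0x615902d6) (.leaf 0x615a05ea)) (.node 4547 (.leaf 0x615b094c) (.leaf 0x615c0385))) (.node 4550 (.node 4549 (.leaf 0x615d05ed) (.leaf 0x615e0493)) (.node 4551 (.leaf 0x615f05ea) (.leaf 0x616005ec)))) (.node 4556 (.node 4554 (.node 4553 (.leaf 0x61610475) (.leaf 0x61620846)) (.node 4555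 (.leaf 0x616305ef) (.leaf 0x616404b8))) (.node 4558 (.node 4557 (.leaf 0x616502d9) (.leaf 0x616605ee)) (.node 4559 (.leaf 0x61670471) (.leaf 0x616805cf))))) (.node 4568 (.node 4564 (.node 4562 (.node 4561 (.leaf 0x616905f1) (.leaf 0x616a02d9)) (.node 4563 (.leaf 0x616b04b6) (.leaf 0x616c05f0))) (.node 4566 (.node 4565 (.leaf 0x616d0a74) (.leaf 0x616e05ff)) (.node 4567 (.leaf 0x616f05f3) (.leaf 0x6170060e)))) (.node 4572 (.node 4570 (.node 4569 (.leaf 0x617102db) (.leaf 0x617205f2)) (.node 4571 (.leaf 0x617305f5) (.leaf 0x6174064c))) (.node 4574 (.node 4573 (.leaf 0x617505f5) (.leaf 0x617602dd)) (.node 4575 (.leaf 0x617706a2) (.leaf 0x617805f4)))))) (.node 4592 (.node 4584 (.node 4580 (.node 4578 (.node 4577 (.leaf 0x6179064e) (.leaf 0x617a05f3)) (.node 4579 (.leaf 0x617b05f7) (.leaf 0x617c09c5))) (.node 4582 (.node 4581 (.leaf 0x617d02df) (.leaf 0x617e05f6)) (.node 4583 (.leaf 0x617f0a76) (.leaf 0x6180069b)))) (.node 4588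 (.node 4586 (.node 4585 (.leaf 0x618105f9) (.leaf 0x6182031f)) (.node 4587 (.leaf 0x618302e1) (.leaf 0x618405f8))) (.node 4590 (.node 4589 (.leaf 0x61850a78) (.leaf 0x6186064d)) (.node 4591 (.leaf 0x618705fb) (.leaf 0x61880a7a))))) (.node 4600 (.node 4596 (.node 4594 (.node 4593 (.leaf 0x618902e3) (.leaf 0x618a05fa)) (.node 4595 (.leaf 0x618b0a7c) (.leaf 0x618c0a47))) (.node 4598 (.node 4597 (.leaf 0x618d05fd) (.leaf 0x618e0602)) (.node 4599 (.leaf 0x618f02e4) (.leaf 0x619005fc)))) (.node 4604 (.node 4602 (.node 4601 (.leaf 0x61910a7e) (.leaf 0x61920a80)) (.node 4603 (.leaf 0x619305ff) (.leaf 0x619402e5))) (.node 4606 (.node 4605 (.leaf 0x61950633) (.leaf 0x619605fe)) (.node 4607 (.leaf 0x619705f1) (.leaf 0x61980a82))))))))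

/-- block of `tab` -/
def tab_18 : Tr := .node 4736 (.node 4672 (.node 4640 (.node 4624 (.node 4616 (.node 4612 (.node 4610 (.node 4609 (.leaf 0x61990601) (.leaf 0x619a02e6)) (.node 4611 (.leaf 0x619b0602) (.leaf 0x619c0600))) (.node 4614 (.node 4613 (.leaf 0x619d07d6) (.leaf 0x619e0418)) (.node 4615 (.leaf 0x619f0603) (.leaf 0x61a00600)))) (.node 4620 (.node 4618 (.node 4617 (.leaf 0x61a105fc) (.leaf 0x61a20602)) (.node 4619 (.leaf 0x61a30867) (.leaf 0x61a404c7))) (.node 4622 (.node 4621 (.leaf 0x61a50605) (.leaf 0x61a602e7)) (.node 4623 (.leaf 0x61a708f5) (.leaf 0x61a80604))))) (.node 4632 (.node 4628 (.node 4626 (.node 4625 (.leaf 0x61a90a84) (.leaf 0x61aa04fb)) (.node 4627 (.leaf 0x61ab0607) (.leaf 0x61ac0a86))) (.node 4630 (.node 4629 (.leaf 0x61ad02e9) (.leaf 0x61ae0606)) (.node 4631 (.leaf 0x61af090d) (.leaf 0x61b0066c)))) (.node 4636 (.node 4634 (.node 4633 (.leaf 0x61b10609) (.leaf 0x61b202e9)) (.node 4635 (.leaf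 0x61b30515) (.leaf 0x61b40608))) (.node 4638 (.node 4637 (.leaf 0x61b5089d) (.leaf 0x61b6052b)) (.node 4639 (.leaf 0x61b7060b) (.leaf 0x61b80363)))))) (.node 4656 (.node 4648 (.node 4644 (.node 4642 (.node 4641 (.leaf 0x61b902ed) (.leaf 0x61ba060a)) (.node 4643 (.leaf 0x61bb074d) (.leaf 0x61bc066d))) (.node 4646 (.node 4645 (.leaf 0x61bd060d) (.leaf 0x61be04b1)) (.node 4647 (.leaf 0x61bf02f1) (.leaf 0x61c0060c)))) (.node 4652 (.node 4650 (.node 4649 (.leaf 0x61c10627) (.leaf 0x61c20a88)) (.node 4651 (.leaf 0x61c3060f) (.leaf 0x61c402f3))) (.node 4654 (.node 4653 (.leaf 0x61c505f2) (.leaf 0x61c6060e)) (.node 4655 (.leaf 0x61c70659) (.leaf 0x61c8054b))))) (.node 4664 (.node 4660 (.node 4658 (.node 4657 (.leaf 0x61c90611) (.leaf 0x61ca0612)) (.node 4659 (.leaf 0x61cb02f6) (.leaf 0x61cc0610))) (.node 4662 (.node 4661 (.leaf 0x61cd0613) (.leaf 0x61ce0613)) (.node 4663 (.leaf 0x61cf0613) (.leaf 0x61d0037e)))) (.node 4668 (.node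 4666 (.node 4665 (.leaf 0x61d10610) (.leaf 0x61d20612)) (.node 4667 (.leaf 0x61d30611) (.leaf 0x61d40611))) (.node 4670 (.node 4669 (.leaf 0x61d50615) (.leaf 0x61d60a8a)) (.node 4671 (.leaf 0x61d702f9) (.leaf 0x61d80614))))))) (.node 4704 (.node 4688 (.node 4680 (.node 4676 (.node 4674 (.node 4673 (.leaf 0x61d90a8c) (.leaf 0x61da0a8e)) (.node 4675 (.leaf 0x61db0617) (.leaf 0x61dc02f9))) (.node 4678 (.node 4677 (.leaf 0x61dd0a90) (.leaf 0x61de0616)) (.node 4679 (.leaf 0x61df0a96) (.leaf 0x61e00a91)))) (.node 4684 (.node 4682 (.node 4681 (.leaf 0x61e10619) (.leaf 0x61e2061e)) (.node 4683 (.leaf 0x61e302fa) (.leaf 0x61e40618))) (.node 4686 (.node 4685 (.leaf 0x61e504c9) (.leaf 0x61e60a98)) (.node 4687 (.leaf 0x61e7061b) (.leaf 0x61e802fb))))) (.node 4696 (.node 4692 (.node 4690 (.node 4689 (.leaf 0x61e9073a) (.leaf 0x61ea061a)) (.node 4691 (.leaf 0x61eb0a97) (.leaf 0x61ec057b))) (.node 4694 (.node 4693 (.leaf 0x61ed061d)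 (.leaf 0x61ee02fc)) (.node 4695 (.leaf 0x61ef061e) (.leaf 0x61f0061c)))) (.node 4700 (.node 4698 (.node 4697 (.leaf 0x61f10a9a) (.leaf 0x61f206e5)) (.node 4699 (.leaf 0x61f3061f) (.leaf 0x61f4061c))) (.node 4702 (.node 4701 (.leaf 0x61f50618) (.leaf 0x61f6061e)) (.node 4703 (.leaf 0x61f70a9c) (.leaf 0x61f80a9e)))))) (.node 4720 (.node 4712 (.node 4708 (.node 4706 (.node 4705 (.leaf 0x61f90621) (.leaf 0x61fa02fd)) (.node 4707 (.leaf 0x61fb07c6) (.leaf 0x61fc0620))) (.node 4710 (.node 4709 (.leaf 0x61fd0aa0) (.leaf 0x61fe0aa2)) (.node 4711 (.leaf 0x61ff0623) (.leaf 0x62000680)))) (.node 4716 (.node 4714 (.node 4713 (.leaf 0x62010301) (.leaf 0x62020622)) (.node 4715 (.leaf 0x62030624) (.leaf 0x6204040f))) (.node 4718 (.node 4717 (.leaf 0x62050625) (.leaf 0x620604e2)) (.node 4719 (.leaf 0x62070623) (.leaf 0x62080624))))) (.node 4728 (.node 4724 (.node 4722 (.node 4721 (.leaf 0x6209095f) (.leaf 0x620a0aa4)) (.node 4723 (.leaf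 0x620b0627) (.leaf 0x620c0303))) (.node 4726 (.node 4725 (.leaf 0x620d07d6) (.leaf 0x620e0626)) (.node 4727 (.leaf 0x620f0aa6) (.leaf 0x6210060d)))) (.node 4732 (.node 4730 (.node 4729 (.leaf 0x62110629) (.leaf 0x62120aa8)) (.node 4731 (.leaf 0x62130305) (.leaf 0x62140628))) (.node 4734 (.node 4733 (.leaf 0x62150aaa) (.leaf 0x62160aac)) (.node 4735 (.leaf 0x6217062b) (.leaf 0x62180305)))))))) (.node 4800 (.node 4768 (.node 4752 (.node 4744 (.node 4740 (.node 4738 (.node 4737 (.leaf 0x62190aae) (.leaf 0x621a062a)) (.node 4739 (.leaf 0x621b0736) (.leaf 0x621c05bb))) (.node 4742 (.node 4741 (.leaf 0x621d062d) (.leaf 0x621e05e7)) (.node 4743 (.leaf 0x621f0306) (.leaf 0x6220062c)))) (.node 4748 (.node 4746 (.node 4745 (.leaf 0x62210449) (.leaf 0x62220ab0)) (.node 4747 (.leaf 0x6223062f) (.leaf 0x62240ab2))) (.node 4750 (.node 4749 (.leaf 0x62250307) (.leaf 0x6226062e)) (.node 4751 (.leaf 0x6227031b) (.leaf 0x62280ab4))))) (.node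 4760 (.node 4756 (.node 4754 (.node 4753 (.leaf 0x62290631) (.leaf 0x622a0307)) (.node 4755 (.leaf 0x622b0ab6) (.leaf 0x622c0630))) (.node 4758 (.node 4757 (.leaf 0x622d0737) (.leaf 0x622e0703)) (.node 4759 (.leaf 0x622f0633) (.leaf 0x62300308)))) (.node 4764 (.node 4762 (.node 4761 (.leaf 0x623105e7) (.leaf 0x62320632)) (.node 4763 (.leaf 0x623305fe) (.leaf 0x62340670))) (.node 4766 (.node 4765 (.leaf 0x62350635) (.leaf 0x62360309)) (.node 4767 (.leaf 0x62370ab8) (.leaf 0x62380634)))))) (.node 4784 (.node 4776 (.node 4772 (.node 4770 (.node 4769 (.leaf 0x62390aba) (.leaf 0x623a0abc)) (.node 4771 (.leaf 0x623b0637) (.leaf 0x623c090c))) (.node 4774 (.node 4773 (.leaf 0x623d030b) (.leaf 0x623e0636)) (.node 4775 (.leaf 0x623f0abe) (.leaf 0x62400ac0)))) (.node 4780 (.node 4778 (.node 4777 (.leaf 0x62410639) (.leaf 0x6242030b)) (.node 4779 (.leaf 0x62430761) (.leaf 0x62440638))) (.node 4782 (.node 4781 (.leaf 0x624509b6) (.leaf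 0x624609b4)) (.node 4783 (.leaf 0x6247063b) (.leaf 0x6248030d))))) (.node 4792 (.node 4788 (.node 4786 (.node 4785 (.leaf 0x624904ac) (.leaf 0x624a063a)) (.node 4787 (.leaf 0x624b0ac2) (.leaf 0x624c0ac4))) (.node 4790 (.node 4789 (.leaf 0x624d063d) (.leaf 0x624e0ac6)) (.node 4791 (.leaf 0x624f030f) (.leaf 0x6250063c)))) (.node 4796 (.node 4794 (.node 4793 (.leaf 0x62510a2f) (.leaf 0x62520a46)) (.node 4795 (.leaf 0x6253063f) (.leaf 0x6254030f))) (.node 4798 (.node 4797 (.leaf 0x62550ac8) (.leaf 0x6256063e)) (.node 4799 (.leaf 0x625709b7) (.leaf 0x62580756))))))) (.node 4832 (.node 4816 (.node 4808 (.node 4804 (.node 4802 (.node 4801 (.leaf 0x62590641) (.leaf 0x625a03c9)) (.node 4803 (.leaf 0x625b0311) (.leaf 0x625c0640))) (.node 4806 (.node 4805 (.leaf 0x625d0aca) (.leaf 0x625e0ac1)) (.node 4807 (.leaf 0x625f0643) (.leaf 0x626004ca)))) (.node 4812 (.node 4810 (.node 4809 (.leaf 0x62610550) (.leaf 0x62620642)) (.node 4811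 (.leaf 0x626309a7) (.leaf 0x626407b3))) (.node 4814 (.node 4813 (.leaf 0x62650645) (.leaf 0x62660648)) (.node 4815 (.leaf 0x62670312) (.leaf 0x62680644))))) (.node 4824 (.node 4820 (.node 4818 (.node 4817 (.leaf 0x62690649) (.leaf 0x626a0649)) (.node 4819 (.leaf 0x626b0647) (.leaf 0x626c03f3))) (.node 4822 (.node 4821 (.leaf 0x626d0313) (.leaf 0x626e0646)) (.node 4823 (.leaf 0x626f0731) (.leaf 0x6270076d)))) (.node 4828 (.node 4826 (.node 4825 (.leaf 0x62710649) (.leaf 0x627203d4)) (.node 4827 (.leaf 0x62730644) (.leaf 0x62740648))) (.node 4830 (.node 4829 (.leaf 0x62750645) (.leaf 0x62760645)) (.node 4831 (.leaf 0x6277064b) (.leaf 0x62780338)))))) (.node 4848 (.node 4840 (.node 4836 (.node 4834 (.node 4833 (.leaf 0x62790314) (.leaf 0x627a064a)) (.node 4835 (.leaf 0x627b08dd) (.leaf 0x627c087c))) (.node 4838 (.node 4837 (.leaf 0x627d064d) (.leaf 0x627e05f3)) (.node 4839 (.leaf 0x627f0315) (.leaf 0x6280064c)))) (.node 4844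 (.node 4842 (.node 4841 (.leaf 0x628105f9) (.leaf 0x62820acc)) (.node 4843 (.leaf 0x6283064f) (.leaf 0x628403bb))) (.node 4846 (.node 4845 (.leaf 0x628505f5) (.leaf 0x6286064e)) (.node 4847 (.leaf 0x62870acc) (.leaf 0x628806d7))))) (.node 4856 (.node 4852 (.node 4850 (.node 4849 (.leaf 0x62890651) (.leaf 0x628a0317)) (.node 4851 (.leaf 0x628b0662) (.leaf 0x628c0650))) (.node 4854 (.node 4853 (.leaf 0x628d0697) (.leaf 0x628e0402)) (.node 4855 (.leaf 0x628f0653) (.leaf 0x62900319)))) (.node 4860 (.node 4858 (.node 4857 (.leaf 0x62910339) (.leaf 0x62920652)) (.node 4859 (.leaf 0x6293069c) (.leaf 0x62940341))) (.node 4862 (.node 4861 (.leaf 0x62950655) (.leaf 0x6296031a)) (.node 4863 (.leaf 0x62970656) (.leaf 0x62980654))))))))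

/-- block of `tab` -/
def tab_19 : Tr := .node 4992 (.node 4928 (.node 4896 (.node 4880 (.node 4872 (.node 4868 (.node 4866 (.node 4865 (.leaf 0x62990a22) (.leaf 0x629a0ace)) (.node 4867 (.leaf 0x629b0657) (.leaf 0x629c0654))) (.node 4870 (.node 4869 (.leaf 0x629d05d6) (.leaf 0x629e0656)) (.node 4871 (.leaf 0x629f0ad0) (.leaf 0x62a003dd)))) (.node 4876 (.node 4874 (.node 4873 (.leaf 0x62a10659) (.leaf 0x62a20ad2)) (.node 4875 (.leaf 0x62a3031b) (.leaf 0x62a40658))) (.node 4878 (.node 4877 (.leaf 0x62a50537) (.leaf 0x62a6060f)) (.node 4879 (.leaf 0x62a7065b) (.leaf 0x62a809f1))))) (.node 4888 (.node 4884 (.node 4882 (.node 4881 (.leaf 0x62a9031d) (.leaf 0x62aa065a)) (.node 4883 (.leaf 0x62ab0691) (.leaf 0x62ac082a))) (.node 4886 (.node 4885 (.leaf 0x62ad065d) (.leaf 0x62ae0ad6)) (.node 4887 (.leaf 0x62af0321) (.leaf 0x62b0065c)))) (.node 4892 (.node 4890 (.node 4889 (.leaf 0x62b10343) (.leaf 0x62b20718)) (.node 4891 (.leaf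 0x62b3065f) (.leaf 0x62b40321))) (.node 4894 (.node 4893 (.leaf 0x62b50a3f) (.leaf 0x62b6065e)) (.node 4895 (.leaf 0x62b70803) (.leaf 0x62b805ab)))))) (.node 4912 (.node 4904 (.node 4900 (.node 4898 (.node 4897 (.leaf 0x62b90661) (.leaf 0x62ba0662)) (.node 4899 (.leaf 0x62bb0322) (.leaf 0x62bc0660))) (.node 4902 (.node 4901 (.leaf 0x62bd0ad8) (.leaf 0x62be0a34)) (.node 4903 (.leaf 0x62bf0663) (.leaf 0x62c00650)))) (.node 4908 (.node 4906 (.node 4905 (.leaf 0x62c10660) (.leaf 0x62c20662)) (.node 4907 (.leaf 0x62c30ada) (.leaf 0x62c40adc))) (.node 4910 (.node 4909 (.leaf 0x62c50665) (.leaf 0x62c604e3)) (.node 4911 (.leaf 0x62c70323) (.leaf 0x62c80664))))) (.node 4920 (.node 4916 (.node 4914 (.node 4913 (.leaf 0x62c90526) (.leaf 0x62ca08e9)) (.node 4915 (.leaf 0x62cb0667) (.leaf 0x62cc0323))) (.node 4918 (.node 4917 (.leaf 0x62cd0ade) (.leaf 0x62ce0666)) (.node 4919 (.leaf 0x62cf0802) (.leaf 0x62d007fe)))) (.node 4924 (.node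 4922 (.node 4921 (.leaf 0x62d10669) (.leaf 0x62d209e1)) (.node 4923 (.leaf 0x62d30325) (.leaf 0x62d40668))) (.node 4926 (.node 4925 (.leaf 0x62d50916) (.leaf 0x62d60a81)) (.node 4927 (.leaf 0x62d7066b) (.leaf 0x62d80325))))))) (.node 4960 (.node 4944 (.node 4936 (.node 4932 (.node 4930 (.node 4929 (.leaf 0x62d90ae0) (.leaf 0x62da066a)) (.node 4931 (.leaf 0x62db0893) (.leaf 0x62dc0829))) (.node 4934 (.node 4933 (.leaf 0x62dd066d) (.leaf 0x62de0607)) (.node 4935 (.leaf 0x62df0327) (.leaf 0x62e0066c)))) (.node 4940 (.node 4938 (.node 4937 (.leaf 0x62e1060b) (.leaf 0x62e20895)) (.node 4939 (.leaf 0x62e3066f) (.leaf 0x62e40327))) (.node 4942 (.node 4941 (.leaf 0x62e5091d) (.leaf 0x62e6066e)) (.node 4943 (.leaf 0x62e70ae4) (.leaf 0x62e80ae6))))) (.node 4952 (.node 4948 (.node 4946 (.node 4945 (.leaf 0x62e90671) (.leaf 0x62ea0633)) (.node 4947 (.leaf 0x62eb0328) (.leaf 0x62ec0670))) (.node 4950 (.node 4949 (.leaf 0x62ed0aea)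 (.leaf 0x62ee0aec)) (.node 4951 (.leaf 0x62ef0673) (.leaf 0x62f00aee)))) (.node 4956 (.node 4954 (.node 4953 (.leaf 0x62f10329) (.leaf 0x62f20672)) (.node 4955 (.leaf 0x62f30af2) (.leaf 0x62f40af4))) (.node 4958 (.node 4957 (.leaf 0x62f50675) (.leaf 0x62f60af6)) (.node 4959 (.leaf 0x62f7032b) (.leaf 0x62f80674)))))) (.node 4976 (.node 4968 (.node 4964 (.node 4962 (.node 4961 (.leaf 0x62f903e7) (.leaf 0x62fa0af8)) (.node 4963 (.leaf 0x62fb0677) (.leaf 0x62fc032b))) (.node 4966 (.node 4965 (.leaf 0x62fd0afa) (.leaf 0x62fe0676)) (.node 4967 (.leaf 0x62ff0afe) (.leaf 0x63000b00)))) (.node 4972 (.node 4970 (.node 4969 (.leaf 0x63010679) (.leaf 0x6302032d)) (.node 4971 (.leaf 0x630303a7) (.leaf 0x63040678))) (.node 4974 (.node 4973 (.leaf 0x63050aff) (.leaf 0x63060b02)) (.node 4975 (.leaf 0x6307067b) (.leaf 0x630807f9))))) (.node 4984 (.node 4980 (.node 4978 (.node 4977 (.leaf 0x6309032f) (.leaf 0x630a067a)) (.node 4979 (.leaf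 0x630b0b04) (.leaf 0x630c08c2))) (.node 4982 (.node 4981 (.leaf 0x630d067d) (.leaf 0x630e032f)) (.node 4983 (.leaf 0x630f0b06) (.leaf 0x6310067c)))) (.node 4988 (.node 4986 (.node 4985 (.leaf 0x631106af) (.leaf 0x63120b0c)) (.node 4987 (.leaf 0x6313067f) (.leaf 0x63140331))) (.node 4990 (.node 4989 (.leaf 0x63150680) (.leaf 0x6316067e)) (.node 4991 (.leaf 0x63170b0e) (.leaf 0x63180aa9)))))))) (.node 5056 (.node 5024 (.node 5008 (.node 5000 (.node 4996 (.node 4994 (.node 4993 (.leaf 0x63190681) (.leaf 0x631a067e)) (.node 4995 (.leaf 0x631b0622) (.leaf 0x631c0680))) (.node 4998 (.node 4997 (.leaf 0x631d049f) (.leaf 0x631e08cc)) (.node 4999 (.leaf 0x631f0683) (.leaf 0x632007a5)))) (.node 5004 (.node 5002 (.node 5001 (.leaf 0x63210333) (.leaf 0x63220682)) (.node 5003 (.leaf 0x63230b10) (.leaf 0x63240a8f))) (.node 5006 (.node 5005 (.leaf 0x63250685) (.leaf 0x63260333)) (.node 5007 (.leaf 0x63270b12) (.leaf 0x63280684))))) (.node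 5016 (.node 5012 (.node 5010 (.node 5009 (.leaf 0x632906ae) (.leaf 0x632a034e)) (.node 5011 (.leaf 0x632b0687) (.leaf 0x632c068c))) (.node 5014 (.node 5013 (.leaf 0x632d0334) (.leaf 0x632e0686)) (.node 5015 (.leaf 0x632f03c1) (.leaf 0x63300b14)))) (.node 5020 (.node 5018 (.node 5017 (.leaf 0x63310689) (.leaf 0x633206a0)) (.node 5019 (.leaf 0x63330335) (.leaf 0x63340688))) (.node 5022 (.node 5021 (.leaf 0x63350b16) (.leaf 0x63360b18)) (.node 5023 (.leaf 0x6337068b) (.leaf 0x63380336)))))) (.node 5040 (.node 5032 (.node 5028 (.node 5026 (.node 5025 (.leaf 0x6339068c) (.leaf 0x633a068a)) (.node 5027 (.leaf 0x633b0b1a) (.leaf 0x633c0b1c))) (.node 5030 (.node 5029 (.leaf 0x633d068d) (.leaf 0x633e068a)) (.node 5031 (.leaf 0x633f0686) (.leaf 0x6340068c)))) (.node 5036 (.node 5034 (.node 5033 (.leaf 0x634108fe) (.leaf 0x63420b1e)) (.node 5035 (.leaf 0x6343068f) (.leaf 0x63440ad3))) (.node 5038 (.node 5037 (.leaf 0x63450337) (.leaf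 0x6346068e)) (.node 5039 (.leaf 0x63470539) (.leaf 0x634808c3))))) (.node 5048 (.node 5044 (.node 5042 (.node 5041 (.leaf 0x63490691) (.leaf 0x634a0337)) (.node 5043 (.leaf 0x634b0b20) (.leaf 0x634c0690))) (.node 5046 (.node 5045 (.leaf 0x634d05e0) (.leaf 0x634e065b)) (.node 5047 (.leaf 0x634f0693) (.leaf 0x635003ba)))) (.node 5052 (.node 5050 (.node 5049 (.leaf 0x6351033a) (.leaf 0x63520692)) (.node 5051 (.leaf 0x63530954) (.leaf 0x6354099f))) (.node 5054 (.node 5053 (.leaf 0x63550695) (.leaf 0x6356033b)) (.node 5055 (.leaf 0x635703d7) (.leaf 0x63580694))))))) (.node 5088 (.node 5072 (.node 5064 (.node 5060 (.node 5058 (.node 5057 (.leaf 0x635903ad) (.leaf 0x635a0726)) (.node 5059 (.leaf 0x635b0697) (.leaf 0x635c0750))) (.node 5062 (.node 5061 (.leaf 0x635d033d) (.leaf 0x635e0696)) (.node 5063 (.leaf 0x635f058a) (.leaf 0x63600651)))) (.node 5068 (.node 5066 (.node 5065 (.leaf 0x63610699) (.leaf 0x63620b24)) (.node 5067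 (.leaf 0x6363033f) (.leaf 0x63640698))) (.node 5070 (.node 5069 (.leaf 0x6365098e) (.leaf 0x636606d9)) (.node 5071 (.leaf 0x6367069b) (.leaf 0x6368033f))))) (.node 5080 (.node 5076 (.node 5074 (.node 5073 (.leaf 0x63690b26) (.leaf 0x636a069a)) (.node 5075 (.leaf 0x636b05f7) (.leaf 0x636c08d2))) (.node 5078 (.node 5077 (.leaf 0x636d069d) (.leaf 0x636e0341)) (.node 5079 (.leaf 0x636f0653) (.leaf 0x6370069c)))) (.node 5084 (.node 5082 (.node 5081 (.leaf 0x63710b2a) (.leaf 0x63720a89)) (.node 5083 (.leaf 0x6373069f) (.leaf 0x63740342))) (.node 5086 (.node 5085 (.leaf 0x637506a0) (.leaf 0x6376069e)) (.node 5087 (.leaf 0x63770b2c) (.leaf 0x63780b2e)))))) (.node 5104 (.node 5096 (.node 5092 (.node 5090 (.node 5089 (.leaf 0x637906a1) (.leaf 0x637a069e)) (.node 5091 (.leaf 0x637b0688) (.leaf 0x637c06a0))) (.node 5094 (.node 5093 (.leaf 0x637d0b30) (.leaf 0x637e0b32)) (.node 5095 (.leaf 0x637f06a3) (.leaf 0x638005f4)))) (.node 5100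 (.node 5098 (.node 5097 (.leaf 0x6381037d) (.leaf 0x638206a2)) (.node 5099 (.leaf 0x638304d5) (.leaf 0x63840771))) (.node 5102 (.node 5101 (.leaf 0x638506a5) (.leaf 0x63860349)) (.node 5103 (.leaf 0x63870a32) (.leaf 0x638806a4))))) (.node 5112 (.node 5108 (.node 5106 (.node 5105 (.leaf 0x638906f1) (.leaf 0x638a0a36)) (.node 5107 (.leaf 0x638b06a7) (.leaf 0x638c0386))) (.node 5110 (.node 5109 (.leaf 0x638d034a) (.leaf 0x638e06a6)) (.node 5111 (.leaf 0x638f0aed) (.leaf 0x63900b34)))) (.node 5116 (.node 5114 (.node 5113 (.leaf 0x639106a9) (.leaf 0x6392078b)) (.node 5115 (.leaf 0x6393034d) (.leaf 0x639406a8))) (.node 5118 (.node 5117 (.leaf 0x6395039b) (.leaf 0x639605c7)) (.node 5119 (.leaf 0x639706ab) (.leaf 0x6398034d))))))))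

/-- block of `tab` -/
def tab_20 : Tr := .node 5248 (.node 5184 (.node 5152 (.node 5136 (.node 5128 (.node 5124 (.node 5122 (.node 5121 (.leaf 0x63990a11) (.leaf 0x639a06aa)) (.node 5123 (.leaf 0x639b05c3) (.leaf 0x639c0357))) (.node 5126 (.node 5125 (.leaf 0x639d06ad) (.leaf 0x639e0350)) (.node 5127 (.leaf 0x639f06ae) (.leaf 0x63a006ac)))) (.node 5132 (.node 5130 (.node 5129 (.leaf 0x63a10a3b) (.leaf 0x63a20b36)) (.node 5131 (.leaf 0x63a306af) (.leaf 0x63a406ac))) (.node 5134 (.node 5133 (.leaf 0x63a50685) (.leaf 0x63a606ae)) (.node 5135 (.leaf 0x63a70b0a) (.leaf 0x63a8067d))))) (.node 5144 (.node 5140 (.node 5138 (.node 5137 (.leaf 0x63a906b1) (.leaf 0x63aa0a08)) (.node 5139 (.leaf 0x63ab0351) (.leaf 0x63ac06b0))) (.node 5142 (.node 5141 (.leaf 0x63ad0b38) (.leaf 0x63ae0359)) (.node 5143 (.leaf 0x63af06b3) (.leaf 0x63b00b3a)))) (.node 5148 (.node 5146 (.node 5145 (.leaf 0x63b10353) (.leaf 0x63b206b2)) (.node 5147 (.leaf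 0x63b30847) (.leaf 0x63b40b3c))) (.node 5150 (.node 5149 (.leaf 0x63b506b5) (.leaf 0x63b60353)) (.node 5151 (.leaf 0x63b70b3e) (.leaf 0x63b806b4)))))) (.node 5168 (.node 5160 (.node 5156 (.node 5154 (.node 5153 (.leaf 0x63b90868) (.leaf 0x63ba0b40)) (.node 5155 (.leaf 0x63bb06b7) (.leaf 0x63bc0b44))) (.node 5158 (.node 5157 (.leaf 0x63bd0355) (.leaf 0x63be06b6)) (.node 5159 (.leaf 0x63bf082f) (.leaf 0x63c00b48)))) (.node 5164 (.node 5162 (.node 5161 (.leaf 0x63c106b9) (.leaf 0x63c20355)) (.node 5163 (.leaf 0x63c30b4a) (.leaf 0x63c406b8))) (.node 5166 (.node 5165 (.leaf 0x63c50b4e) (.leaf 0x63c60769)) (.node 5167 (.leaf 0x63c706bb) (.leaf 0x63c806c0))))) (.node 5176 (.node 5172 (.node 5170 (.node 5169 (.leaf 0x63c90356) (.leaf 0x63ca06ba)) (.node 5171 (.leaf 0x63cb0b50) (.leaf 0x63cc0b52))) (.node 5174 (.node 5173 (.leaf 0x63cd06bd) (.leaf 0x63ce0357)) (.node 5175 (.leaf 0x63cf0b54) (.leaf 0x63d006bc)))) (.node 5180 (.node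 5178 (.node 5177 (.leaf 0x63d10869) (.leaf 0x63d20b51)) (.node 5179 (.leaf 0x63d306bf) (.leaf 0x63d40358))) (.node 5182 (.node 5181 (.leaf 0x63d506c0) (.leaf 0x63d606be)) (.node 5183 (.leaf 0x63d7087d) (.leaf 0x63d80b56))))))) (.node 5216 (.node 5200 (.node 5192 (.node 5188 (.node 5186 (.node 5185 (.leaf 0x63d906c1) (.leaf 0x63da06be)) (.node 5187 (.leaf 0x63db06ba) (.leaf 0x63dc06c0))) (.node 5190 (.node 5189 (.leaf 0x63dd0b58) (.leaf 0x63de0b2b)) (.node 5191 (.leaf 0x63df06c3) (.leaf 0x63e00518)))) (.node 5196 (.node 5194 (.node 5193 (.leaf 0x63e1035a) (.leaf 0x63e206c2)) (.node 5195 (.leaf 0x63e30b5c) (.leaf 0x63e40b5e))) (.node 5198 (.node 5197 (.leaf 0x63e506c5) (.leaf 0x63e60830)) (.node 5199 (.leaf 0x63e7035b) (.leaf 0x63e806c4))))) (.node 5208 (.node 5204 (.node 5202 (.node 5201 (.leaf 0x63e90571) (.leaf 0x63ea0a84)) (.node 5203 (.leaf 0x63eb06c7) (.leaf 0x63ec04a9))) (.node 5206 (.node 5205 (.leaf 0x63ed0361)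 (.leaf 0x63ee06c6)) (.node 5207 (.leaf 0x63ef0527) (.leaf 0x63f0094b)))) (.node 5212 (.node 5210 (.node 5209 (.leaf 0x63f106c9) (.leaf 0x63f20361)) (.node 5211 (.leaf 0x63f30b60) (.leaf 0x63f406c8))) (.node 5214 (.node 5213 (.leaf 0x63f5074c) (.leaf 0x63f609b9)) (.node 5215 (.leaf 0x63f706cb) (.leaf 0x63f80365)))))) (.node 5232 (.node 5224 (.node 5220 (.node 5218 (.node 5217 (.leaf 0x63f90ac9) (.leaf 0x63fa06ca)) (.node 5219 (.leaf 0x63fb0a3d) (.leaf 0x63fc0a7c))) (.node 5222 (.node 5221 (.leaf 0x63fd06cd) (.leaf 0x63fe06d2)) (.node 5223 (.leaf 0x63ff0368) (.leaf 0x640006cc)))) (.node 5228 (.node 5226 (.node 5225 (.leaf 0x64010452) (.leaf 0x64020828)) (.node 5227 (.leaf 0x640306cf) (.leaf 0x640409b3))) (.node 5230 (.node 5229 (.leaf 0x64050369) (.leaf 0x640606ce)) (.node 5231 (.leaf 0x6407056b) (.leaf 0x64080ae1))))) (.node 5240 (.node 5236 (.node 5234 (.node 5233 (.leaf 0x640906d1) (.leaf 0x640a036a)) (.node 5235 (.leaf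 0x640b06d2) (.leaf 0x640c06d0))) (.node 5238 (.node 5237 (.leaf 0x640d0b62) (.leaf 0x640e0b64)) (.node 5239 (.leaf 0x640f06d3) (.leaf 0x641006d0)))) (.node 5244 (.node 5242 (.node 5241 (.leaf 0x641106cc) (.leaf 0x641206d2)) (.node 5243 (.leaf 0x64130549) (.leaf 0x64140a63))) (.node 5246 (.node 5245 (.leaf 0x641506d5) (.leaf 0x64160744)) (.node 5247 (.leaf 0x6417036b) (.leaf 0x641806d4)))))))) (.node 5312 (.node 5280 (.node 5264 (.node 5256 (.node 5252 (.node 5250 (.node 5249 (.leaf 0x64190b66) (.leaf 0x641a046f)) (.node 5251 (.leaf 0x641b06d7) (.leaf 0x641c036d))) (.node 5254 (.node 5253 (.leaf 0x641d03a9) (.leaf 0x641e06d6)) (.node 5255 (.leaf 0x641f064f) (.leaf 0x64200a78)))) (.node 5260 (.node 5258 (.node 5257 (.leaf 0x642106d9) (.leaf 0x6422036f)) (.node 5259 (.leaf 0x64230901) (.leaf 0x642406d8))) (.node 5262 (.node 5261 (.leaf 0x64250699) (.leaf 0x64260b68)) (.node 5263 (.leaf 0x642706db) (.leaf 0x64280828))))) (.node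 5272 (.node 5268 (.node 5266 (.node 5265 (.leaf 0x64290373) (.leaf 0x642a06da)) (.node 5267 (.leaf 0x642b06ef) (.leaf 0x642c0af3))) (.node 5270 (.node 5269 (.leaf 0x642d06dd) (.leaf 0x642e0b6a)) (.node 5271 (.leaf 0x642f0375) (.leaf 0x643006dc)))) (.node 5276 (.node 5274 (.node 5273 (.leaf 0x64310b6b) (.leaf 0x64320b6c)) (.node 5275 (.leaf 0x643306df) (.leaf 0x64340375))) (.node 5278 (.node 5277 (.leaf 0x64350b6e) (.leaf 0x643606de)) (.node 5279 (.leaf 0x64370b74) (.leaf 0x64380b76)))))) (.node 5296 (.node 5288 (.node 5284 (.node 5282 (.node 5281 (.leaf 0x643906e1) (.leaf 0x643a0377)) (.node 5283 (.leaf 0x643b0720) (.leaf 0x643c06e0))) (.node 5286 (.node 5285 (.leaf 0x643d0585) (.leaf 0x643e06e2)) (.node 5287 (.leaf 0x643f06e3) (.leaf 0x644006e1)))) (.node 5292 (.node 5290 (.node 5289 (.leaf 0x64410558) (.leaf 0x644206e2)) (.node 5291 (.leaf 0x64430b78) (.leaf 0x64440961))) (.node 5294 (.node 5293 (.leaf 0x644506e5) (.leaf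 0x644606ea)) (.node 5295 (.leaf 0x64470378) (.leaf 0x644806e4))))) (.node 5304 (.node 5300 (.node 5298 (.node 5297 (.leaf 0x6449061d) (.leaf 0x644a0a9a)) (.node 5299 (.leaf 0x644b06e7) (.leaf 0x644c09e4))) (.node 5302 (.node 5301 (.leaf 0x644d0379) (.leaf 0x644e06e6)) (.node 5303 (.leaf 0x644f0b7a) (.leaf 0x64500b7c)))) (.node 5308 (.node 5306 (.node 5305 (.leaf 0x645106e9) (.leaf 0x6452037a)) (.node 5307 (.leaf 0x645306ea) (.leaf 0x645406e8))) (.node 5310 (.node 5309 (.leaf 0x64550b7e) (.leaf 0x64560547)) (.node 5311 (.leaf 0x645706eb) (.leaf 0x645806e8))))))) (.node 5344 (.node 5328 (.node 5320 (.node 5316 (.node 5314 (.node 5313 (.leaf 0x645906e4) (.leaf 0x645a06ea)) (.node 5315 (.leaf 0x645b0b80) (.leaf 0x645c0b82))) (.node 5318 (.node 5317 (.leaf 0x645d06ed) (.leaf 0x645e0730)) (.node 5319 (.leaf 0x645f037b) (.leaf 0x646006ec)))) (.node 5324 (.node 5322 (.node 5321 (.leaf 0x646103f1) (.leaf 0x64620b6d)) (.node 5323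 (.leaf 0x646306ef) (.leaf 0x64640385))) (.node 5326 (.node 5325 (.leaf 0x64650523) (.leaf 0x646606ee)) (.node 5327 (.leaf 0x64670b84) (.leaf 0x646806db))))) (.node 5336 (.node 5332 (.node 5330 (.node 5329 (.leaf 0x646906f1) (.leaf 0x646a0a40)) (.node 5331 (.leaf 0x646b0389) (.leaf 0x646c06f0))) (.node 5334 (.node 5333 (.leaf 0x646d0a42) (.leaf 0x646e06a5)) (.node 5335 (.leaf 0x646f06f3) (.leaf 0x6470038c)))) (.node 5340 (.node 5338 (.node 5337 (.leaf 0x647104a6) (.leaf 0x647206f2)) (.node 5339 (.leaf 0x64730b86) (.leaf 0x64740b88))) (.node 5342 (.node 5341 (.leaf 0x647506f5) (.leaf 0x6476038d)) (.node 5343 (.leaf 0x64770a70) (.leaf 0x647806f4)))))) (.node 5360 (.node 5352 (.node 5348 (.node 5346 (.node 5345 (.leaf 0x64790ae1) (.leaf 0x647a04f3)) (.node 5347 (.leaf 0x647b06f7) (.leaf 0x647c06fc))) (.node 5350 (.node 5349 (.leaf 0x647d038e) (.leaf 0x647e06f6)) (.node 5351 (.leaf 0x647f0b8a) (.leaf 0x64800a49)))) (.node 5356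 (.node 5354 (.node 5353 (.leaf 0x648106f9) (.leaf 0x6482038f)) (.node 5355 (.leaf 0x6483079a) (.leaf 0x648406f8))) (.node 5358 (.node 5357 (.leaf 0x64850399) (.leaf 0x64860b8c)) (.node 5359 (.leaf 0x648706fb) (.leaf 0x64880390))))) (.node 5368 (.node 5364 (.node 5362 (.node 5361 (.leaf 0x648906fc) (.leaf 0x648a06fa)) (.node 5363 (.leaf 0x648b0b8e) (.leaf 0x648c03a5))) (.node 5366 (.node 5365 (.leaf 0x648d06fd) (.leaf 0x648e06fa)) (.node 5367 (.leaf 0x648f06f6) (.leaf 0x649006fc)))) (.node 5372 (.node 5370 (.node 5369 (.leaf 0x6491070f) (.leaf 0x64920b90)) (.node 5371 (.leaf 0x649306ff) (.leaf 0x64940b92))) (.node 5374 (.node 5373 (.leaf 0x64950395) (.leaf 0x649606fe)) (.node 5375 (.leaf 0x64970ab1) (.leaf 0x64980a60))))))))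

/-- block of `tab` -/
def tab_21 : Tr := .node 5504 (.node 5440 (.node 5408 (.node 5392 (.node 5384 (.node 5380 (.node 5378 (.node 5377 (.leaf 0x64990701) (.leaf 0x649a0395)) (.node 5379 (.leaf 0x649b0b96) (.leaf 0x649c0700))) (.node 5382 (.node 5381 (.leaf 0x649d0b98) (.leaf 0x649e0847)) (.node 5383 (.leaf 0x649f0703) (.leaf 0x64a00b9a)))) (.node 5388 (.node 5386 (.node 5385 (.leaf 0x64a10397) (.leaf 0x64a20702)) (.node 5387 (.leaf 0x64a30631) (.leaf 0x64a40b9c))) (.node 5390 (.node 5389 (.leaf 0x64a50705) (.leaf 0x64a60397)) (.node 5391 (.leaf 0x64a70b9e) (.leaf 0x64a80704))))) (.node 5400 (.node 5396 (.node 5394 (.node 5393 (.leaf 0x64a90ae6) (.leaf 0x64aa0a6f)) (.node 5395 (.leaf 0x64ab0707) (.leaf 0x64ac070a))) (.node 5398 (.node 5397 (.leaf 0x64ad0398) (.leaf 0x64ae0706)) (.node 5399 (.leaf 0x64af0ba2) (.leaf 0x64b00955)))) (.node 5404 (.node 5402 (.node 5401 (.leaf 0x64b10709) (.leaf 0x64b2039a)) (.node 5403 (.leaf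 0x64b3070a) (.leaf 0x64b40708))) (.node 5406 (.node 5405 (.leaf 0x64b50ba6) (.leaf 0x64b60ba8)) (.node 5407 (.leaf 0x64b7070b) (.leaf 0x64b80708)))))) (.node 5424 (.node 5416 (.node 5412 (.node 5410 (.node 5409 (.leaf 0x64b90706) (.leaf 0x64ba070a)) (.node 5411 (.leaf 0x64bb0baa) (.leaf 0x64bc0bac))) (.node 5414 (.node 5413 (.leaf 0x64bd070d) (.leaf 0x64be0bae)) (.node 5415 (.leaf 0x64bf039b) (.leaf 0x64c0070c)))) (.node 5420 (.node 5418 (.node 5417 (.leaf 0x64c10ba9) (.leaf 0x64c20a61)) (.node 5419 (.leaf 0x64c3070f) (.leaf 0x64c40bb0))) (.node 5422 (.node 5421 (.leaf 0x64c5039d) (.leaf 0x64c6070e)) (.node 5423 (.leaf 0x64c70bb2) (.leaf 0x64c806fd))))) (.node 5432 (.node 5428 (.node 5426 (.node 5425 (.leaf 0x64c90711) (.leaf 0x64ca039d)) (.node 5427 (.leaf 0x64cb07ff) (.leaf 0x64cc0710))) (.node 5430 (.node 5429 (.leaf 0x64cd0996) (.leaf 0x64ce0bb6)) (.node 5431 (.leaf 0x64cf0713) (.leaf 0x64d00718)))) (.node 5436 (.node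 5434 (.node 5433 (.leaf 0x64d1039e) (.leaf 0x64d20712)) (.node 5435 (.leaf 0x64d30bb8) (.leaf 0x64d40bba))) (.node 5438 (.node 5437 (.leaf 0x64d50715) (.leaf 0x64d60bbc)) (.node 5439 (.leaf 0x64d7039f) (.leaf 0x64d80714))))))) (.node 5472 (.node 5456 (.node 5448 (.node 5444 (.node 5442 (.node 5441 (.leaf 0x64d90725) (.leaf 0x64da0488)) (.node 5443 (.leaf 0x64db0717) (.leaf 0x64dc039f))) (.node 5446 (.node 5445 (.leaf 0x64dd0bbe) (.leaf 0x64de0716)) (.node 5447 (.leaf 0x64df0997) (.leaf 0x64e004a3)))) (.node 5452 (.node 5450 (.node 5449 (.leaf 0x64e10719) (.leaf 0x64e2065d)) (.node 5451 (.leaf 0x64e30712) (.leaf 0x64e40718))) (.node 5454 (.node 5453 (.leaf 0x64e50ae5) (.leaf 0x64e609c2)) (.node 5455 (.leaf 0x64e7071b) (.leaf 0x64e80bc2))))) (.node 5464 (.node 5460 (.node 5458 (.node 5457 (.leaf 0x64e903a1) (.leaf 0x64ea071a)) (.node 5459 (.leaf 0x64eb0bc4) (.leaf 0x64ec0b03))) (.node 5462 (.node 5461 (.leaf 0x64ed071d)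 (.leaf 0x64ee03a1)) (.node 5463 (.leaf 0x64ef0bc6) (.leaf 0x64f0071c)))) (.node 5468 (.node 5466 (.node 5465 (.leaf 0x64f10bca) (.leaf 0x64f203e5)) (.node 5467 (.leaf 0x64f3071f) (.leaf 0x64f40720))) (.node 5470 (.node 5469 (.leaf 0x64f503a3) (.leaf 0x64f6071e)) (.node 5471 (.leaf 0x64f70bcc) (.leaf 0x64f80bce)))))) (.node 5488 (.node 5480 (.node 5476 (.node 5474 (.node 5473 (.leaf 0x64f90721) (.leaf 0x64fa06e0)) (.node 5475 (.leaf 0x64fb071e) (.leaf 0x64fc0720))) (.node 5478 (.node 5477 (.leaf 0x64fd0992) (.leaf 0x64fe0537)) (.node 5479 (.leaf 0x64ff0723) (.leaf 0x650003a5)))) (.node 5484 (.node 5482 (.node 5481 (.leaf 0x650109d7) (.leaf 0x65020722)) (.node 5483 (.leaf 0x65030b75) (.leaf 0x65040bd0))) (.node 5486 (.node 5485 (.leaf 0x65050725) (.leaf 0x650603ab)) (.node 5487 (.leaf 0x65070775) (.leaf 0x65080724))))) (.node 5496 (.node 5492 (.node 5490 (.node 5489 (.leaf 0x650907d4) (.leaf 0x650a0715)) (.node 5491 (.leaf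 0x650b0727) (.leaf 0x650c0695))) (.node 5494 (.node 5493 (.leaf 0x650d03ad) (.leaf 0x650e0726)) (.node 5495 (.leaf 0x650f0b85) (.leaf 0x65100bab)))) (.node 5500 (.node 5498 (.node 5497 (.leaf 0x65110729) (.leaf 0x651205b5)) (.node 5499 (.leaf 0x651305bd) (.leaf 0x65140728))) (.node 5502 (.node 5501 (.leaf 0x65150bda) (.leaf 0x65160bdc)) (.node 5503 (.leaf 0x6517072b) (.leaf 0x6518075b)))))))) (.node 5568 (.node 5536 (.node 5520 (.node 5512 (.node 5508 (.node 5506 (.node 5505 (.leaf 0x651903af) (.leaf 0x651a072a)) (.node 5507 (.leaf 0x651b0769) (.leaf 0x651c0bde))) (.node 5510 (.node 5509 (.leaf 0x651d072d) (.leaf 0x651e03af)) (.node 5511 (.leaf 0x651f0a1e) (.leaf 0x6520072c)))) (.node 5516 (.node 5514 (.node 5513 (.leaf 0x65210b7f) (.leaf 0x65220735)) (.node 5515 (.leaf 0x6523072f) (.leaf 0x65240a28))) (.node 5518 (.node 5517 (.leaf 0x652503b1) (.leaf 0x6526072e)) (.node 5519 (.leaf 0x65270739) (.leaf 0x65280739))))) (.node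 5528 (.node 5524 (.node 5522 (.node 5521 (.leaf 0x65290731) (.leaf 0x652a0403)) (.node 5523 (.leaf 0x652b06ec) (.leaf 0x652c0730))) (.node 5526 (.node 5525 (.leaf 0x652d04eb) (.leaf 0x652e0647)) (.node 5527 (.leaf 0x652f0733) (.leaf 0x653003b3)))) (.node 5532 (.node 5530 (.node 5529 (.leaf 0x65310be0) (.leaf 0x65320732)) (.node 5531 (.leaf 0x65330adb) (.leaf 0x65340be4))) (.node 5534 (.node 5533 (.leaf 0x65350735) (.leaf 0x65360a2c)) (.node 5535 (.leaf 0x653703b5) (.leaf 0x65380734)))))) (.node 5552 (.node 5544 (.node 5540 (.node 5538 (.node 5537 (.leaf 0x6539072d) (.leaf 0x653a0a99)) (.node 5539 (.leaf 0x653b0737) (.leaf 0x653c03b5))) (.node 5542 (.node 5541 (.leaf 0x653d062b) (.leaf 0x653e0736)) (.node 5543 (.leaf 0x653f0be6) (.leaf 0x65400631)))) (.node 5548 (.node 5546 (.node 5545 (.leaf 0x65410739) (.leaf 0x654203b7)) (.node 5547 (.leaf 0x65430a1a) (.leaf 0x65440738))) (.node 5550 (.node 5549 (.leaf 0x6545072f) (.leaf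 0x6546072f)) (.node 5551 (.leaf 0x6547073b) (.leaf 0x6548061a))))) (.node 5560 (.node 5556 (.node 5554 (.node 5553 (.leaf 0x6549058b) (.leaf 0x654a073a)) (.node 5555 (.leaf 0x654b076d) (.leaf 0x654c0591))) (.node 5558 (.node 5557 (.leaf 0x654d073d) (.leaf 0x654e0be8)) (.node 5559 (.leaf 0x654f03b9) (.leaf 0x6550073c)))) (.node 5564 (.node 5562 (.node 5561 (.leaf 0x65510bec) (.leaf 0x65520bee)) (.node 5563 (.leaf 0x6553073f) (.leaf 0x65540a85))) (.node 5566 (.node 5565 (.leaf 0x655503bd) (.leaf 0x6556073e)) (.node 5567 (.leaf 0x655707d7) (.leaf 0x65580921))))))) (.node 5600 (.node 5584 (.node 5576 (.node 5572 (.node 5570 (.node 5569 (.leaf 0x65590741) (.leaf 0x655a03bd)) (.node 5571 (.leaf 0x655b07bf) (.leaf 0x655c0740))) (.node 5574 (.node 5573 (.leaf 0x655d0b63) (.leaf 0x655e09ae)) (.node 5575 (.leaf 0x655f0743) (.leaf 0x656003be)))) (.node 5580 (.node 5578 (.node 5577 (.leaf 0x65610744) (.leaf 0x65620742)) (.node 5579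 (.leaf 0x65630b35) (.leaf 0x65640bf2))) (.node 5582 (.node 5581 (.leaf 0x65650745) (.leaf 0x65660742)) (.node 5583 (.leaf 0x656706d4) (.leaf 0x65680744))))) (.node 5592 (.node 5588 (.node 5586 (.node 5585 (.leaf 0x65690459) (.leaf 0x656a03d0)) (.node 5587 (.leaf 0x656b0747) (.leaf 0x656c03bf))) (.node 5590 (.node 5589 (.leaf 0x656d0bf4) (.leaf 0x656e0746)) (.node 5591 (.leaf 0x656f0bf8) (.leaf 0x65700aa7)))) (.node 5596 (.node 5594 (.node 5593 (.leaf 0x65710749) (.leaf 0x65720a39)) (.node 5595 (.leaf 0x657303c1) (.leaf 0x65740748))) (.node 5598 (.node 5597 (.leaf 0x657505b7) (.leaf 0x657607f7)) (.node 5599 (.leaf 0x6577074b) (.leaf 0x65780885)))))) (.node 5616 (.node 5608 (.node 5604 (.node 5602 (.node 5601 (.leaf 0x657903c3) (.leaf 0x657a074a)) (.node 5603 (.leaf 0x657b0b48) (.leaf 0x657c0b1f))) (.node 5606 (.node 5605 (.leaf 0x657d074d) (.leaf 0x657e03c3)) (.node 5607 (.leaf 0x657f06c9) (.leaf 0x6580074c)))) (.node 5612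 (.node 5610 (.node 5609 (.leaf 0x65810923) (.leaf 0x6582060b)) (.node 5611 (.leaf 0x6583074f) (.leaf 0x658403c4))) (.node 5614 (.node 5613 (.leaf 0x65850750) (.leaf 0x6586074e)) (.node 5615 (.leaf 0x65870a44) (.leaf 0x65880ad0))))) (.node 5624 (.node 5620 (.node 5618 (.node 5617 (.leaf 0x65890751) (.leaf 0x658a074e)) (.node 5619 (.leaf 0x658b0696) (.leaf 0x658c0750))) (.node 5622 (.node 5621 (.leaf 0x658d0bfa) (.leaf 0x658e0bef)) (.node 5623 (.leaf 0x658f0753) (.leaf 0x65900bfc)))) (.node 5628 (.node 5626 (.node 5625 (.leaf 0x659103c5) (.leaf 0x65920752)) (.node 5627 (.leaf 0x659307f8) (.leaf 0x659407f6))) (.node 5630 (.node 5629 (.leaf 0x65950755) (.leaf 0x659603c5)) (.node 5631 (.leaf 0x65970559) (.leaf 0x65980754))))))))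

/-- block of `tab` -/
def tab_22 : Tr := .node 5760 (.node 5696 (.node 5664 (.node 5648 (.node 5640 (.node 5636 (.node 5634 (.node 5633 (.leaf 0x659908b0) (.leaf 0x659a052a)) (.node 5635 (.leaf 0x659b0757) (.leaf 0x659c063f))) (.node 5638 (.node 5637 (.leaf 0x659d03c7) (.leaf 0x659e0756)) (.node 5639 (.leaf 0x659f0912) (.leaf 0x65a0090a)))) (.node 5644 (.node 5642 (.node 5641 (.leaf 0x65a10759) (.leaf 0x65a203c7)) (.node 5643 (.leaf 0x65a309b8) (.leaf 0x65a40758))) (.node 5646 (.node 5645 (.leaf 0x65a50acb) (.leaf 0x65a60bfe)) (.node 5647 (.leaf 0x65a7075b) (.leaf 0x65a80c00))))) (.node 5656 (.node 5652 (.node 5650 (.node 5649 (.leaf 0x65a903cb) (.leaf 0x65aa075a)) (.node 5651 (.leaf 0x65ab05ad) (.leaf 0x65ac072a))) (.node 5654 (.node 5653 (.leaf 0x65ad075d) (.leaf 0x65ae03cb)) (.node 5655 (.leaf 0x65af0bcd) (.leaf 0x65b0075c)))) (.node 5660 (.node 5658 (.node 5657 (.leaf 0x65b10c02) (.leaf 0x65b20aaa)) (.node 5659 (.leaf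 0x65b3075f) (.leaf 0x65b40516))) (.node 5662 (.node 5661 (.leaf 0x65b503cd) (.leaf 0x65b6075e)) (.node 5663 (.leaf 0x65b70c04) (.leaf 0x65b80c06)))))) (.node 5680 (.node 5672 (.node 5668 (.node 5666 (.node 5665 (.leaf 0x65b90761) (.leaf 0x65ba0a7b)) (.node 5667 (.leaf 0x65bb03cf) (.leaf 0x65bc0760))) (.node 5670 (.node 5669 (.leaf 0x65bd0638) (.leaf 0x65be090b)) (.node 5671 (.leaf 0x65bf0763) (.leaf 0x65c003cf)))) (.node 5676 (.node 5674 (.node 5673 (.leaf 0x65c10c08) (.leaf 0x65c20762)) (.node 5675 (.leaf 0x65c30a3c) (.leaf 0x65c40a27))) (.node 5678 (.node 5677 (.leaf 0x65c50765) (.leaf 0x65c60bd2)) (.node 5679 (.leaf 0x65c703d1) (.leaf 0x65c80764))))) (.node 5688 (.node 5684 (.node 5682 (.node 5681 (.leaf 0x65c90c0a) (.leaf 0x65ca0c0c)) (.node 5683 (.leaf 0x65cb0767) (.leaf 0x65cc03d2))) (.node 5686 (.node 5685 (.leaf 0x65cd0459) (.leaf 0x65ce0766)) (.node 5687 (.leaf 0x65cf0b43) (.leaf 0x65d00417)))) (.node 5692 (.node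 5690 (.node 5689 (.leaf 0x65d10769) (.leaf 0x65d20c0e)) (.node 5691 (.leaf 0x65d303d3) (.leaf 0x65d40768))) (.node 5694 (.node 5693 (.leaf 0x65d506b9) (.leaf 0x65d6072b)) (.node 5695 (.leaf 0x65d7076b) (.leaf 0x65d803d3))))))) (.node 5728 (.node 5712 (.node 5704 (.node 5700 (.node 5698 (.node 5697 (.leaf 0x65d90c10) (.leaf 0x65da076a)) (.node 5699 (.leaf 0x65db0c12) (.leaf 0x65dc03d9))) (.node 5702 (.node 5701 (.leaf 0x65dd076d) (.leaf 0x65de03d5)) (.node 5703 (.leaf 0x65df057f) (.leaf 0x65e0076c)))) (.node 5708 (.node 5706 (.node 5705 (.leaf 0x65e10647) (.leaf 0x65e2073b)) (.node 5707 (.leaf 0x65e3076f) (.leaf 0x65e40772))) (.node 5710 (.node 5709 (.leaf 0x65e503d8) (.leaf 0x65e6076e)) (.node 5711 (.leaf 0x65e70c14) (.leaf 0x65e80a30))))) (.node 5720 (.node 5716 (.node 5714 (.node 5713 (.leaf 0x65e90771) (.leaf 0x65ea03d9)) (.node 5715 (.leaf 0x65eb0bbf) (.leaf 0x65ec0770))) (.node 5718 (.node 5717 (.leaf 0x65ed06a3)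 (.leaf 0x65ee049f)) (.node 5719 (.leaf 0x65ef0773) (.leaf 0x65f0045e)))) (.node 5724 (.node 5722 (.node 5721 (.leaf 0x65f1076e) (.leaf 0x65f20772)) (.node 5723 (.leaf 0x65f30593) (.leaf 0x65f40ad8))) (.node 5726 (.node 5725 (.leaf 0x65f50775) (.leaf 0x65f6077a)) (.node 5727 (.leaf 0x65f703e0) (.leaf 0x65f80774)))))) (.node 5744 (.node 5736 (.node 5732 (.node 5730 (.node 5729 (.leaf 0x65f90724) (.leaf 0x65fa0bd2)) (.node 5731 (.leaf 0x65fb0777) (.leaf 0x65fc0786))) (.node 5734 (.node 5733 (.leaf 0x65fd03e1) (.leaf 0x65fe0776)) (.node 5735 (.leaf 0x65ff0c18) (.leaf 0x66000c1a)))) (.node 5740 (.node 5738 (.node 5737 (.leaf 0x66010779) (.leaf 0x660203e2)) (.node 5739 (.leaf 0x6603077a) (.leaf 0x66040778))) (.node 5742 (.node 5741 (.leaf 0x66050c1c) (.leaf 0x66060b2d)) (.node 5743 (.leaf 0x6607077b) (.leaf 0x66080778))))) (.node 5752 (.node 5748 (.node 5746 (.node 5745 (.leaf 0x66090774) (.leaf 0x660a077a)) (.node 5747 (.leaf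 0x660b0c1e) (.leaf 0x660c0c20))) (.node 5750 (.node 5749 (.leaf 0x660d077d) (.leaf 0x660e0c24)) (.node 5751 (.leaf 0x660f03e3) (.leaf 0x6610077c)))) (.node 5756 (.node 5754 (.node 5753 (.leaf 0x66110a6c) (.leaf 0x661205d7)) (.node 5755 (.leaf 0x6613077f) (.leaf 0x661403e3))) (.node 5758 (.node 5757 (.leaf 0x66150c26) (.leaf 0x6616077e)) (.node 5759 (.leaf 0x66170c28) (.leaf 0x66180599)))))))) (.node 5824 (.node 5792 (.node 5776 (.node 5768 (.node 5764 (.node 5762 (.node 5761 (.leaf 0x66190781) (.leaf 0x661a03e5)) (.node 5763 (.leaf 0x661b0c2a) (.leaf 0x661c0780))) (.node 5766 (.node 5765 (.leaf 0x661d0c2e) (.leaf 0x661e0c30)) (.node 5767 (.leaf 0x661f0783) (.leaf 0x66200c32)))) (.node 5772 (.node 5770 (.node 5769 (.leaf 0x662103e7) (.leaf 0x66220782)) (.node 5771 (.leaf 0x66230c34) (.leaf 0x66240c36))) (.node 5774 (.node 5773 (.leaf 0x66250785) (.leaf 0x662603e8)) (.node 5775 (.leaf 0x66270786) (.leaf 0x66280784))))) (.node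 5784 (.node 5780 (.node 5778 (.node 5777 (.leaf 0x662908f1) (.leaf 0x662a0bf1)) (.node 5779 (.leaf 0x662b0787) (.leaf 0x662c0784))) (.node 5782 (.node 5781 (.leaf 0x662d0776) (.leaf 0x662e0786)) (.node 5783 (.leaf 0x662f0c3a) (.leaf 0x66300c3c)))) (.node 5788 (.node 5786 (.node 5785 (.leaf 0x66310789) (.leaf 0x66320c3e)) (.node 5787 (.leaf 0x663303e9) (.leaf 0x66340788))) (.node 5790 (.node 5789 (.leaf 0x66350c40) (.leaf 0x66360bc7)) (.node 5791 (.leaf 0x6637078b) (.leaf 0x663803e9)))))) (.node 5808 (.node 5800 (.node 5796 (.node 5794 (.node 5793 (.leaf 0x663909c7) (.leaf 0x663a078a)) (.node 5795 (.leaf 0x663b08f3) (.leaf 0x663c06a8))) (.node 5798 (.node 5797 (.leaf 0x663d078d) (.leaf 0x663e0794)) (.node 5799 (.leaf 0x663f03ea) (.leaf 0x6640078c)))) (.node 5804 (.node 5802 (.node 5801 (.leaf 0x66410c44) (.leaf 0x664208e5)) (.node 5803 (.leaf 0x6643078f) (.leaf 0x66440c46))) (.node 5806 (.node 5805 (.leaf 0x664503eb) (.leaf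 0x6646078e)) (.node 5807 (.leaf 0x6647056f) (.leaf 0x66480c48))))) (.node 5816 (.node 5812 (.node 5810 (.node 5809 (.leaf 0x66490791) (.leaf 0x664a03eb)) (.node 5811 (.leaf 0x664b0c4a) (.leaf 0x664c0790))) (.node 5814 (.node 5813 (.leaf 0x664d03ef) (.leaf 0x664e0967)) (.node 5815 (.leaf 0x664f0793) (.leaf 0x665003ec)))) (.node 5820 (.node 5818 (.node 5817 (.leaf 0x66510794) (.leaf 0x66520792)) (.node 5819 (.leaf 0x66530c4e) (.leaf 0x66540c50))) (.node 5822 (.node 5821 (.leaf 0x66550795) (.leaf 0x66560792)) (.node 5823 (.leaf 0x6657078c) (.leaf 0x66580794))))))) (.node 5856 (.node 5840 (.node 5832 (.node 5828 (.node 5826 (.node 5825 (.leaf 0x66590843) (.leaf 0x665a0c52)) (.node 5827 (.leaf 0x665b0797) (.leaf 0x665c079a))) (.node 5830 (.node 5829 (.leaf 0x665d03ee) (.leaf 0x665e0796)) (.node 5831 (.leaf 0x665f0a07) (.leaf 0x666008c9)))) (.node 5836 (.node 5834 (.node 5833 (.leaf 0x66610799) (.leaf 0x66620c54)) (.node 5835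 (.leaf 0x666303ef) (.leaf 0x66640798))) (.node 5838 (.node 5837 (.leaf 0x66650c58) (.leaf 0x66660c5a)) (.node 5839 (.leaf 0x6667079b) (.leaf 0x666806f8))))) (.node 5848 (.node 5844 (.node 5842 (.node 5841 (.leaf 0x66690796) (.leaf 0x666a079a)) (.node 5843 (.leaf 0x666b0a09) (.leaf 0x666c0a42))) (.node 5846 (.node 5845 (.leaf 0x666d079d) (.leaf 0x666e0c5c)) (.node 5847 (.leaf 0x666f03f1) (.leaf 0x6670079c)))) (.node 5852 (.node 5850 (.node 5849 (.leaf 0x66710c5e) (.leaf 0x667209d1)) (.node 5851 (.leaf 0x6673079f) (.leaf 0x667407a4))) (.node 5854 (.node 5853 (.leaf 0x667503f2) (.leaf 0x6676079e)) (.node 5855 (.leaf 0x66770b0c) (.leaf 0x66780b09)))))) (.node 5872 (.node 5864 (.node 5860 (.node 5858 (.node 5857 (.leaf 0x667907a1) (.leaf 0x667a0a4b)) (.node 5859 (.leaf 0x667b03f3) (.leaf 0x667c07a0))) (.node 5862 (.node 5861 (.leaf 0x667d07b3) (.leaf 0x667e0c62)) (.node 5863 (.leaf 0x667f07a3) (.leaf 0x668003f4)))) (.node 5868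 (.node 5866 (.node 5865 (.leaf 0x668107a4) (.leaf 0x668207a2)) (.node 5867 (.leaf 0x66830c64) (.leaf 0x66840acf))) (.node 5870 (.node 5869 (.leaf 0x668507a5) (.leaf 0x668607a2)) (.node 5871 (.leaf 0x6687079e) (.leaf 0x668807a4))))) (.node 5880 (.node 5876 (.node 5874 (.node 5873 (.leaf 0x66890ad1) (.leaf 0x668a0682)) (.node 5875 (.leaf 0x668b07a7) (.leaf 0x668c03f7))) (.node 5878 (.node 5877 (.leaf 0x668d0a07) (.leaf 0x668e07a6)) (.node 5879 (.leaf 0x668f053d) (.leaf 0x66900c66)))) (.node 5884 (.node 5882 (.node 5881 (.leaf 0x669107a9) (.leaf 0x669207ae)) (.node 5883 (.leaf 0x669303fc) (.leaf 0x669407a8))) (.node 5886 (.node 5885 (.leaf 0x66950c68) (.leaf 0x66960c6a)) (.node 5887 (.leaf 0x669707ab) (.leaf 0x669809fc))))))))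

/-- block of `tab` -/
def tab_23 : Tr := .node 6016 (.node 5952 (.node 5920 (.node 5904 (.node 5896 (.node 5892 (.node 5890 (.node 5889 (.leaf 0x669903fd) (.leaf 0x669a07aa)) (.node 5891 (.leaf 0x669b0c6c) (.leaf 0x669c0c6e))) (.node 5894 (.node 5893 (.leaf 0x669d07ad) (.leaf 0x669e03fe)) (.node 5895 (.leaf 0x669f07ae) (.leaf 0x66a007ac)))) (.node 5900 (.node 5898 (.node 5897 (.leaf 0x66a10451) (.leaf 0x66a20c70)) (.node 5899 (.leaf 0x66a307af) (.leaf 0x66a407ac))) (.node 5902 (.node 5901 (.leaf 0x66a507a8) (.leaf 0x66a607ae)) (.node 5903 (.leaf 0x66a70b42) (.leaf 0x66a80c72))))) (.node 5912 (.node 5908 (.node 5906 (.node 5905 (.leaf 0x66a907b1) (.leaf 0x66aa03ff)) (.node 5907 (.leaf 0x66ab0c76) (.leaf 0x66ac07b0))) (.node 5910 (.node 5909 (.leaf 0x66ad0599) (.leaf 0x66ae0405)) (.node 5911 (.leaf 0x66af07b3) (.leaf 0x66b00401)))) (.node 5916 (.node 5914 (.node 5913 (.leaf 0x66b105b9) (.leaf 0x66b207b2)) (.node 5915 (.leaf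 0x66b30643) (.leaf 0x66b407a1))) (.node 5918 (.node 5917 (.leaf 0x66b507b5) (.leaf 0x66b60405)) (.node 5919 (.leaf 0x66b70c28) (.leaf 0x66b807b4)))))) (.node 5936 (.node 5928 (.node 5924 (.node 5922 (.node 5921 (.leaf 0x66b9085f) (.leaf 0x66ba0c7a)) (.node 5923 (.leaf 0x66bb07b7) (.leaf 0x66bc07be))) (.node 5926 (.node 5925 (.leaf 0x66bd0406) (.leaf 0x66be07b6)) (.node 5927 (.leaf 0x66bf0c3b) (.leaf 0x66c00c7c)))) (.node 5932 (.node 5930 (.node 5929 (.leaf 0x66c107b9) (.leaf 0x66c20c7e)) (.node 5931 (.leaf 0x66c30407) (.leaf 0x66c407b8))) (.node 5934 (.node 5933 (.leaf 0x66c50c80) (.leaf 0x66c60c82)) (.node 5935 (.leaf 0x66c707bb) (.leaf 0x66c80407))))) (.node 5944 (.node 5940 (.node 5938 (.node 5937 (.leaf 0x66c909bf) (.leaf 0x66ca07ba)) (.node 5939 (.leaf 0x66cb0413) (.leaf 0x66cc0c86))) (.node 5942 (.node 5941 (.leaf 0x66cd07bd) (.leaf 0x66ce0408)) (.node 5943 (.leaf 0x66cf07be) (.leaf 0x66d007bc)))) (.node 5948 (.node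 5946 (.node 5945 (.leaf 0x66d10c88) (.leaf 0x66d20c8a)) (.node 5947 (.leaf 0x66d307bf) (.leaf 0x66d407bc))) (.node 5950 (.node 5949 (.leaf 0x66d507b6) (.leaf 0x66d607be)) (.node 5951 (.leaf 0x66d70740) (.leaf 0x66d80bf0))))))) (.node 5984 (.node 5968 (.node 5960 (.node 5956 (.node 5954 (.node 5953 (.leaf 0x66d907c1) (.leaf 0x66da0409)) (.node 5955 (.leaf 0x66db0c8c) (.leaf 0x66dc07c0))) (.node 5958 (.node 5957 (.leaf 0x66dd08fa) (.leaf 0x66de0833)) (.node 5959 (.leaf 0x66df07c3) (.leaf 0x66e0040a)))) (.node 5964 (.node 5962 (.node 5961 (.leaf 0x66e107c4) (.leaf 0x66e207c2)) (.node 5963 (.leaf 0x66e3095a) (.leaf 0x66e40978))) (.node 5966 (.node 5965 (.leaf 0x66e507c5) (.leaf 0x66e607c2)) (.node 5967 (.leaf 0x66e7058c) (.leaf 0x66e807c4))))) (.node 5976 (.node 5972 (.node 5970 (.node 5969 (.leaf 0x66e9088e) (.leaf 0x66ea0876)) (.node 5971 (.leaf 0x66eb07c7) (.leaf 0x66ec0620))) (.node 5974 (.node 5973 (.leaf 0x66ed040d)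 (.leaf 0x66ee07c6)) (.node 5975 (.leaf 0x66ef0c90) (.leaf 0x66f00c92)))) (.node 5980 (.node 5978 (.node 5977 (.leaf 0x66f107c9) (.leaf 0x66f20879)) (.node 5979 (.leaf 0x66f30411) (.leaf 0x66f407c8))) (.node 5982 (.node 5981 (.leaf 0x66f509e7) (.leaf 0x66f60c94)) (.node 5983 (.leaf 0x66f707cb) (.leaf 0x66f80411)))))) (.node 6000 (.node 5992 (.node 5988 (.node 5986 (.node 5985 (.leaf 0x66f90c96) (.leaf 0x66fa07ca)) (.node 5987 (.leaf 0x66fb087a) (.leaf 0x66fc0494))) (.node 5990 (.node 5989 (.leaf 0x66fd07cd) (.leaf 0x66fe0c89)) (.node 5991 (.leaf 0x66ff0413) (.leaf 0x670007cc)))) (.node 5996 (.node 5994 (.node 5993 (.leaf 0x670108fb) (.leaf 0x67020583)) (.node 5995 (.leaf 0x670307cf) (.leaf 0x67040a98))) (.node 5998 (.node 5997 (.leaf 0x67050415) (.leaf 0x670607ce)) (.node 5999 (.leaf 0x67070c7b) (.leaf 0x67080c9a))))) (.node 6008 (.node 6004 (.node 6002 (.node 6001 (.leaf 0x670907d1) (.leaf 0x670a0415)) (.node 6003 (.leaf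 0x670b04c9) (.leaf 0x670c07d0))) (.node 6006 (.node 6005 (.leaf 0x670d07ed) (.leaf 0x670e04cb)) (.node 6007 (.leaf 0x670f07d3) (.leaf 0x67100417)))) (.node 6012 (.node 6010 (.node 6009 (.leaf 0x67110c9c) (.leaf 0x671207d2)) (.node 6011 (.leaf 0x67130c30) (.leaf 0x67140ca0))) (.node 6014 (.node 6013 (.leaf 0x671507d5) (.leaf 0x67160419)) (.node 6015 (.leaf 0x67170725) (.leaf 0x671807d4)))))))) (.node 6080 (.node 6048 (.node 6032 (.node 6024 (.node 6020 (.node 6018 (.node 6017 (.leaf 0x67190c31) (.leaf 0x671a0a79)) (.node 6019 (.leaf 0x671b07d7) (.leaf 0x671c0626))) (.node 6022 (.node 6021 (.leaf 0x671d0601) (.leaf 0x671e07d6)) (.node 6023 (.leaf 0x671f04cf) (.leaf 0x6720073f)))) (.node 6028 (.node 6026 (.node 6025 (.leaf 0x672107d9) (.leaf 0x67220ca2)) (.node 6027 (.leaf 0x6723041b) (.leaf 0x672407d8))) (.node 6030 (.node 6029 (.leaf 0x67250ca4) (.leaf 0x67260c77)) (.node 6031 (.leaf 0x672707db) (.leaf 0x6728041b))))) (.node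 6040 (.node 6036 (.node 6034 (.node 6033 (.leaf 0x67290af1) (.leaf 0x672a07da)) (.node 6035 (.leaf 0x672b0827) (.leaf 0x672c0ca8))) (.node 6038 (.node 6037 (.leaf 0x672d07dd) (.leaf 0x672e0caa)) (.node 6039 (.leaf 0x672f041f) (.leaf 0x673007dc)))) (.node 6044 (.node 6042 (.node 6041 (.leaf 0x6731084b) (.leaf 0x67320cac)) (.node 6043 (.leaf 0x673307df) (.leaf 0x6734041f))) (.node 6046 (.node 6045 (.leaf 0x67350855) (.leaf 0x673607de)) (.node 6047 (.leaf 0x67370433) (.leaf 0x67380cae)))))) (.node 6064 (.node 6056 (.node 6052 (.node 6050 (.node 6049 (.leaf 0x673907e1) (.leaf 0x673a0423)) (.node 6051 (.leaf 0x673b0cb0) (.leaf 0x673c07e0))) (.node 6054 (.node 6053 (.leaf 0x673d0cb4) (.leaf 0x673e0cb6)) (.node 6055 (.leaf 0x673f07e3) (.leaf 0x67400cb8)))) (.node 6060 (.node 6058 (.node 6057 (.leaf 0x67410424) (.leaf 0x674207e2)) (.node 6059 (.leaf 0x67430cba) (.leaf 0x67440cbc))) (.node 6062 (.node 6061 (.leaf 0x674507e5) (.leaf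 0x67460424)) (.node 6063 (.leaf 0x67470cbe) (.leaf 0x674807e4))))) (.node 6072 (.node 6068 (.node 6066 (.node 6065 (.leaf 0x67490999) (.leaf 0x674a099a)) (.node 6067 (.leaf 0x674b07e7) (.leaf 0x674c0cc2))) (.node 6070 (.node 6069 (.leaf 0x674d0425) (.leaf 0x674e07e6)) (.node 6071 (.leaf 0x674f0cc4) (.leaf 0x675007eb)))) (.node 6076 (.node 6074 (.node 6073 (.leaf 0x675107e9) (.leaf 0x67520425)) (.node 6075 (.leaf 0x67530cc6) (.leaf 0x675407e8))) (.node 6078 (.node 6077 (.leaf 0x67550cc8) (.leaf 0x67560cca)) (.node 6079 (.leaf 0x675707eb) (.leaf 0x67580427))))))) (.node 6112 (.node 6096 (.node 6088 (.node 6084 (.node 6082 (.node 6081 (.leaf 0x675905a4) (.leaf 0x675a07ea)) (.node 6083 (.leaf 0x675b07e7) (.leaf 0x675c0ccc))) (.node 6086 (.node 6085 (.leaf 0x675d07ed) (.leaf 0x675e050e)) (.node 6087 (.leaf 0x675f0429) (.leaf 0x676007ec)))) (.node 6092 (.node 6090 (.node 6089 (.leaf 0x67610cce) (.leaf 0x676207d1)) (.node 6091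 (.leaf 0x676307ef) (.leaf 0x67640cd0))) (.node 6094 (.node 6093 (.leaf 0x6765042b) (.leaf 0x676607ee)) (.node 6095 (.leaf 0x67670ccb) (.leaf 0x67680cd2))))) (.node 6104 (.node 6100 (.node 6098 (.node 6097 (.leaf 0x676907f1) (.leaf 0x676a042b)) (.node 6099 (.leaf 0x676b0cd4) (.leaf 0x676c07f0))) (.node 6102 (.node 6101 (.leaf 0x676d07f3) (.leaf 0x676e0cd6)) (.node 6103 (.leaf 0x676f07f3) (.leaf 0x67700cd8)))) (.node 6108 (.node 6106 (.node 6105 (.leaf 0x6771042d) (.leaf 0x677207f2)) (.node 6107 (.leaf 0x67730cda) (.leaf 0x677407f1))) (.node 6110 (.node 6109 (.leaf 0x677507f5) (.leaf 0x6776042d)) (.node 6111 (.leaf 0x67770cdc) (.leaf 0x677807f4)))))) (.node 6128 (.node 6120 (.node 6116 (.node 6114 (.node 6113 (.leaf 0x67790cde) (.leaf 0x677a0ce0)) (.node 6115 (.leaf 0x677b07f7) (.leaf 0x677c0753))) (.node 6118 (.node 6117 (.leaf 0x677d042e) (.leaf 0x677e07f6)) (.node 6119 (.leaf 0x677f0749) (.leaf 0x67800ce2)))) (.node 6124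 (.node 6122 (.node 6121 (.leaf 0x678107f9) (.leaf 0x67820430)) (.node 6123 (.leaf 0x67830753) (.leaf 0x678407f8))) (.node 6126 (.node 6125 (.leaf 0x67850b08) (.leaf 0x6786067a)) (.node 6127 (.leaf 0x678707fb) (.leaf 0x67880ce4))))) (.node 6136 (.node 6132 (.node 6130 (.node 6129 (.leaf 0x67890431) (.leaf 0x678a07fa)) (.node 6131 (.leaf 0x678b0a55) (.leaf 0x678c043b))) (.node 6134 (.node 6133 (.leaf 0x678d07fd) (.leaf 0x678e0431)) (.node 6135 (.leaf 0x678f0ce6) (.leaf 0x679007fc)))) (.node 6140 (.node 6138 (.node 6137 (.leaf 0x67910cea) (.leaf 0x67920cec)) (.node 6139 (.leaf 0x679307ff) (.leaf 0x67940667))) (.node 6142 (.node 6141 (.leaf 0x67950432) (.leaf 0x679607fe)) (.node 6143 (.leaf 0x67970710) (.leaf 0x67980bb4))))))))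

/-- block of `tab` -/
def tab_24 : Tr := .node 6272 (.node 6208 (.node 6176 (.node 6160 (.node 6152 (.node 6148 (.node 6146 (.node 6145 (.leaf 0x67990801) (.leaf 0x679a0cee)) (.node 6147 (.leaf 0x679b0433) (.leaf 0x679c0800))) (.node 6150 (.node 6149 (.leaf 0x679d0cf2) (.leaf 0x679e0cf4)) (.node 6151 (.leaf 0x679f0803) (.leaf 0x67a00434)))) (.node 6156 (.node 6154 (.node 6153 (.leaf 0x67a10667) (.leaf 0x67a20802)) (.node 6155 (.leaf 0x67a30cf6) (.leaf 0x67a4065f))) (.node 6158 (.node 6157 (.leaf 0x67a50805) (.leaf 0x67a60cf8)) (.node 6159 (.leaf 0x67a70438) (.leaf 0x67a80804))))) (.node 6168 (.node 6164 (.node 6162 (.node 6161 (.leaf 0x67a9092c) (.leaf 0x67aa08ef)) (.node 6163 (.leaf 0x67ab0807) (.leaf 0x67ac0438))) (.node 6166 (.node 6165 (.leaf 0x67ad0cfa) (.leaf 0x67ae0806)) (.node 6167 (.leaf 0x67af0cfc) (.leaf 0x67b00cc7)))) (.node 6172 (.node 6170 (.node 6169 (.leaf 0x67b10809) (.leaf 0x67b20cbb)) (.node 6171 (.leaf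 0x67b30439) (.leaf 0x67b40808))) (.node 6174 (.node 6173 (.leaf 0x67b50ce1) (.leaf 0x67b60cc8)) (.node 6175 (.leaf 0x67b7080b) (.leaf 0x67b80439)))))) (.node 6192 (.node 6184 (.node 6180 (.node 6178 (.node 6177 (.leaf 0x67b90cfe) (.leaf 0x67ba080a)) (.node 6179 (.leaf 0x67bb0817) (.leaf 0x67bc0d00))) (.node 6182 (.node 6181 (.leaf 0x67bd080d) (.leaf 0x67be043b)) (.node 6183 (.leaf 0x67bf0d02) (.leaf 0x67c0080c)))) (.node 6188 (.node 6186 (.node 6185 (.leaf 0x67c10d04) (.leaf 0x67c20a57)) (.node 6187 (.leaf 0x67c3080f) (.leaf 0x67c40d06))) (.node 6190 (.node 6189 (.leaf 0x67c5043d) (.leaf 0x67c6080e)) (.node 6191 (.leaf 0x67c70c5f) (.leaf 0x67c80d08))))) (.node 6200 (.node 6196 (.node 6194 (.node 6193 (.leaf 0x67c90811) (.leaf 0x67ca0547)) (.node 6195 (.leaf 0x67cb043f) (.leaf 0x67cc0810))) (.node 6198 (.node 6197 (.leaf 0x67cd0551) (.leaf 0x67ce0815)) (.node 6199 (.leaf 0x67cf0813) (.leaf 0x67d0043f)))) (.node 6204 (.node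 6202 (.node 6201 (.leaf 0x67d10b7e) (.leaf 0x67d20812)) (.node 6203 (.leaf 0x67d30d0c) (.leaf 0x67d40d0e))) (.node 6206 (.node 6205 (.leaf 0x67d50815) (.leaf 0x67d60441)) (.node 6207 (.leaf 0x67d7050c) (.leaf 0x67d80814))))))) (.node 6240 (.node 6224 (.node 6216 (.node 6212 (.node 6210 (.node 6209 (.leaf 0x67d90811) (.leaf 0x67da0d10)) (.node 6211 (.leaf 0x67db0817) (.leaf 0x67dc04c4))) (.node 6214 (.node 6213 (.leaf 0x67dd0443) (.leaf 0x67de0816)) (.node 6215 (.leaf 0x67df0d12) (.leaf 0x67e0080b)))) (.node 6220 (.node 6218 (.node 6217 (.leaf 0x67e10819) (.leaf 0x67e20bf7)) (.node 6219 (.leaf 0x67e30445) (.leaf 0x67e40818))) (.node 6222 (.node 6221 (.leaf 0x67e50d14) (.leaf 0x67e60825)) (.node 6223 (.leaf 0x67e7081b) (.leaf 0x67e80445))))) (.node 6232 (.node 6228 (.node 6226 (.node 6225 (.leaf 0x67e90d16) (.leaf 0x67ea081a)) (.node 6227 (.leaf 0x67eb0c79) (.leaf 0x67ec0d1a))) (.node 6230 (.node 6229 (.leaf 0x67ed081d)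 (.leaf 0x67ee0d1c)) (.node 6231 (.leaf 0x67ef0447) (.leaf 0x67f0081c)))) (.node 6236 (.node 6234 (.node 6233 (.leaf 0x67f10d0f) (.leaf 0x67f20861)) (.node 6235 (.leaf 0x67f3081f) (.leaf 0x67f40447))) (.node 6238 (.node 6237 (.leaf 0x67f5059b) (.leaf 0x67f6081e)) (.node 6239 (.leaf 0x67f70c78) (.leaf 0x67f80577)))))) (.node 6256 (.node 6248 (.node 6244 (.node 6242 (.node 6241 (.leaf 0x67f90821) (.leaf 0x67fa0d1e)) (.node 6243 (.leaf 0x67fb0449) (.leaf 0x67fc0820))) (.node 6246 (.node 6245 (.leaf 0x67fd0c73) (.leaf 0x67fe0c34)) (.node 6247 (.leaf 0x67ff0823) (.leaf 0x68000d24)))) (.node 6252 (.node 6250 (.node 6249 (.leaf 0x6801044f) (.leaf 0x68020822)) (.node 6251 (.leaf 0x680309cc) (.leaf 0x68040576))) (.node 6254 (.node 6253 (.leaf 0x68050825) (.leaf 0x6806044f)) (.node 6255 (.leaf 0x68070d26) (.leaf 0x68080824))))) (.node 6264 (.node 6260 (.node 6258 (.node 6257 (.leaf 0x68090819) (.leaf 0x680a0d2a)) (.node 6259 (.leaf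 0x680b0827) (.leaf 0x680c0d2c))) (.node 6262 (.node 6261 (.leaf 0x680d0451) (.leaf 0x680e0826)) (.node 6263 (.leaf 0x680f0d2e) (.leaf 0x681007db)))) (.node 6268 (.node 6266 (.node 6265 (.leaf 0x68110829) (.leaf 0x681206cd)) (.node 6267 (.leaf 0x681306da) (.leaf 0x68140828))) (.node 6270 (.node 6269 (.leaf 0x6815066b) (.leaf 0x6816054f)) (.node 6271 (.leaf 0x6817082b) (.leaf 0x6818065b)))))))) (.node 6336 (.node 6304 (.node 6288 (.node 6280 (.node 6276 (.node 6274 (.node 6273 (.leaf 0x68190453) (.leaf 0x681a082a)) (.node 6275 (.leaf 0x681b0a79) (.leaf 0x681c0c35))) (.node 6278 (.node 6277 (.leaf 0x681d082d) (.leaf 0x681e0457)) (.node 6279 (.leaf 0x681f0a72) (.leaf 0x6820082c)))) (.node 6284 (.node 6282 (.node 6281 (.leaf 0x68210d34) (.leaf 0x68220d36)) (.node 6283 (.leaf 0x6823082f) (.leaf 0x68240458))) (.node 6286 (.node 6285 (.leaf 0x68250830) (.leaf 0x6826082e)) (.node 6287 (.leaf 0x68270b46) (.leaf 0x682806b7))))) (.node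 6296 (.node 6292 (.node 6290 (.node 6289 (.leaf 0x68290831) (.leaf 0x682a082e)) (.node 6291 (.leaf 0x682b06c4) (.leaf 0x682c0830))) (.node 6294 (.node 6293 (.leaf 0x682d0d3a) (.leaf 0x682e0c85)) (.node 6295 (.leaf 0x682f0833) (.leaf 0x68300d3c)))) (.node 6300 (.node 6298 (.node 6297 (.leaf 0x6831045b) (.leaf 0x68320832)) (.node 6299 (.leaf 0x683307c1) (.leaf 0x68340d40))) (.node 6302 (.node 6301 (.leaf 0x68350835) (.leaf 0x683609d8)) (.node 6303 (.leaf 0x6837045d) (.leaf 0x68380834)))))) (.node 6320 (.node 6312 (.node 6308 (.node 6306 (.node 6305 (.leaf 0x68390a27) (.leaf 0x683a0a3a)) (.node 6307 (.leaf 0x683b0837) (.leaf 0x683c045f))) (.node 6310 (.node 6309 (.leaf 0x683d0864) (.leaf 0x683e0836)) (.node 6311 (.leaf 0x683f0595) (.leaf 0x68400d44)))) (.node 6316 (.node 6314 (.node 6313 (.leaf 0x68410839) (.leaf 0x68420a49)) (.node 6315 (.leaf 0x68430461) (.leaf 0x68440838))) (.node 6318 (.node 6317 (.leaf 0x684505d5) (.leaf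 0x68460d46)) (.node 6319 (.leaf 0x6847083b) (.leaf 0x68480461))))) (.node 6328 (.node 6324 (.node 6322 (.node 6321 (.leaf 0x68490b8a) (.leaf 0x684a083a)) (.node 6323 (.leaf 0x684b0a4d) (.leaf 0x684c0465))) (.node 6326 (.node 6325 (.leaf 0x684d083d) (.leaf 0x684e05be)) (.node 6327 (.leaf 0x684f0464) (.leaf 0x6850083c)))) (.node 6332 (.node 6330 (.node 6329 (.leaf 0x68510d48) (.leaf 0x68520d4a)) (.node 6331 (.leaf 0x6853083f) (.leaf 0x68540be2))) (.node 6334 (.node 6333 (.leaf 0x68550467) (.leaf 0x6856083e)) (.node 6335 (.leaf 0x68570d4c) (.leaf 0x68580d47))))))) (.node 6368 (.node 6352 (.node 6344 (.node 6340 (.node 6338 (.node 6337 (.leaf 0x68590841) (.leaf 0x685a0ba4)) (.node 6339 (.leaf 0x685b046d) (.leaf 0x685c0840))) (.node 6342 (.node 6341 (.leaf 0x685d0d4e) (.leaf 0x685e0843)) (.node 6343 (.leaf 0x685f0843) (.leaf 0x6860046f)))) (.node 6348 (.node 6346 (.node 6345 (.leaf 0x68610d50) (.leaf 0x68620842)) (.node 6347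 (.leaf 0x68630841) (.leaf 0x68640795))) (.node 6350 (.node 6349 (.leaf 0x68650845) (.leaf 0x68660473)) (.node 6351 (.leaf 0x686704ad) (.leaf 0x68680844))))) (.node 6360 (.node 6356 (.node 6354 (.node 6353 (.leaf 0x68690b3b) (.leaf 0x686a0d54)) (.node 6355 (.leaf 0x686b0847) (.leaf 0x686c05ed))) (.node 6358 (.node 6357 (.leaf 0x686d0475) (.leaf 0x686e0846)) (.node 6359 (.leaf 0x686f0701) (.leaf 0x687006b3)))) (.node 6364 (.node 6362 (.node 6361 (.leaf 0x68710849) (.leaf 0x68720505)) (.node 6363 (.leaf 0x68730476) (.leaf 0x68740848))) (.node 6366 (.node 6365 (.leaf 0x68750d56) (.leaf 0x68760c90)) (.node 6367 (.leaf 0x6877084b) (.leaf 0x68780852)))))) (.node 6384 (.node 6376 (.node 6372 (.node 6370 (.node 6369 (.leaf 0x6879047a) (.leaf 0x687a084a)) (.node 6371 (.leaf 0x687b0d58) (.leaf 0x687c07dd))) (.node 6374 (.node 6373 (.leaf 0x687d084d) (.leaf 0x687e0c22)) (.node 6375 (.leaf 0x687f047b) (.leaf 0x6880084c)))) (.node 6380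 (.node 6378 (.node 6377 (.leaf 0x68810d5c) (.leaf 0x68820d5e)) (.node 6379 (.leaf 0x6883084f) (.leaf 0x6884047b))) (.node 6382 (.node 6381 (.leaf 0x68850bbd) (.leaf 0x6886084e)) (.node 6383 (.leaf 0x68870489) (.leaf 0x68880d60))))) (.node 6392 (.node 6388 (.node 6386 (.node 6385 (.leaf 0x68890851) (.leaf 0x688a047c)) (.node 6387 (.leaf 0x688b0852) (.leaf 0x688c0850))) (.node 6390 (.node 6389 (.leaf 0x688d0d62) (.leaf 0x688e0997)) (.node 6391 (.leaf 0x688f0853) (.leaf 0x68900850)))) (.node 6396 (.node 6394 (.node 6393 (.leaf 0x6891084a) (.leaf 0x68920852)) (.node 6395 (.leaf 0x6893054f) (.leaf 0x68940d32))) (.node 6398 (.node 6397 (.leaf 0x68950855) (.leaf 0x68960d64)) (.node 6399 (.leaf 0x6897047d) (.leaf 0x68980854))))))))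

/-- block of `tab` -/
def tab_25 : Tr := .node 6528 (.node 6464 (.node 6432 (.node 6416 (.node 6408 (.node 6404 (.node 6402 (.node 6401 (.leaf 0x689907de) (.leaf 0x689a085d)) (.node 6403 (.leaf 0x689b0857) (.leaf 0x689c047d))) (.node 6406 (.node 6405 (.leaf 0x689d0d66) (.leaf 0x689e0856)) (.node 6407 (.leaf 0x689f0d6a) (.leaf 0x68a0086b)))) (.node 6412 (.node 6410 (.node 6409 (.leaf 0x68a10859) (.leaf 0x68a205dc)) (.node 6411 (.leaf 0x68a3047e) (.leaf 0x68a40858))) (.node 6414 (.node 6413 (.leaf 0x68a50b3c) (.leaf 0x68a60b98)) (.node 6415 (.leaf 0x68a7085b) (.leaf 0x68a80d6c))))) (.node 6424 (.node 6420 (.node 6418 (.node 6417 (.leaf 0x68a9047f) (.leaf 0x68aa085a)) (.node 6419 (.leaf 0x68ab0a5f) (.leaf 0x68ac0d6e))) (.node 6422 (.node 6421 (.leaf 0x68ad085d) (.leaf 0x68ae047f)) (.node 6423 (.leaf 0x68af0d70) (.leaf 0x68b0085c)))) (.node 6428 (.node 6426 (.node 6425 (.leaf 0x68b10855) (.leaf 0x68b20caa)) (.node 6427 (.leaf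 0x68b3085f) (.leaf 0x68b40860))) (.node 6430 (.node 6429 (.leaf 0x68b50481) (.leaf 0x68b6085e)) (.node 6431 (.leaf 0x68b70d72) (.leaf 0x68b807b5)))))) (.node 6448 (.node 6440 (.node 6436 (.node 6434 (.node 6433 (.leaf 0x68b90861) (.leaf 0x68ba0481)) (.node 6435 (.leaf 0x68bb085e) (.leaf 0x68bc0860))) (.node 6438 (.node 6437 (.leaf 0x68bd081d) (.leaf 0x68be0d74)) (.node 6439 (.leaf 0x68bf0863) (.leaf 0x68c00864)))) (.node 6444 (.node 6442 (.node 6441 (.leaf 0x68c10483) (.leaf 0x68c20862)) (.node 6443 (.leaf 0x68c30c0b) (.leaf 0x68c40d76))) (.node 6446 (.node 6445 (.leaf 0x68c50865) (.leaf 0x68c60836)) (.node 6447 (.leaf 0x68c70862) (.leaf 0x68c80864))))) (.node 6456 (.node 6452 (.node 6450 (.node 6449 (.leaf 0x68c90a6d) (.leaf 0x68ca0b31)) (.node 6451 (.leaf 0x68cb0867) (.leaf 0x68cc0b41))) (.node 6454 (.node 6453 (.leaf 0x68cd0485) (.leaf 0x68ce0866)) (.node 6455 (.leaf 0x68cf0d78) (.leaf 0x68d00603)))) (.node 6460 (.node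 6458 (.node 6457 (.leaf 0x68d10869) (.leaf 0x68d20485)) (.node 6459 (.leaf 0x68d306b5) (.leaf 0x68d40868))) (.node 6462 (.node 6461 (.leaf 0x68d50c57) (.leaf 0x68d606bd)) (.node 6463 (.leaf 0x68d7086b) (.leaf 0x68d80d7a))))))) (.node 6496 (.node 6480 (.node 6472 (.node 6468 (.node 6466 (.node 6465 (.leaf 0x68d90487) (.leaf 0x68da086a)) (.node 6467 (.leaf 0x68db0857) (.leaf 0x68dc0c55))) (.node 6470 (.node 6469 (.leaf 0x68dd086d) (.leaf 0x68de0487)) (.node 6471 (.leaf 0x68df0cc0) (.leaf 0x68e0086c)))) (.node 6476 (.node 6474 (.node 6473 (.leaf 0x68e10cbe) (.leaf 0x68e20cb8)) (.node 6475 (.leaf 0x68e3086f) (.leaf 0x68e40d7e))) (.node 6478 (.node 6477 (.leaf 0x68e50489) (.leaf 0x68e6086e)) (.node 6479 (.leaf 0x68e70d82) (.leaf 0x68e80bbb))))) (.node 6488 (.node 6484 (.node 6482 (.node 6481 (.leaf 0x68e90871) (.leaf 0x68ea0d84)) (.node 6483 (.leaf 0x68eb048d) (.leaf 0x68ec0870))) (.node 6486 (.node 6485 (.leaf 0x68ed04a5)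 (.leaf 0x68ee090e)) (.node 6487 (.leaf 0x68ef0873) (.leaf 0x68f0048f)))) (.node 6492 (.node 6490 (.node 6489 (.leaf 0x68f10968) (.leaf 0x68f20872)) (.node 6491 (.leaf 0x68f30d88) (.leaf 0x68f4095d))) (.node 6494 (.node 6493 (.leaf 0x68f50875) (.leaf 0x68f60491)) (.node 6495 (.leaf 0x68f70b5a) (.leaf 0x68f80874)))))) (.node 6512 (.node 6504 (.node 6500 (.node 6498 (.node 6497 (.leaf 0x68f90a75) (.leaf 0x68fa0d8a)) (.node 6499 (.leaf 0x68fb0877) (.leaf 0x68fc07c5))) (.node 6502 (.node 6501 (.leaf 0x68fd0495) (.leaf 0x68fe0876)) (.node 6503 (.leaf 0x68ff0d8c) (.leaf 0x69000d8e)))) (.node 6508 (.node 6506 (.node 6505 (.leaf 0x69010879) (.leaf 0x69020496)) (.node 6507 (.leaf 0x6903087a) (.leaf 0x69040878))) (.node 6510 (.node 6509 (.leaf 0x690508e3) (.leaf 0x690607c8)) (.node 6511 (.leaf 0x6907087b) (.leaf 0x69080878))))) (.node 6520 (.node 6516 (.node 6514 (.node 6513 (.leaf 0x690907cb) (.leaf 0x690a087a)) (.node 6515 (.leaf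 0x690b0959) (.leaf 0x690c0c93))) (.node 6518 (.node 6517 (.leaf 0x690d087d) (.leaf 0x690e064b)) (.node 6519 (.leaf 0x690f0497) (.leaf 0x6910087c)))) (.node 6524 (.node 6522 (.node 6521 (.leaf 0x69110d90) (.leaf 0x691206bf)) (.node 6523 (.leaf 0x6913087f) (.leaf 0x69140884))) (.node 6526 (.node 6525 (.leaf 0x69150498) (.leaf 0x6916087e)) (.node 6527 (.leaf 0x69170d92) (.leaf 0x69180d01)))))))) (.node 6592 (.node 6560 (.node 6544 (.node 6536 (.node 6532 (.node 6530 (.node 6529 (.leaf 0x69190881) (.leaf 0x691a0cb2)) (.node 6531 (.leaf 0x691b0499) (.leaf 0x691c0880))) (.node 6534 (.node 6533 (.leaf 0x691d0d94) (.leaf 0x691e0cff)) (.node 6535 (.leaf 0x691f0883) (.leaf 0x6920049a)))) (.node 6540 (.node 6538 (.node 6537 (.leaf 0x69210884) (.leaf 0x69220882)) (.node 6539 (.leaf 0x69230d96) (.leaf 0x692409bd))) (.node 6542 (.node 6541 (.leaf 0x69250885) (.leaf 0x69260882)) (.node 6543 (.leaf 0x6927087e) (.leaf 0x69280884))))) (.node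 6552 (.node 6548 (.node 6546 (.node 6545 (.leaf 0x692909b9) (.leaf 0x692a074a)) (.node 6547 (.leaf 0x692b0889) (.leaf 0x692c049b))) (.node 6550 (.node 6549 (.leaf 0x692d0887) (.leaf 0x692e0888)) (.node 6551 (.leaf 0x692f0886) (.leaf 0x693004ff)))) (.node 6556 (.node 6554 (.node 6553 (.leaf 0x69310887) (.leaf 0x69320889)) (.node 6555 (.leaf 0x69330d98) (.leaf 0x69340886))) (.node 6558 (.node 6557 (.leaf 0x69350d9a) (.leaf 0x69360888)) (.node 6559 (.leaf 0x6937088b) (.leaf 0x693808ee)))))) (.node 6576 (.node 6568 (.node 6564 (.node 6562 (.node 6561 (.leaf 0x693904a1) (.leaf 0x693a088a)) (.node 6563 (.leaf 0x693b0aae) (.leaf 0x693c0aa8))) (.node 6566 (.node 6565 (.leaf 0x693d088d) (.leaf 0x693e04a1)) (.node 6567 (.leaf 0x693f08ec) (.leaf 0x6940088c)))) (.node 6572 (.node 6570 (.node 6569 (.leaf 0x694109b5) (.leaf 0x69420d43)) (.node 6571 (.leaf 0x6943088f) (.leaf 0x694404a2))) (.node 6574 (.node 6573 (.leaf 0x694507c5) (.leaf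 0x6946088e)) (.node 6575 (.leaf 0x69470979) (.leaf 0x69480d9c))))) (.node 6584 (.node 6580 (.node 6578 (.node 6577 (.leaf 0x69490891) (.leaf 0x694a04a3)) (.node 6579 (.leaf 0x694b0d62) (.leaf 0x694c0890))) (.node 6582 (.node 6581 (.leaf 0x694d097b) (.leaf 0x694e0d95)) (.node 6583 (.leaf 0x694f0893) (.leaf 0x695004a4)))) (.node 6588 (.node 6586 (.node 6585 (.leaf 0x69510894) (.leaf 0x69520892)) (.node 6587 (.leaf 0x69530d32) (.leaf 0x6954066b))) (.node 6590 (.node 6589 (.leaf 0x69550895) (.leaf 0x69560892)) (.node 6591 (.leaf 0x69570554) (.leaf 0x69580894))))))) (.node 6624 (.node 6608 (.node 6600 (.node 6596 (.node 6594 (.node 6593 (.leaf 0x6959066d) (.leaf 0x695a0976)) (.node 6595 (.leaf 0x695b0897) (.leaf 0x695c0910))) (.node 6598 (.node 6597 (.leaf 0x695d04a5) (.leaf 0x695e0896)) (.node 6599 (.leaf 0x695f0d9e) (.leaf 0x69600941)))) (.node 6604 (.node 6602 (.node 6601 (.leaf 0x69610899) (.leaf 0x69620bc9)) (.node 6603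 (.leaf 0x696304a7) (.leaf 0x69640898))) (.node 6606 (.node 6605 (.leaf 0x69650535) (.leaf 0x69660da2)) (.node 6607 (.leaf 0x6967089b) (.leaf 0x696804a7))))) (.node 6616 (.node 6612 (.node 6610 (.node 6609 (.leaf 0x69690da4) (.leaf 0x696a089a)) (.node 6611 (.leaf 0x696b09a1) (.leaf 0x696c0da8))) (.node 6614 (.node 6613 (.leaf 0x696d089d) (.leaf 0x696e0b60)) (.node 6615 (.leaf 0x696f04a9) (.leaf 0x6970089c)))) (.node 6620 (.node 6618 (.node 6617 (.leaf 0x69710b72) (.leaf 0x69720609)) (.node 6619 (.leaf 0x6973089f) (.leaf 0x697408a6))) (.node 6622 (.node 6621 (.leaf 0x697504b2) (.leaf 0x6976089e)) (.node 6623 (.leaf 0x69770daa) (.leaf 0x69780dac)))))) (.node 6640 (.node 6632 (.node 6628 (.node 6626 (.node 6625 (.leaf 0x697908a1) (.leaf 0x697a09e9)) (.node 6627 (.leaf 0x697b04b3) (.leaf 0x697c08a0))) (.node 6630 (.node 6629 (.leaf 0x697d04c1) (.leaf 0x697e0dae)) (.node 6631 (.leaf 0x697f08a3) (.leaf 0x698004b3)))) (.node 6636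 (.node 6634 (.node 6633 (.leaf 0x69810db0) (.leaf 0x698208a2)) (.node 6635 (.leaf 0x698304bd) (.leaf 0x698409f7))) (.node 6638 (.node 6637 (.leaf 0x698508a5) (.leaf 0x698604b4)) (.node 6639 (.leaf 0x698708a6) (.leaf 0x698808a4))))) (.node 6648 (.node 6644 (.node 6642 (.node 6641 (.leaf 0x69890db4) (.leaf 0x698a0db6)) (.node 6643 (.leaf 0x698b08a7) (.leaf 0x698c08a4))) (.node 6646 (.node 6645 (.leaf 0x698d089e) (.leaf 0x698e08a6)) (.node 6647 (.leaf 0x698f0b8d) (.leaf 0x69900b39)))) (.node 6652 (.node 6650 (.node 6649 (.leaf 0x699108a9) (.leaf 0x69920db8)) (.node 6651 (.leaf 0x699304b5) (.leaf 0x699408a8))) (.node 6654 (.node 6653 (.leaf 0x699509fb) (.leaf 0x699604b9)) (.node 6655 (.leaf 0x699708ab) (.leaf 0x699804b5))))))))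

/-- block of `tab` -/
def tab_26 : Tr := .node 6784 (.node 6720 (.node 6688 (.node 6672 (.node 6664 (.node 6660 (.node 6658 (.node 6657 (.leaf 0x699908e7) (.leaf 0x699a08aa)) (.node 6659 (.leaf 0x699b0dba) (.leaf 0x699c05a9))) (.node 6662 (.node 6661 (.leaf 0x699d08ad) (.leaf 0x699e04b9)) (.node 6663 (.leaf 0x699f0dbc) (.leaf 0x69a008ac)))) (.node 6668 (.node 6666 (.node 6665 (.leaf 0x69a108af) (.leaf 0x69a2099b)) (.node 6667 (.leaf 0x69a308af) (.leaf 0x69a40c8b))) (.node 6670 (.node 6669 (.leaf 0x69a504bd) (.leaf 0x69a608ae)) (.node 6671 (.leaf 0x69a7092d) (.leaf 0x69a808ad))))) (.node 6680 (.node 6676 (.node 6674 (.node 6673 (.leaf 0x69a908b1) (.leaf 0x69aa04c0)) (.node 6675 (.leaf 0x69ab0755) (.leaf 0x69ac08b0))) (.node 6678 (.node 6677 (.leaf 0x69ad0563) (.leaf 0x69ae0a7a)) (.node 6679 (.leaf 0x69af08b3) (.leaf 0x69b00d6f)))) (.node 6684 (.node 6682 (.node 6681 (.leaf 0x69b104c1) (.leaf 0x69b208b2)) (.node 6683 (.leaf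 0x69b30911) (.leaf 0x69b40c9b))) (.node 6686 (.node 6685 (.leaf 0x69b508b5) (.leaf 0x69b60aab)) (.node 6687 (.leaf 0x69b704c3) (.leaf 0x69b808b4)))))) (.node 6704 (.node 6696 (.node 6692 (.node 6690 (.node 6689 (.leaf 0x69b90d55) (.leaf 0x69ba0c0b)) (.node 6691 (.leaf 0x69bb08b7) (.leaf 0x69bc0ace))) (.node 6694 (.node 6693 (.leaf 0x69bd04c5) (.leaf 0x69be08b6)) (.node 6695 (.leaf 0x69bf0dc4) (.leaf 0x69c00c91)))) (.node 6700 (.node 6698 (.node 6697 (.leaf 0x69c108b9) (.leaf 0x69c208be)) (.node 6699 (.leaf 0x69c304c6) (.leaf 0x69c408b8))) (.node 6702 (.node 6701 (.leaf 0x69c50dc6) (.leaf 0x69c60dc8)) (.node 6703 (.leaf 0x69c708bb) (.leaf 0x69c804c7))))) (.node 6712 (.node 6708 (.node 6706 (.node 6705 (.leaf 0x69c90dca) (.leaf 0x69ca08ba)) (.node 6707 (.leaf 0x69cb08cd) (.leaf 0x69cc0dcc))) (.node 6710 (.node 6709 (.leaf 0x69cd08bd) (.leaf 0x69ce04c8)) (.node 6711 (.leaf 0x69cf08be) (.leaf 0x69d008bc)))) (.node 6716 (.node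 6714 (.node 6713 (.leaf 0x69d10dce) (.leaf 0x69d20dc3)) (.node 6715 (.leaf 0x69d308bf) (.leaf 0x69d408bc))) (.node 6718 (.node 6717 (.leaf 0x69d508b8) (.leaf 0x69d608be)) (.node 6719 (.leaf 0x69d70512) (.leaf 0x69d80944))))))) (.node 6752 (.node 6736 (.node 6728 (.node 6724 (.node 6722 (.node 6721 (.leaf 0x69d908c1) (.leaf 0x69da04cb)) (.node 6723 (.leaf 0x69db0da0) (.leaf 0x69dc08c0))) (.node 6726 (.node 6725 (.leaf 0x69dd0553) (.leaf 0x69de097c)) (.node 6727 (.leaf 0x69df08c3) (.leaf 0x69e0067b)))) (.node 6732 (.node 6730 (.node 6729 (.leaf 0x69e104cd) (.leaf 0x69e208c2)) (.node 6731 (.leaf 0x69e3068f) (.leaf 0x69e40a51))) (.node 6734 (.node 6733 (.leaf 0x69e508c5) (.leaf 0x69e604cd)) (.node 6735 (.leaf 0x69e70dd0) (.leaf 0x69e808c4))))) (.node 6744 (.node 6740 (.node 6738 (.node 6737 (.leaf 0x69e90995) (.leaf 0x69ea0995)) (.node 6739 (.leaf 0x69eb08c7) (.leaf 0x69ec0dd2))) (.node 6742 (.node 6741 (.leaf 0x69ed04cf)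 (.leaf 0x69ee08c6)) (.node 6743 (.leaf 0x69ef0a56) (.leaf 0x69f00a50)))) (.node 6748 (.node 6746 (.node 6745 (.leaf 0x69f108c9) (.leaf 0x69f20dd4)) (.node 6747 (.leaf 0x69f304d3) (.leaf 0x69f408c8))) (.node 6750 (.node 6749 (.leaf 0x69f50797) (.leaf 0x69f60575)) (.node 6751 (.leaf 0x69f708cb) (.leaf 0x69f804d3)))))) (.node 6768 (.node 6760 (.node 6756 (.node 6754 (.node 6753 (.leaf 0x69f90a31) (.leaf 0x69fa08ca)) (.node 6755 (.leaf 0x69fb0d3f) (.leaf 0x69fc0c11))) (.node 6758 (.node 6757 (.leaf 0x69fd08cd) (.leaf 0x69fe0681)) (.node 6759 (.leaf 0x69ff04d5) (.leaf 0x6a0008cc)))) (.node 6764 (.node 6762 (.node 6761 (.leaf 0x6a010dd6) (.leaf 0x6a0208bb)) (.node 6763 (.leaf 0x6a0308cf) (.leaf 0x6a040a1d))) (.node 6766 (.node 6765 (.leaf 0x6a0504d7) (.leaf 0x6a0608ce)) (.node 6767 (.leaf 0x6a07096a) (.leaf 0x6a080c59))))) (.node 6776 (.node 6772 (.node 6770 (.node 6769 (.leaf 0x6a0908d1) (.leaf 0x6a0a04d7)) (.node 6771 (.leaf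 0x6a0b0dd8) (.leaf 0x6a0c08d0))) (.node 6774 (.node 6773 (.leaf 0x6a0d0dda) (.leaf 0x6a0e0ddc)) (.node 6775 (.leaf 0x6a0f08d3) (.leaf 0x6a10069b)))) (.node 6780 (.node 6778 (.node 6777 (.leaf 0x6a1104d9) (.leaf 0x6a1208d2)) (.node 6779 (.leaf 0x6a130c10) (.leaf 0x6a140c0e))) (.node 6782 (.node 6781 (.leaf 0x6a1508d5) (.leaf 0x6a1604d9)) (.node 6783 (.leaf 0x6a170a76) (.leaf 0x6a1808d4)))))))) (.node 6848 (.node 6816 (.node 6800 (.node 6792 (.node 6788 (.node 6786 (.node 6785 (.leaf 0x6a190ddb) (.leaf 0x6a1a0dde)) (.node 6787 (.leaf 0x6a1b08d7) (.leaf 0x6a1c04db))) (.node 6790 (.node 6789 (.leaf 0x6a1d0d3e) (.leaf 0x6a1e08d6)) (.node 6791 (.leaf 0x6a1f0c48) (.leaf 0x6a2009dd)))) (.node 6796 (.node 6794 (.node 6793 (.leaf 0x6a2108d9) (.leaf 0x6a220543)) (.node 6795 (.leaf 0x6a2304dd) (.leaf 0x6a2408d8))) (.node 6798 (.node 6797 (.leaf 0x6a250de0) (.leaf 0x6a260de2)) (.node 6799 (.leaf 0x6a2708db) (.leaf 0x6a2804dd))))) (.node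 6808 (.node 6804 (.node 6802 (.node 6801 (.leaf 0x6a290de4) (.leaf 0x6a2a08da)) (.node 6803 (.leaf 0x6a2b0942) (.leaf 0x6a2c093d))) (.node 6806 (.node 6805 (.leaf 0x6a2d08df) (.leaf 0x6a2e04df)) (.node 6807 (.leaf 0x6a2f08dd) (.leaf 0x6a3008de)))) (.node 6812 (.node 6810 (.node 6809 (.leaf 0x6a3108dc) (.leaf 0x6a32064b)) (.node 6811 (.leaf 0x6a3308dd) (.leaf 0x6a340d9c))) (.node 6814 (.node 6813 (.leaf 0x6a3509a0) (.leaf 0x6a3608dc)) (.node 6815 (.leaf 0x6a37094f) (.leaf 0x6a380de6)))))) (.node 6832 (.node 6824 (.node 6820 (.node 6818 (.node 6817 (.leaf 0x6a3908e1) (.leaf 0x6a3a0900)) (.node 6819 (.leaf 0x6a3b04e1) (.leaf 0x6a3c08e0))) (.node 6822 (.node 6821 (.leaf 0x6a3d0c3f) (.leaf 0x6a3e0c95)) (.node 6823 (.leaf 0x6a3f08e3) (.leaf 0x6a400ade)))) (.node 6828 (.node 6826 (.node 6825 (.leaf 0x6a4104e3) (.leaf 0x6a4208e2)) (.node 6827 (.leaf 0x6a430c96) (.leaf 0x6a440879))) (.node 6830 (.node 6829 (.leaf 0x6a4508e5) (.leaf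 0x6a460d4a)) (.node 6831 (.leaf 0x6a4704e6) (.leaf 0x6a4808e4))))) (.node 6840 (.node 6836 (.node 6834 (.node 6833 (.leaf 0x6a49078d) (.leaf 0x6a4a0de8)) (.node 6835 (.leaf 0x6a4b08e7) (.leaf 0x6a4c04e6))) (.node 6838 (.node 6837 (.leaf 0x6a4d0d48) (.leaf 0x6a4e08e6)) (.node 6839 (.leaf 0x6a4f08aa) (.leaf 0x6a500c81)))) (.node 6844 (.node 6842 (.node 6841 (.leaf 0x6a5108e9) (.leaf 0x6a520ac9)) (.node 6843 (.leaf 0x6a5304e7) (.leaf 0x6a5408e8))) (.node 6846 (.node 6845 (.leaf 0x6a550665) (.leaf 0x6a5605a8)) (.node 6847 (.leaf 0x6a5708eb) (.leaf 0x6a5804e9))))))) (.node 6880 (.node 6864 (.node 6856 (.node 6852 (.node 6850 (.node 6849 (.leaf 0x6a590af0) (.leaf 0x6a5a08ea)) (.node 6851 (.leaf 0x6a5b09a9) (.leaf 0x6a5c0c5e))) (.node 6854 (.node 6853 (.leaf 0x6a5d08ed) (.leaf 0x6a5e088c)) (.node 6855 (.leaf 0x6a5f04ed) (.leaf 0x6a6008ec)))) (.node 6860 (.node 6858 (.node 6857 (.leaf 0x6a610dc5) (.leaf 0x6a620551)) (.node 6859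 (.leaf 0x6a6308ef) (.leaf 0x6a6404ed))) (.node 6862 (.node 6861 (.leaf 0x6a65088a) (.leaf 0x6a6608ee)) (.node 6863 (.leaf 0x6a670805) (.leaf 0x6a680dea))))) (.node 6872 (.node 6868 (.node 6866 (.node 6865 (.leaf 0x6a6908f1) (.leaf 0x6a6a08f6)) (.node 6867 (.leaf 0x6a6b04ee) (.leaf 0x6a6c08f0))) (.node 6870 (.node 6869 (.leaf 0x6a6d0dec) (.leaf 0x6a6e0785)) (.node 6871 (.leaf 0x6a6f08f3) (.leaf 0x6a700569)))) (.node 6876 (.node 6874 (.node 6873 (.leaf 0x6a7104ef) (.leaf 0x6a7208f2)) (.node 6875 (.leaf 0x6a730a11) (.leaf 0x6a74078b))) (.node 6878 (.node 6877 (.leaf 0x6a7508f5) (.leaf 0x6a7604ef)) (.node 6879 (.leaf 0x6a770c41) (.leaf 0x6a7808f4)))))) (.node 6896 (.node 6888 (.node 6884 (.node 6882 (.node 6881 (.leaf 0x6a790604) (.leaf 0x6a7a09c5)) (.node 6883 (.leaf 0x6a7b08f7) (.leaf 0x6a7c0568))) (.node 6886 (.node 6885 (.leaf 0x6a7d08f0) (.leaf 0x6a7e08f6)) (.node 6887 (.leaf 0x6a7f0a0d) (.leaf 0x6a800dee)))) (.node 6892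 (.node 6890 (.node 6889 (.leaf 0x6a8108f9) (.leaf 0x6a820d40)) (.node 6891 (.leaf 0x6a8304f1) (.leaf 0x6a8408f8))) (.node 6894 (.node 6893 (.leaf 0x6a85059f) (.leaf 0x6a860df0)) (.node 6895 (.leaf 0x6a8708fb) (.leaf 0x6a8804f1))))) (.node 6904 (.node 6900 (.node 6898 (.node 6897 (.leaf 0x6a8907c1) (.leaf 0x6a8a08fa)) (.node 6899 (.leaf 0x6a8b0df2) (.leaf 0x6a8c07cd))) (.node 6902 (.node 6901 (.leaf 0x6a8d08fd) (.leaf 0x6a8e04f4)) (.node 6903 (.leaf 0x6a8f0900) (.leaf 0x6a9008fc)))) (.node 6908 (.node 6906 (.node 6905 (.leaf 0x6a910df4) (.leaf 0x6a9208fe)) (.node 6907 (.leaf 0x6a9308ff) (.leaf 0x6a9408fd))) (.node 6910 (.node 6909 (.leaf 0x6a95068d) (.leaf 0x6a9608fe)) (.node 6911 (.leaf 0x6a970b15) (.leaf 0x6a980df6))))))))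

/-- block of `tab` -/
def tab_27 : Tr := .node 7040 (.node 6976 (.node 6944 (.node 6928 (.node 6920 (.node 6916 (.node 6914 (.node 6913 (.leaf 0x6a990901) (.leaf 0x6a9a08fc)) (.node 6915 (.leaf 0x6a9b08e0) (.leaf 0x6a9c0900))) (.node 6918 (.node 6917 (.leaf 0x6a9d06d8) (.leaf 0x6a9e09b3)) (.node 6919 (.leaf 0x6a9f0903) (.leaf 0x6aa00df8)))) (.node 6924 (.node 6922 (.node 6921 (.leaf 0x6aa104f5) (.leaf 0x6aa20902)) (.node 6923 (.leaf 0x6aa30dfa) (.leaf 0x6aa40df1))) (.node 6926 (.node 6925 (.leaf 0x6aa50905) (.leaf 0x6aa604f5)) (.node 6927 (.leaf 0x6aa70b53) (.leaf 0x6aa80904))))) (.node 6936 (.node 6932 (.node 6930 (.node 6929 (.leaf 0x6aa90dfc) (.leaf 0x6aaa0a10)) (.node 6931 (.leaf 0x6aab0907) (.leaf 0x6aac0dfe))) (.node 6934 (.node 6933 (.leaf 0x6aad04f7) (.leaf 0x6aae0906)) (.node 6935 (.leaf 0x6aaf0e00) (.leaf 0x6ab00911)))) (.node 6940 (.node 6938 (.node 6937 (.leaf 0x6ab10909) (.leaf 0x6ab204f7)) (.node 6939 (.leaf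 0x6ab30965) (.leaf 0x6ab40908))) (.node 6942 (.node 6941 (.leaf 0x6ab50e02) (.leaf 0x6ab6096b)) (.node 6943 (.leaf 0x6ab7090b) (.leaf 0x6ab80757)))))) (.node 6960 (.node 6952 (.node 6948 (.node 6946 (.node 6945 (.leaf 0x6ab904f8) (.leaf 0x6aba090a)) (.node 6947 (.leaf 0x6abb0761) (.leaf 0x6abc090c))) (.node 6950 (.node 6949 (.leaf 0x6abd090d) (.leaf 0x6abe090b)) (.node 6951 (.leaf 0x6abf0636) (.leaf 0x6ac0090c)))) (.node 6956 (.node 6954 (.node 6953 (.leaf 0x6ac1091d) (.leaf 0x6ac20607)) (.node 6955 (.leaf 0x6ac3090f) (.leaf 0x6ac40871))) (.node 6958 (.node 6957 (.leaf 0x6ac504f9) (.leaf 0x6ac6090e)) (.node 6959 (.leaf 0x6ac709bd) (.leaf 0x6ac80919))))) (.node 6968 (.node 6964 (.node 6962 (.node 6961 (.leaf 0x6ac90911) (.leaf 0x6aca04f9)) (.node 6963 (.leaf 0x6acb0896) (.leaf 0x6acc0910))) (.node 6966 (.node 6965 (.leaf 0x6acd0907) (.leaf 0x6ace08b3)) (.node 6967 (.leaf 0x6acf0913) (.leaf 0x6ad004fa)))) (.node 6972 (.node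 6970 (.node 6969 (.leaf 0x6ad10757) (.leaf 0x6ad20912)) (.node 6971 (.leaf 0x6ad3097d) (.leaf 0x6ad40a7d))) (.node 6974 (.node 6973 (.leaf 0x6ad50915) (.leaf 0x6ad60e04)) (.node 6975 (.leaf 0x6ad704fd) (.leaf 0x6ad80914))))))) (.node 7008 (.node 6992 (.node 6984 (.node 6980 (.node 6978 (.node 6977 (.leaf 0x6ad90e06) (.leaf 0x6ada0e08)) (.node 6979 (.leaf 0x6adb0917) (.leaf 0x6adc04fd))) (.node 6982 (.node 6981 (.leaf 0x6add0669) (.leaf 0x6ade0916)) (.node 6983 (.leaf 0x6adf0be4) (.leaf 0x6ae00dbf)))) (.node 6988 (.node 6986 (.node 6985 (.leaf 0x6ae10919) (.leaf 0x6ae2091c)) (.node 6987 (.leaf 0x6ae304fe) (.leaf 0x6ae40918))) (.node 6990 (.node 6989 (.leaf 0x6ae5090f) (.leaf 0x6ae60e0c)) (.node 6991 (.leaf 0x6ae7091b) (.leaf 0x6ae80500))))) (.node 7000 (.node 6996 (.node 6994 (.node 6993 (.leaf 0x6ae9091c) (.leaf 0x6aea091a)) (.node 6995 (.leaf 0x6aeb0cc5) (.leaf 0x6aec0e0e))) (.node 6998 (.node 6997 (.leaf 0x6aed091d)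 (.leaf 0x6aee091a)) (.node 6999 (.leaf 0x6aef0918) (.leaf 0x6af0091c)))) (.node 7004 (.node 7002 (.node 7001 (.leaf 0x6af1066e) (.leaf 0x6af2090d)) (.node 7003 (.leaf 0x6af3091f) (.leaf 0x6af40501))) (.node 7006 (.node 7005 (.leaf 0x6af50d0a) (.leaf 0x6af6091e)) (.node 7007 (.leaf 0x6af70cc3) (.leaf 0x6af80d94)))))) (.node 7024 (.node 7016 (.node 7012 (.node 7010 (.node 7009 (.leaf 0x6af90921) (.leaf 0x6afa0922)) (.node 7011 (.leaf 0x6afb0502) (.leaf 0x6afc0920))) (.node 7014 (.node 7013 (.leaf 0x6afd073f) (.leaf 0x6afe0dd2)) (.node 7015 (.leaf 0x6aff0923) (.leaf 0x6b00050a)))) (.node 7020 (.node 7018 (.node 7017 (.leaf 0x6b010920) (.leaf 0x6b020922)) (.node 7019 (.leaf 0x6b030976) (.leaf 0x6b04074d))) (.node 7022 (.node 7021 (.leaf 0x6b050925) (.leaf 0x6b0609bc)) (.node 7023 (.leaf 0x6b070503) (.leaf 0x6b080924))))) (.node 7032 (.node 7028 (.node 7026 (.node 7025 (.leaf 0x6b090521) (.leaf 0x6b0a0d86)) (.node 7027 (.leaf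 0x6b0b0927) (.leaf 0x6b0c0503))) (.node 7030 (.node 7029 (.leaf 0x6b0d09ba) (.leaf 0x6b0e0926)) (.node 7031 (.leaf 0x6b0f0947) (.leaf 0x6b100d3b)))) (.node 7036 (.node 7034 (.node 7033 (.leaf 0x6b110929) (.leaf 0x6b120a72)) (.node 7035 (.leaf 0x6b130507) (.leaf 0x6b140928))) (.node 7038 (.node 7037 (.leaf 0x6b150d70) (.leaf 0x6b160d6c)) (.node 7039 (.leaf 0x6b17092b) (.leaf 0x6b180dea)))))))) (.node 7104 (.node 7072 (.node 7056 (.node 7048 (.node 7044 (.node 7042 (.node 7041 (.leaf 0x6b19050b) (.leaf 0x6b1a092a)) (.node 7043 (.leaf 0x6b1b0e10) (.leaf 0x6b1c0d6d))) (.node 7046 (.node 7045 (.leaf 0x6b1d092d) (.leaf 0x6b1e050b)) (.node 7047 (.leaf 0x6b1f0805) (.leaf 0x6b20092c)))) (.node 7052 (.node 7050 (.node 7049 (.leaf 0x6b210e12) (.leaf 0x6b2208af)) (.node 7051 (.leaf 0x6b23092f) (.leaf 0x6b240c85))) (.node 7054 (.node 7053 (.leaf 0x6b25050d) (.leaf 0x6b26092e)) (.node 7055 (.leaf 0x6b270cc6) (.leaf 0x6b280cc2))))) (.node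 7064 (.node 7060 (.node 7058 (.node 7057 (.leaf 0x6b290931) (.leaf 0x6b2a050d)) (.node 7059 (.leaf 0x6b2b0d3a) (.leaf 0x6b2c0930))) (.node 7062 (.node 7061 (.leaf 0x6b2d0933) (.leaf 0x6b2e0e14)) (.node 7063 (.leaf 0x6b2f0933) (.leaf 0x6b300d9f)))) (.node 7068 (.node 7066 (.node 7065 (.leaf 0x6b31050f) (.leaf 0x6b320932)) (.node 7067 (.leaf 0x6b330d6e) (.leaf 0x6b340931))) (.node 7070 (.node 7069 (.leaf 0x6b350935) (.leaf 0x6b36050f)) (.node 7071 (.leaf 0x6b370df3) (.leaf 0x6b380934)))))) (.node 7088 (.node 7080 (.node 7076 (.node 7074 (.node 7073 (.leaf 0x6b390cfe) (.leaf 0x6b3a0cbb)) (.node 7075 (.leaf 0x6b3b0937) (.leaf 0x6b3c0944))) (.node 7078 (.node 7077 (.leaf 0x6b3d0510) (.leaf 0x6b3e0936)) (.node 7079 (.leaf 0x6b3f0938) (.leaf 0x6b40093a)))) (.node 7084 (.node 7082 (.node 7081 (.leaf 0x6b410939) (.leaf 0x6b420548)) (.node 7083 (.leaf 0x6b430937) (.leaf 0x6b440938))) (.node 7086 (.node 7085 (.leaf 0x6b450e16) (.leaf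 0x6b460dc6)) (.node 7087 (.leaf 0x6b47093b) (.leaf 0x6b480937))))) (.node 7096 (.node 7092 (.node 7090 (.node 7089 (.leaf 0x6b490546) (.leaf 0x6b4a093a)) (.node 7091 (.leaf 0x6b4b0e18) (.leaf 0x6b4c0e1a))) (.node 7094 (.node 7093 (.leaf 0x6b4d093f) (.leaf 0x6b4e093d)) (.node 7095 (.leaf 0x6b4f0511) (.leaf 0x6b50093e)))) (.node 7100 (.node 7098 (.node 7097 (.leaf 0x6b5108db) (.leaf 0x6b52093c)) (.node 7099 (.leaf 0x6b53093d) (.leaf 0x6b540e1c))) (.node 7102 (.node 7101 (.leaf 0x6b550989) (.leaf 0x6b56093c)) (.node 7103 (.leaf 0x6b57096e) (.leaf 0x6b580dbb))))))) (.node 7136 (.node 7120 (.node 7112 (.node 7108 (.node 7106 (.node 7105 (.leaf 0x6b590941) (.leaf 0x6b5a0511)) (.node 7107 (.leaf 0x6b5b0942) (.leaf 0x6b5c0940))) (.node 7110 (.node 7109 (.leaf 0x6b5d0897) (.leaf 0x6b5e0e1e)) (.node 7111 (.leaf 0x6b5f0943) (.leaf 0x6b600940)))) (.node 7116 (.node 7114 (.node 7113 (.leaf 0x6b6108db) (.leaf 0x6b620942)) (.node 7115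 (.leaf 0x6b630e20) (.leaf 0x6b640c58))) (.node 7118 (.node 7117 (.leaf 0x6b650945) (.leaf 0x6b6608bf)) (.node 7119 (.leaf 0x6b670936) (.leaf 0x6b680944))))) (.node 7128 (.node 7124 (.node 7122 (.node 7121 (.leaf 0x6b690e22) (.leaf 0x6b6a0e24)) (.node 7123 (.leaf 0x6b6b0947) (.leaf 0x6b6c098a))) (.node 7126 (.node 7125 (.leaf 0x6b6d0513) (.leaf 0x6b6e0946)) (.node 7127 (.leaf 0x6b6f0e26) (.leaf 0x6b700927)))) (.node 7132 (.node 7130 (.node 7129 (.leaf 0x6b710949) (.leaf 0x6b720513)) (.node 7131 (.leaf 0x6b730988) (.leaf 0x6b740948))) (.node 7134 (.node 7133 (.leaf 0x6b750daf) (.leaf 0x6b760962)) (.node 7135 (.leaf 0x6b77094b) (.leaf 0x6b780515)))))) (.node 7152 (.node 7144 (.node 7140 (.node 7138 (.node 7137 (.leaf 0x6b790a86) (.leaf 0x6b7a094a)) (.node 7139 (.leaf 0x6b7b06c7) (.leaf 0x6b7c0a94))) (.node 7142 (.node 7141 (.leaf 0x6b7d094d) (.leaf 0x6b7e0517)) (.node 7143 (.leaf 0x6b7f05eb) (.leaf 0x6b80094c)))) (.node 7148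 (.node 7146 (.node 7145 (.leaf 0x6b810e28) (.leaf 0x6b820b97)) (.node 7147 (.leaf 0x6b83094f) (.leaf 0x6b840e2a))) (.node 7150 (.node 7149 (.leaf 0x6b850519) (.leaf 0x6b86094e)) (.node 7151 (.leaf 0x6b870e2c) (.leaf 0x6b8808df))))) (.node 7160 (.node 7156 (.node 7154 (.node 7153 (.leaf 0x6b890951) (.leaf 0x6b8a0519)) (.node 7155 (.leaf 0x6b8b0afd) (.leaf 0x6b8c0950))) (.node 7158 (.node 7157 (.leaf 0x6b8d0e30) (.leaf 0x6b8e052f)) (.node 7159 (.leaf 0x6b8f0953) (.leaf 0x6b900958)))) (.node 7164 (.node 7162 (.node 7161 (.leaf 0x6b91051a) (.leaf 0x6b920952)) (.node 7163 (.leaf 0x6b9309e6) (.leaf 0x6b9409a3))) (.node 7166 (.node 7165 (.leaf 0x6b950955) (.leaf 0x6b96051b)) (.node 7167 (.leaf 0x6b970693) (.leaf 0x6b980954))))))))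

/-- block of `tab` -/
def tab_28 : Tr := .node 7296 (.node 7232 (.node 7200 (.node 7184 (.node 7176 (.node 7172 (.node 7170 (.node 7169 (.leaf 0x6b990707) (.leaf 0x6b9a0e32)) (.node 7171 (.leaf 0x6b9b0957) (.leaf 0x6b9c051c))) (.node 7174 (.node 7173 (.leaf 0x6b9d0958) (.leaf 0x6b9e0956)) (.node 7175 (.leaf 0x6b9f0e34) (.leaf 0x6ba00589)))) (.node 7180 (.node 7178 (.node 7177 (.leaf 0x6ba10959) (.leaf 0x6ba20956)) (.node 7179 (.leaf 0x6ba30952) (.leaf 0x6ba40958))) (.node 7182 (.node 7181 (.leaf 0x6ba50c93) (.leaf 0x6ba6087b)) (.node 7183 (.leaf 0x6ba7095b) (.leaf 0x6ba8051d))))) (.node 7192 (.node 7188 (.node 7186 (.node 7185 (.leaf 0x6ba907c3) (.leaf 0x6baa095a)) (.node 7187 (.leaf 0x6bab0e36) (.leaf 0x6bac0de9))) (.node 7190 (.node 7189 (.leaf 0x6bad095d) (.leaf 0x6bae0972)) (.node 7191 (.leaf 0x6baf051f) (.leaf 0x6bb0095c)))) (.node 7196 (.node 7194 (.node 7193 (.leaf 0x6bb10873) (.leaf 0x6bb20e38)) (.node 7195 (.leaf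 0x6bb3095f) (.leaf 0x6bb40a93))) (.node 7198 (.node 7197 (.leaf 0x6bb50527) (.leaf 0x6bb6095e)) (.node 7199 (.leaf 0x6bb70e3a) (.leaf 0x6bb80625)))))) (.node 7216 (.node 7208 (.node 7204 (.node 7202 (.node 7201 (.leaf 0x6bb90961) (.leaf 0x6bba052b)) (.node 7203 (.leaf 0x6bbb0b71) (.leaf 0x6bbc0960))) (.node 7206 (.node 7205 (.leaf 0x6bbd06e3) (.leaf 0x6bbe0e40)) (.node 7207 (.leaf 0x6bbf0963) (.leaf 0x6bc00949)))) (.node 7212 (.node 7210 (.node 7209 (.leaf 0x6bc1052d) (.leaf 0x6bc20962)) (.node 7211 (.leaf 0x6bc3096f) (.leaf 0x6bc405e9))) (.node 7214 (.node 7213 (.leaf 0x6bc50965) (.leaf 0x6bc6052d)) (.node 7215 (.leaf 0x6bc70e42) (.leaf 0x6bc80964))))) (.node 7224 (.node 7220 (.node 7218 (.node 7217 (.leaf 0x6bc90908) (.leaf 0x6bca0b5d)) (.node 7219 (.leaf 0x6bcb0967) (.leaf 0x6bcc0968))) (.node 7222 (.node 7221 (.leaf 0x6bcd052e) (.leaf 0x6bce0966)) (.node 7223 (.leaf 0x6bcf0791) (.leaf 0x6bd00c56)))) (.node 7228 (.node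 7226 (.node 7225 (.leaf 0x6bd10969) (.leaf 0x6bd20872)) (.node 7227 (.leaf 0x6bd30966) (.leaf 0x6bd40968))) (.node 7230 (.node 7229 (.leaf 0x6bd50e44) (.leaf 0x6bd60e46)) (.node 7231 (.leaf 0x6bd7096b) (.leaf 0x6bd8052f))))))) (.node 7264 (.node 7248 (.node 7240 (.node 7236 (.node 7234 (.node 7233 (.leaf 0x6bd908cf) (.leaf 0x6bda096a)) (.node 7235 (.leaf 0x6bdb0909) (.leaf 0x6bdc0e48))) (.node 7238 (.node 7237 (.leaf 0x6bdd096d) (.leaf 0x6bde0e4a)) (.node 7239 (.leaf 0x6bdf0531) (.leaf 0x6be0096c)))) (.node 7244 (.node 7242 (.node 7241 (.leaf 0x6be10b89) (.leaf 0x6be209aa)) (.node 7243 (.leaf 0x6be3096f) (.leaf 0x6be40531))) (.node 7246 (.node 7245 (.leaf 0x6be5093f) (.leaf 0x6be6096e)) (.node 7247 (.leaf 0x6be705e9) (.leaf 0x6be80963))))) (.node 7256 (.node 7252 (.node 7250 (.node 7249 (.leaf 0x6be90971) (.leaf 0x6bea0534)) (.node 7251 (.leaf 0x6beb0972) (.leaf 0x6bec0970))) (.node 7254 (.node 7253 (.leaf 0x6bed0e4c)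 (.leaf 0x6bee0a05)) (.node 7255 (.leaf 0x6bef0973) (.leaf 0x6bf00970)))) (.node 7260 (.node 7258 (.node 7257 (.leaf 0x6bf1095c) (.leaf 0x6bf20972)) (.node 7259 (.leaf 0x6bf30e4e) (.leaf 0x6bf40e50))) (.node 7262 (.node 7261 (.leaf 0x6bf50975) (.leaf 0x6bf60985)) (.node 7263 (.leaf 0x6bf70535) (.leaf 0x6bf80974)))))) (.node 7280 (.node 7272 (.node 7268 (.node 7266 (.node 7265 (.leaf 0x6bf90e54) (.leaf 0x6bfa09ab)) (.node 7267 (.leaf 0x6bfb0977) (.leaf 0x6bfc0895))) (.node 7270 (.node 7269 (.leaf 0x6bfd0923) (.leaf 0x6bfe0976)) (.node 7271 (.leaf 0x6bff0e56) (.leaf 0x6c000e58)))) (.node 7276 (.node 7274 (.node 7273 (.leaf 0x6c010979) (.leaf 0x6c0207c3)) (.node 7275 (.leaf 0x6c030538) (.leaf 0x6c040978))) (.node 7278 (.node 7277 (.leaf 0x6c050e5e) (.leaf 0x6c06088f)) (.node 7279 (.leaf 0x6c07097b) (.leaf 0x6c080e60))))) (.node 7288 (.node 7284 (.node 7282 (.node 7281 (.leaf 0x6c090539) (.leaf 0x6c0a097a)) (.node 7283 (.leaf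 0x6c0b0d95) (.leaf 0x6c0c0891))) (.node 7286 (.node 7285 (.leaf 0x6c0d097d) (.leaf 0x6c0e08c1)) (.node 7287 (.leaf 0x6c0f053b) (.leaf 0x6c10097c)))) (.node 7292 (.node 7290 (.node 7289 (.leaf 0x6c110d43) (.leaf 0x6c120913)) (.node 7291 (.leaf 0x6c13097f) (.leaf 0x6c14053b))) (.node 7294 (.node 7293 (.leaf 0x6c150998) (.leaf 0x6c16097e)) (.node 7295 (.leaf 0x6c170bcd) (.leaf 0x6c180c00)))))))) (.node 7360 (.node 7328 (.node 7312 (.node 7304 (.node 7300 (.node 7298 (.node 7297 (.leaf 0x6c190981) (.leaf 0x6c1a0a23)) (.node 7299 (.leaf 0x6c1b053d) (.leaf 0x6c1c0980))) (.node 7302 (.node 7301 (.leaf 0x6c1d0ab3) (.leaf 0x6c1e0d3d)) (.node 7303 (.leaf 0x6c1f0983) (.leaf 0x6c200e64)))) (.node 7308 (.node 7306 (.node 7305 (.leaf 0x6c210541) (.leaf 0x6c220982)) (.node 7307 (.leaf 0x6c230e66) (.leaf 0x6c240e68))) (.node 7310 (.node 7309 (.leaf 0x6c250985) (.leaf 0x6c260541)) (.node 7311 (.leaf 0x6c270a2b) (.leaf 0x6c280984))))) (.node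 7320 (.node 7316 (.node 7314 (.node 7313 (.leaf 0x6c290e52) (.leaf 0x6c2a0974)) (.node 7315 (.leaf 0x6c2b0987) (.leaf 0x6c2c0de4))) (.node 7318 (.node 7317 (.leaf 0x6c2d0543) (.leaf 0x6c2e0986)) (.node 7319 (.leaf 0x6c2f0988) (.leaf 0x6c30098a)))) (.node 7324 (.node 7322 (.node 7321 (.leaf 0x6c310989) (.leaf 0x6c320948)) (.node 7323 (.leaf 0x6c330987) (.leaf 0x6c340988))) (.node 7326 (.node 7325 (.leaf 0x6c35093e) (.leaf 0x6c360e6e)) (.node 7327 (.leaf 0x6c37098b) (.leaf 0x6c380987)))))) (.node 7344 (.node 7336 (.node 7332 (.node 7330 (.node 7329 (.leaf 0x6c390946) (.leaf 0x6c3a098a)) (.node 7331 (.leaf 0x6c3b0e53) (.leaf 0x6c3c0e70))) (.node 7334 (.node 7333 (.leaf 0x6c3d098d) (.leaf 0x6c3e0b68)) (.node 7335 (.leaf 0x6c3f0545) (.leaf 0x6c40098c)))) (.node 7340 (.node 7338 (.node 7337 (.leaf 0x6c410e72) (.leaf 0x6c420e69)) (.node 7339 (.leaf 0x6c43098f) (.leaf 0x6c440545))) (.node 7342 (.node 7341 (.leaf 0x6c450699) (.leaf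 0x6c46098e)) (.node 7343 (.leaf 0x6c470ab6) (.leaf 0x6c480ab2))))) (.node 7352 (.node 7348 (.node 7346 (.node 7345 (.leaf 0x6c490991) (.leaf 0x6c4a0e74)) (.node 7347 (.leaf 0x6c4b0549) (.leaf 0x6c4c0990))) (.node 7350 (.node 7349 (.leaf 0x6c4d0e76) (.leaf 0x6c4e0993)) (.node 7351 (.leaf 0x6c4f0993) (.leaf 0x6c50054b)))) (.node 7356 (.node 7354 (.node 7353 (.leaf 0x6c510721) (.leaf 0x6c520992)) (.node 7355 (.leaf 0x6c530991) (.leaf 0x6c540e7a))) (.node 7358 (.node 7357 (.leaf 0x6c550995) (.leaf 0x6c560e7c)) (.node 7359 (.leaf 0x6c57054d) (.leaf 0x6c580994))))))) (.node 7392 (.node 7376 (.node 7368 (.node 7364 (.node 7362 (.node 7361 (.leaf 0x6c5908c5) (.leaf 0x6c5a08c5)) (.node 7363 (.leaf 0x6c5b0997) (.leaf 0x6c5c054d))) (.node 7366 (.node 7365 (.leaf 0x6c5d0711) (.leaf 0x6c5e0996)) (.node 7367 (.leaf 0x6c5f0851) (.leaf 0x6c600717)))) (.node 7372 (.node 7370 (.node 7369 (.leaf 0x6c610999) (.leaf 0x6c62097e)) (.node 7371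 (.leaf 0x6c630553) (.leaf 0x6c640998))) (.node 7374 (.node 7373 (.leaf 0x6c650e62) (.leaf 0x6c6607e5)) (.node 7375 (.leaf 0x6c67099b) (.leaf 0x6c6807e5))))) (.node 7384 (.node 7380 (.node 7378 (.node 7377 (.leaf 0x6c690555) (.leaf 0x6c6a099a)) (.node 7379 (.leaf 0x6c6b08ad) (.leaf 0x6c6c0e80))) (.node 7382 (.node 7381 (.leaf 0x6c6d099d) (.leaf 0x6c6e0555)) (.node 7383 (.leaf 0x6c6f0e62) (.leaf 0x6c70099c)))) (.node 7388 (.node 7386 (.node 7385 (.leaf 0x6c710d35) (.leaf 0x6c720e82)) (.node 7387 (.leaf 0x6c7309a1) (.leaf 0x6c74099f))) (.node 7390 (.node 7389 (.leaf 0x6c750557) (.leaf 0x6c7609a0)) (.node 7391 (.leaf 0x6c770693) (.leaf 0x6c78099e)))))) (.node 7408 (.node 7400 (.node 7396 (.node 7394 (.node 7393 (.leaf 0x6c79099f) (.leaf 0x6c7a08de)) (.node 7395 (.leaf 0x6c7b0e5e) (.leaf 0x6c7c099e))) (.node 7398 (.node 7397 (.leaf 0x6c7d0e84) (.leaf 0x6c7e089b)) (.node 7399 (.leaf 0x6c7f09a3) (.leaf 0x6c800559)))) (.node 7404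 (.node 7402 (.node 7401 (.leaf 0x6c810bfc) (.leaf 0x6c8209a2)) (.node 7403 (.leaf 0x6c830953) (.leaf 0x6c840e34))) (.node 7406 (.node 7405 (.leaf 0x6c8509a5) (.leaf 0x6c86055b)) (.node 7407 (.leaf 0x6c8709c4) (.leaf 0x6c8809a4))))) (.node 7416 (.node 7412 (.node 7410 (.node 7409 (.leaf 0x6c890e86) (.leaf 0x6c8a0e88)) (.node 7411 (.leaf 0x6c8b09a7) (.leaf 0x6c8c05b3))) (.node 7414 (.node 7413 (.leaf 0x6c8d055f) (.leaf 0x6c8e09a6)) (.node 7415 (.leaf 0x6c8f09d9) (.leaf 0x6c900643)))) (.node 7420 (.node 7418 (.node 7417 (.leaf 0x6c9109a9) (.leaf 0x6c920bf6)) (.node 7419 (.leaf 0x6c930561) (.leaf 0x6c9409a8))) (.node 7422 (.node 7421 (.leaf 0x6c950cb7) (.leaf 0x6c9608eb)) (.node 7423 (.leaf 0x6c9709ab) (.leaf 0x6c98096d))))))))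

/-- block of `tab` -/
def tab_29 : Tr := .node 7552 (.node 7488 (.node 7456 (.node 7440 (.node 7432 (.node 7428 (.node 7426 (.node 7425 (.leaf 0x6c990565) (.leaf 0x6c9a09aa)) (.node 7427 (.leaf 0x6c9b0975) (.leaf 0x6c9c0e8a))) (.node 7430 (.node 7429 (.leaf 0x6c9d09ad) (.leaf 0x6c9e0565)) (.node 7431 (.leaf 0x6c9f0e8c) (.leaf 0x6ca009ac)))) (.node 7436 (.node 7434 (.node 7433 (.leaf 0x6ca109bb) (.leaf 0x6ca20e8e)) (.node 7435 (.leaf 0x6ca309af) (.leaf 0x6ca40741))) (.node 7438 (.node 7437 (.leaf 0x6ca50567) (.leaf 0x6ca609ae)) (.node 7439 (.leaf 0x6ca70dc1) (.leaf 0x6ca80bec))))) (.node 7448 (.node 7444 (.node 7442 (.node 7441 (.leaf 0x6ca909b1) (.leaf 0x6caa0567)) (.node 7443 (.leaf 0x6cab0e92) (.leaf 0x6cac09b0))) (.node 7446 (.node 7445 (.leaf 0x6cad0e94) (.leaf 0x6cae0e96)) (.node 7447 (.leaf 0x6caf09b3) (.leaf 0x6cb00c41)))) (.node 7452 (.node 7450 (.node 7449 (.leaf 0x6cb10569) (.leaf 0x6cb209b2)) (.node 7451 (.leaf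 0x6cb30901) (.leaf 0x6cb406ce))) (.node 7454 (.node 7453 (.leaf 0x6cb509b5) (.leaf 0x6cb60639)) (.node 7455 (.leaf 0x6cb7056a) (.leaf 0x6cb809b4)))))) (.node 7472 (.node 7464 (.node 7460 (.node 7458 (.node 7457 (.leaf 0x6cb90a7d) (.leaf 0x6cba088d)) (.node 7459 (.leaf 0x6cbb09b7) (.leaf 0x6cbc056c))) (.node 7462 (.node 7461 (.leaf 0x6cbd0639) (.leaf 0x6cbe09b6)) (.node 7463 (.leaf 0x6cbf09b8) (.leaf 0x6cc0063f)))) (.node 7468 (.node 7466 (.node 7465 (.leaf 0x6cc109b9) (.leaf 0x6cc20758)) (.node 7467 (.leaf 0x6cc309b7) (.leaf 0x6cc409b8))) (.node 7470 (.node 7469 (.leaf 0x6cc506c9) (.leaf 0x6cc60885)) (.node 7471 (.leaf 0x6cc709bb) (.leaf 0x6cc80926))))) (.node 7480 (.node 7476 (.node 7474 (.node 7473 (.leaf 0x6cc9056d) (.leaf 0x6cca09ba)) (.node 7475 (.leaf 0x6ccb0a19) (.leaf 0x6ccc09ad))) (.node 7478 (.node 7477 (.leaf 0x6ccd09bd) (.leaf 0x6cce056d)) (.node 7479 (.leaf 0x6ccf0924) (.leaf 0x6cd009bc)))) (.node 7484 (.node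 7482 (.node 7481 (.leaf 0x6cd10883) (.leaf 0x6cd2090f)) (.node 7483 (.leaf 0x6cd309bf) (.leaf 0x6cd409dd))) (.node 7486 (.node 7485 (.leaf 0x6cd5056f) (.leaf 0x6cd609be)) (.node 7487 (.leaf 0x6cd707ba) (.leaf 0x6cd80c84))))))) (.node 7520 (.node 7504 (.node 7496 (.node 7492 (.node 7490 (.node 7489 (.leaf 0x6cd909c1) (.leaf 0x6cda09c4)) (.node 7491 (.leaf 0x6cdb0572) (.leaf 0x6cdc09c0))) (.node 7494 (.node 7493 (.leaf 0x6cdd09c2) (.leaf 0x6cde0e98)) (.node 7495 (.leaf 0x6cdf09c3) (.leaf 0x6ce00719)))) (.node 7500 (.node 7498 (.node 7497 (.leaf 0x6ce109c1) (.leaf 0x6ce209c2)) (.node 7499 (.leaf 0x6ce30e9a) (.leaf 0x6ce40ad7))) (.node 7502 (.node 7501 (.leaf 0x6ce509c5) (.leaf 0x6ce609a4)) (.node 7503 (.leaf 0x6ce709c0) (.leaf 0x6ce809c4))))) (.node 7512 (.node 7508 (.node 7506 (.node 7505 (.leaf 0x6ce908f5) (.leaf 0x6cea05f6)) (.node 7507 (.leaf 0x6ceb09c7) (.leaf 0x6cec0ba7))) (.node 7510 (.node 7509 (.leaf 0x6ced0573)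 (.leaf 0x6cee09c6)) (.node 7511 (.leaf 0x6cef078a) (.leaf 0x6cf00c42)))) (.node 7516 (.node 7514 (.node 7513 (.leaf 0x6cf109c9) (.leaf 0x6cf20573)) (.node 7515 (.leaf 0x6cf30e9c) (.leaf 0x6cf409c8))) (.node 7518 (.node 7517 (.leaf 0x6cf50c47) (.leaf 0x6cf60e9e)) (.node 7519 (.leaf 0x6cf709cb) (.leaf 0x6cf80578)))))) (.node 7536 (.node 7528 (.node 7524 (.node 7522 (.node 7521 (.leaf 0x6cf909cc) (.leaf 0x6cfa09ca)) (.node 7523 (.leaf 0x6cfb0ea0) (.leaf 0x6cfc0ea2))) (.node 7526 (.node 7525 (.leaf 0x6cfd09cd) (.leaf 0x6cfe09ca)) (.node 7527 (.leaf 0x6cff0823) (.leaf 0x6d0009cc)))) (.node 7532 (.node 7530 (.node 7529 (.leaf 0x6d010ca1) (.leaf 0x6d020b95)) (.node 7531 (.leaf 0x6d0309cf) (.leaf 0x6d040579))) (.node 7534 (.node 7533 (.leaf 0x6d0509f8) (.leaf 0x6d0609ce)) (.node 7535 (.leaf 0x6d070c6e) (.leaf 0x6d080ea6))))) (.node 7544 (.node 7540 (.node 7538 (.node 7537 (.leaf 0x6d0909d1) (.leaf 0x6d0a057b)) (.node 7539 (.leaf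 0x6d0b0e5d) (.leaf 0x6d0c09d0))) (.node 7542 (.node 7541 (.leaf 0x6d0d079d) (.leaf 0x6d0e0cb7)) (.node 7543 (.leaf 0x6d0f09d3) (.leaf 0x6d1009d6)))) (.node 7548 (.node 7546 (.node 7545 (.leaf 0x6d11057c) (.leaf 0x6d1209d2)) (.node 7547 (.leaf 0x6d130c15) (.leaf 0x6d140c64))) (.node 7550 (.node 7549 (.leaf 0x6d1509d5) (.leaf 0x6d16057e)) (.node 7551 (.leaf 0x6d1709d6) (.leaf 0x6d1809d4)))))))) (.node 7616 (.node 7584 (.node 7568 (.node 7560 (.node 7556 (.node 7554 (.node 7553 (.leaf 0x6d190bb5) (.leaf 0x6d1a0bb2)) (.node 7555 (.leaf 0x6d1b09d7) (.leaf 0x6d1c09d4))) (.node 7558 (.node 7557 (.leaf 0x6d1d09d2) (.leaf 0x6d1e09d6)) (.node 7559 (.leaf 0x6d1f0722) (.leaf 0x6d200ad9)))) (.node 7564 (.node 7562 (.node 7561 (.leaf 0x6d2109d9) (.leaf 0x6d22057f)) (.node 7563 (.leaf 0x6d230834) (.leaf 0x6d2409d8))) (.node 7566 (.node 7565 (.leaf 0x6d250c62) (.leaf 0x6d2609a7)) (.node 7567 (.leaf 0x6d2709db) (.leaf 0x6d2809e0))))) (.node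 7576 (.node 7572 (.node 7570 (.node 7569 (.leaf 0x6d290580) (.leaf 0x6d2a09da)) (.node 7571 (.leaf 0x6d2b0dbd) (.leaf 0x6d2c0c87))) (.node 7574 (.node 7573 (.leaf 0x6d2d09dd) (.leaf 0x6d2e0c8e)) (.node 7575 (.leaf 0x6d2f0581) (.leaf 0x6d3009dc)))) (.node 7580 (.node 7578 (.node 7577 (.leaf 0x6d3108d7) (.leaf 0x6d3209be)) (.node 7579 (.leaf 0x6d3309df) (.leaf 0x6d340582))) (.node 7582 (.node 7581 (.leaf 0x6d3509e0) (.leaf 0x6d3609de)) (.node 7583 (.leaf 0x6d370eac) (.leaf 0x6d380eae)))))) (.node 7600 (.node 7592 (.node 7588 (.node 7586 (.node 7585 (.leaf 0x6d3909e1) (.leaf 0x6d3a09de)) (.node 7587 (.leaf 0x6d3b09da) (.leaf 0x6d3c09e0))) (.node 7590 (.node 7589 (.leaf 0x6d3d0ae2) (.leaf 0x6d3e0668)) (.node 7591 (.leaf 0x6d3f09e3) (.leaf 0x6d400583)))) (.node 7596 (.node 7594 (.node 7593 (.leaf 0x6d410eb0) (.leaf 0x6d4209e2)) (.node 7595 (.leaf 0x6d430c82) (.leaf 0x6d440db3))) (.node 7598 (.node 7597 (.leaf 0x6d4509e5) (.leaf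 0x6d460587)) (.node 7599 (.leaf 0x6d4706e6) (.leaf 0x6d4809e4))))) (.node 7608 (.node 7604 (.node 7602 (.node 7601 (.leaf 0x6d490c92) (.leaf 0x6d4a0d56)) (.node 7603 (.leaf 0x6d4b09e7) (.leaf 0x6d4c0589))) (.node 7606 (.node 7605 (.leaf 0x6d4d0953) (.leaf 0x6d4e09e6)) (.node 7607 (.leaf 0x6d4f0e87) (.leaf 0x6d5007c9)))) (.node 7612 (.node 7610 (.node 7609 (.leaf 0x6d5109e9) (.leaf 0x6d520eb2)) (.node 7611 (.leaf 0x6d53058f) (.leaf 0x6d5409e8))) (.node 7614 (.node 7613 (.leaf 0x6d550db2) (.leaf 0x6d5608a0)) (.node 7615 (.leaf 0x6d5709eb) (.leaf 0x6d58058f))))))) (.node 7648 (.node 7632 (.node 7624 (.node 7620 (.node 7618 (.node 7617 (.leaf 0x6d590eb4) (.leaf 0x6d5a09ea)) (.node 7619 (.leaf 0x6d5b0d8d) (.leaf 0x6d5c0a01))) (.node 7622 (.node 7621 (.leaf 0x6d5d09ed) (.leaf 0x6d5e09f2)) (.node 7623 (.leaf 0x6d5f0594) (.leaf 0x6d6009ec)))) (.node 7628 (.node 7626 (.node 7625 (.leaf 0x6d610b19) (.leaf 0x6d620eb6)) (.node 7627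 (.leaf 0x6d6309ef) (.leaf 0x6d640eb8))) (.node 7630 (.node 7629 (.leaf 0x6d650595) (.leaf 0x6d6609ee)) (.node 7631 (.leaf 0x6d67059b) (.leaf 0x6d680d1c))))) (.node 7640 (.node 7636 (.node 7634 (.node 7633 (.leaf 0x6d6909f1) (.leaf 0x6d6a0596)) (.node 7635 (.leaf 0x6d6b09f2) (.leaf 0x6d6c09f0))) (.node 7638 (.node 7637 (.leaf 0x6d6d0ab8) (.leaf 0x6d6e065a)) (.node 7639 (.leaf 0x6d6f09f3) (.leaf 0x6d7009f0)))) (.node 7644 (.node 7642 (.node 7641 (.leaf 0x6d7109ec) (.leaf 0x6d7209f2)) (.node 7643 (.leaf 0x6d730eba) (.leaf 0x6d740ebe))) (.node 7646 (.node 7645 (.leaf 0x6d7509f5) (.leaf 0x6d760597)) (.node 7647 (.leaf 0x6d770a0e) (.leaf 0x6d7809f4)))))) (.node 7664 (.node 7656 (.node 7652 (.node 7650 (.node 7649 (.leaf 0x6d790ec0) (.leaf 0x6d7a0ec2)) (.node 7651 (.leaf 0x6d7b09f7) (.leaf 0x6d7c09f8))) (.node 7654 (.node 7653 (.leaf 0x6d7d0598) (.leaf 0x6d7e09f6)) (.node 7655 (.leaf 0x6d7f08a3) (.leaf 0x6d800dc0)))) (.node 7660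 (.node 7658 (.node 7657 (.leaf 0x6d8109f9) (.leaf 0x6d8209ce)) (.node 7659 (.leaf 0x6d8309f6) (.leaf 0x6d8409f8))) (.node 7662 (.node 7661 (.leaf 0x6d850e8f) (.leaf 0x6d860e4e)) (.node 7663 (.leaf 0x6d8709fb) (.leaf 0x6d88059a))))) (.node 7672 (.node 7668 (.node 7666 (.node 7665 (.leaf 0x6d8909fc) (.leaf 0x6d8a09fa)) (.node 7667 (.leaf 0x6d8b0dbe) (.leaf 0x6d8c08a9))) (.node 7670 (.node 7669 (.leaf 0x6d8d09fd) (.leaf 0x6d8e09fa)) (.node 7671 (.leaf 0x6d8f07aa) (.leaf 0x6d9009fc)))) (.node 7676 (.node 7674 (.node 7673 (.leaf 0x6d910e46) (.leaf 0x6d920e01)) (.node 7675 (.leaf 0x6d9309ff) (.leaf 0x6d940a02))) (.node 7678 (.node 7677 (.leaf 0x6d95059c) (.leaf 0x6d9609fe)) (.node 7679 (.leaf 0x6d970ec4) (.leaf 0x6d980ec6))))))))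

/-- block of `tab` -/
def tab_30 : Tr := .node 7808 (.node 7744 (.node 7712 (.node 7696 (.node 7688 (.node 7684 (.node 7682 (.node 7681 (.leaf 0x6d990a01) (.leaf 0x6d9a059e)) (.node 7683 (.leaf 0x6d9b0a02) (.leaf 0x6d9c0a00))) (.node 7686 (.node 7685 (.leaf 0x6d9d09eb) (.leaf 0x6d9e0ec8)) (.node 7687 (.leaf 0x6d9f0a03) (.leaf 0x6da00a00)))) (.node 7692 (.node 7690 (.node 7689 (.leaf 0x6da109fe) (.leaf 0x6da20a02)) (.node 7691 (.leaf 0x6da30eaa) (.leaf 0x6da40a75))) (.node 7694 (.node 7693 (.leaf 0x6da50a05) (.leaf 0x6da60eca)) (.node 7695 (.leaf 0x6da7059f) (.leaf 0x6da80a04))))) (.node 7704 (.node 7700 (.node 7698 (.node 7697 (.leaf 0x6da90971) (.leaf 0x6daa05a1)) (.node 7699 (.leaf 0x6dab0a07) (.leaf 0x6dac05a0))) (.node 7702 (.node 7701 (.leaf 0x6dad0a08) (.leaf 0x6dae0a06)) (.node 7703 (.leaf 0x6daf07a6) (.leaf 0x6db00797)))) (.node 7708 (.node 7706 (.node 7705 (.leaf 0x6db10a09) (.leaf 0x6db20a06)) (.node 7707 (.leaf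 0x6db306b0) (.leaf 0x6db40a08))) (.node 7710 (.node 7709 (.leaf 0x6db50a36) (.leaf 0x6db6079b)) (.node 7711 (.leaf 0x6db70a0b) (.leaf 0x6db805a1)))))) (.node 7728 (.node 7720 (.node 7716 (.node 7714 (.node 7713 (.leaf 0x6db90ece) (.leaf 0x6dba0a0a)) (.node 7715 (.leaf 0x6dbb0ed0) (.leaf 0x6dbc0e53))) (.node 7718 (.node 7717 (.leaf 0x6dbd0a0d) (.leaf 0x6dbe0a0e)) (.node 7719 (.leaf 0x6dbf05a2) (.leaf 0x6dc00a0c)))) (.node 7724 (.node 7722 (.node 7721 (.leaf 0x6dc10ae3) (.leaf 0x6dc208f7)) (.node 7723 (.leaf 0x6dc30a0f) (.leaf 0x6dc409f4))) (.node 7726 (.node 7725 (.leaf 0x6dc50a0c) (.leaf 0x6dc60a0e)) (.node 7727 (.leaf 0x6dc70ed2) (.leaf 0x6dc80eaf))))) (.node 7736 (.node 7732 (.node 7730 (.node 7729 (.leaf 0x6dc90a11) (.leaf 0x6dca0905)) (.node 7731 (.leaf 0x6dcb05a3) (.leaf 0x6dcc0a10))) (.node 7734 (.node 7733 (.leaf 0x6dcd06aa) (.leaf 0x6dce08f3)) (.node 7735 (.leaf 0x6dcf0a13) (.leaf 0x6dd005a3)))) (.node 7740 (.node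 7738 (.node 7737 (.leaf 0x6dd10e89) (.leaf 0x6dd20a12)) (.node 7739 (.leaf 0x6dd30af7) (.leaf 0x6dd40c40))) (.node 7742 (.node 7741 (.leaf 0x6dd50a15) (.leaf 0x6dd605a5)) (.node 7743 (.leaf 0x6dd70c14) (.leaf 0x6dd80a14))))))) (.node 7776 (.node 7760 (.node 7752 (.node 7748 (.node 7746 (.node 7745 (.leaf 0x6dd90d57) (.leaf 0x6dda0da1)) (.node 7747 (.leaf 0x6ddb0a17) (.leaf 0x6ddc05a7))) (.node 7750 (.node 7749 (.leaf 0x6ddd0aab) (.leaf 0x6dde0a16)) (.node 7751 (.leaf 0x6ddf0abd) (.leaf 0x6de00e29)))) (.node 7756 (.node 7754 (.node 7753 (.leaf 0x6de10a19) (.leaf 0x6de205a9)) (.node 7755 (.leaf 0x6de30e15) (.leaf 0x6de40a18))) (.node 7758 (.node 7757 (.leaf 0x6de50d0d) (.leaf 0x6de609bb)) (.node 7759 (.leaf 0x6de70a1b) (.leaf 0x6de80738))))) (.node 7768 (.node 7764 (.node 7762 (.node 7761 (.leaf 0x6de905ca) (.leaf 0x6dea0a1a)) (.node 7763 (.leaf 0x6deb0ed4) (.leaf 0x6dec0ed8))) (.node 7766 (.node 7765 (.leaf 0x6ded0a1d)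 (.leaf 0x6dee05ab)) (.node 7767 (.leaf 0x6def0edc) (.leaf 0x6df00a1c)))) (.node 7772 (.node 7770 (.node 7769 (.leaf 0x6df10be7) (.leaf 0x6df208ce)) (.node 7771 (.leaf 0x6df30a1f) (.leaf 0x6df4072c))) (.node 7774 (.node 7773 (.leaf 0x6df505ad) (.leaf 0x6df60a1e)) (.node 7775 (.leaf 0x6df70ede) (.leaf 0x6df80ee0)))))) (.node 7792 (.node 7784 (.node 7780 (.node 7778 (.node 7777 (.leaf 0x6df90a21) (.leaf 0x6dfa05ce)) (.node 7779 (.leaf 0x6dfb05ae) (.leaf 0x6dfc0a20))) (.node 7782 (.node 7781 (.leaf 0x6dfd0eb4) (.leaf 0x6dfe0eb2)) (.node 7783 (.leaf 0x6dff0a23) (.leaf 0x6e0005af)))) (.node 7788 (.node 7786 (.node 7785 (.leaf 0x6e010655) (.leaf 0x6e020a22)) (.node 7787 (.leaf 0x6e030c01) (.leaf 0x6e040980))) (.node 7790 (.node 7789 (.leaf 0x6e050a25) (.leaf 0x6e0605b1)) (.node 7791 (.leaf 0x6e070bea) (.leaf 0x6e080a24))))) (.node 7800 (.node 7796 (.node 7794 (.node 7793 (.leaf 0x6e090ee2) (.leaf 0x6e0a0ee4)) (.node 7795 (.leaf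 0x6e0b0a27) (.leaf 0x6e0c0bd8))) (.node 7798 (.node 7797 (.leaf 0x6e0d05b5) (.leaf 0x6e0e0a26)) (.node 7799 (.leaf 0x6e0f0763) (.leaf 0x6e100835)))) (.node 7804 (.node 7802 (.node 7801 (.leaf 0x6e110a29) (.leaf 0x6e1205c4)) (.node 7803 (.leaf 0x6e13072e) (.leaf 0x6e140a28))) (.node 7806 (.node 7805 (.leaf 0x6e150ed9) (.leaf 0x6e160ed5)) (.node 7807 (.leaf 0x6e170a2b) (.leaf 0x6e180ee6)))))))) (.node 7872 (.node 7840 (.node 7824 (.node 7816 (.node 7812 (.node 7810 (.node 7809 (.leaf 0x6e1905b7) (.leaf 0x6e1a0a2a)) (.node 7811 (.leaf 0x6e1b0984) (.leaf 0x6e1c0bdf))) (.node 7814 (.node 7813 (.leaf 0x6e1d0a2d) (.leaf 0x6e1e05bb)) (.node 7815 (.leaf 0x6e1f0734) (.leaf 0x6e200a2c)))) (.node 7820 (.node 7818 (.node 7817 (.leaf 0x6e210ee8) (.leaf 0x6e220eea)) (.node 7819 (.leaf 0x6e230a2f) (.leaf 0x6e2405bd))) (.node 7822 (.node 7821 (.leaf 0x6e250bd8) (.leaf 0x6e260a2e)) (.node 7823 (.leaf 0x6e270a4a) (.leaf 0x6e28063d))))) (.node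 7832 (.node 7828 (.node 7826 (.node 7825 (.leaf 0x6e290a31) (.leaf 0x6e2a076f)) (.node 7827 (.leaf 0x6e2b05bf) (.leaf 0x6e2c0a30))) (.node 7830 (.node 7829 (.leaf 0x6e2d08ca) (.leaf 0x6e2e0aaf)) (.node 7831 (.leaf 0x6e2f0a33) (.leaf 0x6e3006a4)))) (.node 7836 (.node 7834 (.node 7833 (.leaf 0x6e3105c0) (.leaf 0x6e320a32)) (.node 7835 (.leaf 0x6e330eec) (.leaf 0x6e340eee))) (.node 7838 (.node 7837 (.leaf 0x6e350a35) (.leaf 0x6e360661)) (.node 7839 (.leaf 0x6e3705c1) (.leaf 0x6e380a34)))))) (.node 7856 (.node 7848 (.node 7844 (.node 7842 (.node 7841 (.leaf 0x6e390ac8) (.leaf 0x6e3a0ac6)) (.node 7843 (.leaf 0x6e3b0a37) (.leaf 0x6e3c06a5))) (.node 7846 (.node 7845 (.leaf 0x6e3d0a09) (.leaf 0x6e3e0a36)) (.node 7847 (.leaf 0x6e3f0ef2) (.leaf 0x6e400a43)))) (.node 7852 (.node 7850 (.node 7849 (.leaf 0x6e410a39) (.leaf 0x6e420b54)) (.node 7851 (.leaf 0x6e4305c3) (.leaf 0x6e440a38))) (.node 7854 (.node 7853 (.leaf 0x6e450b69) (.leaf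 0x6e460748)) (.node 7855 (.leaf 0x6e470a3b) (.leaf 0x6e480835))))) (.node 7864 (.node 7860 (.node 7858 (.node 7857 (.leaf 0x6e4905c5) (.leaf 0x6e4a0a3a)) (.node 7859 (.leaf 0x6e4b0a4e) (.leaf 0x6e4c06ad))) (.node 7862 (.node 7861 (.leaf 0x6e4d0a3d) (.leaf 0x6e4e05c5)) (.node 7863 (.leaf 0x6e4f0763) (.leaf 0x6e500a3c)))) (.node 7868 (.node 7866 (.node 7865 (.leaf 0x6e510ef4) (.leaf 0x6e5206cb)) (.node 7867 (.leaf 0x6e530a3f) (.leaf 0x6e5405c7))) (.node 7870 (.node 7869 (.leaf 0x6e550bae) (.leaf 0x6e560a3e)) (.node 7871 (.leaf 0x6e57065e) (.leaf 0x6e580a77))))))) (.node 7904 (.node 7888 (.node 7880 (.node 7876 (.node 7874 (.node 7873 (.leaf 0x6e590a41) (.leaf 0x6e5a05c8)) (.node 7875 (.leaf 0x6e5b06f0) (.leaf 0x6e5c0a40))) (.node 7878 (.node 7877 (.leaf 0x6e5d0ef6) (.leaf 0x6e5e0ef8)) (.node 7879 (.leaf 0x6e5f0a43) (.leaf 0x6e60079b)))) (.node 7884 (.node 7882 (.node 7881 (.leaf 0x6e6106f1) (.leaf 0x6e620a42)) (.node 7883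 (.leaf 0x6e630a37) (.leaf 0x6e640ef2))) (.node 7886 (.node 7885 (.leaf 0x6e650a45) (.leaf 0x6e6605c9)) (.node 7887 (.leaf 0x6e67074f) (.leaf 0x6e680a44))))) (.node 7896 (.node 7892 (.node 7890 (.node 7889 (.leaf 0x6e690c08) (.leaf 0x6e6a0a7b)) (.node 7891 (.leaf 0x6e6b0a47) (.leaf 0x6e6c063d))) (.node 7894 (.node 7893 (.leaf 0x6e6d05cb) (.leaf 0x6e6e0a46)) (.node 7895 (.leaf 0x6e6f05fb) (.leaf 0x6e700ef4)))) (.node 7900 (.node 7898 (.node 7897 (.leaf 0x6e710a49) (.leaf 0x6e7205cb)) (.node 7899 (.leaf 0x6e730a4a) (.leaf 0x6e740a48))) (.node 7902 (.node 7901 (.leaf 0x6e7506f7) (.leaf 0x6e760838)) (.node 7903 (.leaf 0x6e770a4b) (.leaf 0x6e780a48)))))) (.node 7920 (.node 7912 (.node 7908 (.node 7906 (.node 7905 (.leaf 0x6e790a2f) (.leaf 0x6e7a0a4a)) (.node 7907 (.leaf 0x6e7b05d1) (.leaf 0x6e7c07a0))) (.node 7910 (.node 7909 (.leaf 0x6e7d0a4d) (.leaf 0x6e7e0b36)) (.node 7911 (.leaf 0x6e7f05cd) (.leaf 0x6e800a4c)))) (.node 7916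 (.node 7914 (.node 7913 (.leaf 0x6e8105cf) (.leaf 0x6e82083b)) (.node 7915 (.leaf 0x6e830a4f) (.leaf 0x6e8405cd))) (.node 7918 (.node 7917 (.leaf 0x6e850a3b) (.leaf 0x6e860a4e)) (.node 7919 (.leaf 0x6e870ee3) (.leaf 0x6e8805d5))))) (.node 7928 (.node 7924 (.node 7922 (.node 7921 (.leaf 0x6e890a51) (.leaf 0x6e8a08c7)) (.node 7923 (.leaf 0x6e8b05d8) (.leaf 0x6e8c0a50))) (.node 7926 (.node 7925 (.leaf 0x6e8d08c3) (.leaf 0x6e8e0e60)) (.node 7927 (.leaf 0x6e8f0a53) (.leaf 0x6e900efc)))) (.node 7932 (.node 7930 (.node 7929 (.leaf 0x6e9105d9) (.leaf 0x6e920a52)) (.node 7931 (.leaf 0x6e930a6b) (.leaf 0x6e940efe))) (.node 7934 (.node 7933 (.leaf 0x6e950a55) (.leaf 0x6e9605d9)) (.node 7935 (.leaf 0x6e970f00) (.leaf 0x6e980a54))))))))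

/-- block of `tab` -/
def tab_31 : Tr := .node 8064 (.node 8000 (.node 7968 (.node 7952 (.node 7944 (.node 7940 (.node 7938 (.node 7937 (.leaf 0x6e990a5d) (.leaf 0x6e9a07fb)) (.node 7939 (.leaf 0x6e9b0a57) (.leaf 0x6e9c05da))) (.node 7942 (.node 7941 (.leaf 0x6e9d08c7) (.leaf 0x6e9e0a56)) (.node 7943 (.leaf 0x6e9f080d) (.leaf 0x6ea00f04)))) (.node 7948 (.node 7946 (.node 7945 (.leaf 0x6ea10a59) (.leaf 0x6ea20b21)) (.node 7947 (.leaf 0x6ea305db) (.leaf 0x6ea40a58))) (.node 7950 (.node 7949 (.leaf 0x6ea50f08) (.leaf 0x6ea605e1)) (.node 7951 (.leaf 0x6ea70a5b) (.leaf 0x6ea805db))))) (.node 7960 (.node 7956 (.node 7954 (.node 7953 (.leaf 0x6ea90ebc) (.leaf 0x6eaa0a5a)) (.node 7955 (.leaf 0x6eab0f0a) (.leaf 0x6eac0f0c))) (.node 7958 (.node 7957 (.leaf 0x6ead0a5d) (.leaf 0x6eae0d36)) (.node 7959 (.leaf 0x6eaf05dd) (.leaf 0x6eb00a5c)))) (.node 7964 (.node 7962 (.node 7961 (.leaf 0x6eb10d02) (.leaf 0x6eb20a55)) (.node 7963 (.leaf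 0x6eb30a5f) (.leaf 0x6eb405dd))) (.node 7966 (.node 7965 (.leaf 0x6eb50d34) (.leaf 0x6eb60a5e)) (.node 7967 (.leaf 0x6eb70e14) (.leaf 0x6eb8085b)))))) (.node 7984 (.node 7976 (.node 7972 (.node 7970 (.node 7969 (.leaf 0x6eb90a61) (.leaf 0x6eba06ff)) (.node 7971 (.leaf 0x6ebb05df) (.leaf 0x6ebc0a60))) (.node 7974 (.node 7973 (.leaf 0x6ebd070d) (.leaf 0x6ebe0e4d)) (.node 7975 (.leaf 0x6ebf0a63) (.leaf 0x6ec005df)))) (.node 7980 (.node 7978 (.node 7977 (.leaf 0x6ec10b94) (.leaf 0x6ec20a62)) (.node 7979 (.leaf 0x6ec306d3) (.leaf 0x6ec40e78))) (.node 7982 (.node 7981 (.leaf 0x6ec50a65) (.leaf 0x6ec605e1)) (.node 7983 (.leaf 0x6ec70f10) (.leaf 0x6ec80a64))))) (.node 7992 (.node 7988 (.node 7986 (.node 7985 (.leaf 0x6ec90b1b) (.leaf 0x6eca0f14)) (.node 7987 (.leaf 0x6ecb0a67) (.leaf 0x6ecc05e3))) (.node 7990 (.node 7989 (.leaf 0x6ecd0a6c) (.leaf 0x6ece0a66)) (.node 7991 (.leaf 0x6ecf0f16) (.leaf 0x6ed00abd)))) (.node 7996 (.node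 7994 (.node 7993 (.leaf 0x6ed10a69) (.leaf 0x6ed20d22)) (.node 7995 (.leaf 0x6ed305e5) (.leaf 0x6ed40a68))) (.node 7998 (.node 7997 (.leaf 0x6ed50cfa) (.leaf 0x6ed60cf8)) (.node 7999 (.leaf 0x6ed70a6b) (.leaf 0x6ed805e5))))))) (.node 8032 (.node 8016 (.node 8008 (.node 8004 (.node 8002 (.node 8001 (.leaf 0x6ed90f1a) (.leaf 0x6eda0a6a)) (.node 8003 (.leaf 0x6edb0ecf) (.leaf 0x6edc0a53))) (.node 8006 (.node 8005 (.leaf 0x6edd0a6d) (.leaf 0x6ede0a66)) (.node 8007 (.leaf 0x6edf077d) (.leaf 0x6ee00a6c)))) (.node 8012 (.node 8010 (.node 8009 (.leaf 0x6ee10b33) (.leaf 0x6ee20865)) (.node 8011 (.leaf 0x6ee30a6f) (.leaf 0x6ee40a70))) (.node 8014 (.node 8013 (.leaf 0x6ee505e6) (.leaf 0x6ee60a6e)) (.node 8015 (.leaf 0x6ee70705) (.leaf 0x6ee80ae7))))) (.node 8024 (.node 8020 (.node 8018 (.node 8017 (.leaf 0x6ee90a71) (.leaf 0x6eea06f4)) (.node 8019 (.leaf 0x6eeb0a6e) (.leaf 0x6eec0a70))) (.node 8022 (.node 8021 (.leaf 0x6eed0df3)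 (.leaf 0x6eee0d9f)) (.node 8023 (.leaf 0x6eef0a73) (.leaf 0x6ef0082c)))) (.node 8028 (.node 8026 (.node 8025 (.leaf 0x6ef10928) (.leaf 0x6ef20a72)) (.node 8027 (.leaf 0x6ef30d46) (.leaf 0x6ef40ee3))) (.node 8030 (.node 8029 (.leaf 0x6ef50a75) (.leaf 0x6ef60f1e)) (.node 8031 (.leaf 0x6ef705f1) (.leaf 0x6ef80a74)))))) (.node 8048 (.node 8040 (.node 8036 (.node 8034 (.node 8033 (.leaf 0x6ef90a03) (.leaf 0x6efa0875)) (.node 8035 (.leaf 0x6efb0a77) (.leaf 0x6efc08d4))) (.node 8038 (.node 8037 (.leaf 0x6efd05f7) (.leaf 0x6efe0a76)) (.node 8039 (.leaf 0x6eff0a3f) (.leaf 0x6f000ad6)))) (.node 8044 (.node 8042 (.node 8041 (.leaf 0x6f010a79) (.leaf 0x6f0206d7)) (.node 8043 (.leaf 0x6f0305f9) (.leaf 0x6f040a78))) (.node 8046 (.node 8045 (.leaf 0x6f0507d5) (.leaf 0x6f06082b)) (.node 8047 (.leaf 0x6f070a7b) (.leaf 0x6f0808b1))))) (.node 8056 (.node 8052 (.node 8050 (.node 8049 (.leaf 0x6f0905fa) (.leaf 0x6f0a0a7a)) (.node 8051 (.leaf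 0x6f0b0a45) (.leaf 0x6f0c0760))) (.node 8054 (.node 8053 (.leaf 0x6f0d0a7d) (.leaf 0x6f0e06cb)) (.node 8055 (.leaf 0x6f0f05fb) (.leaf 0x6f100a7c)))) (.node 8060 (.node 8058 (.node 8057 (.leaf 0x6f110913) (.leaf 0x6f1209b5)) (.node 8059 (.leaf 0x6f130a7f) (.leaf 0x6f140b5e))) (.node 8062 (.node 8061 (.leaf 0x6f1505fd) (.leaf 0x6f160a7e)) (.node 8063 (.leaf 0x6f170c11) (.leaf 0x6f180dc9)))))))) (.node 8128 (.node 8096 (.node 8080 (.node 8072 (.node 8068 (.node 8066 (.node 8065 (.leaf 0x6f190a81) (.leaf 0x6f1a05fd)) (.node 8067 (.leaf 0x6f1b0b5c) (.leaf 0x6f1c0a80))) (.node 8070 (.node 8069 (.leaf 0x6f1d0669) (.leaf 0x6f1e0e04)) (.node 8071 (.leaf 0x6f1f0a83) (.leaf 0x6f2005ff)))) (.node 8076 (.node 8074 (.node 8073 (.leaf 0x6f210f20) (.leaf 0x6f220a82)) (.node 8075 (.leaf 0x6f230abb) (.leaf 0x6f240c13))) (.node 8078 (.node 8077 (.leaf 0x6f250a85) (.leaf 0x6f2606c5)) (.node 8079 (.leaf 0x6f270605) (.leaf 0x6f280a84))))) (.node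 8088 (.node 8084 (.node 8082 (.node 8081 (.leaf 0x6f290bf0) (.leaf 0x6f2a073e)) (.node 8083 (.leaf 0x6f2b0a87) (.leaf 0x6f2c094a))) (.node 8086 (.node 8085 (.leaf 0x6f2d0606) (.leaf 0x6f2e0a86)) (.node 8087 (.leaf 0x6f2f0b3e) (.leaf 0x6f300b3a)))) (.node 8092 (.node 8090 (.node 8089 (.leaf 0x6f310a89) (.leaf 0x6f32060d)) (.node 8091 (.leaf 0x6f330ab7) (.leaf 0x6f340a88))) (.node 8094 (.node 8093 (.leaf 0x6f35069d) (.leaf 0x6f360e3b)) (.node 8095 (.leaf 0x6f370a8b) (.leaf 0x6f380a92)))))) (.node 8112 (.node 8104 (.node 8100 (.node 8098 (.node 8097 (.leaf 0x6f390614) (.leaf 0x6f3a0a8a)) (.node 8099 (.leaf 0x6f3b0f2a) (.leaf 0x6f3c0b6f))) (.node 8102 (.node 8101 (.leaf 0x6f3d0a8d) (.leaf 0x6f3e0e7b)) (.node 8103 (.leaf 0x6f3f0615) (.leaf 0x6f400a8c)))) (.node 8108 (.node 8106 (.node 8105 (.leaf 0x6f410f2c) (.leaf 0x6f420b77)) (.node 8107 (.leaf 0x6f430a8f) (.leaf 0x6f440615))) (.node 8110 (.node 8109 (.leaf 0x6f450f2e) (.leaf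 0x6f460a8e)) (.node 8111 (.leaf 0x6f470683) (.leaf 0x6f480f13))))) (.node 8120 (.node 8116 (.node 8114 (.node 8113 (.leaf 0x6f490a91) (.leaf 0x6f4a0616)) (.node 8115 (.leaf 0x6f4b0a92) (.leaf 0x6f4c0a90))) (.node 8118 (.node 8117 (.leaf 0x6f4d0617) (.leaf 0x6f4e0d38)) (.node 8119 (.leaf 0x6f4f0a93) (.leaf 0x6f500a90)))) (.node 8124 (.node 8122 (.node 8121 (.leaf 0x6f510a8a) (.leaf 0x6f520a92)) (.node 8123 (.leaf 0x6f530a94) (.leaf 0x6f54095e))) (.node 8126 (.node 8125 (.leaf 0x6f550a95) (.leaf 0x6f56094b)) (.node 8127 (.leaf 0x6f570a93) (.leaf 0x6f580a94))))))) (.node 8160 (.node 8144 (.node 8136 (.node 8132 (.node 8130 (.node 8129 (.leaf 0x6f590f30) (.leaf 0x6f5a0e3c)) (.node 8131 (.leaf 0x6f5b0a97) (.leaf 0x6f5c0bf3))) (.node 8134 (.node 8133 (.leaf 0x6f5d0617) (.leaf 0x6f5e0a96)) (.node 8135 (.leaf 0x6f5f0ea8) (.leaf 0x6f60061b)))) (.node 8140 (.node 8138 (.node 8137 (.leaf 0x6f610a99) (.leaf 0x6f620619)) (.node 8139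 (.leaf 0x6f6307ce) (.leaf 0x6f640a98))) (.node 8142 (.node 8141 (.leaf 0x6f650735) (.leaf 0x6f660a9d)) (.node 8143 (.leaf 0x6f670a9b) (.leaf 0x6f6806e5))))) (.node 8152 (.node 8148 (.node 8146 (.node 8145 (.leaf 0x6f69061d) (.leaf 0x6f6a0a9a)) (.node 8147 (.leaf 0x6f6b0a9f) (.leaf 0x6f6c0b81))) (.node 8150 (.node 8149 (.leaf 0x6f6d0a9d) (.leaf 0x6f6e0f32)) (.node 8151 (.leaf 0x6f6f061f) (.leaf 0x6f700a9c)))) (.node 8156 (.node 8154 (.node 8153 (.leaf 0x6f710a99) (.leaf 0x6f720b83)) (.node 8155 (.leaf 0x6f730a9f) (.leaf 0x6f74061f))) (.node 8158 (.node 8157 (.leaf 0x6f750b7d) (.leaf 0x6f760a9e)) (.node 8159 (.leaf 0x6f770dcf) (.leaf 0x6f780a9b)))))) (.node 8176 (.node 8168 (.node 8164 (.node 8162 (.node 8161 (.leaf 0x6f790aa1) (.leaf 0x6f7a0b05)) (.node 8163 (.leaf 0x6f7b0621) (.leaf 0x6f7c0aa0))) (.node 8166 (.node 8165 (.leaf 0x6f7d0bfd) (.leaf 0x6f7e0b80)) (.node 8167 (.leaf 0x6f7f0aa3) (.leaf 0x6f800621)))) (.node 8172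 (.node 8170 (.node 8169 (.leaf 0x6f810ac3) (.leaf 0x6f820aa2)) (.node 8171 (.leaf 0x6f830d11) (.leaf 0x6f840f2d))) (.node 8174 (.node 8173 (.leaf 0x6f850aa5) (.leaf 0x6f860625)) (.node 8175 (.leaf 0x6f870e75) (.leaf 0x6f880aa4))))) (.node 8184 (.node 8180 (.node 8178 (.node 8177 (.leaf 0x6f890dd7) (.leaf 0x6f8a0f34)) (.node 8179 (.leaf 0x6f8b0aa7) (.leaf 0x6f8c0bed))) (.node 8182 (.node 8181 (.leaf 0x6f8d0627) (.leaf 0x6f8e0aa6)) (.node 8183 (.leaf 0x6f8f0747) (.leaf 0x6f900b49)))) (.node 8188 (.node 8186 (.node 8185 (.leaf 0x6f910aa9) (.leaf 0x6f92088b)) (.node 8187 (.leaf 0x6f930628) (.leaf 0x6f940aa8))) (.node 8190 (.node 8189 (.leaf 0x6f95067f) (.leaf 0x6f960c04)) (.node 8191 (.leaf 0x6f970aab) (.leaf 0x6f98075d))))))))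

/-- block of `tab` -/
def tab_32 : Tr := .node 8320 (.node 8256 (.node 8224 (.node 8208 (.node 8200 (.node 8196 (.node 8194 (.node 8193 (.leaf 0x6f990629) (.leaf 0x6f9a0aaa)) (.node 8195 (.leaf 0x6f9b0a16) (.leaf 0x6f9c08b4))) (.node 8198 (.node 8197 (.leaf 0x6f9d0aad) (.leaf 0x6f9e0629)) (.node 8199 (.leaf 0x6f9f0f36) (.leaf 0x6fa00aac)))) (.node 8204 (.node 8202 (.node 8201 (.leaf 0x6fa10ac3) (.leaf 0x6fa20b05)) (.node 8203 (.leaf 0x6fa30aaf) (.leaf 0x6fa4062a))) (.node 8206 (.node 8205 (.leaf 0x6fa5088b) (.leaf 0x6fa60aae)) (.node 8207 (.leaf 0x6fa70a31) (.leaf 0x6fa80dd4))))) (.node 8216 (.node 8212 (.node 8210 (.node 8209 (.leaf 0x6fa90ab1) (.leaf 0x6faa062d)) (.node 8211 (.leaf 0x6fab0d20) (.leaf 0x6fac0ab0))) (.node 8214 (.node 8213 (.leaf 0x6fad0b94) (.leaf 0x6fae06ff)) (.node 8215 (.leaf 0x6faf0ab3) (.leaf 0x6fb0098f)))) (.node 8220 (.node 8218 (.node 8217 (.leaf 0x6fb1062e) (.leaf 0x6fb20ab2)) (.node 8219 (.leaf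 0x6fb30b65) (.leaf 0x6fb40981))) (.node 8222 (.node 8221 (.leaf 0x6fb50ab5) (.leaf 0x6fb6062f)) (.node 8223 (.leaf 0x6fb70ad4) (.leaf 0x6fb80ab4)))))) (.node 8240 (.node 8232 (.node 8228 (.node 8226 (.node 8225 (.leaf 0x6fb90b95) (.leaf 0x6fba0b67)) (.node 8227 (.leaf 0x6fbb0ab7) (.leaf 0x6fbc0630))) (.node 8230 (.node 8229 (.leaf 0x6fbd098f) (.leaf 0x6fbe0ab6)) (.node 8231 (.leaf 0x6fbf0a88) (.leaf 0x6fc00bed)))) (.node 8236 (.node 8234 (.node 8233 (.leaf 0x6fc10ab9) (.leaf 0x6fc20634)) (.node 8235 (.leaf 0x6fc309f1) (.leaf 0x6fc40ab8))) (.node 8238 (.node 8237 (.leaf 0x6fc50b32) (.leaf 0x6fc60bd4)) (.node 8239 (.leaf 0x6fc70abb) (.leaf 0x6fc80e0b))))) (.node 8248 (.node 8244 (.node 8242 (.node 8241 (.leaf 0x6fc90635) (.leaf 0x6fca0aba)) (.node 8243 (.leaf 0x6fcb0c72) (.leaf 0x6fcc0a83))) (.node 8246 (.node 8245 (.leaf 0x6fcd0abd) (.leaf 0x6fce0635)) (.node 8247 (.leaf 0x6fcf0b13) (.leaf 0x6fd00abc)))) (.node 8252 (.node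 8250 (.node 8249 (.leaf 0x6fd10a67) (.leaf 0x6fd20a17)) (.node 8251 (.leaf 0x6fd30abf) (.leaf 0x6fd40f3a))) (.node 8254 (.node 8253 (.leaf 0x6fd50637) (.leaf 0x6fd60abe)) (.node 8255 (.leaf 0x6fd70f3c) (.leaf 0x6fd80b3b))))))) (.node 8288 (.node 8272 (.node 8264 (.node 8260 (.node 8258 (.node 8257 (.leaf 0x6fd90ac1) (.leaf 0x6fda0637)) (.node 8259 (.leaf 0x6fdb0ad5) (.leaf 0x6fdc0ac0))) (.node 8262 (.node 8261 (.leaf 0x6fdd0641) (.leaf 0x6fde0e6a)) (.node 8263 (.leaf 0x6fdf0ac3) (.leaf 0x6fe00bce)))) (.node 8268 (.node 8266 (.node 8265 (.leaf 0x6fe1063b) (.leaf 0x6fe20ac2)) (.node 8267 (.leaf 0x6fe30aa2) (.leaf 0x6fe40aad))) (.node 8270 (.node 8269 (.leaf 0x6fe50ac5) (.leaf 0x6fe6063b)) (.node 8271 (.leaf 0x6fe70bcc) (.leaf 0x6fe80ac4))))) (.node 8280 (.node 8276 (.node 8274 (.node 8273 (.leaf 0x6fe90f3e) (.leaf 0x6fea0e28)) (.node 8275 (.leaf 0x6feb0ac7) (.leaf 0x6fec0a35))) (.node 8278 (.node 8277 (.leaf 0x6fed063c)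 (.leaf 0x6fee0ac6)) (.node 8279 (.leaf 0x6fef0f40) (.leaf 0x6ff00bfa)))) (.node 8284 (.node 8282 (.node 8281 (.leaf 0x6ff10ac9) (.leaf 0x6ff2063e)) (.node 8283 (.leaf 0x6ff30a35) (.leaf 0x6ff40ac8))) (.node 8286 (.node 8285 (.leaf 0x6ff506ca) (.leaf 0x6ff608e8)) (.node 8287 (.leaf 0x6ff70acb) (.leaf 0x6ff80e6c)))))) (.node 8304 (.node 8296 (.node 8292 (.node 8290 (.node 8289 (.leaf 0x6ff90641) (.leaf 0x6ffa0aca)) (.node 8291 (.leaf 0x6ffb0c17) (.leaf 0x6ffc0759))) (.node 8294 (.node 8293 (.leaf 0x6ffd0acd) (.leaf 0x6ffe064d)) (.node 8295 (.leaf 0x6fff064f) (.leaf 0x70000acc)))) (.node 8300 (.node 8298 (.node 8297 (.leaf 0x70010d91) (.leaf 0x70020e33)) (.node 8299 (.leaf 0x70030acf) (.leaf 0x70040655))) (.node 8302 (.node 8301 (.leaf 0x700508b6) (.leaf 0x70060ace)) (.node 8303 (.leaf 0x700707a3) (.leaf 0x70080d42))))) (.node 8312 (.node 8308 (.node 8306 (.node 8305 (.leaf 0x70090ad1) (.leaf 0x700a074f)) (.node 8307 (.leaf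 0x700b0657) (.leaf 0x700c0ad0))) (.node 8310 (.node 8309 (.leaf 0x700d0b12) (.leaf 0x700e07a5)) (.node 8311 (.leaf 0x700f0ad3) (.leaf 0x70100ad4)))) (.node 8316 (.node 8314 (.node 8313 (.leaf 0x70110658) (.leaf 0x70120ad2)) (.node 8315 (.leaf 0x70130b22) (.leaf 0x7014068e))) (.node 8318 (.node 8317 (.leaf 0x70150ad5) (.leaf 0x70160ab4)) (.node 8319 (.leaf 0x70170ad2) (.leaf 0x70180ad4)))))))) (.node 8384 (.node 8352 (.node 8336 (.node 8328 (.node 8324 (.node 8322 (.node 8321 (.leaf 0x70190ac0) (.leaf 0x701a0e93)) (.node 8323 (.leaf 0x701b0ad7) (.leaf 0x701c0a77))) (.node 8326 (.node 8325 (.leaf 0x701d065c) (.leaf 0x701e0ad6)) (.node 8327 (.leaf 0x701f09c3) (.leaf 0x70200dda)))) (.node 8332 (.node 8330 (.node 8329 (.leaf 0x70210ad9) (.leaf 0x70220773)) (.node 8331 (.leaf 0x70230661) (.leaf 0x70240ad8))) (.node 8334 (.node 8333 (.leaf 0x702509d7) (.leaf 0x70260b8e)) (.node 8335 (.leaf 0x70270adb) (.leaf 0x70280d1f))))) (.node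 8344 (.node 8340 (.node 8338 (.node 8337 (.leaf 0x70290663) (.leaf 0x702a0ada)) (.node 8339 (.leaf 0x702b0e0a) (.leaf 0x702c0733))) (.node 8342 (.node 8341 (.leaf 0x702d0add) (.leaf 0x702e0663)) (.node 8343 (.leaf 0x702f0c09) (.leaf 0x70300adc)))) (.node 8348 (.node 8346 (.node 8345 (.leaf 0x70310c26) (.leaf 0x70320c24)) (.node 8347 (.leaf 0x70330adf) (.leaf 0x70340666))) (.node 8350 (.node 8349 (.leaf 0x703508e2) (.leaf 0x70360ade)) (.node 8351 (.leaf 0x70370b7d) (.leaf 0x70380f32)))))) (.node 8368 (.node 8360 (.node 8356 (.node 8354 (.node 8353 (.leaf 0x70390ae1) (.leaf 0x703a066a)) (.node 8355 (.leaf 0x703b0ae2) (.leaf 0x703c0ae0))) (.node 8358 (.node 8357 (.leaf 0x703d06cf) (.leaf 0x703e06f5)) (.node 8359 (.leaf 0x703f0ae3) (.leaf 0x70400ae0)))) (.node 8364 (.node 8362 (.node 8361 (.leaf 0x704109e1) (.leaf 0x70420ae2)) (.node 8363 (.leaf 0x70430b87) (.leaf 0x70440a0d))) (.node 8366 (.node 8365 (.leaf 0x70450ae5) (.leaf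 0x70460ae7)) (.node 8367 (.leaf 0x7047066f) (.leaf 0x70480ae4))))) (.node 8376 (.node 8372 (.node 8370 (.node 8369 (.leaf 0x70490ce9) (.leaf 0x704a0719)) (.node 8371 (.leaf 0x704b0ae9) (.leaf 0x704c066f))) (.node 8374 (.node 8373 (.leaf 0x704d0705) (.leaf 0x704e0ae8)) (.node 8375 (.leaf 0x704f0a6f) (.leaf 0x70500ae4)))) (.node 8380 (.node 8378 (.node 8377 (.leaf 0x70510ae7) (.leaf 0x70520aeb)) (.node 8379 (.leaf 0x70530f1c) (.leaf 0x70540ae6))) (.node 8382 (.node 8381 (.leaf 0x70550f44) (.leaf 0x70560af2)) (.node 8383 (.leaf 0x70570aeb) (.leaf 0x70580bac))))))) (.node 8416 (.node 8400 (.node 8392 (.node 8388 (.node 8386 (.node 8385 (.leaf 0x70590671) (.leaf 0x705a0aea)) (.node 8387 (.leaf 0x705b0b6c) (.leaf 0x705c0ae8))) (.node 8390 (.node 8389 (.leaf 0x705d0aed) (.leaf 0x705e0671)) (.node 8391 (.leaf 0x705f0baa) (.leaf 0x70600aec)))) (.node 8396 (.node 8394 (.node 8393 (.leaf 0x70610f46) (.leaf 0x706206a7)) (.node 8395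 (.leaf 0x70630aef) (.leaf 0x70640af0))) (.node 8398 (.node 8397 (.leaf 0x70650672) (.leaf 0x70660aee)) (.node 8399 (.leaf 0x70670f48) (.leaf 0x70680be1))))) (.node 8408 (.node 8404 (.node 8402 (.node 8401 (.leaf 0x70690af1) (.leaf 0x706a08ea)) (.node 8403 (.leaf 0x706b0aee) (.leaf 0x706c0af0))) (.node 8406 (.node 8405 (.leaf 0x706d07da) (.leaf 0x706e0ca6)) (.node 8407 (.leaf 0x706f0af3) (.leaf 0x70700ae9)))) (.node 8412 (.node 8410 (.node 8409 (.leaf 0x70710673) (.leaf 0x70720af2)) (.node 8411 (.leaf 0x707306db) (.leaf 0x70740be5))) (.node 8414 (.node 8413 (.leaf 0x70750af5) (.leaf 0x70760673)) (.node 8415 (.leaf 0x70770dcd) (.leaf 0x70780af4)))))) (.node 8432 (.node 8424 (.node 8420 (.node 8418 (.node 8417 (.leaf 0x70790f47) (.leaf 0x707a0b4d)) (.node 8419 (.leaf 0x707b0af7) (.leaf 0x707c0afc))) (.node 8422 (.node 8421 (.leaf 0x707d0674) (.leaf 0x707e0af6)) (.node 8423 (.leaf 0x707f0f4a) (.leaf 0x70800a13)))) (.node 8428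 (.node 8426 (.node 8425 (.leaf 0x70810af9) (.leaf 0x70820675)) (.node 8427 (.leaf 0x70830c38) (.leaf 0x70840af8))) (.node 8430 (.node 8429 (.leaf 0x70850b0f) (.leaf 0x70860e76)) (.node 8431 (.leaf 0x70870afb) (.leaf 0x70880676))))) (.node 8440 (.node 8436 (.node 8434 (.node 8433 (.leaf 0x70890afc) (.leaf 0x708a0afa)) (.node 8435 (.leaf 0x708b0f4c) (.leaf 0x708c0c57))) (.node 8438 (.node 8437 (.leaf 0x708d0afd) (.leaf 0x708e0afa)) (.node 8439 (.leaf 0x708f0af6) (.leaf 0x70900afc)))) (.node 8444 (.node 8442 (.node 8441 (.leaf 0x70910950) (.leaf 0x70920e2e)) (.node 8443 (.leaf 0x70930aff) (.leaf 0x70940baf))) (.node 8446 (.node 8445 (.leaf 0x70950677) (.leaf 0x70960afe)) (.node 8447 (.leaf 0x70970f4e) (.leaf 0x70980679))))))))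

/-- block of `tab` -/
def tab_33 : Tr := .node 8576 (.node 8512 (.node 8480 (.node 8464 (.node 8456 (.node 8452 (.node 8450 (.node 8449 (.leaf 0x70990b01) (.leaf 0x709a0677)) (.node 8451 (.leaf 0x709b0f50) (.leaf 0x709c0b00))) (.node 8454 (.node 8453 (.leaf 0x709d0d61) (.leaf 0x709e0f52)) (.node 8455 (.leaf 0x709f0b03) (.leaf 0x70a00679)))) (.node 8460 (.node 8458 (.node 8457 (.leaf 0x70a10f54) (.leaf 0x70a20b02)) (.node 8459 (.leaf 0x70a3071b) (.leaf 0x70a40b55))) (.node 8462 (.node 8461 (.leaf 0x70a50b05) (.leaf 0x70a60dd0)) (.node 8463 (.leaf 0x70a7067b) (.leaf 0x70a80b04))))) (.node 8472 (.node 8468 (.node 8466 (.node 8465 (.leaf 0x70a90aad) (.leaf 0x70aa0aa0)) (.node 8467 (.leaf 0x70ab0b07) (.leaf 0x70ac067c))) (.node 8470 (.node 8469 (.leaf 0x70ad0b08) (.leaf 0x70ae0b06)) (.node 8471 (.leaf 0x70af0bb1) (.leaf 0x70b00c63)))) (.node 8476 (.node 8474 (.node 8473 (.leaf 0x70b10b09) (.leaf 0x70b20b06)) (.node 8475 (.leaf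 0x70b307f9) (.leaf 0x70b40b08))) (.node 8478 (.node 8477 (.leaf 0x70b5079f) (.leaf 0x70b60b0a)) (.node 8479 (.leaf 0x70b70b0b) (.leaf 0x70b80b09)))))) (.node 8496 (.node 8488 (.node 8484 (.node 8482 (.node 8481 (.leaf 0x70b906af) (.leaf 0x70ba0b0a)) (.node 8483 (.leaf 0x70bb0ceb) (.leaf 0x70bc0f58))) (.node 8486 (.node 8485 (.leaf 0x70bd0b0d) (.leaf 0x70be067d)) (.node 8487 (.leaf 0x70bf079f) (.leaf 0x70c00b0c)))) (.node 8492 (.node 8490 (.node 8489 (.leaf 0x70c10bb3) (.leaf 0x70c20f5a)) (.node 8491 (.leaf 0x70c30b0f) (.leaf 0x70c40c06))) (.node 8494 (.node 8493 (.leaf 0x70c5067f) (.leaf 0x70c60b0e)) (.node 8495 (.leaf 0x70c70e7a) (.leaf 0x70c80af9))))) (.node 8504 (.node 8500 (.node 8498 (.node 8497 (.leaf 0x70c90b11) (.leaf 0x70ca0f5c)) (.node 8499 (.leaf 0x70cb0683) (.leaf 0x70cc0b10))) (.node 8502 (.node 8501 (.leaf 0x70cd0f53) (.leaf 0x70ce0f5b)) (.node 8503 (.leaf 0x70cf0b13) (.leaf 0x70d00684)))) (.node 8508 (.node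 8506 (.node 8505 (.leaf 0x70d10ad1) (.leaf 0x70d20b12)) (.node 8507 (.leaf 0x70d30abc) (.leaf 0x70d40eb9))) (.node 8510 (.node 8509 (.leaf 0x70d50b15) (.leaf 0x70d60687)) (.node 8511 (.leaf 0x70d70b69) (.leaf 0x70d80b14))))))) (.node 8544 (.node 8528 (.node 8520 (.node 8516 (.node 8514 (.node 8513 (.leaf 0x70d90e68) (.leaf 0x70da08ff)) (.node 8515 (.leaf 0x70db0b17) (.leaf 0x70dc0c1a))) (.node 8518 (.node 8517 (.leaf 0x70dd0689) (.leaf 0x70de0b16)) (.node 8519 (.leaf 0x70df0f5b) (.leaf 0x70e00c75)))) (.node 8524 (.node 8522 (.node 8521 (.leaf 0x70e10b19) (.leaf 0x70e20689)) (.node 8523 (.leaf 0x70e30c18) (.leaf 0x70e40b18))) (.node 8526 (.node 8525 (.leaf 0x70e50e69) (.leaf 0x70e609ed)) (.node 8527 (.leaf 0x70e70b1b) (.leaf 0x70e80f60))))) (.node 8536 (.node 8532 (.node 8530 (.node 8529 (.leaf 0x70e9068b) (.leaf 0x70ea0b1a)) (.node 8531 (.leaf 0x70eb0df9) (.leaf 0x70ec0a65))) (.node 8534 (.node 8533 (.leaf 0x70ed0b1d)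 (.leaf 0x70ee068b)) (.node 8535 (.leaf 0x70ef0de7) (.leaf 0x70f00b1c)))) (.node 8540 (.node 8538 (.node 8537 (.leaf 0x70f10f62) (.leaf 0x70f20f64)) (.node 8539 (.leaf 0x70f30b1f) (.leaf 0x70f4068d))) (.node 8542 (.node 8541 (.leaf 0x70f50cf1) (.leaf 0x70f60b1e)) (.node 8543 (.leaf 0x70f7074b) (.leaf 0x70f80b46)))))) (.node 8560 (.node 8552 (.node 8548 (.node 8546 (.node 8545 (.leaf 0x70f90b21) (.leaf 0x70fa0690)) (.node 8547 (.leaf 0x70fb0b22) (.leaf 0x70fc0b20))) (.node 8550 (.node 8549 (.leaf 0x70fd0ebb) (.leaf 0x70fe0a58)) (.node 8551 (.leaf 0x70ff0b23) (.leaf 0x71000b20)))) (.node 8556 (.node 8554 (.node 8553 (.leaf 0x71010ad3) (.leaf 0x71020b22)) (.node 8555 (.leaf 0x71030e32) (.leaf 0x71040e97))) (.node 8558 (.node 8557 (.leaf 0x71050b25) (.leaf 0x71060b28)) (.node 8559 (.leaf 0x71070698) (.leaf 0x71080b24))))) (.node 8568 (.node 8564 (.node 8562 (.node 8561 (.leaf 0x71090dee) (.leaf 0x710a0b87)) (.node 8563 (.leaf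 0x710b0b27) (.leaf 0x710c069a))) (.node 8566 (.node 8565 (.leaf 0x710d0b28) (.leaf 0x710e0b26)) (.node 8567 (.leaf 0x710f0b5f) (.leaf 0x71100dec)))) (.node 8572 (.node 8570 (.node 8569 (.leaf 0x71110b29) (.leaf 0x71120b26)) (.node 8571 (.leaf 0x71130b24) (.leaf 0x71140b28))) (.node 8574 (.node 8573 (.leaf 0x71150bd6) (.leaf 0x71160bd6)) (.node 8575 (.leaf 0x71170b2b) (.leaf 0x71180f66)))))))) (.node 8640 (.node 8608 (.node 8592 (.node 8584 (.node 8580 (.node 8578 (.node 8577 (.leaf 0x7119069d) (.leaf 0x711a0b2a)) (.node 8579 (.leaf 0x711b06c1) (.leaf 0x711c0b35))) (.node 8582 (.node 8581 (.leaf 0x711d0b2d) (.leaf 0x711e0ec2)) (.node 8583 (.leaf 0x711f069f) (.leaf 0x71200b2c)))) (.node 8588 (.node 8586 (.node 8585 (.leaf 0x71210779) (.leaf 0x71220ddb)) (.node 8587 (.leaf 0x71230b2f) (.leaf 0x7124069f))) (.node 8590 (.node 8589 (.leaf 0x71250ec0) (.leaf 0x71260b2e)) (.node 8591 (.leaf 0x71270ea5) (.leaf 0x71280f6a))))) (.node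 8600 (.node 8596 (.node 8594 (.node 8593 (.leaf 0x71290b31) (.leaf 0x712a0bd3)) (.node 8595 (.leaf 0x712b06a1) (.leaf 0x712c0b30))) (.node 8598 (.node 8597 (.leaf 0x712d0865) (.leaf 0x712e0c2f)) (.node 8599 (.leaf 0x712f0b33) (.leaf 0x713006a1)))) (.node 8604 (.node 8602 (.node 8601 (.leaf 0x71310ab9) (.leaf 0x71320b32)) (.node 8603 (.leaf 0x71330c37) (.leaf 0x71340a6d))) (.node 8606 (.node 8605 (.leaf 0x71350b35) (.leaf 0x713606a7)) (.node 8607 (.leaf 0x71370f6c) (.leaf 0x71380b34)))))) (.node 8624 (.node 8616 (.node 8612 (.node 8610 (.node 8609 (.leaf 0x71390b2b) (.leaf 0x713a0743)) (.node 8611 (.leaf 0x713b0b37) (.leaf 0x713c06ad))) (.node 8614 (.node 8613 (.leaf 0x713d0a4c) (.leaf 0x713e0b36)) (.node 8615 (.leaf 0x713f0f70) (.leaf 0x71400db5)))) (.node 8620 (.node 8618 (.node 8617 (.leaf 0x71410b39) (.leaf 0x71420b5a)) (.node 8619 (.leaf 0x714306b1) (.leaf 0x71440b38))) (.node 8622 (.node 8621 (.leaf 0x714508a7) (.leaf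 0x71460b8d)) (.node 8623 (.leaf 0x71470b3b) (.leaf 0x71480a87))))) (.node 8632 (.node 8628 (.node 8626 (.node 8625 (.leaf 0x714906b2) (.leaf 0x714a0b3a)) (.node 8627 (.leaf 0x714b0abf) (.leaf 0x714c0845))) (.node 8630 (.node 8629 (.leaf 0x714d0b3d) (.leaf 0x714e06b3)) (.node 8631 (.leaf 0x714f0859) (.leaf 0x71500b3c)))) (.node 8636 (.node 8634 (.node 8633 (.leaf 0x71510b4f) (.leaf 0x71520e18)) (.node 8635 (.leaf 0x71530b3f) (.leaf 0x715406b4))) (.node 8638 (.node 8637 (.leaf 0x71550a87) (.leaf 0x71560b3e)) (.node 8639 (.leaf 0x71570e83) (.leaf 0x71580f72))))))) (.node 8672 (.node 8656 (.node 8648 (.node 8644 (.node 8642 (.node 8641 (.leaf 0x71590b43) (.leaf 0x715a06b5)) (.node 8643 (.leaf 0x715b0b41) (.leaf 0x715c0b42))) (.node 8646 (.node 8645 (.leaf 0x715d0b40) (.leaf 0x715e0866)) (.node 8647 (.leaf 0x715f0b41) (.leaf 0x71600c13)))) (.node 8652 (.node 8650 (.node 8649 (.leaf 0x716107af) (.leaf 0x71620b40)) (.node 8651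 (.leaf 0x71630c9e) (.leaf 0x71640767))) (.node 8654 (.node 8653 (.leaf 0x71650b45) (.leaf 0x71660b4c)) (.node 8655 (.leaf 0x716706b6) (.leaf 0x71680b44))))) (.node 8664 (.node 8660 (.node 8658 (.node 8657 (.leaf 0x71690cdc) (.leaf 0x716a0cd8)) (.node 8659 (.leaf 0x716b0b47) (.leaf 0x716c0b1f))) (.node 8662 (.node 8661 (.leaf 0x716d082f) (.leaf 0x716e0b46)) (.node 8663 (.leaf 0x716f0d38) (.leaf 0x71700bf3)))) (.node 8668 (.node 8666 (.node 8665 (.leaf 0x71710b49) (.leaf 0x717206b7)) (.node 8667 (.leaf 0x7173074b) (.leaf 0x71740b48))) (.node 8670 (.node 8669 (.leaf 0x71750aa7) (.leaf 0x71760f78)) (.node 8671 (.leaf 0x71770b4b) (.leaf 0x717806b8)))))) (.node 8688 (.node 8680 (.node 8676 (.node 8674 (.node 8673 (.leaf 0x71790b4c) (.leaf 0x717a0b4a)) (.node 8675 (.leaf 0x717b0e40) (.leaf 0x717c0dcb))) (.node 8678 (.node 8677 (.leaf 0x717d0b4d) (.leaf 0x717e0b4a)) (.node 8679 (.leaf 0x717f0b44) (.leaf 0x71800b4c)))) (.node 8684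 (.node 8682 (.node 8681 (.leaf 0x71810af5) (.leaf 0x71820f7a)) (.node 8683 (.leaf 0x71830b4f) (.leaf 0x71840f7c))) (.node 8686 (.node 8685 (.leaf 0x718506b9) (.leaf 0x71860b4e)) (.node 8687 (.leaf 0x71870f7e) (.leaf 0x71880b3d))))) (.node 8696 (.node 8692 (.node 8690 (.node 8689 (.leaf 0x71890b51) (.leaf 0x718a0f80)) (.node 8691 (.leaf 0x718b06bb) (.leaf 0x718c0b50))) (.node 8694 (.node 8693 (.leaf 0x718d06bd) (.leaf 0x718e0f4c)) (.node 8695 (.leaf 0x718f0b53) (.leaf 0x719006bb)))) (.node 8700 (.node 8698 (.node 8697 (.leaf 0x71910eab) (.leaf 0x71920b52)) (.node 8699 (.leaf 0x71930904) (.leaf 0x71940b59))) (.node 8702 (.node 8701 (.leaf 0x71950b55) (.leaf 0x719606bc)) (.node 8703 (.leaf 0x71970a38) (.leaf 0x71980b54))))))))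

/-- block of `tab` -/
def tab_34 : Tr := .node 8832 (.node 8768 (.node 8736 (.node 8720 (.node 8712 (.node 8708 (.node 8706 (.node 8705 (.leaf 0x71990b03) (.leaf 0x719a0d83)) (.node 8707 (.leaf 0x719b0b57) (.leaf 0x719c06bf))) (.node 8710 (.node 8709 (.leaf 0x719d0e07) (.leaf 0x719e0b56)) (.node 8711 (.leaf 0x719f0f84) (.leaf 0x71a00f86)))) (.node 8716 (.node 8714 (.node 8713 (.leaf 0x71a10b59) (.leaf 0x71a20bf2)) (.node 8715 (.leaf 0x71a306c1) (.leaf 0x71a40b58))) (.node 8718 (.node 8717 (.leaf 0x71a50b53) (.leaf 0x71a60df8)) (.node 8719 (.leaf 0x71a70b5b) (.leaf 0x71a80874))))) (.node 8728 (.node 8724 (.node 8722 (.node 8721 (.leaf 0x71a90b38) (.leaf 0x71aa0b5a)) (.node 8723 (.leaf 0x71ab0f88) (.leaf 0x71ac0f8a))) (.node 8726 (.node 8725 (.leaf 0x71ad0b5d) (.leaf 0x71ae0a80)) (.node 8727 (.leaf 0x71af06c3) (.leaf 0x71b00b5c)))) (.node 8732 (.node 8730 (.node 8729 (.leaf 0x71b10965) (.leaf 0x71b20dfe)) (.node 8731 (.leaf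 0x71b30b5f) (.leaf 0x71b406c3))) (.node 8734 (.node 8733 (.leaf 0x71b50a7e) (.leaf 0x71b60b5e)) (.node 8735 (.leaf 0x71b70bf1) (.leaf 0x71b80b27)))))) (.node 8752 (.node 8744 (.node 8740 (.node 8738 (.node 8737 (.leaf 0x71b90b61) (.leaf 0x71ba06c8)) (.node 8739 (.leaf 0x71bb089c) (.leaf 0x71bc0b60))) (.node 8742 (.node 8741 (.leaf 0x71bd0b96) (.leaf 0x71be0b92)) (.node 8743 (.leaf 0x71bf0b63) (.leaf 0x71c00b88)))) (.node 8748 (.node 8746 (.node 8745 (.leaf 0x71c106d1) (.leaf 0x71c20b62)) (.node 8747 (.leaf 0x71c30e92) (.leaf 0x71c40741))) (.node 8750 (.node 8749 (.leaf 0x71c50b65) (.leaf 0x71c606d1)) (.node 8751 (.leaf 0x71c70b86) (.leaf 0x71c80b64))))) (.node 8760 (.node 8756 (.node 8754 (.node 8753 (.leaf 0x71c90e17) (.leaf 0x71ca0ab3)) (.node 8755 (.leaf 0x71cb0b67) (.leaf 0x71cc0d52))) (.node 8758 (.node 8757 (.leaf 0x71cd06d5) (.leaf 0x71ce0b66)) (.node 8759 (.leaf 0x71cf0ab5) (.leaf 0x71d00c0d)))) (.node 8764 (.node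 8762 (.node 8761 (.leaf 0x71d10b69) (.leaf 0x71d206d9)) (.node 8763 (.leaf 0x71d3098c) (.leaf 0x71d40b68))) (.node 8766 (.node 8765 (.leaf 0x71d50b14) (.leaf 0x71d60a39)) (.node 8767 (.leaf 0x71d70b6b) (.leaf 0x71d80b70))))))) (.node 8800 (.node 8784 (.node 8776 (.node 8772 (.node 8770 (.node 8769 (.leaf 0x71d906dc) (.leaf 0x71da0b6a)) (.node 8771 (.leaf 0x71db0f1c) (.leaf 0x71dc06dd))) (.node 8774 (.node 8773 (.leaf 0x71dd0b6d) (.leaf 0x71de06dd)) (.node 8775 (.leaf 0x71df0aeb) (.leaf 0x71e00b6c)))) (.node 8780 (.node 8778 (.node 8777 (.leaf 0x71e106ed) (.leaf 0x71e20c60)) (.node 8779 (.leaf 0x71e30b6f) (.leaf 0x71e406de))) (.node 8782 (.node 8781 (.leaf 0x71e50b70) (.leaf 0x71e60b6e)) (.node 8783 (.leaf 0x71e70a8b) (.leaf 0x71e80f90))))) (.node 8792 (.node 8788 (.node 8786 (.node 8785 (.leaf 0x71e90b71) (.leaf 0x71ea0b6e)) (.node 8787 (.leaf 0x71eb0b6a) (.leaf 0x71ec0b70))) (.node 8790 (.node 8789 (.leaf 0x71ed0960)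 (.leaf 0x71ee0b72)) (.node 8791 (.leaf 0x71ef0b73) (.leaf 0x71f00b71)))) (.node 8796 (.node 8794 (.node 8793 (.leaf 0x71f1089d) (.leaf 0x71f20b72)) (.node 8795 (.leaf 0x71f30e3e) (.leaf 0x71f40f92))) (.node 8798 (.node 8797 (.leaf 0x71f50b75) (.leaf 0x71f60f34)) (.node 8799 (.leaf 0x71f706df) (.leaf 0x71f80b74)))))) (.node 8816 (.node 8808 (.node 8804 (.node 8802 (.node 8801 (.leaf 0x71f90d81) (.leaf 0x71fa0723)) (.node 8803 (.leaf 0x71fb0b77) (.leaf 0x71fc06df))) (.node 8806 (.node 8805 (.leaf 0x71fd0dd7) (.leaf 0x71fe0b76)) (.node 8807 (.leaf 0x71ff0a8d) (.leaf 0x72000f2c)))) (.node 8812 (.node 8810 (.node 8809 (.leaf 0x72010b79) (.leaf 0x72020dcb)) (.node 8811 (.leaf 0x720306e3) (.leaf 0x72040b78))) (.node 8814 (.node 8813 (.leaf 0x72050f2e) (.leaf 0x72060e7b)) (.node 8815 (.leaf 0x72070b7b) (.leaf 0x72080c07))))) (.node 8824 (.node 8820 (.node 8818 (.node 8817 (.leaf 0x720906e7) (.leaf 0x720a0b7a)) (.node 8819 (.leaf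 0x720b0f2d) (.leaf 0x720c0ccf))) (.node 8822 (.node 8821 (.leaf 0x720d0b7d) (.leaf 0x720e06e7)) (.node 8823 (.leaf 0x720f0bb7) (.leaf 0x72100b7c)))) (.node 8828 (.node 8826 (.node 8825 (.leaf 0x72110a9e) (.leaf 0x72120adf)) (.node 8827 (.leaf 0x72130b7f) (.leaf 0x72140812))) (.node 8830 (.node 8829 (.leaf 0x721506e9) (.leaf 0x72160b7e)) (.node 8831 (.leaf 0x72170b83) (.leaf 0x7218072d)))))))) (.node 8896 (.node 8864 (.node 8848 (.node 8840 (.node 8836 (.node 8834 (.node 8833 (.leaf 0x72190b81) (.leaf 0x721a0aa1)) (.node 8835 (.leaf 0x721b06eb) (.leaf 0x721c0b80))) (.node 8838 (.node 8837 (.leaf 0x721d0a9b) (.leaf 0x721e0e1b)) (.node 8839 (.leaf 0x721f0b83) (.leaf 0x722006eb)))) (.node 8844 (.node 8842 (.node 8841 (.leaf 0x72210f94) (.leaf 0x72220b82)) (.node 8843 (.leaf 0x72230a9d) (.leaf 0x72240b7f))) (.node 8846 (.node 8845 (.leaf 0x72250b85) (.leaf 0x72260c0f)) (.node 8847 (.leaf 0x722706ef) (.leaf 0x72280b84))))) (.node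 8856 (.node 8852 (.node 8850 (.node 8849 (.leaf 0x72290e41) (.leaf 0x722a0727)) (.node 8851 (.leaf 0x722b0b87) (.leaf 0x722c0b64))) (.node 8854 (.node 8853 (.leaf 0x722d06f3) (.leaf 0x722e0b86)) (.node 8855 (.leaf 0x722f0b25) (.leaf 0x72300ae3)))) (.node 8860 (.node 8858 (.node 8857 (.leaf 0x72310b89) (.leaf 0x723206f3)) (.node 8859 (.leaf 0x72330b62) (.leaf 0x72340b88))) (.node 8862 (.node 8861 (.leaf 0x72350e8c) (.leaf 0x7236096d)) (.node 8863 (.leaf 0x72370b8b) (.leaf 0x7238083a)))))) (.node 8880 (.node 8872 (.node 8868 (.node 8866 (.node 8865 (.leaf 0x723906f7) (.leaf 0x723a0b8a)) (.node 8867 (.leaf 0x723b0dad) (.leaf 0x723c0fa0))) (.node 8870 (.node 8869 (.leaf 0x723d0b8d) (.leaf 0x723e06f9)) (.node 8871 (.leaf 0x723f0ba4) (.leaf 0x72400b8c)))) (.node 8876 (.node 8874 (.node 8873 (.leaf 0x72410b39) (.leaf 0x724208a7)) (.node 8875 (.leaf 0x72430b8f) (.leaf 0x72440ad9))) (.node 8878 (.node 8877 (.leaf 0x724506fb) (.leaf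 0x72460b8e)) (.node 8879 (.leaf 0x72470c27) (.leaf 0x72480c0a))))) (.node 8888 (.node 8884 (.node 8882 (.node 8881 (.leaf 0x72490b91) (.leaf 0x724a06fd)) (.node 8883 (.leaf 0x724b0bb5) (.leaf 0x724c0b90))) (.node 8886 (.node 8885 (.leaf 0x724d0fa2) (.leaf 0x724e0cf5)) (.node 8887 (.leaf 0x724f0b93) (.leaf 0x72500b61)))) (.node 8892 (.node 8890 (.node 8889 (.leaf 0x725106fe) (.leaf 0x72520b92)) (.node 8891 (.leaf 0x72530fa4) (.leaf 0x72540e11))) (.node 8894 (.node 8893 (.leaf 0x72550b95) (.leaf 0x72560a62)) (.node 8895 (.leaf 0x72570ab1) (.leaf 0x72580b94))))))) (.node 8928 (.node 8912 (.node 8904 (.node 8900 (.node 8898 (.node 8897 (.leaf 0x725909cd) (.leaf 0x725a0ab5)) (.node 8899 (.leaf 0x725b0b97) (.leaf 0x725c0700))) (.node 8902 (.node 8901 (.leaf 0x725d0b61) (.leaf 0x725e0b96)) (.node 8903 (.leaf 0x725f094d) (.leaf 0x72600bff)))) (.node 8908 (.node 8906 (.node 8905 (.leaf 0x72610b99) (.leaf 0x72620859)) (.node 8907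 (.leaf 0x72630701) (.leaf 0x72640b98))) (.node 8910 (.node 8909 (.leaf 0x72650dc3) (.leaf 0x72660b9d)) (.node 8911 (.leaf 0x72670b9b) (.leaf 0x72680ba0))))) (.node 8920 (.node 8916 (.node 8914 (.node 8913 (.leaf 0x72690702) (.leaf 0x726a0b9a)) (.node 8915 (.leaf 0x726b0e75) (.leaf 0x726c0e3a))) (.node 8918 (.node 8917 (.leaf 0x726d0b9d) (.leaf 0x726e0703)) (.node 8919 (.leaf 0x726f0f38) (.leaf 0x72700b9c)))) (.node 8924 (.node 8922 (.node 8921 (.leaf 0x72710b99) (.leaf 0x72720fae)) (.node 8923 (.leaf 0x72730b9f) (.leaf 0x72740704))) (.node 8926 (.node 8925 (.leaf 0x72750ba0) (.leaf 0x72760b9e)) (.node 8927 (.leaf 0x72770cd4) (.leaf 0x72780cd0)))))) (.node 8944 (.node 8936 (.node 8932 (.node 8930 (.node 8929 (.leaf 0x72790ba1) (.leaf 0x727a0b9e)) (.node 8931 (.leaf 0x727b0b9a) (.leaf 0x727c0ba0))) (.node 8934 (.node 8933 (.leaf 0x727d0fb0) (.leaf 0x727e0bf9)) (.node 8935 (.leaf 0x727f0ba3) (.leaf 0x72800e97)))) (.node 8940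 (.node 8938 (.node 8937 (.leaf 0x72810707) (.leaf 0x72820ba2)) (.node 8939 (.leaf 0x72830fb2) (.leaf 0x72840fb4))) (.node 8942 (.node 8941 (.leaf 0x72850ba5) (.leaf 0x72860b8c)) (.node 8943 (.leaf 0x72870840) (.leaf 0x72880ba4))))) (.node 8952 (.node 8948 (.node 8946 (.node 8945 (.leaf 0x72890fb6) (.leaf 0x728a0fb8)) (.node 8947 (.leaf 0x728b0ba7) (.leaf 0x728c0c53))) (.node 8950 (.node 8949 (.leaf 0x728d0709) (.leaf 0x728e0ba6)) (.node 8951 (.leaf 0x728f0bad) (.leaf 0x729009c6)))) (.node 8956 (.node 8954 (.node 8953 (.leaf 0x72910ba9) (.leaf 0x72920709)) (.node 8955 (.leaf 0x72930fba) (.leaf 0x72940ba8))) (.node 8958 (.node 8957 (.leaf 0x72950f5f) (.leaf 0x7296070d)) (.node 8959 (.leaf 0x72970bab) (.leaf 0x72980aec))))))))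

/-- block of `tab` -/
def tab_35 : Tr := .node 9088 (.node 9024 (.node 8992 (.node 8976 (.node 8968 (.node 8964 (.node 8962 (.node 8961 (.leaf 0x7299070b) (.leaf 0x729a0baa)) (.node 8963 (.leaf 0x729b0727) (.leaf 0x729c0f5d))) (.node 8966 (.node 8965 (.leaf 0x729d0bad) (.leaf 0x729e070b)) (.node 8967 (.leaf 0x729f0aea) (.leaf 0x72a00bac)))) (.node 8972 (.node 8970 (.node 8969 (.leaf 0x72a10e9c) (.leaf 0x72a20ba7)) (.node 8971 (.leaf 0x72a30baf) (.leaf 0x72a40a3e))) (.node 8974 (.node 8973 (.leaf 0x72a5070c) (.leaf 0x72a60bae)) (.node 8975 (.leaf 0x72a70f15) (.leaf 0x72a80afe))))) (.node 8984 (.node 8980 (.node 8978 (.node 8977 (.leaf 0x72a90bb1) (.leaf 0x72aa0bb4)) (.node 8979 (.leaf 0x72ab070e) (.leaf 0x72ac0bb0))) (.node 8982 (.node 8981 (.leaf 0x72ad0c63) (.leaf 0x72ae0b07)) (.node 8983 (.leaf 0x72af0bb3) (.leaf 0x72b009d5)))) (.node 8988 (.node 8986 (.node 8985 (.leaf 0x72b1070f) (.leaf 0x72b20bb2)) (.node 8987 (.leaf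 0x72b30f6b) (.leaf 0x72b40b0d))) (.node 8990 (.node 8989 (.leaf 0x72b50bb5) (.leaf 0x72b607ff)) (.node 8991 (.leaf 0x72b70bb0) (.leaf 0x72b80bb4)))))) (.node 9008 (.node 9000 (.node 8996 (.node 8994 (.node 8993 (.leaf 0x72b90b90) (.leaf 0x72ba09d5)) (.node 8995 (.leaf 0x72bb0bb7) (.leaf 0x72bc0711))) (.node 8998 (.node 8997 (.leaf 0x72bd0e7c) (.leaf 0x72be0bb6)) (.node 8999 (.leaf 0x72bf0b7c) (.leaf 0x72c00c03)))) (.node 9004 (.node 9002 (.node 9001 (.leaf 0x72c10bb9) (.leaf 0x72c20e85)) (.node 9003 (.leaf 0x72c30713) (.leaf 0x72c40bb8))) (.node 9006 (.node 9005 (.leaf 0x72c50f64) (.leaf 0x72c60fbe)) (.node 9007 (.leaf 0x72c70bbb) (.leaf 0x72c80713))))) (.node 9016 (.node 9012 (.node 9010 (.node 9009 (.leaf 0x72c90fc0) (.leaf 0x72ca0bba)) (.node 9011 (.leaf 0x72cb086f) (.leaf 0x72cc0e9d))) (.node 9014 (.node 9013 (.leaf 0x72cd0bbd) (.leaf 0x72ce0bc0)) (.node 9015 (.leaf 0x72cf0714) (.leaf 0x72d00bbc)))) (.node 9020 (.node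 9018 (.node 9017 (.leaf 0x72d1084e) (.leaf 0x72d20c21)) (.node 9019 (.leaf 0x72d30bbf) (.leaf 0x72d40716))) (.node 9022 (.node 9021 (.leaf 0x72d50bc0) (.leaf 0x72d60bbe)) (.node 9023 (.leaf 0x72d70770) (.leaf 0x72d80c16))))))) (.node 9056 (.node 9040 (.node 9032 (.node 9028 (.node 9026 (.node 9025 (.leaf 0x72d90bc1) (.leaf 0x72da0bbe)) (.node 9027 (.leaf 0x72db0bbc) (.leaf 0x72dc0bc0))) (.node 9030 (.node 9029 (.leaf 0x72dd0e07) (.leaf 0x72de0d90)) (.node 9031 (.leaf 0x72df0bc3) (.leaf 0x72e00bc8)))) (.node 9036 (.node 9034 (.node 9033 (.leaf 0x72e1071a) (.leaf 0x72e20bc2)) (.node 9035 (.leaf 0x72e30e4d) (.leaf 0x72e40f5f))) (.node 9038 (.node 9037 (.leaf 0x72e50bc5) (.leaf 0x72e60fc2)) (.node 9039 (.leaf 0x72e7071b) (.leaf 0x72e80bc4))))) (.node 9048 (.node 9044 (.node 9042 (.node 9041 (.leaf 0x72e90fc4) (.leaf 0x72ea0f09)) (.node 9043 (.leaf 0x72eb0bc7) (.leaf 0x72ec071c))) (.node 9046 (.node 9045 (.leaf 0x72ed0bc8)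 (.leaf 0x72ee0bc6)) (.node 9047 (.leaf 0x72ef0789) (.leaf 0x72f00f4a)))) (.node 9052 (.node 9050 (.node 9049 (.leaf 0x72f10bc9) (.leaf 0x72f20bc6)) (.node 9051 (.leaf 0x72f30bc2) (.leaf 0x72f40bc8))) (.node 9054 (.node 9053 (.leaf 0x72f50da6) (.leaf 0x72f60898)) (.node 9055 (.leaf 0x72f70bcb) (.leaf 0x72f80c2c)))))) (.node 9072 (.node 9064 (.node 9060 (.node 9058 (.node 9057 (.leaf 0x72f9071d) (.leaf 0x72fa0bca)) (.node 9059 (.leaf 0x72fb0dcc) (.leaf 0x72fc0bcf))) (.node 9062 (.node 9061 (.leaf 0x72fd0bcd) (.leaf 0x72fe0ac4)) (.node 9063 (.leaf 0x72ff071f) (.leaf 0x73000bcc)))) (.node 9068 (.node 9066 (.node 9065 (.leaf 0x7301075c) (.leaf 0x7302097f)) (.node 9067 (.leaf 0x73030bcf) (.leaf 0x7304071f))) (.node 9070 (.node 9069 (.leaf 0x73050ac2) (.leaf 0x73060bce)) (.node 9071 (.leaf 0x73070bcb) (.leaf 0x73080dd6))))) (.node 9080 (.node 9076 (.node 9074 (.node 9073 (.leaf 0x73090bd1) (.leaf 0x730a0723)) (.node 9075 (.leaf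 0x730b0f67) (.leaf 0x730c0bd0))) (.node 9078 (.node 9077 (.leaf 0x730d0f6a) (.leaf 0x730e0fc5)) (.node 9079 (.leaf 0x730f0bd3) (.leaf 0x73100775)))) (.node 9084 (.node 9082 (.node 9081 (.leaf 0x73110764) (.leaf 0x73120bd2)) (.node 9083 (.leaf 0x73130bd4) (.leaf 0x73140b30))) (.node 9086 (.node 9085 (.leaf 0x73150bd5) (.leaf 0x73160ab9)) (.node 9087 (.leaf 0x73170bd3) (.leaf 0x73180bd4)))))))) (.node 9152 (.node 9120 (.node 9104 (.node 9096 (.node 9092 (.node 9090 (.node 9089 (.leaf 0x73190ec1) (.leaf 0x731a0c1b)) (.node 9091 (.leaf 0x731b0bd7) (.leaf 0x731c0b29))) (.node 9094 (.node 9093 (.leaf 0x731d0b29) (.leaf 0x731e0bd6)) (.node 9095 (.leaf 0x731f0da9) (.leaf 0x73200e2d)))) (.node 9100 (.node 9098 (.node 9097 (.leaf 0x73210bd9) (.leaf 0x73220a2e)) (.node 9099 (.leaf 0x73230a26) (.leaf 0x73240bd8))) (.node 9102 (.node 9101 (.leaf 0x73250d45) (.leaf 0x73260c25)) (.node 9103 (.leaf 0x73270bdb) (.leaf 0x73280fd2))))) (.node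 9112 (.node 9108 (.node 9106 (.node 9105 (.leaf 0x73290729) (.leaf 0x732a0bda)) (.node 9107 (.leaf 0x732b0deb) (.leaf 0x732c0ee1))) (.node 9110 (.node 9109 (.leaf 0x732d0bdd) (.leaf 0x732e0729)) (.node 9111 (.leaf 0x732f0fd4) (.leaf 0x73300bdc)))) (.node 9116 (.node 9114 (.node 9113 (.leaf 0x73310ee9) (.leaf 0x73320e63)) (.node 9115 (.leaf 0x73330bdf) (.leaf 0x7334072b))) (.node 9118 (.node 9117 (.leaf 0x73350f7c) (.leaf 0x73360bde)) (.node 9119 (.leaf 0x73370a2b) (.leaf 0x73380e64)))))) (.node 9136 (.node 9128 (.node 9124 (.node 9122 (.node 9121 (.leaf 0x73390be1) (.leaf 0x733a0732)) (.node 9123 (.leaf 0x733b0be2) (.leaf 0x733c0be0))) (.node 9126 (.node 9125 (.leaf 0x733d0aef) (.leaf 0x733e0fda)) (.node 9127 (.leaf 0x733f0be3) (.leaf 0x73400be0)))) (.node 9132 (.node 9130 (.node 9129 (.leaf 0x7341083e) (.leaf 0x73420be2)) (.node 9131 (.leaf 0x73430fdc) (.leaf 0x73440fde))) (.node 9134 (.node 9133 (.leaf 0x73450be5) (.leaf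 0x73460733)) (.node 9135 (.leaf 0x73470917) (.leaf 0x73480be4))))) (.node 9144 (.node 9140 (.node 9138 (.node 9137 (.leaf 0x73490af3) (.leaf 0x734a0c0f)) (.node 9139 (.leaf 0x734b0be7) (.leaf 0x734c0f38))) (.node 9142 (.node 9141 (.leaf 0x734d0737) (.leaf 0x734e0be6)) (.node 9143 (.leaf 0x734f0dd8) (.leaf 0x73500a1d)))) (.node 9148 (.node 9146 (.node 9145 (.leaf 0x73510be9) (.leaf 0x73520bea)) (.node 9147 (.leaf 0x7353073c) (.leaf 0x73540be8))) (.node 9150 (.node 9149 (.leaf 0x73550fda) (.leaf 0x73560bf5)) (.node 9151 (.leaf 0x73570beb) (.leaf 0x73580a24))))))) (.node 9184 (.node 9168 (.node 9160 (.node 9156 (.node 9154 (.node 9153 (.leaf 0x73590be8) (.leaf 0x735a0bea)) (.node 9155 (.leaf 0x735b0fe2) (.leaf 0x735c0fdc))) (.node 9158 (.node 9157 (.leaf 0x735d0bed) (.leaf 0x735e09af)) (.node 9159 (.leaf 0x735f073d) (.leaf 0x73600bec)))) (.node 9164 (.node 9162 (.node 9161 (.leaf 0x73610ab7) (.leaf 0x73620aa6)) (.node 9163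 (.leaf 0x73630bef) (.leaf 0x7364073d))) (.node 9166 (.node 9165 (.leaf 0x73650e90) (.leaf 0x73660bee)) (.node 9167 (.leaf 0x73670751) (.leaf 0x73680c9d))))) (.node 9176 (.node 9172 (.node 9170 (.node 9169 (.leaf 0x73690bf1) (.leaf 0x736a07bf)) (.node 9171 (.leaf 0x736b0a85) (.leaf 0x736c0bf0))) (.node 9174 (.node 9173 (.leaf 0x736d0785) (.leaf 0x736e0b5f)) (.node 9175 (.leaf 0x736f0bf3) (.leaf 0x73700743)))) (.node 9180 (.node 9178 (.node 9177 (.leaf 0x73710b58) (.leaf 0x73720bf2)) (.node 9179 (.leaf 0x73730b47) (.leaf 0x73740a96))) (.node 9182 (.node 9181 (.leaf 0x73750bf5) (.leaf 0x73760746)) (.node 9183 (.leaf 0x73770bf6) (.leaf 0x73780bf4)))))) (.node 9200 (.node 9192 (.node 9188 (.node 9186 (.node 9185 (.leaf 0x73790be9) (.leaf 0x737a0f48)) (.node 9187 (.leaf 0x737b0bf7) (.leaf 0x737c0bf4))) (.node 9190 (.node 9189 (.leaf 0x737d09a8) (.leaf 0x737e0bf6)) (.node 9191 (.leaf 0x737f0d18) (.leaf 0x73800818)))) (.node 9196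 (.node 9194 (.node 9193 (.leaf 0x73810bf9) (.leaf 0x73820e77)) (.node 9195 (.leaf 0x73830747) (.leaf 0x73840bf8))) (.node 9198 (.node 9197 (.leaf 0x73850ba1) (.leaf 0x73860f6d)) (.node 9199 (.leaf 0x73870bfb) (.leaf 0x73880ac7))))) (.node 9208 (.node 9204 (.node 9202 (.node 9201 (.leaf 0x73890751) (.leaf 0x738a0bfa)) (.node 9203 (.leaf 0x738b0d44) (.leaf 0x738c0eb8))) (.node 9206 (.node 9205 (.leaf 0x738d0bfd) (.leaf 0x738e09a2)) (.node 9207 (.leaf 0x738f0752) (.leaf 0x73900bfc)))) (.node 9212 (.node 9210 (.node 9209 (.leaf 0x73910f94) (.leaf 0x73920aa1)) (.node 9211 (.leaf 0x73930bff) (.leaf 0x73940759))) (.node 9214 (.node 9213 (.leaf 0x73950fe4) (.leaf 0x73960bfe)) (.node 9215 (.leaf 0x73970b97) (.leaf 0x73980f3e))))))))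

/-- block of `tab` -/
def tab_36 : Tr := .node 9344 (.node 9280 (.node 9248 (.node 9232 (.node 9224 (.node 9220 (.node 9218 (.node 9217 (.leaf 0x73990c01) (.leaf 0x739a097f)) (.node 9219 (.leaf 0x739b075a) (.leaf 0x739c0c00))) (.node 9222 (.node 9221 (.leaf 0x739d0c66) (.leaf 0x739e0a23)) (.node 9223 (.leaf 0x739f0c03) (.leaf 0x73a00f36)))) (.node 9228 (.node 9226 (.node 9225 (.leaf 0x73a1075d) (.leaf 0x73a20c02)) (.node 9227 (.leaf 0x73a30bb7) (.leaf 0x73a40c07))) (.node 9230 (.node 9229 (.leaf 0x73a50c05) (.leaf 0x73a60aa9)) (.node 9231 (.leaf 0x73a7075f) (.leaf 0x73a80c04))))) (.node 9240 (.node 9236 (.node 9234 (.node 9233 (.leaf 0x73a90d54) (.leaf 0x73aa0f3c)) (.node 9235 (.leaf 0x73ab0c07) (.leaf 0x73ac075f))) (.node 9238 (.node 9237 (.leaf 0x73ad0b0e) (.leaf 0x73ae0c06)) (.node 9239 (.leaf 0x73af0c03) (.leaf 0x73b00b7a)))) (.node 9244 (.node 9242 (.node 9241 (.leaf 0x73b10c09) (.leaf 0x73b20762)) (.node 9243 (.leaf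 0x73b30a45) (.leaf 0x73b40c08))) (.node 9246 (.node 9245 (.leaf 0x73b50adc) (.leaf 0x73b60f42)) (.node 9247 (.leaf 0x73b70c0b) (.leaf 0x73b80b8f)))))) (.node 9264 (.node 9256 (.node 9252 (.node 9250 (.node 9249 (.leaf 0x73b90765) (.leaf 0x73ba0c0a)) (.node 9251 (.leaf 0x73bb08b5) (.leaf 0x73bc0863))) (.node 9254 (.node 9253 (.leaf 0x73bd0c0d) (.leaf 0x73be0765)) (.node 9255 (.leaf 0x73bf0e91) (.leaf 0x73c00c0c)))) (.node 9260 (.node 9258 (.node 9257 (.leaf 0x73c10b67) (.leaf 0x73c20ca1)) (.node 9259 (.leaf 0x73c30c0f) (.leaf 0x73c408d3))) (.node 9262 (.node 9261 (.leaf 0x73c50768) (.leaf 0x73c60c0e)) (.node 9263 (.leaf 0x73c70be5) (.leaf 0x73c80b84))))) (.node 9272 (.node 9268 (.node 9266 (.node 9265 (.leaf 0x73c90c11) (.leaf 0x73ca076a)) (.node 9267 (.leaf 0x73cb08d3) (.leaf 0x73cc0c10))) (.node 9270 (.node 9269 (.leaf 0x73cd08cb) (.leaf 0x73ce0a7f)) (.node 9271 (.leaf 0x73cf0c13) (.leaf 0x73d00c16)))) (.node 9276 (.node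 9274 (.node 9273 (.leaf 0x73d1076b) (.leaf 0x73d20c12)) (.node 9275 (.leaf 0x73d30a83) (.leaf 0x73d40b42))) (.node 9278 (.node 9277 (.leaf 0x73d50c15) (.leaf 0x73d60a14)) (.node 9279 (.leaf 0x73d7076f) (.leaf 0x73d80c14))))))) (.node 9312 (.node 9296 (.node 9288 (.node 9284 (.node 9282 (.node 9281 (.leaf 0x73d90d42) (.leaf 0x73da09d3)) (.node 9283 (.leaf 0x73db0c17) (.leaf 0x73dc0bbf))) (.node 9286 (.node 9285 (.leaf 0x73dd0c12) (.leaf 0x73de0c16)) (.node 9287 (.leaf 0x73df0e05) (.leaf 0x73e00acb)))) (.node 9292 (.node 9290 (.node 9289 (.leaf 0x73e10c19) (.leaf 0x73e20b18)) (.node 9291 (.leaf 0x73e30777) (.leaf 0x73e40c18))) (.node 9294 (.node 9293 (.leaf 0x73e50efb) (.leaf 0x73e61070)) (.node 9295 (.leaf 0x73e70c1b) (.leaf 0x73e80777))))) (.node 9304 (.node 9300 (.node 9298 (.node 9297 (.leaf 0x73e90b16) (.leaf 0x73ea0c1a)) (.node 9299 (.leaf 0x73eb0bd5) (.leaf 0x73ec0da9))) (.node 9302 (.node 9301 (.leaf 0x73ed0c1d)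 (.leaf 0x73ee0dde)) (.node 9303 (.leaf 0x73ef0779) (.leaf 0x73f00c1c)))) (.node 9308 (.node 9306 (.node 9305 (.leaf 0x73f110b8) (.leaf 0x73f210bc)) (.node 9307 (.leaf 0x73f30c1f) (.leaf 0x73f40e08))) (.node 9310 (.node 9309 (.leaf 0x73f5077b) (.leaf 0x73f60c1e)) (.node 9311 (.leaf 0x73f70c2b) (.leaf 0x73f80eec)))))) (.node 9328 (.node 9320 (.node 9316 (.node 9314 (.node 9313 (.leaf 0x73f90c21) (.leaf 0x73fa077b)) (.node 9315 (.leaf 0x73fb0e06) (.leaf 0x73fc0c20))) (.node 9318 (.node 9317 (.leaf 0x73fd0bbd) (.leaf 0x73fe0c22)) (.node 9319 (.leaf 0x73ff0c23) (.leaf 0x74000c21)))) (.node 9324 (.node 9322 (.node 9321 (.leaf 0x7401084c) (.leaf 0x74020c22)) (.node 9323 (.leaf 0x740310d6) (.leaf 0x740410d7))) (.node 9326 (.node 9325 (.leaf 0x74050c25) (.leaf 0x74060add)) (.node 9327 (.leaf 0x7407077c) (.leaf 0x74080c24))))) (.node 9336 (.node 9332 (.node 9330 (.node 9329 (.leaf 0x74090bd9) (.leaf 0x740a0d45)) (.node 9331 (.leaf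 0x740b0c27) (.leaf 0x740c077e))) (.node 9334 (.node 9333 (.leaf 0x740d0add) (.leaf 0x740e0c26)) (.node 9335 (.leaf 0x740f0e91) (.leaf 0x74100b8f)))) (.node 9340 (.node 9338 (.node 9337 (.leaf 0x74110c29) (.leaf 0x741207b4)) (.node 9339 (.leaf 0x7413077f) (.leaf 0x74140c28))) (.node 9342 (.node 9341 (.leaf 0x74150cf4) (.leaf 0x741610bf)) (.node 9343 (.leaf 0x74170c2b) (.leaf 0x74180780)))))))) (.node 9408 (.node 9376 (.node 9360 (.node 9352 (.node 9348 (.node 9346 (.node 9345 (.leaf 0x74190c2c) (.leaf 0x741a0c2a)) (.node 9347 (.leaf 0x741b0ef0) (.leaf 0x741c0c1f))) (.node 9350 (.node 9349 (.leaf 0x741d0c2d) (.leaf 0x741e0c2a)) (.node 9351 (.leaf 0x741f0bca) (.leaf 0x74200c2c)))) (.node 9356 (.node 9354 (.node 9353 (.leaf 0x7421105a) (.leaf 0x74221057)) (.node 9355 (.leaf 0x74230c2f) (.leaf 0x74240ea4))) (.node 9358 (.node 9357 (.leaf 0x74250781) (.leaf 0x74260c2e)) (.node 9359 (.leaf 0x74270b31) (.leaf 0x74280c37))))) (.node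 9368 (.node 9364 (.node 9362 (.node 9361 (.leaf 0x74290c31) (.leaf 0x742a0781)) (.node 9363 (.leaf 0x742b07d3) (.leaf 0x742c0c30))) (.node 9366 (.node 9365 (.leaf 0x742d0fca) (.leaf 0x742e07d5)) (.node 9367 (.leaf 0x742f0c33) (.leaf 0x74300c38)))) (.node 9372 (.node 9370 (.node 9369 (.leaf 0x74310782) (.leaf 0x74320c32)) (.node 9371 (.leaf 0x74330ebf) (.leaf 0x74340ef9))) (.node 9374 (.node 9373 (.leaf 0x74350c35) (.leaf 0x74360821)) (.node 9375 (.leaf 0x74370783) (.leaf 0x74380c34)))))) (.node 9392 (.node 9384 (.node 9380 (.node 9378 (.node 9377 (.leaf 0x7439082b) (.leaf 0x743a0fca)) (.node 9379 (.leaf 0x743b0c37) (.leaf 0x743c0783))) (.node 9382 (.node 9381 (.leaf 0x743d0c74) (.leaf 0x743e0c36)) (.node 9383 (.leaf 0x743f0c2f) (.leaf 0x74400b33)))) (.node 9388 (.node 9386 (.node 9385 (.leaf 0x74410c39) (.leaf 0x74420af8)) (.node 9387 (.leaf 0x74430c32) (.leaf 0x74440c38))) (.node 9390 (.node 9389 (.leaf 0x74451062) (.leaf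 0x74461065)) (.node 9391 (.leaf 0x74470c3b) (.leaf 0x74481089))))) (.node 9400 (.node 9396 (.node 9394 (.node 9393 (.leaf 0x74490787) (.leaf 0x744a0c3a)) (.node 9395 (.leaf 0x744b0d65) (.leaf 0x744c07b7))) (.node 9398 (.node 9397 (.leaf 0x744d0c3d) (.leaf 0x744e0787)) (.node 9399 (.leaf 0x744f1087) (.leaf 0x74500c3c)))) (.node 9404 (.node 9402 (.node 9401 (.leaf 0x745110da) (.leaf 0x74520ed3)) (.node 9403 (.leaf 0x74530c3f) (.leaf 0x74540c42))) (.node 9406 (.node 9405 (.leaf 0x74550788) (.leaf 0x74560c3e)) (.node 9407 (.leaf 0x7457109c) (.leaf 0x745808e1))))))) (.node 9440 (.node 9424 (.node 9416 (.node 9412 (.node 9410 (.node 9409 (.leaf 0x74590c41) (.leaf 0x745a0a13)) (.node 9411 (.leaf 0x745b0789) (.leaf 0x745c0c40))) (.node 9414 (.node 9413 (.leaf 0x745d08f4) (.leaf 0x745e09b2)) (.node 9415 (.leaf 0x745f0c43) (.leaf 0x746009c7)))) (.node 9420 (.node 9418 (.node 9417 (.leaf 0x74610c3e) (.leaf 0x74620c42)) (.node 9419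 (.leaf 0x74630de7) (.leaf 0x74640f60))) (.node 9422 (.node 9421 (.leaf 0x74650c45) (.leaf 0x74661054)) (.node 9423 (.leaf 0x7467078d) (.leaf 0x74680c44))))) (.node 9432 (.node 9428 (.node 9426 (.node 9425 (.leaf 0x74690e49) (.leaf 0x746a1004)) (.node 9427 (.leaf 0x746b0c47) (.leaf 0x746c0c4c))) (.node 9430 (.node 9429 (.leaf 0x746d078e) (.leaf 0x746e0c46)) (.node 9431 (.leaf 0x746f0df1) (.leaf 0x747009c9)))) (.node 9436 (.node 9434 (.node 9433 (.leaf 0x74710c49) (.leaf 0x7472078f)) (.node 9435 (.leaf 0x747308d7) (.leaf 0x74740c48))) (.node 9438 (.node 9437 (.leaf 0x74750d4b) (.leaf 0x74760de3)) (.node 9439 (.leaf 0x74770c4b) (.leaf 0x74780790)))))) (.node 9456 (.node 9448 (.node 9444 (.node 9442 (.node 9441 (.leaf 0x74790c4c) (.leaf 0x747a0c4a)) (.node 9443 (.leaf 0x747b108a) (.leaf 0x747c0ecb))) (.node 9446 (.node 9445 (.leaf 0x747d0c4d) (.leaf 0x747e0c4a)) (.node 9447 (.leaf 0x747f0c46) (.leaf 0x74800c4c)))) (.node 9452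 (.node 9450 (.node 9449 (.leaf 0x748110de) (.leaf 0x7482108e)) (.node 9451 (.leaf 0x74830c4f) (.leaf 0x74840dfb))) (.node 9454 (.node 9453 (.leaf 0x74850793) (.leaf 0x74860c4e)) (.node 9455 (.leaf 0x74870f61) (.leaf 0x74880ec7))))) (.node 9464 (.node 9460 (.node 9458 (.node 9457 (.leaf 0x74890c51) (.leaf 0x748a0793)) (.node 9459 (.leaf 0x748b107f) (.leaf 0x748c0c50))) (.node 9462 (.node 9461 (.leaf 0x748d104e) (.leaf 0x748e0d85)) (.node 9463 (.leaf 0x748f0c53) (.leaf 0x74900795)))) (.node 9468 (.node 9466 (.node 9465 (.leaf 0x74910c61) (.leaf 0x74920c52)) (.node 9467 (.leaf 0x74930fbc) (.leaf 0x74940ba6))) (.node 9470 (.node 9469 (.leaf 0x74950c55) (.leaf 0x74960c56)) (.node 9471 (.leaf 0x74970798) (.leaf 0x74980c54))))))))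

/-- block of `tab` -/
def tab_37 : Tr := .node 9600 (.node 9536 (.node 9504 (.node 9488 (.node 9480 (.node 9476 (.node 9474 (.node 9473 (.leaf 0x7499086b) (.leaf 0x749a1048)) (.node 9475 (.leaf 0x749b0c57) (.leaf 0x749c0967))) (.node 9478 (.node 9477 (.leaf 0x749d0c54) (.leaf 0x749e0c56)) (.node 9479 (.leaf 0x749f0afb) (.leaf 0x74a00869)))) (.node 9484 (.node 9482 (.node 9481 (.leaf 0x74a10c59) (.leaf 0x74a20943)) (.node 9483 (.leaf 0x74a30799) (.leaf 0x74a40c58))) (.node 9486 (.node 9485 (.leaf 0x74a508cf) (.leaf 0x74a60e30)) (.node 9487 (.leaf 0x74a70c5b) (.leaf 0x74a80799))))) (.node 9496 (.node 9492 (.node 9490 (.node 9489 (.leaf 0x74a90fab) (.leaf 0x74aa0c5a)) (.node 9491 (.leaf 0x74ab0dd5) (.leaf 0x74ac0c7b))) (.node 9494 (.node 9493 (.leaf 0x74ad0c5d) (.leaf 0x74ae0c60)) (.node 9495 (.leaf 0x74af079c) (.leaf 0x74b00c5c)))) (.node 9500 (.node 9498 (.node 9497 (.leaf 0x74b10e58) (.leaf 0x74b20e5b)) (.node 9499 (.leaf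 0x74b30c5f) (.leaf 0x74b408eb))) (.node 9502 (.node 9501 (.leaf 0x74b5079d) (.leaf 0x74b60c5e)) (.node 9503 (.leaf 0x74b70cd7) (.leaf 0x74b8080f)))))) (.node 9520 (.node 9512 (.node 9508 (.node 9506 (.node 9505 (.leaf 0x74b90c61) (.leaf 0x74ba0b6d)) (.node 9507 (.leaf 0x74bb0c5c) (.leaf 0x74bc0c60))) (.node 9510 (.node 9509 (.leaf 0x74bd0c52) (.leaf 0x74be0d4e)) (.node 9511 (.leaf 0x74bf0c63) (.leaf 0x74c007a1)))) (.node 9516 (.node 9514 (.node 9513 (.leaf 0x74c109d9) (.leaf 0x74c20c62)) (.node 9515 (.leaf 0x74c30b07) (.leaf 0x74c40bb1))) (.node 9518 (.node 9517 (.leaf 0x74c50c65) (.leaf 0x74c609d3)) (.node 9519 (.leaf 0x74c707a3) (.leaf 0x74c80c64))))) (.node 9528 (.node 9524 (.node 9522 (.node 9521 (.leaf 0x74c90cdf) (.leaf 0x74ca0cd3)) (.node 9523 (.leaf 0x74cb0c67) (.leaf 0x74cc07a7))) (.node 9526 (.node 9525 (.leaf 0x74cd0c01) (.leaf 0x74ce0c66)) (.node 9527 (.leaf 0x74cf0ed1) (.leaf 0x74d00ff2)))) (.node 9532 (.node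 9530 (.node 9529 (.leaf 0x74d10c69) (.leaf 0x74d21058)) (.node 9531 (.leaf 0x74d307a9) (.leaf 0x74d40c68))) (.node 9534 (.node 9533 (.leaf 0x74d51029) (.leaf 0x74d60f8f)) (.node 9535 (.leaf 0x74d70c6b) (.leaf 0x74d807a9))))))) (.node 9568 (.node 9552 (.node 9544 (.node 9540 (.node 9538 (.node 9537 (.leaf 0x74d910e6) (.leaf 0x74da0c6a)) (.node 9539 (.leaf 0x74db108e) (.leaf 0x74dc0d7d))) (.node 9542 (.node 9541 (.leaf 0x74dd0c6d) (.leaf 0x74de0ff5)) (.node 9543 (.leaf 0x74df07ab) (.leaf 0x74e00c6c)))) (.node 9548 (.node 9546 (.node 9545 (.leaf 0x74e10ff3) (.leaf 0x74e20ff4)) (.node 9547 (.leaf 0x74e30c6f) (.leaf 0x74e407ab))) (.node 9550 (.node 9549 (.leaf 0x74e509cf) (.leaf 0x74e60c6e)) (.node 9551 (.leaf 0x74e7108d) (.leaf 0x74e8108c))))) (.node 9560 (.node 9556 (.node 9554 (.node 9553 (.leaf 0x74e90c71) (.leaf 0x74ea07ad)) (.node 9555 (.leaf 0x74eb0d30) (.leaf 0x74ec0c70))) (.node 9558 (.node 9557 (.leaf 0x74ed0d79)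 (.leaf 0x74ee0ede)) (.node 9559 (.leaf 0x74ef0c73) (.leaf 0x74f007af)))) (.node 9564 (.node 9562 (.node 9561 (.leaf 0x74f10abb) (.leaf 0x74f20c72)) (.node 9563 (.leaf 0x74f30c74) (.leaf 0x74f40821))) (.node 9566 (.node 9565 (.leaf 0x74f50c75) (.leaf 0x74f60c36)) (.node 9567 (.leaf 0x74f70c73) (.leaf 0x74f80c74)))))) (.node 9584 (.node 9576 (.node 9572 (.node 9570 (.node 9569 (.leaf 0x74f90b17) (.leaf 0x74fa0f8e)) (.node 9571 (.leaf 0x74fb0c77) (.leaf 0x74fc07b0))) (.node 9574 (.node 9573 (.leaf 0x74fd0c78) (.leaf 0x74fe0c76)) (.node 9575 (.leaf 0x74ff07d9) (.leaf 0x75000dab)))) (.node 9580 (.node 9578 (.node 9577 (.leaf 0x75010c79) (.leaf 0x75020c76)) (.node 9579 (.leaf 0x7503081f) (.leaf 0x75040c78))) (.node 9582 (.node 9581 (.leaf 0x75050db7) (.leaf 0x7506081b)) (.node 9583 (.leaf 0x75070c7b) (.leaf 0x750807b5))))) (.node 9592 (.node 9588 (.node 9586 (.node 9585 (.leaf 0x75090f75) (.leaf 0x750a0c7a)) (.node 9587 (.leaf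 0x750b0c5b) (.leaf 0x750c07cf))) (.node 9590 (.node 9589 (.leaf 0x750d0c7d) (.leaf 0x750e07b7)) (.node 9591 (.leaf 0x750f0d7c) (.leaf 0x75100c7c)))) (.node 9596 (.node 9594 (.node 9593 (.leaf 0x751110ee) (.leaf 0x751210f2)) (.node 9595 (.leaf 0x75130c7f) (.leaf 0x75140c84))) (.node 9598 (.node 9597 (.leaf 0x751507b8) (.leaf 0x75160c7e)) (.node 9599 (.leaf 0x751710fa) (.leaf 0x751810fc)))))))) (.node 9664 (.node 9632 (.node 9616 (.node 9608 (.node 9604 (.node 9602 (.node 9601 (.leaf 0x75190c81) (.leaf 0x751a10a2)) (.node 9603 (.leaf 0x751b07b9) (.leaf 0x751c0c80))) (.node 9606 (.node 9605 (.leaf 0x751d08e7) (.leaf 0x751e0db8)) (.node 9607 (.leaf 0x751f0c83) (.leaf 0x752007b9)))) (.node 9612 (.node 9610 (.node 9609 (.leaf 0x752109e3) (.leaf 0x75220c82)) (.node 9611 (.leaf 0x752310ef) (.leaf 0x752410f0))) (.node 9614 (.node 9613 (.leaf 0x75250c85) (.leaf 0x752609bf)) (.node 9615 (.leaf 0x75270c7e) (.leaf 0x75280c84))))) (.node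 9624 (.node 9620 (.node 9618 (.node 9617 (.leaf 0x75290831) (.leaf 0x752a092e)) (.node 9619 (.leaf 0x752b0c87) (.leaf 0x752c07bb))) (.node 9622 (.node 9621 (.leaf 0x752d0c98) (.leaf 0x752e0c86)) (.node 9623 (.leaf 0x752f09db) (.leaf 0x75300d1b)))) (.node 9628 (.node 9626 (.node 9625 (.leaf 0x75310c89) (.leaf 0x75320ca5)) (.node 9627 (.leaf 0x753307bd) (.leaf 0x75340c88))) (.node 9630 (.node 9629 (.leaf 0x75350c98) (.leaf 0x753607cc)) (.node 9631 (.leaf 0x75370c8b) (.leaf 0x753807bd)))))) (.node 9648 (.node 9640 (.node 9636 (.node 9634 (.node 9633 (.leaf 0x75390f0e) (.leaf 0x753a0c8a)) (.node 9635 (.leaf 0x753b0dc0) (.leaf 0x753c08ae))) (.node 9638 (.node 9637 (.leaf 0x753d0c8d) (.leaf 0x753e07c0)) (.node 9639 (.leaf 0x753f0c8e) (.leaf 0x75400c8c)))) (.node 9644 (.node 9642 (.node 9641 (.leaf 0x75410ca7) (.leaf 0x75420cb3)) (.node 9643 (.leaf 0x75430c8f) (.leaf 0x75440c8c))) (.node 9646 (.node 9645 (.leaf 0x754509dc) (.leaf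 0x75460c8e)) (.node 9647 (.leaf 0x75470d0b) (.leaf 0x75480d19))))) (.node 9656 (.node 9652 (.node 9650 (.node 9649 (.leaf 0x75490c91) (.leaf 0x754a0849)) (.node 9651 (.leaf 0x754b07c7) (.leaf 0x754c0c90))) (.node 9654 (.node 9653 (.leaf 0x754d08b7) (.leaf 0x754e0dc4)) (.node 9655 (.leaf 0x754f0c93) (.leaf 0x755007c7)))) (.node 9660 (.node 9658 (.node 9657 (.leaf 0x755109e5) (.leaf 0x75520c92)) (.node 9659 (.leaf 0x7553087b) (.leaf 0x75540959))) (.node 9662 (.node 9661 (.leaf 0x75550c95) (.leaf 0x755607c9)) (.node 9663 (.leaf 0x7557106d) (.leaf 0x75580c94))))))) (.node 9696 (.node 9680 (.node 9672 (.node 9668 (.node 9666 (.node 9665 (.leaf 0x755908e1) (.leaf 0x755a109b)) (.node 9667 (.leaf 0x755b0c97) (.leaf 0x755c07ca))) (.node 9670 (.node 9669 (.leaf 0x755d08e3) (.leaf 0x755e0c96)) (.node 9671 (.leaf 0x755f0cac) (.leaf 0x75600d59)))) (.node 9676 (.node 9674 (.node 9673 (.leaf 0x75610c99) (.leaf 0x75620c86)) (.node 9675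 (.leaf 0x75630c89) (.leaf 0x75640c98))) (.node 9678 (.node 9677 (.leaf 0x75650dc8) (.leaf 0x75660e16)) (.node 9679 (.leaf 0x75670c9b) (.leaf 0x756807cf))))) (.node 9688 (.node 9684 (.node 9682 (.node 9681 (.leaf 0x75690ff9) (.leaf 0x756a0c9a)) (.node 9683 (.leaf 0x756b08b3) (.leaf 0x756c1014))) (.node 9686 (.node 9685 (.leaf 0x756d0c9d) (.leaf 0x756e07d2)) (.node 9687 (.leaf 0x756f0c9e) (.leaf 0x75700c9c)))) (.node 9692 (.node 9690 (.node 9689 (.leaf 0x75710bef) (.leaf 0x75720f40)) (.node 9691 (.leaf 0x75730c9f) (.leaf 0x75740c9c))) (.node 9694 (.node 9693 (.leaf 0x75750b43) (.leaf 0x75760c9e)) (.node 9695 (.leaf 0x75770cc0) (.leaf 0x75780d7a)))))) (.node 9712 (.node 9704 (.node 9700 (.node 9698 (.node 9697 (.leaf 0x75790ca1) (.leaf 0x757a07d3)) (.node 9699 (.leaf 0x757b0ea4) (.leaf 0x757c0ca0))) (.node 9702 (.node 9701 (.leaf 0x757d0c0d) (.leaf 0x757e09cd)) (.node 9703 (.leaf 0x757f0ca3) (.leaf 0x75800ca6)))) (.node 9708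 (.node 9706 (.node 9705 (.leaf 0x758107d8) (.leaf 0x75820ca2)) (.node 9707 (.leaf 0x75830d3d) (.leaf 0x75840e17))) (.node 9710 (.node 9709 (.leaf 0x75850ca5) (.leaf 0x7586107a)) (.node 9711 (.leaf 0x758707d9) (.leaf 0x75880ca4))))) (.node 9720 (.node 9716 (.node 9714 (.node 9713 (.leaf 0x75890d37) (.leaf 0x758a0c88)) (.node 9715 (.leaf 0x758b0ca7) (.leaf 0x758c0af1))) (.node 9718 (.node 9717 (.leaf 0x758d0ca2) (.leaf 0x758e0ca6)) (.node 9719 (.leaf 0x758f0e1f) (.leaf 0x75900c8d)))) (.node 9724 (.node 9722 (.node 9721 (.leaf 0x75910ca9) (.leaf 0x759207db)) (.node 9723 (.leaf 0x75930d75) (.leaf 0x75940ca8))) (.node 9726 (.node 9725 (.leaf 0x75950cd6) (.leaf 0x75960d15)) (.node 9727 (.leaf 0x75970cab) (.leaf 0x7598085d))))))))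

/-- block of `tab` -/
def tab_38 : Tr := .node 9856 (.node 9792 (.node 9760 (.node 9744 (.node 9736 (.node 9732 (.node 9730 (.node 9729 (.leaf 0x759907dc) (.leaf 0x759a0caa)) (.node 9731 (.leaf 0x759b1050) (.leaf 0x759c0d5f))) (.node 9734 (.node 9733 (.leaf 0x759d0cad) (.leaf 0x759e07dd)) (.node 9735 (.leaf 0x759f0c97) (.leaf 0x75a00cac)))) (.node 9740 (.node 9738 (.node 9737 (.leaf 0x75a10cb5) (.leaf 0x75a20d8f)) (.node 9739 (.leaf 0x75a30caf) (.leaf 0x75a407df))) (.node 9742 (.node 9741 (.leaf 0x75a50cf0) (.leaf 0x75a60cae)) (.node 9743 (.leaf 0x75a71074) (.leaf 0x75a81068))))) (.node 9752 (.node 9748 (.node 9746 (.node 9745 (.leaf 0x75a90cb1) (.leaf 0x75aa07e0)) (.node 9747 (.leaf 0x75ab0cb2) (.leaf 0x75ac0cb0))) (.node 9750 (.node 9749 (.leaf 0x75ad0e5a) (.leaf 0x75ae0d07)) (.node 9751 (.leaf 0x75af0cb3) (.leaf 0x75b00cb0)))) (.node 9756 (.node 9754 (.node 9753 (.leaf 0x75b10880) (.leaf 0x75b20cb2)) (.node 9755 (.leaf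 0x75b30c8d) (.leaf 0x75b41002))) (.node 9758 (.node 9757 (.leaf 0x75b50cb5) (.leaf 0x75b60f35)) (.node 9759 (.leaf 0x75b707e1) (.leaf 0x75b80cb4)))))) (.node 9776 (.node 9768 (.node 9764 (.node 9762 (.node 9761 (.leaf 0x75b91108) (.leaf 0x75ba0cad)) (.node 9763 (.leaf 0x75bb0cb7) (.leaf 0x75bc07e1))) (.node 9766 (.node 9765 (.leaf 0x75bd0cdb) (.leaf 0x75be0cb6)) (.node 9767 (.leaf 0x75bf09d1) (.leaf 0x75c009a9)))) (.node 9772 (.node 9770 (.node 9769 (.leaf 0x75c10cb9) (.leaf 0x75c2086d)) (.node 9771 (.leaf 0x75c307e2) (.leaf 0x75c40cb8))) (.node 9774 (.node 9773 (.leaf 0x75c51037) (.leaf 0x75c61036)) (.node 9775 (.leaf 0x75c70cbb) (.leaf 0x75c80cbc))))) (.node 9784 (.node 9780 (.node 9778 (.node 9777 (.leaf 0x75c907e3) (.leaf 0x75ca0cba)) (.node 9779 (.leaf 0x75cb0935) (.leaf 0x75cc0808))) (.node 9782 (.node 9781 (.leaf 0x75cd0cbd) (.leaf 0x75ce07e3)) (.node 9783 (.leaf 0x75cf0cba) (.leaf 0x75d00cbc)))) (.node 9788 (.node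 9786 (.node 9785 (.leaf 0x75d10cc9) (.leaf 0x75d2110c)) (.node 9787 (.leaf 0x75d30cbf) (.leaf 0x75d407e4))) (.node 9790 (.node 9789 (.leaf 0x75d5086d) (.leaf 0x75d60cbe)) (.node 9791 (.leaf 0x75d70ff0) (.leaf 0x75d80d77))))))) (.node 9824 (.node 9808 (.node 9800 (.node 9796 (.node 9794 (.node 9793 (.leaf 0x75d90cc1) (.leaf 0x75da086c)) (.node 9795 (.leaf 0x75db0c9f) (.leaf 0x75dc0cc0))) (.node 9798 (.node 9797 (.leaf 0x75dd0d7c) (.leaf 0x75de0d65)) (.node 9799 (.leaf 0x75df0cc3) (.leaf 0x75e0092f)))) (.node 9804 (.node 9802 (.node 9801 (.leaf 0x75e107e6) (.leaf 0x75e20cc2)) (.node 9803 (.leaf 0x75e30e7f) (.leaf 0x75e4091f))) (.node 9806 (.node 9805 (.leaf 0x75e50cc5) (.leaf 0x75e60d4d)) (.node 9807 (.leaf 0x75e707e7) (.leaf 0x75e80cc4))))) (.node 9816 (.node 9812 (.node 9810 (.node 9809 (.leaf 0x75e90f26) (.leaf 0x75ea091b)) (.node 9811 (.leaf 0x75eb0cc7) (.leaf 0x75ec07e8))) (.node 9814 (.node 9813 (.leaf 0x75ed092f)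 (.leaf 0x75ee0cc6)) (.node 9815 (.leaf 0x75ef0807) (.leaf 0x75f00cfc)))) (.node 9820 (.node 9818 (.node 9817 (.leaf 0x75f10cc9) (.leaf 0x75f20809)) (.node 9819 (.leaf 0x75f307e9) (.leaf 0x75f40cc8))) (.node 9822 (.node 9821 (.leaf 0x75f50cfd) (.leaf 0x75f60cbd)) (.node 9823 (.leaf 0x75f70ccb) (.leaf 0x75f807e9)))))) (.node 9840 (.node 9832 (.node 9828 (.node 9826 (.node 9825 (.leaf 0x75f91034) (.leaf 0x75fa0cca)) (.node 9827 (.leaf 0x75fb1030) (.leaf 0x75fc07ef))) (.node 9830 (.node 9829 (.leaf 0x75fd0ccd) (.leaf 0x75fe07eb)) (.node 9831 (.leaf 0x75ff0e1d) (.leaf 0x76000ccc)))) (.node 9836 (.node 9834 (.node 9833 (.leaf 0x76010d49) (.leaf 0x76020e3f)) (.node 9835 (.leaf 0x76030ccf) (.leaf 0x76040da0))) (.node 9838 (.node 9837 (.leaf 0x760507ed) (.leaf 0x76060cce)) (.node 9839 (.leaf 0x76070b7b) (.leaf 0x76080e7e))))) (.node 9848 (.node 9844 (.node 9842 (.node 9841 (.leaf 0x76090cd1) (.leaf 0x760a0b9f)) (.node 9843 (.leaf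 0x760b07ee) (.leaf 0x760c0cd0))) (.node 9846 (.node 9845 (.leaf 0x760d100e) (.leaf 0x760e10f4)) (.node 9847 (.leaf 0x760f0cd3) (.leaf 0x761007ef)))) (.node 9852 (.node 9850 (.node 9849 (.leaf 0x7611100d) (.leaf 0x76120cd2)) (.node 9851 (.leaf 0x76130c65) (.leaf 0x76141008))) (.node 9854 (.node 9853 (.leaf 0x76150cd5) (.leaf 0x761607f0)) (.node 9855 (.leaf 0x76170b9f) (.leaf 0x76180cd4)))))))) (.node 9920 (.node 9888 (.node 9872 (.node 9864 (.node 9860 (.node 9858 (.node 9857 (.leaf 0x76191006) (.leaf 0x761a0d9e)) (.node 9859 (.leaf 0x761b0cd7) (.leaf 0x761c07f1))) (.node 9862 (.node 9861 (.leaf 0x761d0ca9) (.leaf 0x761e0cd6)) (.node 9863 (.leaf 0x761f100b) (.leaf 0x76200c5f)))) (.node 9868 (.node 9866 (.node 9865 (.leaf 0x76210cd9) (.leaf 0x76220b45)) (.node 9867 (.leaf 0x762307f2) (.leaf 0x76240cd8))) (.node 9870 (.node 9869 (.leaf 0x76250d3b) (.leaf 0x76261009)) (.node 9871 (.leaf 0x76270cdb) (.leaf 0x76280d15))))) (.node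 9880 (.node 9876 (.node 9874 (.node 9873 (.leaf 0x762907f3) (.leaf 0x762a0cda)) (.node 9875 (.leaf 0x762b0cb6) (.leaf 0x762c100c))) (.node 9878 (.node 9877 (.leaf 0x762d0cdd) (.leaf 0x762e07f4)) (.node 9879 (.leaf 0x762f0b45) (.leaf 0x76300cdc)))) (.node 9884 (.node 9882 (.node 9881 (.leaf 0x76311105) (.leaf 0x76321026)) (.node 9883 (.leaf 0x76330cdf) (.leaf 0x7634100a))) (.node 9886 (.node 9885 (.leaf 0x763507f5) (.leaf 0x76360cde)) (.node 9887 (.leaf 0x76371007) (.leaf 0x76380c65)))))) (.node 9904 (.node 9896 (.node 9892 (.node 9890 (.node 9889 (.leaf 0x76390ce1) (.leaf 0x763a07f5)) (.node 9891 (.leaf 0x763b1035) (.leaf 0x763c0ce0))) (.node 9894 (.node 9893 (.leaf 0x763d1034) (.leaf 0x763e0809)) (.node 9895 (.leaf 0x763f0ce3) (.leaf 0x764007f7)))) (.node 9900 (.node 9898 (.node 9897 (.leaf 0x76410ee6) (.leaf 0x76420ce2)) (.node 9899 (.leaf 0x76430cf7) (.leaf 0x76440fd7))) (.node 9902 (.node 9901 (.leaf 0x76450ce5) (.leaf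 0x76460ce8)) (.node 9903 (.leaf 0x764707fa) (.leaf 0x76480ce4))))) (.node 9912 (.node 9908 (.node 9906 (.node 9905 (.leaf 0x7649105d) (.leaf 0x764a1078)) (.node 9907 (.leaf 0x764b0ce7) (.leaf 0x764c07fc))) (.node 9910 (.node 9909 (.leaf 0x764d0ce8) (.leaf 0x764e0ce6)) (.node 9911 (.leaf 0x764f10cd) (.leaf 0x76500efd)))) (.node 9916 (.node 9914 (.node 9913 (.leaf 0x76510ce9) (.leaf 0x76520ce6)) (.node 9915 (.leaf 0x76530ce4) (.leaf 0x76540ce8))) (.node 9918 (.node 9917 (.leaf 0x76550e98) (.leaf 0x76560ae5)) (.node 9919 (.leaf 0x76570ceb) (.leaf 0x76580d1d))))))) (.node 9952 (.node 9936 (.node 9928 (.node 9924 (.node 9922 (.node 9921 (.leaf 0x765907fd) (.leaf 0x765a0cea)) (.node 9923 (.leaf 0x765b0f99) (.leaf 0x765c0b0b))) (.node 9926 (.node 9925 (.leaf 0x765d0ced) (.leaf 0x765e07fd)) (.node 9927 (.leaf 0x765f10c2) (.leaf 0x76600cec)))) (.node 9932 (.node 9930 (.node 9929 (.leaf 0x766110c3) (.leaf 0x76620cf3)) (.node 9931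 (.leaf 0x76630cef) (.leaf 0x76640cf0))) (.node 9934 (.node 9933 (.leaf 0x76650800) (.leaf 0x76660cee)) (.node 9935 (.leaf 0x76670d67) (.leaf 0x766810d2))))) (.node 9944 (.node 9940 (.node 9938 (.node 9937 (.leaf 0x76690cf1) (.leaf 0x766a0cae)) (.node 9939 (.leaf 0x766b0cee) (.leaf 0x766c0cf0))) (.node 9942 (.node 9941 (.leaf 0x766d0b1e) (.leaf 0x766e0df4)) (.node 9943 (.leaf 0x766f0cf3) (.leaf 0x767010c0)))) (.node 9948 (.node 9946 (.node 9945 (.leaf 0x76710801) (.leaf 0x76720cf2)) (.node 9947 (.leaf 0x76730ced) (.leaf 0x767410c3))) (.node 9950 (.node 9949 (.leaf 0x76750cf5) (.leaf 0x76760801)) (.node 9951 (.leaf 0x76770c29) (.leaf 0x76780cf4)))))) (.node 9968 (.node 9960 (.node 9956 (.node 9954 (.node 9953 (.leaf 0x76790b91) (.leaf 0x767a0faa)) (.node 9955 (.leaf 0x767b0cf7) (.leaf 0x767c0edc))) (.node 9958 (.node 9957 (.leaf 0x767d0803) (.leaf 0x767e0cf6)) (.node 9959 (.leaf 0x767f0fd7) (.leaf 0x76800ce3)))) (.node 9964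 (.node 9962 (.node 9961 (.leaf 0x76810cf9) (.leaf 0x76820a69)) (.node 9963 (.leaf 0x76830804) (.leaf 0x76840cf8))) (.node 9966 (.node 9965 (.leaf 0x76850f17) (.leaf 0x76860f0f)) (.node 9967 (.leaf 0x76870cfb) (.leaf 0x76880806))))) (.node 9976 (.node 9972 (.node 9970 (.node 9969 (.leaf 0x76890a69) (.leaf 0x768a0cfa)) (.node 9971 (.leaf 0x768b1031) (.leaf 0x768c1032))) (.node 9974 (.node 9973 (.leaf 0x768d0cfd) (.leaf 0x768e0cc7)) (.node 9975 (.leaf 0x768f0807) (.leaf 0x76900cfc)))) (.node 9980 (.node 9978 (.node 9977 (.leaf 0x769110fb) (.leaf 0x76920cc9)) (.node 9979 (.leaf 0x76930cff) (.leaf 0x7694080a))) (.node 9982 (.node 9981 (.leaf 0x76950935) (.leaf 0x76960cfe)) (.node 9983 (.leaf 0x76970881) (.leaf 0x76980e7f))))))))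

/-- block of `tab` -/
def tab_39 : Tr := .node 10112 (.node 10048 (.node 10016 (.node 10000 (.node 9992 (.node 9988 (.node 9986 (.node 9985 (.leaf 0x76990d01) (.leaf 0x769a080b)) (.node 9987 (.leaf 0x769b0ee5) (.leaf 0x769c0d00))) (.node 9990 (.node 9989 (.leaf 0x769d087f) (.leaf 0x769e0f22)) (.node 9991 (.leaf 0x769f0d03) (.leaf 0x76a0080c)))) (.node 9996 (.node 9994 (.node 9993 (.leaf 0x76a10a5d) (.leaf 0x76a20d02)) (.node 9995 (.leaf 0x76a30f0b) (.leaf 0x76a4104c))) (.node 9998 (.node 9997 (.leaf 0x76a50d05) (.leaf 0x76a60e35)) (.node 9999 (.leaf 0x76a7080d) (.leaf 0x76a80d04))))) (.node 10008 (.node 10004 (.node 10002 (.node 10001 (.leaf 0x76a90e37) (.leaf 0x76aa0d09)) (.node 10003 (.leaf 0x76ab0d07) (.leaf 0x76ac0d0a))) (.node 10006 (.node 10005 (.leaf 0x76ad080e) (.leaf 0x76ae0d06)) (.node 10007 (.leaf 0x76af0cb1) (.leaf 0x76b00e5a)))) (.node 10012 (.node 10010 (.node 10009 (.leaf 0x76b10d09) (.leaf 0x76b2080f))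 (.node 10011 (.leaf 0x76b30f2f) (.leaf 0x76b40d08))) (.node 10014 (.node 10013 (.leaf 0x76b50d05) (.leaf 0x76b6110b)) (.node 10015 (.leaf 0x76b70d0b) (.leaf 0x76b8091e)))))) (.node 10032 (.node 10024 (.node 10020 (.node 10018 (.node 10017 (.leaf 0x76b90d06) (.leaf 0x76ba0d0a)) (.node 10019 (.leaf 0x76bb103d) (.leaf 0x76bc0c8f))) (.node 10022 (.node 10021 (.leaf 0x76bd0d0d) (.leaf 0x76be0ff2)) (.node 10023 (.leaf 0x76bf0813) (.leaf 0x76c00d0c)))) (.node 10028 (.node 10026 (.node 10025 (.leaf 0x76c11017) (.leaf 0x76c20a19)) (.node 10027 (.leaf 0x76c30d0f) (.leaf 0x76c40813))) (.node 10030 (.node 10029 (.leaf 0x76c50ed1) (.leaf 0x76c60d0e)) (.node 10031 (.leaf 0x76c70fa9) (.leaf 0x76c8081d))))) (.node 10040 (.node 10036 (.node 10034 (.node 10033 (.leaf 0x76c90d11) (.leaf 0x76ca0815)) (.node 10035 (.leaf 0x76cb0dc5) (.leaf 0x76cc0d10))) (.node 10038 (.node 10037 (.leaf 0x76cd0e7e) (.leaf 0x76ce0aa3)) (.node 10039 (.leaf 0x76cf0d13)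 (.leaf 0x76d00e6f)))) (.node 10044 (.node 10042 (.node 10041 (.leaf 0x76d10817) (.leaf 0x76d20d12)) (.node 10043 (.leaf 0x76d30e3d) (.leaf 0x76d40eb3))) (.node 10046 (.node 10045 (.leaf 0x76d50d15) (.leaf 0x76d60d73)) (.node 10047 (.leaf 0x76d70819) (.leaf 0x76d80d14))))))) (.node 10080 (.node 10064 (.node 10056 (.node 10052 (.node 10050 (.node 10049 (.leaf 0x76d90ca9) (.leaf 0x76da0cda)) (.node 10051 (.leaf 0x76db0d17) (.leaf 0x76dc081a))) (.node 10054 (.node 10053 (.leaf 0x76dd0d18) (.leaf 0x76de0d16)) (.node 10055 (.leaf 0x76df0dc9) (.leaf 0x76e00d3f)))) (.node 10060 (.node 10058 (.node 10057 (.leaf 0x76e10d19) (.leaf 0x76e20d16)) (.node 10059 (.leaf 0x76e30bf7) (.leaf 0x76e40d18))) (.node 10062 (.node 10061 (.leaf 0x76e50c8f) (.leaf 0x76e60e27)) (.node 10063 (.leaf 0x76e70d1b) (.leaf 0x76e8081b))))) (.node 10072 (.node 10068 (.node 10066 (.node 10065 (.leaf 0x76e91072) (.leaf 0x76ea0d1a)) (.node 10067 (.leaf 0x76eb0c87)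 (.leaf 0x76ec0d71))) (.node 10070 (.node 10069 (.leaf 0x76ed0d1d) (.leaf 0x76ee09ef)) (.node 10071 (.leaf 0x76ef081c) (.leaf 0x76f00d1c)))) (.node 10076 (.node 10074 (.node 10073 (.leaf 0x76f110be) (.leaf 0x76f20cea)) (.node 10075 (.leaf 0x76f30d1f) (.leaf 0x76f40d20))) (.node 10078 (.node 10077 (.leaf 0x76f50820) (.leaf 0x76f60d1e)) (.node 10079 (.leaf 0x76f70f42) (.leaf 0x76f80ada)))))) (.node 10096 (.node 10088 (.node 10084 (.node 10082 (.node 10081 (.leaf 0x76f90d21) (.leaf 0x76fa0ab0)) (.node 10083 (.leaf 0x76fb0d1e) (.leaf 0x76fc0d20))) (.node 10086 (.node 10085 (.leaf 0x76fd0f1a) (.leaf 0x76fe0d22)) (.node 10087 (.leaf 0x76ff0d23) (.leaf 0x77000d21)))) (.node 10092 (.node 10090 (.node 10089 (.leaf 0x77010a68) (.leaf 0x77020d22)) (.node 10091 (.leaf 0x77030f01) (.leaf 0x77040f18))) (.node 10094 (.node 10093 (.leaf 0x77050d25) (.leaf 0x77060d28)) (.node 10095 (.leaf 0x77070822) (.leaf 0x77080d24))))) (.node 10104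 (.node 10100 (.node 10098 (.node 10097 (.leaf 0x77090eea) (.leaf 0x770a0e79)) (.node 10099 (.leaf 0x770b0d27) (.leaf 0x770c0824))) (.node 10102 (.node 10101 (.leaf 0x770d0d28) (.leaf 0x770e0d26)) (.node 10103 (.leaf 0x770f1053) (.leaf 0x77100fe3)))) (.node 10108 (.node 10106 (.node 10105 (.leaf 0x77110d29) (.leaf 0x77120d26)) (.node 10107 (.leaf 0x77130d24) (.leaf 0x77140d28))) (.node 10110 (.node 10109 (.leaf 0x77150faf) (.leaf 0x77160e3e)) (.node 10111 (.leaf 0x77170d2b) (.leaf 0x77180825)))))))) (.node 10176 (.node 10144 (.node 10128 (.node 10120 (.node 10116 (.node 10114 (.node 10113 (.leaf 0x77190f0d) (.leaf 0x771a0d2a)) (.node 10115 (.leaf 0x771b0e48) (.leaf 0x771c1028))) (.node 10118 (.node 10117 (.leaf 0x771d0d2d) (.leaf 0x771e0d30)) (.node 10119 (.leaf 0x771f0826) (.leaf 0x77200d2c)))) (.node 10124 (.node 10122 (.node 10121 (.leaf 0x77210fdf) (.leaf 0x77221052)) (.node 10123 (.leaf 0x77230d2f) (.leaf 0x77240d5d)))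 (.node 10126 (.node 10125 (.leaf 0x77250827) (.leaf 0x77260d2e)) (.node 10127 (.leaf 0x7727102c) (.leaf 0x77280e54))))) (.node 10136 (.node 10132 (.node 10130 (.node 10129 (.leaf 0x77290d31) (.leaf 0x772a0c70)) (.node 10131 (.leaf 0x772b0d2c) (.leaf 0x772c0d30))) (.node 10134 (.node 10133 (.leaf 0x772d0e3c) (.leaf 0x772e0f7f)) (.node 10135 (.leaf 0x772f0d33) (.leaf 0x77300853)))) (.node 10140 (.node 10138 (.node 10137 (.leaf 0x77310893) (.leaf 0x77320d32)) (.node 10139 (.leaf 0x77331003) (.leaf 0x77341000))) (.node 10142 (.node 10141 (.leaf 0x77350d35) (.leaf 0x77360a5e)) (.node 10143 (.leaf 0x7737082d) (.leaf 0x77380d34)))))) (.node 10160 (.node 10152 (.node 10148 (.node 10146 (.node 10145 (.leaf 0x773910b0) (.leaf 0x773a099d)) (.node 10147 (.leaf 0x773b0d37) (.leaf 0x773c082d))) (.node 10150 (.node 10149 (.leaf 0x773d0a5c) (.leaf 0x773e0d36)) (.node 10151 (.leaf 0x773f0f0e) (.leaf 0x77400ca5)))) (.node 10156 (.node 10154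 (.node 10153 (.leaf 0x77410d39) (.leaf 0x77420a91)) (.node 10155 (.leaf 0x77430b47) (.leaf 0x77440d38))) (.node 10158 (.node 10157 (.leaf 0x774510ff) (.leaf 0x77461069)) (.node 10159 (.leaf 0x77470d3b) (.leaf 0x77480930))))) (.node 10168 (.node 10164 (.node 10162 (.node 10161 (.leaf 0x77490831) (.leaf 0x774a0d3a)) (.node 10163 (.leaf 0x774b0927) (.leaf 0x774c0cd9))) (.node 10166 (.node 10165 (.leaf 0x774d0d3d) (.leaf 0x774e0d3e)) (.node 10167 (.leaf 0x774f0832) (.leaf 0x77500d3c)))) (.node 10172 (.node 10170 (.node 10169 (.leaf 0x77510981) (.leaf 0x77520ca3)) (.node 10171 (.leaf 0x77530d3f) (.leaf 0x775408d6))) (.node 10174 (.node 10173 (.leaf 0x77550d3c) (.leaf 0x77560d3e)) (.node 10175 (.leaf 0x77570d17) (.leaf 0x775808cb))))))) (.node 10208 (.node 10192 (.node 10184 (.node 10180 (.node 10178 (.node 10177 (.leaf 0x77590d41) (.leaf 0x775a0833)) (.node 10179 (.leaf 0x775b08f8) (.leaf 0x775c0d40))) (.node 10182 (.node 10181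 (.leaf 0x775d0de1) (.leaf 0x775e0eb5)) (.node 10183 (.leaf 0x775f0d43) (.leaf 0x77600acf)))) (.node 10188 (.node 10186 (.node 10185 (.leaf 0x77610c15) (.leaf 0x77620d42)) (.node 10187 (.leaf 0x7763088d) (.leaf 0x7764097d))) (.node 10190 (.node 10189 (.leaf 0x77650d45) (.leaf 0x77660837)) (.node 10191 (.leaf 0x77670bfb) (.leaf 0x77680d44))))) (.node 10200 (.node 10196 (.node 10194 (.node 10193 (.leaf 0x77690c25) (.leaf 0x776a0bd9)) (.node 10195 (.leaf 0x776b0d47) (.leaf 0x776c0839))) (.node 10198 (.node 10197 (.leaf 0x776d0a73) (.leaf 0x776e0d46)) (.node 10199 (.leaf 0x776f083f) (.leaf 0x77700fec)))) (.node 10204 (.node 10202 (.node 10201 (.leaf 0x77710d49) (.leaf 0x777208e6)) (.node 10203 (.leaf 0x7773083d) (.leaf 0x77740d48))) (.node 10206 (.node 10205 (.leaf 0x777510a9) (.leaf 0x77760ccd)) (.node 10207 (.leaf 0x77770d4b) (.leaf 0x7778083d)))))) (.node 10224 (.node 10216 (.node 10212 (.node 10210 (.node 10209 (.leaf 0x777908e4)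 (.leaf 0x777a0d4a)) (.node 10211 (.leaf 0x777b0dac) (.leaf 0x777c0c49))) (.node 10214 (.node 10213 (.leaf 0x777d0d4d) (.leaf 0x777e0e6b)) (.node 10215 (.leaf 0x777f083f) (.leaf 0x77800d4c)))) (.node 10220 (.node 10218 (.node 10217 (.leaf 0x77810e1d) (.leaf 0x77820cc4)) (.node 10219 (.leaf 0x77830d4f) (.leaf 0x77840c61))) (.node 10222 (.node 10221 (.leaf 0x77850841) (.leaf 0x77860d4e)) (.node 10223 (.leaf 0x77871056) (.leaf 0x7788105b))))) (.node 10232 (.node 10228 (.node 10226 (.node 10225 (.leaf 0x77890d51) (.leaf 0x778a0842)) (.node 10227 (.leaf 0x778b0d52) (.leaf 0x778c0d50))) (.node 10230 (.node 10229 (.leaf 0x778d104f) (.leaf 0x778e0f88)) (.node 10231 (.leaf 0x778f0d53) (.leaf 0x77900d50)))) (.node 10236 (.node 10234 (.node 10233 (.leaf 0x77910b66) (.leaf 0x77920d52)) (.node 10235 (.leaf 0x77930fec) (.leaf 0x77940e6b))) (.node 10238 (.node 10237 (.leaf 0x77950d55) (.leaf 0x77960845)) (.node 10239 (.leaf 0x77970c05)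 (.leaf 0x77980d54))))))))

/-- block of `tab` -/
def tab_40 : Tr := .node 10368 (.node 10304 (.node 10272 (.node 10256 (.node 10248 (.node 10244 (.node 10242 (.node 10241 (.leaf 0x77990f3f) (.leaf 0x779a08b5)) (.node 10243 (.leaf 0x779b0d57) (.leaf 0x779c09e5))) (.node 10246 (.node 10245 (.leaf 0x779d0849) (.leaf 0x779e0d56)) (.node 10247 (.leaf 0x779f0da1) (.leaf 0x77a00a15)))) (.node 10252 (.node 10250 (.node 10249 (.leaf 0x77a10d5b) (.leaf 0x77a20d59)) (.node 10251 (.leaf 0x77a3084b) (.leaf 0x77a40d5a))) (.node 10254 (.node 10253 (.leaf 0x77a50c97) (.leaf 0x77a60d58)) (.node 10255 (.leaf 0x77a70d59) (.leaf 0x77a80f76))))) (.node 10264 (.node 10260 (.node 10258 (.node 10257 (.leaf 0x77a90f06) (.leaf 0x77aa0d58)) (.node 10259 (.leaf 0x77ab1110) (.leaf 0x77ac1114))) (.node 10262 (.node 10261 (.leaf 0x77ad0d5d) (.leaf 0x77ae0edd)) (.node 10263 (.leaf 0x77af084d) (.leaf 0x77b00d5c)))) (.node 10268 (.node 10266 (.node 10265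 (.leaf 0x77b10d75) (.leaf 0x77b20d2e)) (.node 10267 (.leaf 0x77b30d5f) (.leaf 0x77b4084d))) (.node 10270 (.node 10269 (.leaf 0x77b50f7d) (.leaf 0x77b60d5e)) (.node 10271 (.leaf 0x77b70cab) (.leaf 0x77b8111c)))))) (.node 10288 (.node 10280 (.node 10276 (.node 10274 (.node 10273 (.leaf 0x77b90d61) (.leaf 0x77ba084f)) (.node 10275 (.leaf 0x77bb0d80) (.leaf 0x77bc0d60))) (.node 10278 (.node 10277 (.leaf 0x77bd1098) (.leaf 0x77be0b01)) (.node 10279 (.leaf 0x77bf0d63) (.leaf 0x77c00890)))) (.node 10284 (.node 10282 (.node 10281 (.leaf 0x77c10851) (.leaf 0x77c20d62)) (.node 10283 (.leaf 0x77c3103c) (.leaf 0x77c4103b))) (.node 10286 (.node 10285 (.leaf 0x77c50d65) (.leaf 0x77c60d68)) (.node 10287 (.leaf 0x77c70854) (.leaf 0x77c80d64))))) (.node 10296 (.node 10292 (.node 10290 (.node 10289 (.leaf 0x77c90cc1) (.leaf 0x77ca0c3b)) (.node 10291 (.leaf 0x77cb0d67) (.leaf 0x77cc0856))) (.node 10294 (.node 10293 (.leaf 0x77cd0d68) (.leaf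 0x77ce0d66)) (.node 10295 (.leaf 0x77cf10ac) (.leaf 0x77d00cef)))) (.node 10300 (.node 10298 (.node 10297 (.leaf 0x77d10d69) (.leaf 0x77d20d66)) (.node 10299 (.leaf 0x77d30d64) (.leaf 0x77d40d68))) (.node 10302 (.node 10301 (.leaf 0x77d50f9f) (.leaf 0x77d60f41)) (.node 10303 (.leaf 0x77d70d6b) (.leaf 0x77d8103a))))))) (.node 10336 (.node 10320 (.node 10312 (.node 10308 (.node 10306 (.node 10305 (.leaf 0x77d90857) (.leaf 0x77da0d6a)) (.node 10307 (.leaf 0x77db0e21) (.leaf 0x77dc0ffe))) (.node 10310 (.node 10309 (.leaf 0x77dd0d6d) (.leaf 0x77de0929)) (.node 10311 (.leaf 0x77df085a) (.leaf 0x77e00d6c)))) (.node 10316 (.node 10314 (.node 10313 (.leaf 0x77e1092b) (.leaf 0x77e210b3)) (.node 10315 (.leaf 0x77e30d6f) (.leaf 0x77e4085b))) (.node 10318 (.node 10317 (.leaf 0x77e50933) (.leaf 0x77e60d6e)) (.node 10319 (.leaf 0x77e70dc2) (.leaf 0x77e808b2))))) (.node 10328 (.node 10324 (.node 10322 (.node 10321 (.leaf 0x77e90d71) (.leaf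 0x77ea085c)) (.node 10323 (.leaf 0x77eb0929) (.leaf 0x77ec0d70))) (.node 10326 (.node 10325 (.leaf 0x77ed0d1b) (.leaf 0x77ee0ff1)) (.node 10327 (.leaf 0x77ef0d73) (.leaf 0x77f00fd5)))) (.node 10332 (.node 10330 (.node 10329 (.leaf 0x77f1085f) (.leaf 0x77f20d72)) (.node 10331 (.leaf 0x77f30f0d) (.leaf 0x77f40d14))) (.node 10334 (.node 10333 (.leaf 0x77f50d75) (.leaf 0x77f60861)) (.node 10335 (.leaf 0x77f70fd3) (.leaf 0x77f80d74)))))) (.node 10352 (.node 10344 (.node 10340 (.node 10338 (.node 10337 (.leaf 0x77f90ca8) (.leaf 0x77fa0d5d)) (.node 10339 (.leaf 0x77fb0d77) (.leaf 0x77fc0863))) (.node 10342 (.node 10341 (.leaf 0x77fd0f3f) (.leaf 0x77fe0d76)) (.node 10343 (.leaf 0x77ff0cbf) (.leaf 0x78001125)))) (.node 10348 (.node 10346 (.node 10345 (.leaf 0x78010d79) (.leaf 0x78020dca)) (.node 10347 (.leaf 0x78030867) (.leaf 0x78040d78))) (.node 10350 (.node 10349 (.leaf 0x78050fd8) (.leaf 0x78060c71)) (.node 10351 (.leaf 0x78070d7b)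 (.leaf 0x78080c9f))))) (.node 10360 (.node 10356 (.node 10354 (.node 10353 (.leaf 0x7809086a) (.leaf 0x780a0d7a)) (.node 10355 (.leaf 0x780b0e82) (.leaf 0x780c10af))) (.node 10358 (.node 10357 (.leaf 0x780d0d7d) (.leaf 0x780e0c7c)) (.node 10359 (.leaf 0x780f0cc1) (.leaf 0x78100d7c)))) (.node 10364 (.node 10362 (.node 10361 (.leaf 0x78110c6b) (.leaf 0x781210e1)) (.node 10363 (.leaf 0x78130d7f) (.leaf 0x78140d80))) (.node 10366 (.node 10365 (.leaf 0x7815086e) (.leaf 0x78160d7e)) (.node 10367 (.leaf 0x78171109) (.leaf 0x7818112c)))))))) (.node 10432 (.node 10400 (.node 10384 (.node 10376 (.node 10372 (.node 10370 (.node 10369 (.leaf 0x78190d81) (.leaf 0x781a0d60)) (.node 10371 (.leaf 0x781b0d7e) (.leaf 0x781c0d80))) (.node 10374 (.node 10373 (.leaf 0x781d0f4d) (.leaf 0x781e0b75)) (.node 10375 (.leaf 0x781f0d83) (.leaf 0x78200e73)))) (.node 10380 (.node 10378 (.node 10377 (.leaf 0x7821086f) (.leaf 0x78220d82)) (.node 10379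 (.leaf 0x78230b55) (.leaf 0x78240fc2))) (.node 10382 (.node 10381 (.leaf 0x78250d85) (.leaf 0x78260d86)) (.node 10383 (.leaf 0x78270870) (.leaf 0x78280d84))))) (.node 10392 (.node 10388 (.node 10386 (.node 10385 (.leaf 0x78290c51) (.leaf 0x782a0fff)) (.node 10387 (.leaf 0x782b0d87) (.leaf 0x782c0925))) (.node 10390 (.node 10389 (.leaf 0x782d0d84) (.leaf 0x782e0d86)) (.node 10391 (.leaf 0x782f0ffe) (.leaf 0x78300ec5)))) (.node 10396 (.node 10394 (.node 10393 (.leaf 0x78310d89) (.leaf 0x78321130)) (.node 10395 (.leaf 0x78330873) (.leaf 0x78340d88))) (.node 10398 (.node 10397 (.leaf 0x78351134) (.leaf 0x78360e39)) (.node 10399 (.leaf 0x78370d8b) (.leaf 0x78380875)))))) (.node 10416 (.node 10408 (.node 10404 (.node 10402 (.node 10401 (.leaf 0x78390ea9) (.leaf 0x783a0d8a)) (.node 10403 (.leaf 0x783b1066) (.leaf 0x783c1061))) (.node 10406 (.node 10405 (.leaf 0x783d0d8d) (.leaf 0x783e0e8b)) (.node 10407 (.leaf 0x783f0877) (.leaf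 0x78400d8c)))) (.node 10412 (.node 10410 (.node 10409 (.leaf 0x78411060) (.leaf 0x784209eb)) (.node 10411 (.leaf 0x78430d8f) (.leaf 0x78440877))) (.node 10414 (.node 10413 (.leaf 0x7845102d) (.leaf 0x78460d8e)) (.node 10415 (.leaf 0x78470cad) (.leaf 0x78481136))))) (.node 10424 (.node 10420 (.node 10418 (.node 10417 (.leaf 0x78490d91) (.leaf 0x784a0bc1)) (.node 10419 (.leaf 0x784b087d) (.leaf 0x784c0d90))) (.node 10422 (.node 10421 (.leaf 0x784d1097) (.leaf 0x784e0acd)) (.node 10423 (.leaf 0x784f0d93) (.leaf 0x78500f24)))) (.node 10428 (.node 10426 (.node 10425 (.leaf 0x7851087f) (.leaf 0x78520d92)) (.node 10427 (.leaf 0x78531069) (.leaf 0x78540f79))) (.node 10430 (.node 10429 (.leaf 0x78550d95) (.leaf 0x7856091f)) (.node 10431 (.leaf 0x78570881) (.leaf 0x78580d94))))))) (.node 10464 (.node 10448 (.node 10440 (.node 10436 (.node 10434 (.node 10433 (.leaf 0x78590891) (.leaf 0x785a097b)) (.node 10435 (.leaf 0x785b0d97) (.leaf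 0x785c0e0c))) (.node 10438 (.node 10437 (.leaf 0x785d0883) (.leaf 0x785e0d96)) (.node 10439 (.leaf 0x785f10d1) (.leaf 0x78601037)))) (.node 10444 (.node 10442 (.node 10441 (.leaf 0x78610d99) (.leaf 0x78620888)) (.node 10443 (.leaf 0x7863113e) (.leaf 0x78640d98))) (.node 10446 (.node 10445 (.leaf 0x78651033) (.leaf 0x78660d9b)) (.node 10447 (.leaf 0x78670d9b) (.leaf 0x7868113f))))) (.node 10456 (.node 10452 (.node 10450 (.node 10449 (.leaf 0x78690889) (.leaf 0x786a0d9a)) (.node 10451 (.leaf 0x786b0d99) (.leaf 0x786c1038))) (.node 10454 (.node 10453 (.leaf 0x786d0d9d) (.leaf 0x786e088f)) (.node 10455 (.leaf 0x786f08de) (.leaf 0x78700d9c)))) (.node 10460 (.node 10458 (.node 10457 (.leaf 0x78710e5f) (.leaf 0x78720f65)) (.node 10459 (.leaf 0x78730d9f) (.leaf 0x78740cd5))) (.node 10462 (.node 10461 (.leaf 0x78750897) (.leaf 0x78760d9e)) (.node 10463 (.leaf 0x78770a71) (.leaf 0x78780932)))))) (.node 10480 (.node 10472 (.node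 10468 (.node 10466 (.node 10465 (.leaf 0x78790da1) (.leaf 0x787a08c0)) (.node 10467 (.leaf 0x787b0cce) (.leaf 0x787c0da0))) (.node 10470 (.node 10469 (.leaf 0x787d0a15) (.leaf 0x787e0d57)) (.node 10471 (.leaf 0x787f0da3) (.leaf 0x78800899)))) (.node 10476 (.node 10474 (.node 10473 (.leaf 0x78810e52) (.leaf 0x78820da2)) (.node 10475 (.leaf 0x78830e8d) (.leaf 0x7884100e))) (.node 10478 (.node 10477 (.leaf 0x78850da5) (.leaf 0x7886089a)) (.node 10479 (.leaf 0x78870da6) (.leaf 0x78880da4))))) (.node 10488 (.node 10484 (.node 10482 (.node 10481 (.leaf 0x78890f5a) (.leaf 0x788a0e2b)) (.node 10483 (.leaf 0x788b0da7) (.leaf 0x788c0da4))) (.node 10486 (.node 10485 (.leaf 0x788d0bc9) (.leaf 0x788e0da6)) (.node 10487 (.leaf 0x788f0f96) (.leaf 0x78900f47)))) (.node 10492 (.node 10490 (.node 10489 (.leaf 0x78910da9) (.leaf 0x7892089b)) (.node 10491 (.leaf 0x78930f9e) (.leaf 0x78940da8))) (.node 10494 (.node 10493 (.leaf 0x78950c1b)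 (.leaf 0x78960bd7)) (.node 10495 (.leaf 0x78970dab) (.leaf 0x78980de3))))))))

/-- block of `tab` -/
def tab_41 : Tr := .node 10624 (.node 10560 (.node 10528 (.node 10512 (.node 10504 (.node 10500 (.node 10498 (.node 10497 (.leaf 0x7899089f) (.leaf 0x789a0daa)) (.node 10499 (.leaf 0x789b0c77) (.leaf 0x789c0f8b))) (.node 10502 (.node 10501 (.leaf 0x789d0dad) (.leaf 0x789e089f)) (.node 10503 (.leaf 0x789f0d4b) (.leaf 0x78a00dac)))) (.node 10508 (.node 10506 (.node 10505 (.leaf 0x78a10e43) (.leaf 0x78a20b8b)) (.node 10507 (.leaf 0x78a30daf) (.leaf 0x78a408a1))) (.node 10510 (.node 10509 (.leaf 0x78a50dc2) (.leaf 0x78a60dae)) (.node 10511 (.leaf 0x78a70e42) (.leaf 0x78a80949))))) (.node 10520 (.node 10516 (.node 10514 (.node 10513 (.leaf 0x78a90db1) (.leaf 0x78aa08a2)) (.node 10515 (.leaf 0x78ab0db2) (.leaf 0x78ac0db0))) (.node 10518 (.node 10517 (.leaf 0x78ad10a7) (.leaf 0x78ae10a8)) (.node 10519 (.leaf 0x78af0db3) (.leaf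 0x78b00db0)))) (.node 10524 (.node 10522 (.node 10521 (.leaf 0x78b109e9) (.leaf 0x78b20db2)) (.node 10523 (.leaf 0x78b309e3) (.leaf 0x78b410a2))) (.node 10526 (.node 10525 (.leaf 0x78b50db5) (.leaf 0x78b60eb5)) (.node 10527 (.leaf 0x78b708a5) (.leaf 0x78b80db4)))))) (.node 10544 (.node 10536 (.node 10532 (.node 10530 (.node 10529 (.leaf 0x78b90b37) (.leaf 0x78ba0e4b)) (.node 10531 (.leaf 0x78bb0db7) (.leaf 0x78bc08a5))) (.node 10534 (.node 10533 (.leaf 0x78bd0de1) (.leaf 0x78be0db6)) (.node 10535 (.leaf 0x78bf0fb7) (.leaf 0x78c00c79)))) (.node 10540 (.node 10538 (.node 10537 (.leaf 0x78c10db9) (.leaf 0x78c20c81)) (.node 10539 (.leaf 0x78c308a8) (.leaf 0x78c40db8))) (.node 10542 (.node 10541 (.leaf 0x78c510aa) (.leaf 0x78c610a5)) (.node 10543 (.leaf 0x78c70dbb) (.leaf 0x78c80e19))))) (.node 10552 (.node 10548 (.node 10546 (.node 10545 (.leaf 0x78c908ab) (.leaf 0x78ca0dba)) (.node 10547 (.leaf 0x78cb093f) (.leaf 0x78cc0e4a)))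 (.node 10550 (.node 10549 (.leaf 0x78cd0dbd) (.leaf 0x78ce08ac)) (.node 10551 (.leaf 0x78cf0dbe) (.leaf 0x78d00dbc)))) (.node 10556 (.node 10554 (.node 10553 (.leaf 0x78d10ff1) (.leaf 0x78d209db)) (.node 10555 (.leaf 0x78d30dbf) (.leaf 0x78d40dbc))) (.node 10558 (.node 10557 (.leaf 0x78d509fb) (.leaf 0x78d60dbe)) (.node 10559 (.leaf 0x78d70917) (.leaf 0x78d80e0a))))))) (.node 10592 (.node 10576 (.node 10568 (.node 10564 (.node 10562 (.node 10561 (.leaf 0x78d90dc1) (.leaf 0x78da09f7)) (.node 10563 (.leaf 0x78db0c8b) (.leaf 0x78dc0dc0))) (.node 10566 (.node 10565 (.leaf 0x78dd0e90) (.leaf 0x78de09af)) (.node 10567 (.leaf 0x78df0dc3) (.leaf 0x78e00dae)))) (.node 10572 (.node 10570 (.node 10569 (.leaf 0x78e10d6f) (.leaf 0x78e20dc2)) (.node 10571 (.leaf 0x78e308bd) (.leaf 0x78e40b99))) (.node 10574 (.node 10573 (.leaf 0x78e50dc5) (.leaf 0x78e60c91)) (.node 10575 (.leaf 0x78e708b7) (.leaf 0x78e80dc4))))) (.node 10584 (.node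 10580 (.node 10578 (.node 10577 (.leaf 0x78e90d10) (.leaf 0x78ea08ed)) (.node 10579 (.leaf 0x78eb0dc7) (.leaf 0x78ec0939))) (.node 10582 (.node 10581 (.leaf 0x78ed08b9) (.leaf 0x78ee0dc6)) (.node 10583 (.leaf 0x78ef0f29) (.leaf 0x78f00f25)))) (.node 10588 (.node 10586 (.node 10585 (.leaf 0x78f10dc9) (.leaf 0x78f208b9)) (.node 10587 (.leaf 0x78f30c99) (.leaf 0x78f40dc8))) (.node 10590 (.node 10589 (.leaf 0x78f50a7f) (.leaf 0x78f60d17)) (.node 10591 (.leaf 0x78f70dcb) (.leaf 0x78f808ba)))))) (.node 10608 (.node 10600 (.node 10596 (.node 10594 (.node 10593 (.leaf 0x78f90d78) (.leaf 0x78fa0dca)) (.node 10595 (.leaf 0x78fb0b4b) (.leaf 0x78fc0b78))) (.node 10598 (.node 10597 (.leaf 0x78fd0dcd) (.leaf 0x78fe08bb)) (.node 10599 (.leaf 0x78ff0bcb) (.leaf 0x79000dcc)))) (.node 10604 (.node 10602 (.node 10601 (.leaf 0x79010af4) (.leaf 0x79020f44)) (.node 10603 (.leaf 0x79030dcf) (.leaf 0x79040fae))) (.node 10606 (.node 10605 (.leaf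 0x790508bd) (.leaf 0x79060dce)) (.node 10607 (.leaf 0x79070fea) (.leaf 0x79080a9f))))) (.node 10616 (.node 10612 (.node 10610 (.node 10609 (.leaf 0x79090dd1) (.leaf 0x790a08c4)) (.node 10611 (.leaf 0x790b0b04) (.leaf 0x790c0dd0))) (.node 10614 (.node 10613 (.leaf 0x790d1150) (.leaf 0x790e1145)) (.node 10615 (.leaf 0x790f0dd3) (.leaf 0x79100921)))) (.node 10620 (.node 10618 (.node 10617 (.leaf 0x791108c6) (.leaf 0x79120dd2)) (.node 10619 (.leaf 0x7913103b) (.leaf 0x79141046))) (.node 10622 (.node 10621 (.leaf 0x79150dd5) (.leaf 0x79160aaf)) (.node 10623 (.leaf 0x791708c8) (.leaf 0x79180dd4)))))))) (.node 10688 (.node 10656 (.node 10640 (.node 10632 (.node 10628 (.node 10626 (.node 10625 (.leaf 0x79190ff9) (.leaf 0x791a0c5b)) (.node 10627 (.leaf 0x791b0dd7) (.leaf 0x791c0bcf))) (.node 10630 (.node 10629 (.leaf 0x791d08cd) (.leaf 0x791e0dd6)) (.node 10631 (.leaf 0x791f0b76) (.leaf 0x79200aa5)))) (.node 10636 (.node 10634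 (.node 10633 (.leaf 0x79210dd9) (.leaf 0x792208d0)) (.node 10635 (.leaf 0x79230be7) (.leaf 0x79240dd8))) (.node 10638 (.node 10637 (.leaf 0x79250faa) (.leaf 0x79260fac)) (.node 10639 (.leaf 0x79270ddb) (.leaf 0x79280ad7))))) (.node 10648 (.node 10644 (.node 10642 (.node 10641 (.leaf 0x792908d1) (.leaf 0x792a0dda)) (.node 10643 (.leaf 0x792b0b2d) (.leaf 0x792c08d5))) (.node 10646 (.node 10645 (.leaf 0x792d0ddd) (.leaf 0x792e08d1)) (.node 10647 (.leaf 0x792f0e9a) (.leaf 0x79300ddc)))) (.node 10652 (.node 10650 (.node 10649 (.leaf 0x7931104b) (.leaf 0x79320fb6)) (.node 10651 (.leaf 0x79330ddf) (.leaf 0x793408d5))) (.node 10654 (.node 10653 (.leaf 0x79350c1c) (.leaf 0x79360dde)) (.node 10655 (.leaf 0x79370f14) (.leaf 0x79380f85)))))) (.node 10672 (.node 10664 (.node 10660 (.node 10658 (.node 10657 (.leaf 0x79390de1) (.leaf 0x793a0de2)) (.node 10659 (.leaf 0x793b08d9) (.leaf 0x793c0de0))) (.node 10662 (.node 10661 (.leaf 0x793d0db6)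 (.leaf 0x793e0d41)) (.node 10663 (.leaf 0x793f0de3) (.leaf 0x794008d9)))) (.node 10668 (.node 10666 (.node 10665 (.leaf 0x79410de0) (.leaf 0x79420de2)) (.node 10667 (.leaf 0x79430c49) (.leaf 0x79440daa))) (.node 10670 (.node 10669 (.leaf 0x79450de5) (.leaf 0x794608da)) (.node 10671 (.leaf 0x79470986) (.leaf 0x79480de4))))) (.node 10680 (.node 10676 (.node 10674 (.node 10673 (.leaf 0x79490e6a) (.leaf 0x794a0e6c)) (.node 10675 (.leaf 0x794b0de7) (.leaf 0x794c08df))) (.node 10678 (.node 10677 (.leaf 0x794d0e99) (.leaf 0x794e0de6)) (.node 10679 (.leaf 0x794f0b1c) (.leaf 0x79500c43)))) (.node 10684 (.node 10682 (.node 10681 (.leaf 0x79510de9) (.leaf 0x795208e5)) (.node 10683 (.leaf 0x79531055) (.leaf 0x79540de8))) (.node 10686 (.node 10685 (.leaf 0x7955095b) (.leaf 0x79560e03)) (.node 10687 (.leaf 0x79570deb) (.leaf 0x795808ef))))))) (.node 10720 (.node 10704 (.node 10696 (.node 10692 (.node 10690 (.node 10689 (.leaf 0x7959092a)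 (.leaf 0x795a0dea)) (.node 10691 (.leaf 0x795b0ff8) (.leaf 0x795c0bdb))) (.node 10694 (.node 10693 (.leaf 0x795d0ded) (.leaf 0x795e0b27)) (.node 10695 (.leaf 0x795f08f1) (.leaf 0x79600dec)))) (.node 10700 (.node 10698 (.node 10697 (.leaf 0x79610f8d) (.leaf 0x7962106f)) (.node 10699 (.leaf 0x79630def) (.leaf 0x796408f7))) (.node 10702 (.node 10701 (.leaf 0x79650b25) (.leaf 0x79660dee)) (.node 10703 (.leaf 0x7967106a) (.leaf 0x79680f9f))))) (.node 10712 (.node 10708 (.node 10706 (.node 10705 (.leaf 0x79690df1) (.leaf 0x796a08f9)) (.node 10707 (.leaf 0x796b0ecc) (.leaf 0x796c0df0))) (.node 10710 (.node 10709 (.leaf 0x796d0903) (.leaf 0x796e0c47)) (.node 10711 (.leaf 0x796f0df3) (.leaf 0x79700eb0)))) (.node 10716 (.node 10714 (.node 10713 (.leaf 0x797108fb) (.leaf 0x79720df2)) (.node 10715 (.leaf 0x79730934) (.leaf 0x79740a71))) (.node 10718 (.node 10717 (.leaf 0x79750df5) (.leaf 0x79760cf1)) (.node 10719 (.leaf 0x797708fd)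 (.leaf 0x79780df4)))))) (.node 10736 (.node 10728 (.node 10724 (.node 10722 (.node 10721 (.leaf 0x79790f9e) (.leaf 0x797a0e84)) (.node 10723 (.leaf 0x797b0df7) (.leaf 0x797c08ff))) (.node 10726 (.node 10725 (.leaf 0x797d0e66) (.leaf 0x797e0df6)) (.node 10727 (.leaf 0x797f0f63) (.leaf 0x79801075)))) (.node 10732 (.node 10730 (.node 10729 (.leaf 0x79810df9) (.leaf 0x79820b59)) (.node 10731 (.leaf 0x79830902) (.leaf 0x79840df8))) (.node 10734 (.node 10733 (.leaf 0x79850f85) (.leaf 0x79860b1b)) (.node 10735 (.leaf 0x79870dfb) (.leaf 0x79880e9e))))) (.node 10744 (.node 10740 (.node 10738 (.node 10737 (.leaf 0x79890903) (.leaf 0x798a0dfa)) (.node 10739 (.leaf 0x798b107e) (.leaf 0x798c0c4e))) (.node 10742 (.node 10741 (.leaf 0x798d0dfd) (.leaf 0x798e0e89)) (.node 10743 (.leaf 0x798f0905) (.leaf 0x79900dfc)))) (.node 10748 (.node 10746 (.node 10745 (.leaf 0x79910fc0) (.leaf 0x79920e85)) (.node 10747 (.leaf 0x79930dff) (.leaf 0x79940b5d)))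 (.node 10750 (.node 10749 (.leaf 0x79950906) (.leaf 0x79960dfe)) (.node 10751 (.leaf 0x79970e31) (.leaf 0x79981106))))))))

/-- block of `tab` -/
def tab_42 : Tr := .node 10880 (.node 10816 (.node 10784 (.node 10768 (.node 10760 (.node 10756 (.node 10754 (.node 10753 (.leaf 0x79990e01) (.leaf 0x799a1014)) (.node 10755 (.leaf 0x799b0907) (.leaf 0x799c0e00))) (.node 10758 (.node 10757 (.leaf 0x799d09fd) (.leaf 0x799e1015)) (.node 10759 (.leaf 0x799f0e03) (.leaf 0x79a01028)))) (.node 10764 (.node 10762 (.node 10761 (.leaf 0x79a10909) (.leaf 0x79a20e02)) (.node 10763 (.leaf 0x79a30de9) (.leaf 0x79a40e09))) (.node 10766 (.node 10765 (.leaf 0x79a50e05) (.leaf 0x79a60a81)) (.node 10767 (.leaf 0x79a70914) (.leaf 0x79a80e04))))) (.node 10776 (.node 10772 (.node 10770 (.node 10769 (.leaf 0x79a90fe4) (.leaf 0x79aa0c17)) (.node 10771 (.leaf 0x79ab0e07) (.leaf 0x79ac0c20))) (.node 10774 (.node 10773 (.leaf 0x79ad0915) (.leaf 0x79ae0e06))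 (.node 10775 (.leaf 0x79af0b56) (.leaf 0x79b00bc1)))) (.node 10780 (.node 10778 (.node 10777 (.leaf 0x79b10e09) (.leaf 0x79b20915)) (.node 10779 (.leaf 0x79b30c1e) (.leaf 0x79b40e08))) (.node 10782 (.node 10781 (.leaf 0x79b50e03) (.leaf 0x79b6102a)) (.node 10783 (.leaf 0x79b70e0b) (.leaf 0x79b80dbf)))))) (.node 10800 (.node 10792 (.node 10788 (.node 10786 (.node 10785 (.leaf 0x79b90adb) (.leaf 0x79ba0e0a)) (.node 10787 (.leaf 0x79bb0eb9) (.leaf 0x79bc0aba))) (.node 10790 (.node 10789 (.leaf 0x79bd0e0d) (.leaf 0x79be0919)) (.node 10791 (.leaf 0x79bf0d96) (.leaf 0x79c00e0c)))) (.node 10796 (.node 10794 (.node 10793 (.leaf 0x79c11032) (.leaf 0x79c210cc)) (.node 10795 (.leaf 0x79c30e0f) (.leaf 0x79c4091b))) (.node 10798 (.node 10797 (.leaf 0x79c50f28) (.leaf 0x79c60e0e)) (.node 10799 (.leaf 0x79c70f45) (.leaf 0x79c8105e))))) (.node 10808 (.node 10804 (.node 10802 (.node 10801 (.leaf 0x79c90e11) (.leaf 0x79ca0f1b)) (.node 10803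 (.leaf 0x79cb092b) (.leaf 0x79cc0e10))) (.node 10806 (.node 10805 (.leaf 0x79cd0b93) (.leaf 0x79ce0fa8)) (.node 10807 (.leaf 0x79cf0e13) (.leaf 0x79d00e80)))) (.node 10812 (.node 10810 (.node 10809 (.leaf 0x79d1092d) (.leaf 0x79d20e12)) (.node 10811 (.leaf 0x79d30f23) (.leaf 0x79d40e59))) (.node 10814 (.node 10813 (.leaf 0x79d50e15) (.leaf 0x79d60931)) (.node 10815 (.leaf 0x79d70a5f) (.leaf 0x79d80e14))))))) (.node 10848 (.node 10832 (.node 10824 (.node 10820 (.node 10818 (.node 10817 (.leaf 0x79d90a18) (.leaf 0x79da0e19)) (.node 10819 (.leaf 0x79db0e17) (.leaf 0x79dc0c99))) (.node 10822 (.node 10821 (.leaf 0x79dd0939) (.leaf 0x79de0e16)) (.node 10823 (.leaf 0x79df0ca3) (.leaf 0x79e00b65)))) (.node 10828 (.node 10826 (.node 10825 (.leaf 0x79e10e19) (.leaf 0x79e20b3d)) (.node 10827 (.leaf 0x79e3093b) (.leaf 0x79e40e18))) (.node 10830 (.node 10829 (.leaf 0x79e50e15) (.leaf 0x79e60dba)) (.node 10831 (.leaf 0x79e70e1b) (.leaf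 0x79e8093b))))) (.node 10840 (.node 10836 (.node 10834 (.node 10833 (.leaf 0x79e90f7e) (.leaf 0x79ea0e1a)) (.node 10835 (.leaf 0x79eb0b81) (.leaf 0x79ec0fea))) (.node 10838 (.node 10837 (.leaf 0x79ed0e1d) (.leaf 0x79ee0eeb)) (.node 10839 (.leaf 0x79ef093e) (.leaf 0x79f00e1c)))) (.node 10844 (.node 10842 (.node 10841 (.leaf 0x79f10ccc) (.leaf 0x79f20d4d)) (.node 10843 (.leaf 0x79f30e1f) (.leaf 0x79f40941))) (.node 10846 (.node 10845 (.leaf 0x79f51006) (.leaf 0x79f60e1e)) (.node 10847 (.leaf 0x79f71005) (.leaf 0x79f80ca7)))))) (.node 10864 (.node 10856 (.node 10852 (.node 10850 (.node 10849 (.leaf 0x79f90e21) (.leaf 0x79fa0fab)) (.node 10851 (.leaf 0x79fb0943) (.leaf 0x79fc0e20))) (.node 10854 (.node 10853 (.leaf 0x79fd104a) (.leaf 0x79fe0d6b)) (.node 10855 (.leaf 0x79ff0e23) (.leaf 0x7a000e24)))) (.node 10860 (.node 10858 (.node 10857 (.leaf 0x7a010945) (.leaf 0x7a020e22)) (.node 10859 (.leaf 0x7a030f22) (.leaf 0x7a040f24)))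 (.node 10862 (.node 10861 (.leaf 0x7a050e25) (.leaf 0x7a060945)) (.node 10863 (.leaf 0x7a070e22) (.leaf 0x7a080e24))))) (.node 10872 (.node 10868 (.node 10866 (.node 10865 (.leaf 0x7a090f28) (.leaf 0x7a0a0f26)) (.node 10867 (.leaf 0x7a0b0e27) (.leaf 0x7a0c1009))) (.node 10870 (.node 10869 (.leaf 0x7a0d0947) (.leaf 0x7a0e0e26)) (.node 10871 (.leaf 0x7a0f0d19) (.leaf 0x7a10103e)))) (.node 10876 (.node 10874 (.node 10873 (.leaf 0x7a110e29) (.leaf 0x7a120ac5)) (.node 10875 (.leaf 0x7a13094d) (.leaf 0x7a140e28))) (.node 10878 (.node 10877 (.leaf 0x7a150a17) (.leaf 0x7a160f3d)) (.node 10879 (.leaf 0x7a170e2b) (.leaf 0x7a180e2e)))))))) (.node 10944 (.node 10912 (.node 10896 (.node 10888 (.node 10884 (.node 10882 (.node 10881 (.leaf 0x7a19094e) (.leaf 0x7a1a0e2a)) (.node 10883 (.leaf 0x7a1b0da5) (.leaf 0x7a1c0f6b))) (.node 10886 (.node 10885 (.leaf 0x7a1d0e2d) (.leaf 0x7a1e0f8c)) (.node 10887 (.leaf 0x7a1f094f) (.leaf 0x7a200e2c))))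 (.node 10892 (.node 10890 (.node 10889 (.leaf 0x7a210bd7) (.leaf 0x7a220ec1)) (.node 10891 (.leaf 0x7a230e2f) (.leaf 0x7a240afd))) (.node 10894 (.node 10893 (.leaf 0x7a250e2a) (.leaf 0x7a260e2e)) (.node 10895 (.leaf 0x7a270f6d) (.leaf 0x7a280f9d))))) (.node 10904 (.node 10900 (.node 10898 (.node 10897 (.leaf 0x7a290e31) (.leaf 0x7a2a0c59)) (.node 10899 (.leaf 0x7a2b0951) (.leaf 0x7a2c0e30))) (.node 10902 (.node 10901 (.leaf 0x7a2d1026) (.leaf 0x7a2e0dff)) (.node 10903 (.leaf 0x7a2f0e33) (.leaf 0x7a300955)))) (.node 10908 (.node 10906 (.node 10905 (.leaf 0x7a310b23) (.leaf 0x7a320e32)) (.node 10907 (.leaf 0x7a330acd) (.leaf 0x7a341096))) (.node 10910 (.node 10909 (.leaf 0x7a350e35) (.leaf 0x7a3609a3)) (.node 10911 (.leaf 0x7a370957) (.leaf 0x7a380e34)))))) (.node 10928 (.node 10920 (.node 10916 (.node 10914 (.node 10913 (.leaf 0x7a390f05) (.leaf 0x7a3a0d04)) (.node 10915 (.leaf 0x7a3b0e37) (.leaf 0x7a3c102a))) (.node 10918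 (.node 10917 (.leaf 0x7a3d095b) (.leaf 0x7a3e0e36)) (.node 10919 (.leaf 0x7a3f113b) (.leaf 0x7a400d05)))) (.node 10924 (.node 10922 (.node 10921 (.leaf 0x7a410e39) (.leaf 0x7a42095d)) (.node 10923 (.leaf 0x7a431133) (.leaf 0x7a440e38))) (.node 10926 (.node 10925 (.leaf 0x7a450d89) (.leaf 0x7a46114f)) (.node 10927 (.leaf 0x7a470e3b) (.leaf 0x7a480b9b))))) (.node 10936 (.node 10932 (.node 10930 (.node 10929 (.leaf 0x7a49095f) (.leaf 0x7a4a0e3a)) (.node 10931 (.leaf 0x7a4b0a89) (.leaf 0x7a4c0f68))) (.node 10934 (.node 10933 (.leaf 0x7a4d0e3d) (.leaf 0x7a4e0a95)) (.node 10935 (.leaf 0x7a4f0d31) (.leaf 0x7a500e3c)))) (.node 10940 (.node 10938 (.node 10937 (.leaf 0x7a5110fe) (.leaf 0x7a520d13)) (.node 10939 (.leaf 0x7a530e3f) (.leaf 0x7a540d29))) (.node 10942 (.node 10941 (.leaf 0x7a550b73) (.leaf 0x7a560e3e)) (.node 10943 (.leaf 0x7a570ccd) (.leaf 0x7a5810ea))))))) (.node 10976 (.node 10960 (.node 10952 (.node 10948 (.node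 10946 (.node 10945 (.leaf 0x7a590e41) (.leaf 0x7a5a0961)) (.node 10947 (.leaf 0x7a5b0b4b) (.leaf 0x7a5c0e40))) (.node 10950 (.node 10949 (.leaf 0x7a5d0fce) (.leaf 0x7a5e0b85)) (.node 10951 (.leaf 0x7a5f0e43) (.leaf 0x7a600964)))) (.node 10956 (.node 10954 (.node 10953 (.leaf 0x7a610daf) (.leaf 0x7a620e42)) (.node 10955 (.leaf 0x7a630fe5) (.leaf 0x7a640dad))) (.node 10958 (.node 10957 (.leaf 0x7a650e45) (.leaf 0x7a661015)) (.node 10959 (.leaf 0x7a670969) (.leaf 0x7a680e44))))) (.node 10968 (.node 10964 (.node 10962 (.node 10961 (.leaf 0x7a690f77) (.leaf 0x7a6a0e51)) (.node 10963 (.leaf 0x7a6b0e47) (.leaf 0x7a6c0969))) (.node 10966 (.node 10965 (.leaf 0x7a6d09fd) (.leaf 0x7a6e0e46)) (.node 10967 (.leaf 0x7a6f108f) (.leaf 0x7a7010a4)))) (.node 10972 (.node 10970 (.node 10969 (.leaf 0x7a710e49) (.leaf 0x7a72096b)) (.node 10971 (.leaf 0x7a730d2b) (.leaf 0x7a740e48))) (.node 10974 (.node 10973 (.leaf 0x7a751011) (.leaf 0x7a760c45))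 (.node 10975 (.leaf 0x7a770e4b) (.leaf 0x7a780dbb)))))) (.node 10992 (.node 10984 (.node 10980 (.node 10978 (.node 10977 (.leaf 0x7a79096c) (.leaf 0x7a7a0e4a)) (.node 10979 (.leaf 0x7a7b0db5) (.leaf 0x7a7c0f3b))) (.node 10982 (.node 10981 (.leaf 0x7a7d0e4d) (.leaf 0x7a7e0ece)) (.node 10983 (.leaf 0x7a7f0971) (.leaf 0x7a800e4c)))) (.node 10988 (.node 10986 (.node 10985 (.leaf 0x7a810a61) (.leaf 0x7a820bc3)) (.node 10987 (.leaf 0x7a830e4f) (.leaf 0x7a8409f9))) (.node 10990 (.node 10989 (.leaf 0x7a850973) (.leaf 0x7a860e4e)) (.node 10991 (.leaf 0x7a8710a6) (.leaf 0x7a88108f))))) (.node 11000 (.node 10996 (.node 10994 (.node 10993 (.leaf 0x7a890e51) (.leaf 0x7a8a0973)) (.node 10995 (.leaf 0x7a8b1016) (.leaf 0x7a8c0e50))) (.node 10998 (.node 10997 (.leaf 0x7a8d0e45) (.leaf 0x7a8e0fa7)) (.node 10999 (.leaf 0x7a8f0e53) (.leaf 0x7a900da2)))) (.node 11004 (.node 11002 (.node 11001 (.leaf 0x7a910985) (.leaf 0x7a920e52)) (.node 11003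 (.leaf 0x7a930a0b) (.leaf 0x7a94098b))) (.node 11006 (.node 11005 (.leaf 0x7a950e55) (.leaf 0x7a960d2f)) (.node 11007 (.leaf 0x7a970975) (.leaf 0x7a980e54))))))))

/-- block of `tab` -/
def tab_43 : Tr := .node 11136 (.node 11072 (.node 11040 (.node 11024 (.node 11016 (.node 11012 (.node 11010 (.node 11009 (.leaf 0x7a990ec9) (.leaf 0x7a9a1013)) (.node 11011 (.leaf 0x7a9b0e57) (.leaf 0x7a9c0e5c))) (.node 11014 (.node 11013 (.leaf 0x7a9d0977) (.leaf 0x7a9e0e56)) (.node 11015 (.leaf 0x7a9f1052) (.leaf 0x7aa00e81)))) (.node 11020 (.node 11018 (.node 11017 (.leaf 0x7aa10e59) (.leaf 0x7aa20977)) (.node 11019 (.leaf 0x7aa30c5d) (.leaf 0x7aa40e58))) (.node 11022 (.node 11021 (.leaf 0x7aa50e13) (.leaf 0x7aa61053)) (.node 11023 (.leaf 0x7aa70e5b) (.leaf 0x7aa80d07))))) (.node 11032 (.node 11028 (.node 11026 (.node 11025 (.leaf 0x7aa90cb1) (.leaf 0x7aaa0e5a)) (.node 11027 (.leaf 0x7aab0c5d) (.leaf 0x7aac0e5c))) (.node 11030 (.node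 11029 (.leaf 0x7aad0e5d) (.leaf 0x7aae0e5b)) (.node 11031 (.leaf 0x7aaf0e56) (.leaf 0x7ab00e5c)))) (.node 11036 (.node 11034 (.node 11033 (.leaf 0x7ab109d0) (.leaf 0x7ab20ea8)) (.node 11035 (.leaf 0x7ab30e5f) (.leaf 0x7ab409a0))) (.node 11038 (.node 11037 (.leaf 0x7ab50979) (.leaf 0x7ab60e5e)) (.node 11039 (.leaf 0x7ab70f65) (.leaf 0x7ab80d9d)))))) (.node 11056 (.node 11048 (.node 11044 (.node 11042 (.node 11041 (.leaf 0x7ab90e61) (.leaf 0x7aba0a51)) (.node 11043 (.leaf 0x7abb097a) (.leaf 0x7abc0e60))) (.node 11046 (.node 11045 (.leaf 0x7abd1000) (.leaf 0x7abe1001)) (.node 11047 (.leaf 0x7abf0e63) (.leaf 0x7ac0099c)))) (.node 11052 (.node 11050 (.node 11049 (.leaf 0x7ac10999) (.leaf 0x7ac20e62)) (.node 11051 (.leaf 0x7ac30bdd) (.leaf 0x7ac40ff3))) (.node 11054 (.node 11053 (.leaf 0x7ac50e65) (.leaf 0x7ac60bdf)) (.node 11055 (.leaf 0x7ac70982) (.leaf 0x7ac80e64))))) (.node 11064 (.node 11060 (.node 11058 (.node 11057 (.leaf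 0x7ac90f97) (.leaf 0x7aca0f99)) (.node 11059 (.leaf 0x7acb0e67) (.leaf 0x7acc0df6))) (.node 11062 (.node 11061 (.leaf 0x7acd0983) (.leaf 0x7ace0e66)) (.node 11063 (.leaf 0x7acf0f8a) (.leaf 0x7ad0104f)))) (.node 11068 (.node 11066 (.node 11065 (.leaf 0x7ad10e69) (.leaf 0x7ad20983)) (.node 11067 (.leaf 0x7ad30b15) (.leaf 0x7ad40e68))) (.node 11070 (.node 11069 (.leaf 0x7ad5098d) (.leaf 0x7ad60b19)) (.node 11071 (.leaf 0x7ad70e6b) (.leaf 0x7ad80ac1))))))) (.node 11104 (.node 11088 (.node 11080 (.node 11076 (.node 11074 (.node 11073 (.leaf 0x7ad90de5) (.leaf 0x7ada0e6a)) (.node 11075 (.leaf 0x7adb0d53) (.leaf 0x7adc0d4c))) (.node 11078 (.node 11077 (.leaf 0x7add0e6d) (.leaf 0x7ade0de5)) (.node 11079 (.leaf 0x7adf0aca) (.leaf 0x7ae00e6c)))) (.node 11084 (.node 11082 (.node 11081 (.leaf 0x7ae10ee4) (.leaf 0x7ae20f21)) (.node 11083 (.leaf 0x7ae30e6f) (.leaf 0x7ae40989))) (.node 11086 (.node 11085 (.leaf 0x7ae50edf) (.leaf 0x7ae60e6e))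 (.node 11087 (.leaf 0x7ae70ee5) (.leaf 0x7ae80d12))))) (.node 11096 (.node 11092 (.node 11090 (.node 11089 (.leaf 0x7ae90e71) (.leaf 0x7aea098b)) (.node 11091 (.leaf 0x7aeb0f9a) (.leaf 0x7aec0e70))) (.node 11094 (.node 11093 (.leaf 0x7aed0eff) (.leaf 0x7aee104e)) (.node 11095 (.leaf 0x7aef0e73) (.leaf 0x7af00eb6)))) (.node 11100 (.node 11098 (.node 11097 (.leaf 0x7af1098d) (.leaf 0x7af20e72)) (.node 11099 (.leaf 0x7af30fb5) (.leaf 0x7af40d82))) (.node 11102 (.node 11101 (.leaf 0x7af50e75) (.leaf 0x7af60e78)) (.node 11103 (.leaf 0x7af70990) (.leaf 0x7af80e74)))))) (.node 11120 (.node 11112 (.node 11108 (.node 11106 (.node 11105 (.leaf 0x7af90aa4) (.leaf 0x7afa0b9b)) (.node 11107 (.leaf 0x7afb0e77) (.leaf 0x7afc0af9))) (.node 11110 (.node 11109 (.leaf 0x7afd0991) (.leaf 0x7afe0e76)) (.node 11111 (.leaf 0x7aff0f78) (.leaf 0x7b000bf8)))) (.node 11116 (.node 11114 (.node 11113 (.leaf 0x7b010e79) (.leaf 0x7b020a63)) (.node 11115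 (.leaf 0x7b030e74) (.leaf 0x7b040e78))) (.node 11118 (.node 11117 (.leaf 0x7b050d25) (.leaf 0x7b060fe0)) (.node 11119 (.leaf 0x7b070e7b) (.leaf 0x7b080993))))) (.node 11128 (.node 11124 (.node 11122 (.node 11121 (.leaf 0x7b090b0f) (.leaf 0x7b0a0e7a)) (.node 11123 (.leaf 0x7b0b0b79) (.leaf 0x7b0c0a8c))) (.node 11126 (.node 11125 (.leaf 0x7b0d0e7d) (.leaf 0x7b0e0bb6)) (.node 11127 (.leaf 0x7b0f0994) (.leaf 0x7b100e7c)))) (.node 11132 (.node 11130 (.node 11129 (.leaf 0x7b111144) (.leaf 0x7b121153)) (.node 11131 (.leaf 0x7b130e7f) (.leaf 0x7b140ccf))) (.node 11134 (.node 11133 (.leaf 0x7b150d11) (.leaf 0x7b160e7e)) (.node 11135 (.leaf 0x7b170cff) (.leaf 0x7b180cc3)))))))) (.node 11200 (.node 11168 (.node 11152 (.node 11144 (.node 11140 (.node 11138 (.node 11137 (.leaf 0x7b190e81) (.leaf 0x7b1a099b)) (.node 11139 (.leaf 0x7b1b0e12) (.leaf 0x7b1c0e80))) (.node 11142 (.node 11141 (.leaf 0x7b1d0e57) (.leaf 0x7b1e0f27)) (.node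 11143 (.leaf 0x7b1f0e83) (.leaf 0x7b20099d)))) (.node 11148 (.node 11146 (.node 11145 (.leaf 0x7b210d7b) (.leaf 0x7b220e82)) (.node 11147 (.leaf 0x7b230f74) (.leaf 0x7b240b3f))) (.node 11150 (.node 11149 (.leaf 0x7b250e85) (.leaf 0x7b260df5)) (.node 11151 (.leaf 0x7b2709a1) (.leaf 0x7b280e84))))) (.node 11160 (.node 11156 (.node 11154 (.node 11153 (.leaf 0x7b290dfd) (.leaf 0x7b2a0bb8)) (.node 11155 (.leaf 0x7b2b0e87) (.leaf 0x7b2c109e))) (.node 11158 (.node 11157 (.leaf 0x7b2d09a5) (.leaf 0x7b2e0e86)) (.node 11159 (.leaf 0x7b2f106e) (.leaf 0x7b3009e7)))) (.node 11164 (.node 11162 (.node 11161 (.leaf 0x7b310e89) (.leaf 0x7b3209a5)) (.node 11163 (.leaf 0x7b3310a0) (.leaf 0x7b340e88))) (.node 11166 (.node 11165 (.leaf 0x7b350a12) (.leaf 0x7b360dfc)) (.node 11167 (.leaf 0x7b370e8b) (.leaf 0x7b3809ab)))))) (.node 11184 (.node 11176 (.node 11172 (.node 11170 (.node 11169 (.leaf 0x7b39102c) (.leaf 0x7b3a0e8a)) (.node 11171 (.leaf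 0x7b3b0e95) (.leaf 0x7b3c0d8c))) (.node 11174 (.node 11173 (.leaf 0x7b3d0e8d) (.leaf 0x7b3e09ac)) (.node 11175 (.leaf 0x7b3f0b89) (.leaf 0x7b400e8c)))) (.node 11180 (.node 11178 (.node 11177 (.leaf 0x7b4110f3) (.leaf 0x7b420da3)) (.node 11179 (.leaf 0x7b430e8f) (.leaf 0x7b4409ad))) (.node 11182 (.node 11181 (.leaf 0x7b451017) (.leaf 0x7b460e8e)) (.node 11183 (.leaf 0x7b471016) (.leaf 0x7b4809f9))))) (.node 11192 (.node 11188 (.node 11186 (.node 11185 (.leaf 0x7b490e91) (.leaf 0x7b4a0bee)) (.node 11187 (.leaf 0x7b4b0dc1) (.leaf 0x7b4c0e90))) (.node 11190 (.node 11189 (.leaf 0x7b4d0c0c) (.leaf 0x7b4e0c27)) (.node 11191 (.leaf 0x7b4f0e93) (.leaf 0x7b5009b0)))) (.node 11196 (.node 11194 (.node 11193 (.leaf 0x7b510b63) (.leaf 0x7b520e92)) (.node 11195 (.leaf 0x7b530ad5) (.leaf 0x7b540f3a))) (.node 11198 (.node 11197 (.leaf 0x7b550e95) (.leaf 0x7b560ebe)) (.node 11199 (.leaf 0x7b5709b1) (.leaf 0x7b580e94))))))) (.node 11232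 (.node 11216 (.node 11208 (.node 11204 (.node 11202 (.node 11201 (.leaf 0x7b59102d) (.leaf 0x7b5a0e8b)) (.node 11203 (.leaf 0x7b5b0e97) (.leaf 0x7b5c09b1))) (.node 11206 (.node 11205 (.leaf 0x7b5d0eba) (.leaf 0x7b5e0e96)) (.node 11207 (.leaf 0x7b5f0b23) (.leaf 0x7b600ba2)))) (.node 11212 (.node 11210 (.node 11209 (.leaf 0x7b610e99) (.leaf 0x7b6209c1)) (.node 11211 (.leaf 0x7b630ce9) (.leaf 0x7b640e98))) (.node 11214 (.node 11213 (.leaf 0x7b650de6) (.leaf 0x7b660f8c)) (.node 11215 (.leaf 0x7b670e9b) (.leaf 0x7b680ddc))))) (.node 11224 (.node 11220 (.node 11218 (.node 11217 (.leaf 0x7b6909c3) (.leaf 0x7b6a0e9a)) (.node 11219 (.leaf 0x7b6b107b) (.leaf 0x7b6c0fbf))) (.node 11222 (.node 11221 (.leaf 0x7b6d0e9d) (.leaf 0x7b6e09c8)) (.node 11223 (.leaf 0x7b6f0bad) (.leaf 0x7b700e9c)))) (.node 11228 (.node 11226 (.node 11225 (.leaf 0x7b710bbb) (.leaf 0x7b720fb5)) (.node 11227 (.leaf 0x7b730e9f) (.leaf 0x7b7409c9))) (.node 11230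 (.node 11229 (.leaf 0x7b750dfa) (.leaf 0x7b760e9e)) (.node 11231 (.leaf 0x7b770ec6) (.leaf 0x7b781086)))))) (.node 11248 (.node 11240 (.node 11236 (.node 11234 (.node 11233 (.leaf 0x7b790ea1) (.leaf 0x7b7a1102)) (.node 11235 (.leaf 0x7b7b09cb) (.leaf 0x7b7c0ea0))) (.node 11238 (.node 11237 (.leaf 0x7b7d0f19) (.leaf 0x7b7e108b)) (.node 11239 (.leaf 0x7b7f0ea3) (.leaf 0x7b8009cb)))) (.node 11244 (.node 11242 (.node 11241 (.leaf 0x7b811063) (.leaf 0x7b820ea2)) (.node 11243 (.leaf 0x7b830fc7) (.leaf 0x7b84102f))) (.node 11246 (.node 11245 (.leaf 0x7b850ea5) (.leaf 0x7b860ca0)) (.node 11247 (.leaf 0x7b870c2e) (.leaf 0x7b880ea4))))) (.node 11256 (.node 11252 (.node 11250 (.node 11249 (.leaf 0x7b890fc6) (.leaf 0x7b8a0b2f)) (.node 11251 (.leaf 0x7b8b0ea7) (.leaf 0x7b8c09cf))) (.node 11254 (.node 11253 (.leaf 0x7b8d0ff5) (.leaf 0x7b8e0ea6)) (.node 11255 (.leaf 0x7b8f0ff6) (.leaf 0x7b900ff8)))) (.node 11260 (.node 11258 (.node 11257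 (.leaf 0x7b910ea9) (.leaf 0x7b920e5d)) (.node 11259 (.leaf 0x7b930a97) (.leaf 0x7b940ea8))) (.node 11262 (.node 11261 (.leaf 0x7b950d8a) (.leaf 0x7b960eaa)) (.node 11263 (.leaf 0x7b970eab) (.leaf 0x7b980ea9))))))))

/-- block of `tab` -/
def tab_44 : Tr := .node 11392 (.node 11328 (.node 11296 (.node 11280 (.node 11272 (.node 11268 (.node 11266 (.node 11265 (.leaf 0x7b990a03) (.leaf 0x7b9a0eaa)) (.node 11267 (.leaf 0x7b9b0b52) (.leaf 0x7b9c0f82))) (.node 11270 (.node 11269 (.leaf 0x7b9d0ead) (.leaf 0x7b9e0f18)) (.node 11271 (.leaf 0x7b9f09df) (.leaf 0x7ba00eac)))) (.node 11276 (.node 11274 (.node 11273 (.leaf 0x7ba11107) (.leaf 0x7ba210f1)) (.node 11275 (.leaf 0x7ba30eaf) (.leaf 0x7ba409df))) (.node 11278 (.node 11277 (.leaf 0x7ba50f01) (.leaf 0x7ba60eae)) (.node 11279 (.leaf 0x7ba70a0f) (.leaf 0x7ba81077))))) (.node 11288 (.node 11284 (.node 11282 (.node 11281 (.leaf 0x7ba90eb1) (.leaf 0x7baa09e2)) (.node 11283 (.leaf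 0x7bab0df2) (.leaf 0x7bac0eb0))) (.node 11286 (.node 11285 (.leaf 0x7bad10ec) (.leaf 0x7bae110e)) (.node 11287 (.leaf 0x7baf0eb3) (.leaf 0x7bb00a21)))) (.node 11292 (.node 11290 (.node 11289 (.leaf 0x7bb109e8) (.leaf 0x7bb20eb2)) (.node 11291 (.leaf 0x7bb30d13) (.leaf 0x7bb410ab))) (.node 11294 (.node 11293 (.leaf 0x7bb50eb5) (.leaf 0x7bb609ea)) (.node 11295 (.leaf 0x7bb70a21) (.leaf 0x7bb80eb4)))))) (.node 11312 (.node 11304 (.node 11300 (.node 11298 (.node 11297 (.leaf 0x7bb90d41) (.leaf 0x7bba0db4)) (.node 11299 (.leaf 0x7bbb0eb7) (.leaf 0x7bbc09ed))) (.node 11302 (.node 11301 (.leaf 0x7bbd0e72) (.leaf 0x7bbe0eb6)) (.node 11303 (.leaf 0x7bbf10bd) (.leaf 0x7bc010b9)))) (.node 11308 (.node 11306 (.node 11305 (.leaf 0x7bc10eb9) (.leaf 0x7bc20bfb)) (.node 11307 (.leaf 0x7bc309ee) (.leaf 0x7bc40eb8))) (.node 11310 (.node 11309 (.leaf 0x7bc50b13) (.leaf 0x7bc60e0b)) (.node 11311 (.leaf 0x7bc70ebb) (.leaf 0x7bc80e96))))) (.node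 11320 (.node 11316 (.node 11314 (.node 11313 (.leaf 0x7bc909f3) (.leaf 0x7bca0eba)) (.node 11315 (.leaf 0x7bcb0ebc) (.leaf 0x7bcc0b21))) (.node 11318 (.node 11317 (.leaf 0x7bcd0ebd) (.leaf 0x7bce0a5a)) (.node 11319 (.leaf 0x7bcf0ebb) (.leaf 0x7bd00ebc)))) (.node 11324 (.node 11322 (.node 11321 (.leaf 0x7bd11154) (.leaf 0x7bd21155)) (.node 11323 (.leaf 0x7bd30ebf) (.leaf 0x7bd409f3))) (.node 11326 (.node 11325 (.leaf 0x7bd50e94) (.leaf 0x7bd60ebe)) (.node 11327 (.leaf 0x7bd70ef8) (.leaf 0x7bd80c33))))))) (.node 11360 (.node 11344 (.node 11336 (.node 11332 (.node 11330 (.node 11329 (.leaf 0x7bd90ec1) (.leaf 0x7bda0b2e)) (.node 11331 (.leaf 0x7bdb09f5) (.leaf 0x7bdc0ec0))) (.node 11334 (.node 11333 (.leaf 0x7bdd0e2d) (.leaf 0x7bde0bd5)) (.node 11335 (.leaf 0x7bdf0ec3) (.leaf 0x7be009f5)))) (.node 11340 (.node 11338 (.node 11337 (.leaf 0x7be10b2c) (.leaf 0x7be20ec2)) (.node 11339 (.leaf 0x7be3106b) (.leaf 0x7be40eed))) (.node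 11342 (.node 11341 (.leaf 0x7be50ec5) (.leaf 0x7be61085)) (.node 11343 (.leaf 0x7be709ff) (.leaf 0x7be80ec4))))) (.node 11352 (.node 11348 (.node 11346 (.node 11345 (.leaf 0x7be90d87) (.leaf 0x7bea104a)) (.node 11347 (.leaf 0x7beb0ec7) (.leaf 0x7bec09ff))) (.node 11350 (.node 11349 (.leaf 0x7bed0e9f) (.leaf 0x7bee0ec6)) (.node 11351 (.leaf 0x7bef0c4f) (.leaf 0x7bf00fc1)))) (.node 11356 (.node 11354 (.node 11353 (.leaf 0x7bf10ec9) (.leaf 0x7bf20a01)) (.node 11355 (.leaf 0x7bf3105f) (.leaf 0x7bf40ec8))) (.node 11358 (.node 11357 (.leaf 0x7bf51047) (.leaf 0x7bf60e55)) (.node 11359 (.leaf 0x7bf70ecb) (.leaf 0x7bf80ecc)))))) (.node 11376 (.node 11368 (.node 11364 (.node 11362 (.node 11361 (.leaf 0x7bf90a04) (.leaf 0x7bfa0eca)) (.node 11363 (.leaf 0x7bfb0c4b) (.leaf 0x7bfc108a))) (.node 11366 (.node 11365 (.leaf 0x7bfd0ecd) (.leaf 0x7bfe0df0)) (.node 11367 (.leaf 0x7bff0eca) (.leaf 0x7c000ecc)))) (.node 11372 (.node 11370 (.node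 11369 (.leaf 0x7c01108b) (.leaf 0x7c0210e5)) (.node 11371 (.leaf 0x7c030ecf) (.leaf 0x7c040a0a))) (.node 11374 (.node 11373 (.leaf 0x7c050e4c) (.leaf 0x7c060ece)) (.node 11375 (.leaf 0x7c071040) (.leaf 0x7c080a6b))))) (.node 11384 (.node 11380 (.node 11378 (.node 11377 (.leaf 0x7c090ed1) (.leaf 0x7c0a0f9a)) (.node 11379 (.leaf 0x7c0b0a0b) (.leaf 0x7c0c0ed0))) (.node 11382 (.node 11381 (.leaf 0x7c0d0d0e) (.leaf 0x7c0e0c67)) (.node 11383 (.leaf 0x7c0f0ed3) (.leaf 0x7c10107d)))) (.node 11388 (.node 11386 (.node 11385 (.leaf 0x7c110a0f) (.leaf 0x7c120ed2)) (.node 11387 (.leaf 0x7c130c3d) (.leaf 0x7c1410dd))) (.node 11390 (.node 11389 (.leaf 0x7c150ed7) (.leaf 0x7c160ed5)) (.node 11391 (.leaf 0x7c170a1b) (.leaf 0x7c180ed6)))))))) (.node 11456 (.node 11424 (.node 11408 (.node 11400 (.node 11396 (.node 11394 (.node 11393 (.leaf 0x7c190a29) (.leaf 0x7c1a0ed4)) (.node 11395 (.leaf 0x7c1b0ed5) (.leaf 0x7c1c0ed7))) (.node 11398 (.node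 11397 (.leaf 0x7c1d1127) (.leaf 0x7c1e0ed4)) (.node 11399 (.leaf 0x7c1f1120) (.leaf 0x7c200ed6)))) (.node 11404 (.node 11402 (.node 11401 (.leaf 0x7c210edb) (.leaf 0x7c220a1b)) (.node 11403 (.leaf 0x7c230ed9) (.leaf 0x7c240eda))) (.node 11406 (.node 11405 (.leaf 0x7c250ed8) (.leaf 0x7c260a29)) (.node 11407 (.leaf 0x7c270ed9) (.leaf 0x7c2810d3))))) (.node 11416 (.node 11412 (.node 11410 (.node 11409 (.leaf 0x7c2910ac) (.leaf 0x7c2a0ed8)) (.node 11411 (.leaf 0x7c2b10b7) (.leaf 0x7c2c10ce))) (.node 11414 (.node 11413 (.leaf 0x7c2d0edd) (.leaf 0x7c2e0a1c)) (.node 11415 (.leaf 0x7c2f0cf6) (.leaf 0x7c300edc)))) (.node 11420 (.node 11418 (.node 11417 (.leaf 0x7c311010) (.leaf 0x7c320d5c)) (.node 11419 (.leaf 0x7c330edf) (.leaf 0x7c340c71))) (.node 11422 (.node 11421 (.leaf 0x7c350a1f) (.leaf 0x7c360ede)) (.node 11423 (.leaf 0x7c370e6e) (.leaf 0x7c380eeb)))))) (.node 11440 (.node 11432 (.node 11428 (.node 11426 (.node 11425 (.leaf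 0x7c390ee1) (.leaf 0x7c3a0a1f)) (.node 11427 (.leaf 0x7c3b0fd8) (.leaf 0x7c3c0ee0))) (.node 11430 (.node 11429 (.leaf 0x7c3d0bdb) (.leaf 0x7c3e0ff6)) (.node 11431 (.leaf 0x7c3f0ee3) (.leaf 0x7c400fee)))) (.node 11436 (.node 11434 (.node 11433 (.leaf 0x7c410a25) (.leaf 0x7c420ee2)) (.node 11435 (.leaf 0x7c430a73) (.leaf 0x7c440a4f))) (.node 11438 (.node 11437 (.leaf 0x7c450ee5) (.leaf 0x7c460a25)) (.node 11439 (.leaf 0x7c470e6d) (.leaf 0x7c480ee4))))) (.node 11448 (.node 11444 (.node 11442 (.node 11441 (.leaf 0x7c490d00) (.leaf 0x7c4a0e6f)) (.node 11443 (.leaf 0x7c4b0ee7) (.leaf 0x7c4c0ce2))) (.node 11446 (.node 11445 (.leaf 0x7c4d0a2a) (.leaf 0x7c4e0ee6)) (.node 11447 (.leaf 0x7c4f0f0c) (.leaf 0x7c501012)))) (.node 11452 (.node 11450 (.node 11449 (.leaf 0x7c510ee9) (.leaf 0x7c520fe0)) (.node 11451 (.leaf 0x7c530a2d) (.leaf 0x7c540ee8))) (.node 11454 (.node 11453 (.leaf 0x7c550ff4) (.leaf 0x7c560bdd)) (.node 11455 (.leaf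 0x7c570eeb) (.leaf 0x7c580a2d))))))) (.node 11488 (.node 11472 (.node 11464 (.node 11460 (.node 11458 (.node 11457 (.leaf 0x7c590d25) (.leaf 0x7c5a0eea)) (.node 11459 (.leaf 0x7c5b0edf) (.leaf 0x7c5c0e1c))) (.node 11462 (.node 11461 (.leaf 0x7c5d0eed) (.leaf 0x7c5e0c1f)) (.node 11463 (.leaf 0x7c5f0a33) (.leaf 0x7c600eec)))) (.node 11468 (.node 11466 (.node 11465 (.leaf 0x7c610ec3) (.leaf 0x7c620fb2)) (.node 11467 (.leaf 0x7c630eef) (.leaf 0x7c640a33))) (.node 11470 (.node 11469 (.leaf 0x7c650ef0) (.leaf 0x7c660eee)) (.node 11471 (.leaf 0x7c670f41) (.leaf 0x7c68106a))))) (.node 11480 (.node 11476 (.node 11474 (.node 11473 (.leaf 0x7c690ef1) (.leaf 0x7c6a0eee)) (.node 11475 (.leaf 0x7c6b0c2b) (.leaf 0x7c6c0ef0))) (.node 11478 (.node 11477 (.leaf 0x7c6d1090) (.leaf 0x7c6e0fcd)) (.node 11479 (.leaf 0x7c6f0ef3) (.leaf 0x7c700a43)))) (.node 11484 (.node 11482 (.node 11481 (.leaf 0x7c710a37) (.leaf 0x7c720ef2)) (.node 11483 (.leaf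 0x7c730f87) (.leaf 0x7c740fb3))) (.node 11486 (.node 11485 (.leaf 0x7c750ef5) (.leaf 0x7c760a47)) (.node 11487 (.leaf 0x7c770a3d) (.leaf 0x7c780ef4)))))) (.node 11504 (.node 11496 (.node 11492 (.node 11490 (.node 11489 (.leaf 0x7c7910b6) (.leaf 0x7c7a10ad)) (.node 11491 (.leaf 0x7c7b0ef7) (.leaf 0x7c7c0ef9))) (.node 11494 (.node 11493 (.leaf 0x7c7d0a41) (.leaf 0x7c7e0ef6)) (.node 11495 (.leaf 0x7c7f106f) (.leaf 0x7c800f43)))) (.node 11500 (.node 11498 (.node 11497 (.leaf 0x7c810efb) (.leaf 0x7c820a41)) (.node 11499 (.leaf 0x7c830ebf) (.leaf 0x7c840efa))) (.node 11502 (.node 11501 (.leaf 0x7c850c33) (.leaf 0x7c860ef6)) (.node 11503 (.leaf 0x7c870ef9) (.leaf 0x7c880fcd))))) (.node 11512 (.node 11508 (.node 11506 (.node 11505 (.leaf 0x7c891091) (.leaf 0x7c8a0ef8)) (.node 11507 (.leaf 0x7c8b0f86) (.leaf 0x7c8c0c19))) (.node 11510 (.node 11509 (.leaf 0x7c8d0efd) (.leaf 0x7c8e0f02)) (.node 11511 (.leaf 0x7c8f0a52) (.leaf 0x7c900efc))))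 (.node 11516 (.node 11514 (.node 11513 (.leaf 0x7c910ce7) (.leaf 0x7c9210b7)) (.node 11515 (.leaf 0x7c930eff) (.leaf 0x7c940a53))) (.node 11518 (.node 11517 (.leaf 0x7c95103f) (.leaf 0x7c960efe)) (.node 11519 (.leaf 0x7c970fff) (.leaf 0x7c980e71))))))))

/-- block of `tab` -/
def tab_45 : Tr := .node 11648 (.node 11584 (.node 11552 (.node 11536 (.node 11528 (.node 11524 (.node 11522 (.node 11521 (.leaf 0x7c990f01) (.leaf 0x7c9a0a54)) (.node 11523 (.leaf 0x7c9b0f02) (.leaf 0x7c9c0f00))) (.node 11526 (.node 11525 (.leaf 0x7c9d0eae) (.leaf 0x7c9e0d23)) (.node 11527 (.leaf 0x7c9f0f03) (.leaf 0x7ca00f00)))) (.node 11532 (.node 11530 (.node 11529 (.leaf 0x7ca10efc) (.leaf 0x7ca20f02)) (.node 11531 (.leaf 0x7ca30f43) (.leaf 0x7ca40f8d))) (.node 11534 (.node 11533 (.leaf 0x7ca50f07) (.leaf 0x7ca60a57)) (.node 11535 (.leaf 0x7ca70f05) (.leaf 0x7ca80f06))))) (.node 11544 (.node 11540 (.node 11538 (.node 11537 (.leaf 0x7ca90f04)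 (.leaf 0x7caa0e35)) (.node 11539 (.leaf 0x7cab0f05) (.leaf 0x7cac0d5a))) (.node 11542 (.node 11541 (.leaf 0x7cad0fa6) (.leaf 0x7cae0f04)) (.node 11543 (.leaf 0x7caf111b) (.leaf 0x7cb01113)))) (.node 11548 (.node 11546 (.node 11545 (.leaf 0x7cb10f09) (.leaf 0x7cb20f12)) (.node 11547 (.leaf 0x7cb30a59) (.leaf 0x7cb40f08))) (.node 11550 (.node 11549 (.leaf 0x7cb50bc5) (.leaf 0x7cb61099)) (.node 11551 (.leaf 0x7cb70f0b) (.leaf 0x7cb80f39)))))) (.node 11568 (.node 11560 (.node 11556 (.node 11554 (.node 11553 (.leaf 0x7cb90a5b) (.leaf 0x7cba0f0a)) (.node 11555 (.leaf 0x7cbb112a) (.leaf 0x7cbc0d03))) (.node 11558 (.node 11557 (.leaf 0x7cbd0f0d) (.leaf 0x7cbe0a5b)) (.node 11559 (.leaf 0x7cbf0ee7) (.leaf 0x7cc00f0c)))) (.node 11564 (.node 11562 (.node 11561 (.leaf 0x7cc10d2a) (.leaf 0x7cc20d73)) (.node 11563 (.leaf 0x7cc30f0f) (.leaf 0x7cc40c8a))) (.node 11566 (.node 11565 (.leaf 0x7cc50d37) (.leaf 0x7cc60f0e)) (.node 11567 (.leaf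 0x7cc70cf9) (.leaf 0x7cc80fed))))) (.node 11576 (.node 11572 (.node 11570 (.node 11569 (.leaf 0x7cc90f11) (.leaf 0x7cca0a64)) (.node 11571 (.leaf 0x7ccb0f12) (.leaf 0x7ccc0f10))) (.node 11574 (.node 11573 (.leaf 0x7ccd112d) (.leaf 0x7cce110a)) (.node 11575 (.leaf 0x7ccf0f13) (.leaf 0x7cd00f10)))) (.node 11580 (.node 11578 (.node 11577 (.leaf 0x7cd10f08) (.leaf 0x7cd20f12)) (.node 11579 (.leaf 0x7cd30a8f) (.leaf 0x7cd40f5e))) (.node 11582 (.node 11581 (.leaf 0x7cd50f15) (.leaf 0x7cd60a65)) (.node 11583 (.leaf 0x7cd70ddf) (.leaf 0x7cd80f14))))))) (.node 11616 (.node 11600 (.node 11592 (.node 11588 (.node 11586 (.node 11585 (.leaf 0x7cd90f50) (.leaf 0x7cda0baf)) (.node 11587 (.leaf 0x7cdb0f17) (.leaf 0x7cdc0f3d))) (.node 11590 (.node 11589 (.leaf 0x7cdd0a67) (.leaf 0x7cde0f16)) (.node 11591 (.leaf 0x7cdf1122) (.leaf 0x7ce00cf9)))) (.node 11596 (.node 11594 (.node 11593 (.leaf 0x7ce10f19) (.leaf 0x7ce20d23)) (.node 11595 (.leaf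 0x7ce30eac) (.leaf 0x7ce40f18))) (.node 11598 (.node 11597 (.leaf 0x7ce510e4) (.leaf 0x7ce60ea1)) (.node 11599 (.leaf 0x7ce70f1b) (.leaf 0x7ce80a6a))))) (.node 11608 (.node 11604 (.node 11602 (.node 11601 (.leaf 0x7ce90d21) (.leaf 0x7cea0f1a)) (.node 11603 (.leaf 0x7ceb10b4) (.leaf 0x7cec0e10))) (.node 11606 (.node 11605 (.leaf 0x7ced0f1d) (.leaf 0x7cee0ae8)) (.node 11607 (.leaf 0x7cef0b6b) (.leaf 0x7cf00f1c)))) (.node 11612 (.node 11610 (.node 11609 (.leaf 0x7cf1105e) (.leaf 0x7cf210e9)) (.node 11611 (.leaf 0x7cf30f1f) (.leaf 0x7cf40f20))) (.node 11614 (.node 11613 (.leaf 0x7cf50a74) (.leaf 0x7cf60f1e)) (.node 11615 (.leaf 0x7cf70fb8) (.leaf 0x7cf8104b)))))) (.node 11632 (.node 11624 (.node 11620 (.node 11618 (.node 11617 (.leaf 0x7cf90f21) (.leaf 0x7cfa0a82)) (.node 11619 (.leaf 0x7cfb0f1e) (.leaf 0x7cfc0f20))) (.node 11622 (.node 11621 (.leaf 0x7cfd0e6d) (.leaf 0x7cfe0fee)) (.node 11623 (.leaf 0x7cff0f23) (.leaf 0x7d000d01))))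 (.node 11628 (.node 11626 (.node 11625 (.leaf 0x7d010e23) (.leaf 0x7d020f22)) (.node 11627 (.leaf 0x7d030fe3) (.leaf 0x7d040e13))) (.node 11630 (.node 11629 (.leaf 0x7d050f25) (.leaf 0x7d060e23)) (.node 11631 (.leaf 0x7d070d92) (.leaf 0x7d080f24))))) (.node 11640 (.node 11636 (.node 11634 (.node 11633 (.leaf 0x7d090dc7) (.leaf 0x7d0a0fe6)) (.node 11635 (.leaf 0x7d0b0f27) (.leaf 0x7d0c0e25))) (.node 11638 (.node 11637 (.leaf 0x7d0d0cc5) (.leaf 0x7d0e0f26)) (.node 11639 (.leaf 0x7d0f0e81) (.leaf 0x7d100fdf)))) (.node 11644 (.node 11642 (.node 11641 (.leaf 0x7d110f29) (.leaf 0x7d120e0e)) (.node 11643 (.leaf 0x7d130e25) (.leaf 0x7d140f28))) (.node 11646 (.node 11645 (.leaf 0x7d150fe8) (.leaf 0x7d160dc7)) (.node 11647 (.leaf 0x7d170f2b) (.leaf 0x7d180f9c)))))))) (.node 11712 (.node 11680 (.node 11664 (.node 11656 (.node 11652 (.node 11650 (.node 11649 (.leaf 0x7d190a8b) (.leaf 0x7d1a0f2a)) (.node 11651 (.leaf 0x7d1b1094) (.leaf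 0x7d1c0f69))) (.node 11654 (.node 11653 (.leaf 0x7d1d0f2d) (.leaf 0x7d1e0b77)) (.node 11655 (.leaf 0x7d1f0a8d) (.leaf 0x7d200f2c)))) (.node 11660 (.node 11658 (.node 11657 (.leaf 0x7d210aa3) (.leaf 0x7d220b7b)) (.node 11659 (.leaf 0x7d230f2f) (.leaf 0x7d240a8e))) (.node 11662 (.node 11661 (.leaf 0x7d250b79) (.leaf 0x7d260f2e)) (.node 11663 (.leaf 0x7d270d08) (.leaf 0x7d28100b))))) (.node 11672 (.node 11668 (.node 11666 (.node 11665 (.leaf 0x7d290f31) (.leaf 0x7d2a101c)) (.node 11667 (.leaf 0x7d2b0a95) (.leaf 0x7d2c0f30))) (.node 11670 (.node 11669 (.leaf 0x7d2d0f93) (.leaf 0x7d2e0f77)) (.node 11671 (.leaf 0x7d2f0f33) (.leaf 0x7d300adf)))) (.node 11676 (.node 11674 (.node 11673 (.leaf 0x7d310a9c) (.leaf 0x7d320f32)) (.node 11675 (.leaf 0x7d330f73) (.leaf 0x7d340f74))) (.node 11678 (.node 11677 (.leaf 0x7d350f35) (.leaf 0x7d360aa5)) (.node 11679 (.leaf 0x7d370b74) (.leaf 0x7d380f34)))))) (.node 11696 (.node 11688 (.node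 11684 (.node 11682 (.node 11681 (.leaf 0x7d39100c) (.leaf 0x7d3a0cb4)) (.node 11683 (.leaf 0x7d3b0f37) (.leaf 0x7d3c0aac))) (.node 11686 (.node 11685 (.leaf 0x7d3d0c02) (.leaf 0x7d3e0f36)) (.node 11687 (.leaf 0x7d3f0fe6) (.leaf 0x7d400fe8)))) (.node 11692 (.node 11690 (.node 11689 (.leaf 0x7d410f39) (.leaf 0x7d420b9c)) (.node 11691 (.leaf 0x7d430be6) (.leaf 0x7d440f38))) (.node 11694 (.node 11693 (.leaf 0x7d451012) (.leaf 0x7d460f0a)) (.node 11695 (.leaf 0x7d470f3b) (.leaf 0x7d480e93))))) (.node 11704 (.node 11700 (.node 11698 (.node 11697 (.leaf 0x7d490abe) (.leaf 0x7d4a0f3a)) (.node 11699 (.leaf 0x7d4b0e4b) (.leaf 0x7d4c0ffb))) (.node 11702 (.node 11701 (.leaf 0x7d4d0f3d) (.leaf 0x7d4e0c05)) (.node 11703 (.leaf 0x7d4f0abf) (.leaf 0x7d500f3c)))) (.node 11708 (.node 11706 (.node 11705 (.leaf 0x7d510e29) (.leaf 0x7d520f16)) (.node 11707 (.leaf 0x7d530f3f) (.leaf 0x7d540bff))) (.node 11710 (.node 11709 (.leaf 0x7d550ac5)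 (.leaf 0x7d560f3e)) (.node 11711 (.leaf 0x7d570d76) (.leaf 0x7d580d55))))))) (.node 11744 (.node 11728 (.node 11720 (.node 11716 (.node 11714 (.node 11713 (.leaf 0x7d590f41) (.leaf 0x7d5a0c9d)) (.node 11715 (.leaf 0x7d5b0ac7) (.leaf 0x7d5c0f40))) (.node 11718 (.node 11717 (.leaf 0x7d5d0d69) (.leaf 0x7d5e0eef)) (.node 11719 (.leaf 0x7d5f0f43) (.leaf 0x7d600c09)))) (.node 11724 (.node 11722 (.node 11721 (.leaf 0x7d610d1f) (.leaf 0x7d620f42)) (.node 11723 (.leaf 0x7d630ef7) (.leaf 0x7d640f03))) (.node 11726 (.node 11725 (.leaf 0x7d650f45) (.leaf 0x7d660dcd)) (.node 11727 (.leaf 0x7d670ae9) (.leaf 0x7d680f44))))) (.node 11736 (.node 11732 (.node 11730 (.node 11729 (.leaf 0x7d6910e8) (.leaf 0x7d6a0e0f)) (.node 11731 (.leaf 0x7d6b0f47) (.leaf 0x7d6c0f6e))) (.node 11734 (.node 11733 (.leaf 0x7d6d0aed) (.leaf 0x7d6e0f46)) (.node 11735 (.leaf 0x7d6f0da7) (.leaf 0x7d700af5)))) (.node 11740 (.node 11738 (.node 11737 (.leaf 0x7d710f49)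 (.leaf 0x7d720bf5)) (.node 11739 (.leaf 0x7d730aef) (.leaf 0x7d740f48))) (.node 11742 (.node 11741 (.leaf 0x7d751008) (.leaf 0x7d761007)) (.node 11743 (.leaf 0x7d770f4b) (.leaf 0x7d780bc7)))))) (.node 11760 (.node 11752 (.node 11748 (.node 11746 (.node 11745 (.leaf 0x7d790af7) (.leaf 0x7d7a0f4a)) (.node 11747 (.leaf 0x7d7b0f6f) (.leaf 0x7d7c0f6f))) (.node 11750 (.node 11749 (.leaf 0x7d7d0f4d) (.leaf 0x7d7e0b51)) (.node 11751 (.leaf 0x7d7f0afb) (.leaf 0x7d800f4c)))) (.node 11756 (.node 11754 (.node 11753 (.leaf 0x7d810f67) (.leaf 0x7d820d81)) (.node 11755 (.leaf 0x7d830f4f) (.leaf 0x7d840f56))) (.node 11758 (.node 11757 (.leaf 0x7d850aff) (.leaf 0x7d860f4e)) (.node 11759 (.leaf 0x7d871041) (.leaf 0x7d880fbb))))) (.node 11768 (.node 11764 (.node 11762 (.node 11761 (.leaf 0x7d890f51) (.leaf 0x7d8a0b00)) (.node 11763 (.leaf 0x7d8b0f15) (.leaf 0x7d8c0f50))) (.node 11766 (.node 11765 (.leaf 0x7d8d115c) (.leaf 0x7d8e1111)) (.node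 11767 (.leaf 0x7d8f0f53) (.leaf 0x7d900b01)))) (.node 11772 (.node 11770 (.node 11769 (.leaf 0x7d911093) (.leaf 0x7d920f52)) (.node 11771 (.leaf 0x7d930f8e) (.leaf 0x7d940b11))) (.node 11774 (.node 11773 (.leaf 0x7d950f55) (.leaf 0x7d960b02)) (.node 11775 (.leaf 0x7d970f56) (.leaf 0x7d980f54))))))))

/-- block of `tab` -/
def tab_46 : Tr := .node 11904 (.node 11840 (.node 11808 (.node 11792 (.node 11784 (.node 11780 (.node 11778 (.node 11777 (.leaf 0x7d990f81) (.leaf 0x7d9a1042)) (.node 11779 (.leaf 0x7d9b0f57) (.leaf 0x7d9c0f54))) (.node 11782 (.node 11781 (.leaf 0x7d9d0f4e) (.leaf 0x7d9e0f56)) (.node 11783 (.leaf 0x7d9f0fc8) (.leaf 0x7da00fc8)))) (.node 11788 (.node 11786 (.node 11785 (.leaf 0x7da10f59) (.leaf 0x7da20b0b)) (.node 11787 (.leaf 0x7da30f97) (.leaf 0x7da40f58))) (.node 11790 (.node 11789 (.leaf 0x7da50f71) (.leaf 0x7da60fa3)) (.node 11791 (.leaf 0x7da70f5b) (.leaf 0x7da80b0d))))) (.node 11800 (.node 11796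 (.node 11794 (.node 11793 (.leaf 0x7da90da5) (.leaf 0x7daa0f5a)) (.node 11795 (.leaf 0x7dab0b11) (.leaf 0x7dac0b17))) (.node 11798 (.node 11797 (.leaf 0x7dad0f5d) (.leaf 0x7dae0f5e)) (.node 11799 (.leaf 0x7daf0b10) (.leaf 0x7db00f5c)))) (.node 11804 (.node 11802 (.node 11801 (.leaf 0x7db10bab) (.leaf 0x7db20fce)) (.node 11803 (.leaf 0x7db30f5f) (.leaf 0x7db40f13))) (.node 11806 (.node 11805 (.leaf 0x7db50f5c) (.leaf 0x7db60f5e)) (.node 11807 (.leaf 0x7db70bc3) (.leaf 0x7db80ba9)))))) (.node 11824 (.node 11816 (.node 11812 (.node 11810 (.node 11809 (.leaf 0x7db90f61) (.leaf 0x7dba0c43)) (.node 11811 (.leaf 0x7dbb0b1a) (.leaf 0x7dbc0f60))) (.node 11814 (.node 11813 (.leaf 0x7dbd1160) (.leaf 0x7dbe0c4f)) (.node 11815 (.leaf 0x7dbf0f63) (.leaf 0x7dc0107c)))) (.node 11820 (.node 11818 (.node 11817 (.leaf 0x7dc10b1d) (.leaf 0x7dc20f62)) (.node 11819 (.leaf 0x7dc31075) (.leaf 0x7dc40df7))) (.node 11822 (.node 11821 (.leaf 0x7dc50f65)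 (.leaf 0x7dc60b1d)) (.node 11823 (.leaf 0x7dc70bb9) (.leaf 0x7dc80f64))))) (.node 11832 (.node 11828 (.node 11826 (.node 11825 (.leaf 0x7dc90d9d) (.leaf 0x7dca0e5f)) (.node 11827 (.leaf 0x7dcb0f67) (.leaf 0x7dcc0f68))) (.node 11830 (.node 11829 (.leaf 0x7dcd0b2a) (.leaf 0x7dce0f66)) (.node 11831 (.leaf 0x7dcf0bd0) (.leaf 0x7dd00f4d)))) (.node 11836 (.node 11834 (.node 11833 (.leaf 0x7dd10f69) (.leaf 0x7dd20e3b)) (.node 11835 (.leaf 0x7dd30f66) (.leaf 0x7dd40f68))) (.node 11838 (.node 11837 (.leaf 0x7dd50f2b) (.leaf 0x7dd60fd0)) (.node 11839 (.leaf 0x7dd70f6b) (.leaf 0x7dd80b2f))))))) (.node 11872 (.node 11856 (.node 11848 (.node 11844 (.node 11842 (.node 11841 (.leaf 0x7dd90bd1) (.leaf 0x7dda0f6a)) (.node 11843 (.leaf 0x7ddb0e2b) (.leaf 0x7ddc0bb3))) (.node 11846 (.node 11845 (.leaf 0x7ddd0f6d) (.leaf 0x7dde0b34)) (.node 11847 (.leaf 0x7ddf0f6e) (.leaf 0x7de00f6c)))) (.node 11852 (.node 11850 (.node 11849 (.leaf 0x7de10bf9)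 (.leaf 0x7de20e2f)) (.node 11851 (.leaf 0x7de30f6f) (.leaf 0x7de40f6c))) (.node 11854 (.node 11853 (.leaf 0x7de50f46) (.leaf 0x7de60f6e)) (.node 11855 (.leaf 0x7de70f4b) (.leaf 0x7de80f4b))))) (.node 11864 (.node 11860 (.node 11858 (.node 11857 (.leaf 0x7de90f71) (.leaf 0x7dea0ffb)) (.node 11859 (.leaf 0x7deb0b37) (.leaf 0x7dec0f70))) (.node 11862 (.node 11861 (.leaf 0x7ded1131) (.leaf 0x7dee0f59)) (.node 11863 (.leaf 0x7def0f77) (.leaf 0x7df00b3f)))) (.node 11868 (.node 11866 (.node 11865 (.leaf 0x7df10f73) (.leaf 0x7df20f76)) (.node 11867 (.leaf 0x7df30f72) (.leaf 0x7df40f33))) (.node 11870 (.node 11869 (.leaf 0x7df50f75) (.leaf 0x7df60f33)) (.node 11871 (.leaf 0x7df70e83) (.leaf 0x7df80f74)))))) (.node 11888 (.node 11880 (.node 11876 (.node 11874 (.node 11873 (.leaf 0x7df90c7a) (.leaf 0x7dfa0fd5)) (.node 11875 (.leaf 0x7dfb0f73) (.leaf 0x7dfc1164))) (.node 11878 (.node 11877 (.leaf 0x7dfd0d5a) (.leaf 0x7dfe0f72)) (.node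 11879 (.leaf 0x7dff0f31) (.leaf 0x7e000e45)))) (.node 11884 (.node 11882 (.node 11881 (.leaf 0x7e010f79) (.leaf 0x7e020b49)) (.node 11883 (.leaf 0x7e030e77) (.leaf 0x7e040f78))) (.node 11886 (.node 11885 (.leaf 0x7e050d93) (.leaf 0x7e061100)) (.node 11887 (.leaf 0x7e070f7b) (.leaf 0x7e080b4d))))) (.node 11896 (.node 11892 (.node 11890 (.node 11889 (.leaf 0x7e090f96) (.leaf 0x7e0a0f7a)) (.node 11891 (.leaf 0x7e0b10a0) (.leaf 0x7e0c109e))) (.node 11894 (.node 11893 (.leaf 0x7e0d0f7d) (.leaf 0x7e0e0bde)) (.node 11895 (.leaf 0x7e0f0b4e) (.leaf 0x7e100f7c)))) (.node 11900 (.node 11898 (.node 11897 (.leaf 0x7e110d5e) (.leaf 0x7e121010)) (.node 11899 (.leaf 0x7e130f7f) (.leaf 0x7e140e1a))) (.node 11902 (.node 11901 (.leaf 0x7e150b4f) (.leaf 0x7e160f7e)) (.node 11903 (.leaf 0x7e170d31) (.leaf 0x7e18101c)))))))) (.node 11968 (.node 11936 (.node 11920 (.node 11912 (.node 11908 (.node 11906 (.node 11905 (.leaf 0x7e190f81) (.leaf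 0x7e1a0f82)) (.node 11907 (.leaf 0x7e1b0b50) (.leaf 0x7e1c0f80))) (.node 11910 (.node 11909 (.leaf 0x7e1d1042) (.leaf 0x7e1e0f55)) (.node 11911 (.leaf 0x7e1f0f83) (.leaf 0x7e200eab)))) (.node 11916 (.node 11914 (.node 11913 (.leaf 0x7e210f80) (.leaf 0x7e220f82)) (.node 11915 (.leaf 0x7e231046) (.leaf 0x7e24103c))) (.node 11918 (.node 11917 (.leaf 0x7e250f85) (.leaf 0x7e261070)) (.node 11919 (.leaf 0x7e270b57) (.leaf 0x7e280f84))))) (.node 11928 (.node 11924 (.node 11922 (.node 11921 (.leaf 0x7e290ddf) (.leaf 0x7e2a0df9)) (.node 11923 (.leaf 0x7e2b0f87) (.leaf 0x7e2c0b57))) (.node 11926 (.node 11925 (.leaf 0x7e2d0efb) (.leaf 0x7e2e0f86)) (.node 11927 (.leaf 0x7e2f10d9) (.leaf 0x7e300ef3)))) (.node 11932 (.node 11930 (.node 11929 (.leaf 0x7e310f89) (.leaf 0x7e320d51)) (.node 11931 (.leaf 0x7e330b5b) (.leaf 0x7e340f88))) (.node 11934 (.node 11933 (.leaf 0x7e35111d) (.leaf 0x7e361050)) (.node 11935 (.leaf 0x7e370f8b) (.leaf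 0x7e380b5b)))))) (.node 11952 (.node 11944 (.node 11940 (.node 11938 (.node 11937 (.leaf 0x7e390e67) (.leaf 0x7e3a0f8a)) (.node 11939 (.leaf 0x7e3b0dab) (.leaf 0x7e3c107a))) (.node 11942 (.node 11941 (.leaf 0x7e3d0f8d) (.leaf 0x7e3e0e99)) (.node 11943 (.leaf 0x7e3f0e2c) (.leaf 0x7e400f8c)))) (.node 11948 (.node 11946 (.node 11945 (.leaf 0x7e410f03) (.leaf 0x7e420ded)) (.node 11947 (.leaf 0x7e430f8f) (.leaf 0x7e440c75))) (.node 11950 (.node 11949 (.leaf 0x7e450f53) (.leaf 0x7e460f8e)) (.node 11951 (.leaf 0x7e470c69) (.leaf 0x7e48116c))))) (.node 11960 (.node 11956 (.node 11954 (.node 11953 (.leaf 0x7e490f91) (.leaf 0x7e4a0b6f)) (.node 11955 (.leaf 0x7e4b0f9b) (.leaf 0x7e4c0f90))) (.node 11958 (.node 11957 (.leaf 0x7e4d0fcf) (.leaf 0x7e4e1094)) (.node 11959 (.leaf 0x7e4f0f93) (.leaf 0x7e500b73)))) (.node 11964 (.node 11962 (.node 11961 (.leaf 0x7e51101f) (.leaf 0x7e520f92)) (.node 11963 (.leaf 0x7e530fa7) (.leaf 0x7e540f31)))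 (.node 11966 (.node 11965 (.leaf 0x7e550f95) (.leaf 0x7e560b82)) (.node 11967 (.leaf 0x7e570bfd) (.leaf 0x7e580f94))))))) (.node 12000 (.node 11984 (.node 11976 (.node 11972 (.node 11970 (.node 11969 (.leaf 0x7e590fa8) (.leaf 0x7e5a0fa5)) (.node 11971 (.leaf 0x7e5b0f9b) (.leaf 0x7e5c0f7a))) (.node 11974 (.node 11973 (.leaf 0x7e5d0da7) (.leaf 0x7e5e0f98)) (.node 11975 (.leaf 0x7e5f0f58) (.leaf 0x7e600e65)))) (.node 11980 (.node 11978 (.node 11977 (.leaf 0x7e610f97) (.leaf 0x7e6210c7)) (.node 11979 (.leaf 0x7e63111e) (.leaf 0x7e640f9a))) (.node 11982 (.node 11981 (.leaf 0x7e650e65) (.leaf 0x7e660ceb)) (.node 11983 (.leaf 0x7e670f99) (.leaf 0x7e680e70))))) (.node 11992 (.node 11988 (.node 11986 (.node 11985 (.leaf 0x7e690ed0) (.leaf 0x7e6a0f96)) (.node 11987 (.leaf 0x7e6b0f90) (.leaf 0x7e6c0f9c))) (.node 11990 (.node 11989 (.leaf 0x7e6d0f9d) (.leaf 0x7e6e0f9b)) (.node 11991 (.leaf 0x7e6f0f2a) (.leaf 0x7e700f9c)))) (.node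 11996 (.node 11994 (.node 11993 (.leaf 0x7e710e2f) (.leaf 0x7e720fb0)) (.node 11995 (.leaf 0x7e730f9f) (.leaf 0x7e740da8))) (.node 11998 (.node 11997 (.leaf 0x7e750df5) (.leaf 0x7e760f9e)) (.node 11999 (.leaf 0x7e770def) (.leaf 0x7e780d69)))))) (.node 12016 (.node 12008 (.node 12004 (.node 12002 (.node 12001 (.leaf 0x7e790fa1) (.leaf 0x7e7a0b8b)) (.node 12003 (.leaf 0x7e7b0ffa) (.leaf 0x7e7c0fa0))) (.node 12006 (.node 12005 (.leaf 0x7e7d0fa3) (.leaf 0x7e7e1132)) (.node 12007 (.leaf 0x7e7f0fa3) (.leaf 0x7e800fac)))) (.node 12012 (.node 12010 (.node 12009 (.leaf 0x7e810b91) (.leaf 0x7e820fa2)) (.node 12011 (.leaf 0x7e830f59) (.leaf 0x7e840fa1))) (.node 12014 (.node 12013 (.leaf 0x7e850fa7) (.leaf 0x7e860fa5)) (.node 12015 (.leaf 0x7e870b93) (.leaf 0x7e880fa6))))) (.node 12024 (.node 12020 (.node 12018 (.node 12017 (.leaf 0x7e890f95) (.leaf 0x7e8a0fa4)) (.node 12019 (.leaf 0x7e8b0fa5) (.leaf 0x7e8c0f06))) (.node 12022 (.node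 12021 (.leaf 0x7e8d1165) (.leaf 0x7e8e0fa4)) (.node 12023 (.leaf 0x7e8f0e51) (.leaf 0x7e900f93)))) (.node 12028 (.node 12026 (.node 12025 (.leaf 0x7e910fa9) (.leaf 0x7e920e11)) (.node 12027 (.leaf 0x7e930f95) (.leaf 0x7e940fa8))) (.node 12030 (.node 12029 (.leaf 0x7e950fd3) (.leaf 0x7e960d0f)) (.node 12031 (.leaf 0x7e970fab) (.leaf 0x7e980cf5))))))))

/-- block of `tab` -/
def tab_47 : Tr := .node 12160 (.node 12096 (.node 12064 (.node 12048 (.node 12040 (.node 12036 (.node 12034 (.node 12033 (.leaf 0x7e990dd9) (.leaf 0x7e9a0faa)) (.node 12035 (.leaf 0x7e9b0c5a) (.leaf 0x7e9c0e20))) (.node 12038 (.node 12037 (.leaf 0x7e9d0fad) (.leaf 0x7e9e0dd9)) (.node 12039 (.leaf 0x7e9f0fa2) (.leaf 0x7ea00fac)))) (.node 12044 (.node 12042 (.node 12041 (.leaf 0x7ea1112b) (.leaf 0x7ea210c4)) (.node 12043 (.leaf 0x7ea30faf) (.leaf 0x7ea40b9d))) (.node 12046 (.node 12045 (.leaf 0x7ea50dce) (.leaf 0x7ea60fae)) (.node 12047 (.leaf 0x7ea7101f)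 (.leaf 0x7ea80d29))))) (.node 12056 (.node 12052 (.node 12050 (.node 12049 (.leaf 0x7ea90fb1) (.leaf 0x7eaa0f9d)) (.node 12051 (.leaf 0x7eab0ba1) (.leaf 0x7eac0fb0))) (.node 12054 (.node 12053 (.leaf 0x7ead109b) (.leaf 0x7eae109c)) (.node 12055 (.leaf 0x7eaf0fb3) (.leaf 0x7eb00eed)))) (.node 12060 (.node 12058 (.node 12057 (.leaf 0x7eb10ba3) (.leaf 0x7eb20fb2)) (.node 12059 (.leaf 0x7eb30ef3) (.leaf 0x7eb41156))) (.node 12062 (.node 12061 (.leaf 0x7eb50fb5) (.leaf 0x7eb60ba3)) (.node 12063 (.leaf 0x7eb7106b) (.leaf 0x7eb80fb4)))))) (.node 12080 (.node 12072 (.node 12068 (.node 12066 (.node 12065 (.leaf 0x7eb90e9d) (.leaf 0x7eba0e73)) (.node 12067 (.leaf 0x7ebb0fb7) (.leaf 0x7ebc0ddd))) (.node 12070 (.node 12069 (.leaf 0x7ebd0ba5) (.leaf 0x7ebe0fb6)) (.node 12071 (.leaf 0x7ebf1072) (.leaf 0x7ec00db7)))) (.node 12076 (.node 12074 (.node 12073 (.leaf 0x7ec10fb9) (.leaf 0x7ec20ba5)) (.node 12075 (.leaf 0x7ec30f1f) (.leaf 0x7ec40fb8)))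 (.node 12078 (.node 12077 (.leaf 0x7ec5104c) (.leaf 0x7ec61129)) (.node 12079 (.leaf 0x7ec70fbb) (.leaf 0x7ec80ba8))))) (.node 12088 (.node 12084 (.node 12082 (.node 12081 (.leaf 0x7ec90fbc) (.leaf 0x7eca0fba)) (.node 12083 (.leaf 0x7ecb0f4f) (.leaf 0x7ecc1041))) (.node 12086 (.node 12085 (.leaf 0x7ecd0fbd) (.leaf 0x7ece0fba)) (.node 12087 (.leaf 0x7ecf0c53) (.leaf 0x7ed00fbc)))) (.node 12092 (.node 12090 (.node 12089 (.leaf 0x7ed11001) (.leaf 0x7ed21003)) (.node 12091 (.leaf 0x7ed30fbf) (.leaf 0x7ed40bb9))) (.node 12094 (.node 12093 (.leaf 0x7ed5107c) (.leaf 0x7ed60fbe)) (.node 12095 (.leaf 0x7ed70e9b) (.leaf 0x7ed8107b))))))) (.node 12128 (.node 12112 (.node 12104 (.node 12100 (.node 12098 (.node 12097 (.leaf 0x7ed90fc1) (.leaf 0x7eda0bba)) (.node 12099 (.leaf 0x7edb0dfd) (.leaf 0x7edc0fc0))) (.node 12102 (.node 12101 (.leaf 0x7edd0ec7) (.leaf 0x7ede1161)) (.node 12103 (.leaf 0x7edf0fc3) (.leaf 0x7ee00d83)))) (.node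 12108 (.node 12106 (.node 12105 (.leaf 0x7ee10bc4) (.leaf 0x7ee20fc2)) (.node 12107 (.leaf 0x7ee31112) (.leaf 0x7ee4115d))) (.node 12110 (.node 12109 (.leaf 0x7ee50fc5) (.leaf 0x7ee61092)) (.node 12111 (.leaf 0x7ee70bc5) (.leaf 0x7ee80fc4))))) (.node 12120 (.node 12116 (.node 12114 (.node 12113 (.leaf 0x7ee90bd1) (.leaf 0x7eea0fc6)) (.node 12115 (.leaf 0x7eeb0fc7) (.leaf 0x7eec0fc5))) (.node 12118 (.node 12117 (.leaf 0x7eed0ea5) (.leaf 0x7eee0fc6)) (.node 12119 (.leaf 0x7eef1170) (.leaf 0x7ef00ea3)))) (.node 12124 (.node 12122 (.node 12121 (.leaf 0x7ef10fc9) (.leaf 0x7ef20f57)) (.node 12123 (.leaf 0x7ef30f57) (.leaf 0x7ef40fc8))) (.node 12126 (.node 12125 (.leaf 0x7ef51178) (.leaf 0x7ef6117b)) (.node 12127 (.leaf 0x7ef70fcb) (.leaf 0x7ef80c35)))))) (.node 12144 (.node 12136 (.node 12132 (.node 12130 (.node 12129 (.leaf 0x7ef90c31) (.leaf 0x7efa0fca)) (.node 12131 (.leaf 0x7efb0fcc) (.leaf 0x7efc0fcc))) (.node 12134 (.node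 12133 (.leaf 0x7efd0fcd) (.leaf 0x7efe0fcb)) (.node 12135 (.leaf 0x7eff0fcb) (.leaf 0x7f000fcc)))) (.node 12140 (.node 12138 (.node 12137 (.leaf 0x7f010ef1) (.leaf 0x7f020efa)) (.node 12139 (.leaf 0x7f030fcf) (.leaf 0x7f040f5d))) (.node 12142 (.node 12141 (.leaf 0x7f050e41) (.leaf 0x7f060fce)) (.node 12143 (.leaf 0x7f070fd0) (.leaf 0x7f080f91))))) (.node 12152 (.node 12148 (.node 12146 (.node 12145 (.leaf 0x7f090fd1) (.leaf 0x7f0a0f69)) (.node 12147 (.leaf 0x7f0b0fcf) (.leaf 0x7f0c0fd0))) (.node 12150 (.node 12149 (.leaf 0x7f0d1091) (.leaf 0x7f0e1090)) (.node 12151 (.leaf 0x7f0f0fd3) (.leaf 0x7f100fd6)))) (.node 12156 (.node 12154 (.node 12153 (.leaf 0x7f110bda) (.leaf 0x7f120fd2)) (.node 12155 (.leaf 0x7f130d74) (.leaf 0x7f140fa9))) (.node 12158 (.node 12157 (.leaf 0x7f150fd5) (.leaf 0x7f160bdc)) (.node 12159 (.leaf 0x7f170fd6) (.leaf 0x7f180fd4)))))))) (.node 12224 (.node 12192 (.node 12176 (.node 12168 (.node 12164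 (.node 12162 (.node 12161 (.leaf 0x7f190f75) (.leaf 0x7f1a0d72)) (.node 12163 (.leaf 0x7f1b0fd7) (.leaf 0x7f1c0fd4))) (.node 12166 (.node 12165 (.leaf 0x7f1d0fd2) (.leaf 0x7f1e0fd6)) (.node 12167 (.leaf 0x7f1f0ce3) (.leaf 0x7f200cf7)))) (.node 12172 (.node 12170 (.node 12169 (.leaf 0x7f210fd9) (.leaf 0x7f220ee0)) (.node 12171 (.leaf 0x7f230d79) (.leaf 0x7f240fd8))) (.node 12174 (.node 12173 (.leaf 0x7f251035) (.leaf 0x7f26100a)) (.node 12175 (.leaf 0x7f270fdb) (.leaf 0x7f280be1))))) (.node 12184 (.node 12180 (.node 12178 (.node 12177 (.leaf 0x7f290be9) (.leaf 0x7f2a0fda)) (.node 12179 (.leaf 0x7f2b10ae) (.leaf 0x7f2c10b5))) (.node 12182 (.node 12181 (.leaf 0x7f2d0fdd) (.leaf 0x7f2e0beb)) (.node 12183 (.leaf 0x7f2f0be3) (.leaf 0x7f300fdc)))) (.node 12188 (.node 12186 (.node 12185 (.leaf 0x7f3110b2) (.leaf 0x7f3210b1)) (.node 12187 (.leaf 0x7f330fdf) (.leaf 0x7f340be3))) (.node 12190 (.node 12189 (.leaf 0x7f350feb) (.leaf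 0x7f360fde)) (.node 12191 (.leaf 0x7f370f27) (.leaf 0x7f380d2d)))))) (.node 12208 (.node 12200 (.node 12196 (.node 12194 (.node 12193 (.leaf 0x7f390fe1) (.leaf 0x7f3a0e79)) (.node 12195 (.leaf 0x7f3b0ee8) (.leaf 0x7f3c0fe0))) (.node 12198 (.node 12197 (.leaf 0x7f3d100d) (.leaf 0x7f3e1030)) (.node 12199 (.leaf 0x7f3f0fe3) (.leaf 0x7f400feb)))) (.node 12204 (.node 12202 (.node 12201 (.leaf 0x7f410beb) (.leaf 0x7f420fe2)) (.node 12203 (.leaf 0x7f430d27) (.leaf 0x7f440f23))) (.node 12206 (.node 12205 (.leaf 0x7f450fe5) (.leaf 0x7f460bfe)) (.node 12207 (.leaf 0x7f470e05) (.leaf 0x7f480fe4))))) (.node 12216 (.node 12212 (.node 12210 (.node 12209 (.leaf 0x7f490ffa) (.leaf 0x7f4a0e43)) (.node 12211 (.leaf 0x7f4b0fe7) (.leaf 0x7f4c0f25))) (.node 12214 (.node 12213 (.leaf 0x7f4d0f37) (.leaf 0x7f4e0fe6)) (.node 12215 (.leaf 0x7f4f1064) (.leaf 0x7f501146)))) (.node 12220 (.node 12218 (.node 12217 (.leaf 0x7f510fe9) (.leaf 0x7f520f37))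 (.node 12219 (.leaf 0x7f530f29) (.leaf 0x7f540fe8))) (.node 12222 (.node 12221 (.leaf 0x7f551143) (.leaf 0x7f561059)) (.node 12223 (.leaf 0x7f570feb) (.leaf 0x7f580e1b))))))) (.node 12256 (.node 12240 (.node 12232 (.node 12228 (.node 12226 (.node 12225 (.leaf 0x7f590dcf) (.leaf 0x7f5a0fea)) (.node 12227 (.leaf 0x7f5b0fde) (.leaf 0x7f5c0fe2))) (.node 12230 (.node 12229 (.leaf 0x7f5d0fed) (.leaf 0x7f5e0d47)) (.node 12231 (.leaf 0x7f5f0d53) (.leaf 0x7f600fec)))) (.node 12236 (.node 12234 (.node 12233 (.leaf 0x7f610f0f) (.leaf 0x7f621121)) (.node 12235 (.leaf 0x7f630fef) (.leaf 0x7f640f21))) (.node 12238 (.node 12237 (.leaf 0x7f650ee2) (.leaf 0x7f660fee)) (.node 12239 (.leaf 0x7f671126) (.leaf 0x7f680ff0))))) (.node 12248 (.node 12244 (.node 12242 (.node 12241 (.leaf 0x7f690ff1) (.leaf 0x7f6a0fef)) (.node 12243 (.leaf 0x7f6b0cbf) (.leaf 0x7f6c0ff0))) (.node 12246 (.node 12245 (.leaf 0x7f6d0d71) (.leaf 0x7f6e0dbd)) (.node 12247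 (.leaf 0x7f6f0ff3) (.leaf 0x7f700c67)))) (.node 12252 (.node 12250 (.node 12249 (.leaf 0x7f710d0c) (.leaf 0x7f720ff2)) (.node 12251 (.leaf 0x7f730e63) (.leaf 0x7f740c6d))) (.node 12254 (.node 12253 (.leaf 0x7f751023) (.leaf 0x7f760c6d)) (.node 12255 (.leaf 0x7f770ee9) (.leaf 0x7f78101b)))))) (.node 12272 (.node 12264 (.node 12260 (.node 12258 (.node 12257 (.leaf 0x7f790ea6) (.leaf 0x7f7a0c6c)) (.node 12259 (.leaf 0x7f7b0ff7) (.leaf 0x7f7c0ee1))) (.node 12262 (.node 12261 (.leaf 0x7f7d0ea7) (.leaf 0x7f7e0ff6)) (.node 12263 (.leaf 0x7f7f1019) (.leaf 0x7f801018)))) (.node 12268 (.node 12266 (.node 12265 (.leaf 0x7f810ff9) (.leaf 0x7f820ea7)) (.node 12267 (.leaf 0x7f830deb) (.leaf 0x7f840ff8))) (.node 12270 (.node 12269 (.leaf 0x7f850c9a) (.leaf 0x7f860dd5)) (.node 12271 (.leaf 0x7f870ffd) (.leaf 0x7f880fa0))))) (.node 12280 (.node 12276 (.node 12274 (.node 12273 (.leaf 0x7f890fe5) (.leaf 0x7f8a0ffc)) (.node 12275 (.leaf 0x7f8b0f3b)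 (.leaf 0x7f8c0f70))) (.node 12278 (.node 12277 (.leaf 0x7f8d0ffb) (.leaf 0x7f8e1123)) (.node 12279 (.leaf 0x7f8f114b) (.leaf 0x7f900ffa)))) (.node 12284 (.node 12282 (.node 12281 (.leaf 0x7f91114c) (.leaf 0x7f921124)) (.node 12283 (.leaf 0x7f93103b) (.leaf 0x7f940d6b))) (.node 12286 (.node 12285 (.leaf 0x7f950d87) (.leaf 0x7f961000)) (.node 12287 (.leaf 0x7f970d85) (.leaf 0x7f980eff))))))))

/-- block of `tab` -/
def tab_48 : Tr := .node 12416 (.node 12352 (.node 12320 (.node 12304 (.node 12296 (.node 12292 (.node 12290 (.node 12289 (.leaf 0x7f990fff) (.leaf 0x7f9a0d33)) (.node 12291 (.leaf 0x7f9b0e61) (.leaf 0x7f9c1002))) (.node 12294 (.node 12293 (.leaf 0x7f9d0e61) (.leaf 0x7f9e0fbd)) (.node 12295 (.leaf 0x7f9f1001) (.leaf 0x7fa00cb3)))) (.node 12300 (.node 12298 (.node 12297 (.leaf 0x7fa11005) (.leaf 0x7fa21004)) (.node 12299 (.leaf 0x7fa30fbd) (.leaf 0x7fa40d33))) (.node 12302 (.node 12301 (.leaf 0x7fa51003) (.leaf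 0x7fa60c45)) (.node 12303 (.leaf 0x7fa71115) (.leaf 0x7fa8103a))))) (.node 12312 (.node 12308 (.node 12306 (.node 12305 (.leaf 0x7fa91002) (.leaf 0x7faa0e1f)) (.node 12307 (.leaf 0x7fab1007) (.leaf 0x7fac0e1e))) (.node 12310 (.node 12309 (.leaf 0x7fad0cd5) (.leaf 0x7fae1006)) (.node 12311 (.leaf 0x7faf0f49) (.leaf 0x7fb00cdf)))) (.node 12316 (.node 12314 (.node 12313 (.leaf 0x7fb11009) (.leaf 0x7fb20cd3)) (.node 12315 (.leaf 0x7fb30f49) (.leaf 0x7fb41008))) (.node 12318 (.node 12317 (.leaf 0x7fb50cd9) (.leaf 0x7fb60e26)) (.node 12319 (.leaf 0x7fb7100b) (.leaf 0x7fb80fd9)))))) (.node 12336 (.node 12328 (.node 12324 (.node 12322 (.node 12321 (.leaf 0x7fb90cde) (.leaf 0x7fba100a)) (.node 12323 (.leaf 0x7fbb0f2f) (.leaf 0x7fbc0cd7))) (.node 12326 (.node 12325 (.leaf 0x7fbd100d) (.leaf 0x7fbe0cdb)) (.node 12327 (.leaf 0x7fbf0f35) (.leaf 0x7fc0100c)))) (.node 12332 (.node 12330 (.node 12329 (.leaf 0x7fc10cd2) (.leaf 0x7fc20fe1))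 (.node 12331 (.leaf 0x7fc3100f) (.leaf 0x7fc40da3))) (.node 12334 (.node 12333 (.leaf 0x7fc50cd1) (.leaf 0x7fc6100e)) (.node 12335 (.leaf 0x7fc71044) (.leaf 0x7fc8109d))))) (.node 12344 (.node 12340 (.node 12338 (.node 12337 (.leaf 0x7fc91011) (.leaf 0x7fca0f7d)) (.node 12339 (.leaf 0x7fcb0edd) (.leaf 0x7fcc1010))) (.node 12342 (.node 12341 (.leaf 0x7fcd1116) (.leaf 0x7fce0e49)) (.node 12343 (.leaf 0x7fcf1013) (.leaf 0x7fd00ee7)))) (.node 12348 (.node 12346 (.node 12345 (.leaf 0x7fd10f39) (.leaf 0x7fd21012)) (.node 12347 (.leaf 0x7fd30e55) (.leaf 0x7fd41119))) (.node 12350 (.node 12349 (.leaf 0x7fd51022) (.leaf 0x7fd60c9b)) (.node 12351 (.leaf 0x7fd70e00) (.leaf 0x7fd81021))))))) (.node 12384 (.node 12368 (.node 12360 (.node 12356 (.node 12354 (.node 12353 (.leaf 0x7fd90e01) (.leaf 0x7fda0e44)) (.node 12355 (.leaf 0x7fdb101e) (.leaf 0x7fdc0e50))) (.node 12358 (.node 12357 (.leaf 0x7fdd0e8f) (.leaf 0x7fde1018)) (.node 12359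 (.leaf 0x7fdf0e8e) (.leaf 0x7fe00d0d)))) (.node 12364 (.node 12362 (.node 12361 (.leaf 0x7fe11017) (.leaf 0x7fe20ff7)) (.node 12363 (.leaf 0x7fe31019) (.leaf 0x7fe4101a))) (.node 12366 (.node 12365 (.leaf 0x7fe51018) (.leaf 0x7fe60ff7)) (.node 12367 (.leaf 0x7fe71019) (.leaf 0x7fe8101b))))) (.node 12376 (.node 12372 (.node 12370 (.node 12369 (.leaf 0x7fe910c9) (.leaf 0x7fea0ff5)) (.node 12371 (.leaf 0x7feb1025) (.leaf 0x7fec101a))) (.node 12374 (.node 12373 (.leaf 0x7fed101d) (.leaf 0x7fee0f7f)) (.node 12375 (.leaf 0x7fef0f30) (.leaf 0x7ff0101c)))) (.node 12380 (.node 12378 (.node 12377 (.leaf 0x7ff11117) (.leaf 0x7ff21151)) (.node 12379 (.leaf 0x7ff31016) (.leaf 0x7ff4116b))) (.node 12382 (.node 12381 (.leaf 0x7ff51184) (.leaf 0x7ff61020)) (.node 12383 (.leaf 0x7ff70f92) (.leaf 0x7ff80faf)))))) (.node 12400 (.node 12392 (.node 12388 (.node 12386 (.node 12385 (.leaf 0x7ff9101f) (.leaf 0x7ffa1152)) (.node 12387 (.leaf 0x7ffb1118)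 (.leaf 0x7ffc1015))) (.node 12390 (.node 12389 (.leaf 0x7ffd1185) (.leaf 0x7ffe116a)) (.node 12391 (.leaf 0x7fff1014) (.leaf 0x80001024)))) (.node 12396 (.node 12394 (.node 12393 (.leaf 0x80011023) (.leaf 0x80020ff4)) (.node 12395 (.leaf 0x80031022) (.leaf 0x80041024))) (.node 12398 (.node 12397 (.leaf 0x80051025) (.leaf 0x80061023)) (.node 12399 (.leaf 0x80071022) (.leaf 0x80081024))))) (.node 12408 (.node 12404 (.node 12402 (.node 12401 (.leaf 0x800910ca) (.leaf 0x800a101b)) (.node 12403 (.leaf 0x800b1027) (.leaf 0x800c0cdd))) (.node 12406 (.node 12405 (.leaf 0x800d0e31) (.leaf 0x800e1026)) (.node 12407 (.leaf 0x800f10a1) (.leaf 0x80101049)))) (.node 12412 (.node 12410 (.node 12409 (.leaf 0x80111029) (.leaf 0x80120d2b)) (.node 12411 (.leaf 0x80130e02) (.leaf 0x80141028))) (.node 12414 (.node 12413 (.leaf 0x80151157) (.leaf 0x80160c69)) (.node 12415 (.leaf 0x8017102b) (.leaf 0x80180e09)))))))) (.node 12480 (.node 12448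 (.node 12432 (.node 12424 (.node 12420 (.node 12418 (.node 12417 (.leaf 0x80190e36) (.leaf 0x801a102a)) (.node 12419 (.leaf 0x801b1059) (.leaf 0x801c1141))) (.node 12422 (.node 12421 (.leaf 0x801d102f) (.leaf 0x801e0e8a)) (.node 12423 (.leaf 0x801f0d2f) (.leaf 0x8020102e)))) (.node 12428 (.node 12426 (.node 12425 (.leaf 0x80210d8e) (.leaf 0x80220e95)) (.node 12427 (.leaf 0x8023102d) (.leaf 0x80241148))) (.node 12430 (.node 12429 (.leaf 0x80251064) (.leaf 0x8026102c)) (.node 12431 (.leaf 0x80270ea3) (.leaf 0x802810d8))))) (.node 12440 (.node 12436 (.node 12434 (.node 12433 (.leaf 0x80291031) (.leaf 0x802a0fe1)) (.node 12435 (.leaf 0x802b0ccb) (.leaf 0x802c1030))) (.node 12438 (.node 12437 (.leaf 0x802d10cb) (.leaf 0x802e0cfb)) (.node 12439 (.leaf 0x802f1033) (.leaf 0x80300cfb)))) (.node 12444 (.node 12442 (.node 12441 (.leaf 0x80310e0d) (.leaf 0x80321032)) (.node 12443 (.leaf 0x803310e3) (.leaf 0x80340d99))) (.node 12446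 (.node 12445 (.leaf 0x80351039) (.leaf 0x80360cca)) (.node 12447 (.leaf 0x80370ce1) (.leaf 0x80381036)))))) (.node 12464 (.node 12456 (.node 12452 (.node 12450 (.node 12449 (.leaf 0x80390ce0) (.leaf 0x803a0fd9)) (.node 12451 (.leaf 0x803b1035) (.leaf 0x803c0cb9))) (.node 12454 (.node 12453 (.leaf 0x803d10d0) (.leaf 0x803e1038)) (.node 12455 (.leaf 0x803f0d97) (.leaf 0x80400cb9)))) (.node 12460 (.node 12458 (.node 12457 (.leaf 0x80411037) (.leaf 0x80420d9b)) (.node 12459 (.leaf 0x804310e2) (.leaf 0x80441034))) (.node 12462 (.node 12461 (.leaf 0x804510f7) (.leaf 0x804610f8)) (.node 12463 (.leaf 0x80471005) (.leaf 0x80481048))))) (.node 12472 (.node 12468 (.node 12466 (.node 12465 (.leaf 0x80490d6a) (.leaf 0x804a0ffe)) (.node 12467 (.leaf 0x804b0d63) (.leaf 0x804c0dd3))) (.node 12470 (.node 12469 (.leaf 0x804d103d) (.leaf 0x804e0f83)) (.node 12471 (.leaf 0x804f0d63) (.leaf 0x8050103c)))) (.node 12476 (.node 12474 (.node 12473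 (.leaf 0x8051103e) (.leaf 0x80520d0b)) (.node 12475 (.leaf 0x8053103f) (.leaf 0x80540e27))) (.node 12478 (.node 12477 (.leaf 0x8055103d) (.leaf 0x8056103e)) (.node 12479 (.leaf 0x80570efe) (.leaf 0x80581040))))))) (.node 12512 (.node 12496 (.node 12488 (.node 12484 (.node 12482 (.node 12481 (.leaf 0x80591044) (.leaf 0x805a103f)) (.node 12483 (.leaf 0x805b0ecf) (.leaf 0x805c1045))) (.node 12486 (.node 12485 (.leaf 0x805d0fbb) (.leaf 0x805e0f4f)) (.node 12487 (.leaf 0x805f1043) (.leaf 0x80600f55)))) (.node 12492 (.node 12490 (.node 12489 (.leaf 0x80610f81) (.leaf 0x80621042)) (.node 12491 (.leaf 0x8063117e) (.leaf 0x80641044))) (.node 12494 (.node 12493 (.leaf 0x80651040) (.leaf 0x80661043)) (.node 12495 (.leaf 0x8067100f) (.leaf 0x80681041))))) (.node 12504 (.node 12500 (.node 12498 (.node 12497 (.leaf 0x80691049) (.leaf 0x806a1183)) (.node 12499 (.leaf 0x806b1047) (.leaf 0x806c0dd3))) (.node 12502 (.node 12501 (.leaf 0x806d0f83)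 (.leaf 0x806e1046)) (.node 12503 (.leaf 0x806f111a) (.leaf 0x80700ec9)))) (.node 12508 (.node 12506 (.node 12505 (.leaf 0x80711049) (.leaf 0x80720c55)) (.node 12507 (.leaf 0x8073103a) (.leaf 0x80741048))) (.node 12510 (.node 12509 (.leaf 0x80751027) (.leaf 0x80761045)) (.node 12511 (.leaf 0x8077104b) (.leaf 0x80780ec5)))))) (.node 12528 (.node 12520 (.node 12516 (.node 12514 (.node 12513 (.leaf 0x80790e21) (.leaf 0x807a104a)) (.node 12515 (.leaf 0x807b0f1f) (.leaf 0x807c0ddd))) (.node 12518 (.node 12517 (.leaf 0x807d104d) (.leaf 0x807e0d03)) (.node 12519 (.leaf 0x807f0fb9) (.leaf 0x8080104c)))) (.node 12524 (.node 12522 (.node 12521 (.leaf 0x80811079) (.leaf 0x8082105c)) (.node 12523 (.leaf 0x8083104f) (.leaf 0x80840e71))) (.node 12526 (.node 12525 (.leaf 0x80850c51) (.leaf 0x8086104e)) (.node 12527 (.leaf 0x80870e67) (.leaf 0x80880d51))))) (.node 12536 (.node 12532 (.node 12530 (.node 12529 (.leaf 0x80891051) (.leaf 0x808a0f89))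 (.node 12531 (.leaf 0x808b0cab) (.leaf 0x808c1050))) (.node 12534 (.node 12533 (.leaf 0x808d1067) (.leaf 0x808e1073)) (.node 12535 (.leaf 0x808f105f) (.leaf 0x80900d2d)))) (.node 12540 (.node 12538 (.node 12537 (.leaf 0x80910e57) (.leaf 0x80921054)) (.node 12539 (.leaf 0x80930e59) (.leaf 0x80940d27))) (.node 12542 (.node 12541 (.leaf 0x80951053) (.leaf 0x80961055)) (.node 12543 (.leaf 0x80970c44) (.leaf 0x80981056))))))))

/-- block of `tab` -/
def tab_49 : Tr := .node 12672 (.node 12608 (.node 12576 (.node 12560 (.node 12552 (.node 12548 (.node 12546 (.node 12545 (.leaf 0x80990de8) (.leaf 0x809a1054)) (.node 12547 (.leaf 0x809b1055) (.leaf 0x809c1057))) (.node 12550 (.node 12549 (.leaf 0x809d0d4f) (.leaf 0x809e1058)) (.node 12551 (.leaf 0x809f0c2d) (.leaf 0x80a01056)))) (.node 12556 (.node 12554 (.node 12553 (.leaf 0x80a11057) (.leaf 0x80a210e7)) (.node 12555 (.leaf 0x80a30c68) (.leaf 0x80a4105a))) (.node 12558 (.node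 12557 (.leaf 0x80a50fe9) (.leaf 0x80a6102b)) (.node 12559 (.leaf 0x80a71059) (.leaf 0x80a8105b))))) (.node 12568 (.node 12564 (.node 12562 (.node 12561 (.leaf 0x80a90c2d) (.leaf 0x80aa105c)) (.node 12563 (.leaf 0x80ab0d4f) (.leaf 0x80ac105a))) (.node 12566 (.node 12565 (.leaf 0x80ad105b) (.leaf 0x80ae104d)) (.node 12567 (.leaf 0x80af105d) (.leaf 0x80b0105e)))) (.node 12572 (.node 12570 (.node 12569 (.leaf 0x80b1105c) (.leaf 0x80b20ce5)) (.node 12571 (.leaf 0x80b3105d) (.leaf 0x80b40e0f))) (.node 12574 (.node 12573 (.leaf 0x80b50f1d) (.leaf 0x80b61052)) (.node 12575 (.leaf 0x80b70ec8) (.leaf 0x80b81060)))))) (.node 12592 (.node 12584 (.node 12580 (.node 12578 (.node 12577 (.leaf 0x80b91061) (.leaf 0x80ba105f)) (.node 12579 (.leaf 0x80bb0d8d) (.leaf 0x80bc1060))) (.node 12582 (.node 12581 (.leaf 0x80bd0d8b) (.leaf 0x80be1062)) (.node 12583 (.leaf 0x80bf1063) (.leaf 0x80c01061)))) (.node 12588 (.node 12586 (.node 12585 (.leaf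 0x80c10c39) (.leaf 0x80c21062)) (.node 12587 (.leaf 0x80c30ea2) (.leaf 0x80c41101))) (.node 12590 (.node 12589 (.leaf 0x80c51065) (.leaf 0x80c6102e)) (.node 12591 (.leaf 0x80c70fe7) (.leaf 0x80c81064))))) (.node 12600 (.node 12596 (.node 12594 (.node 12593 (.leaf 0x80c90c39) (.leaf 0x80ca1066)) (.node 12595 (.leaf 0x80cb1067) (.leaf 0x80cc1065))) (.node 12598 (.node 12597 (.leaf 0x80cd0d8b) (.leaf 0x80ce1066)) (.node 12599 (.leaf 0x80cf1068) (.leaf 0x80d01051)))) (.node 12604 (.node 12602 (.node 12601 (.leaf 0x80d11069) (.leaf 0x80d20caf)) (.node 12603 (.leaf 0x80d31067) (.leaf 0x80d41068))) (.node 12606 (.node 12605 (.leaf 0x80d50d39) (.leaf 0x80d60d93)) (.node 12607 (.leaf 0x80d7106d) (.leaf 0x80d80eef))))))) (.node 12640 (.node 12624 (.node 12616 (.node 12612 (.node 12610 (.node 12609 (.leaf 0x80d90def) (.leaf 0x80da106c)) (.node 12611 (.leaf 0x80db0fb4) (.leaf 0x80dc0ec3))) (.node 12614 (.node 12613 (.leaf 0x80dd106b)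 (.leaf 0x80de10c5)) (.node 12615 (.leaf 0x80df10dc) (.leaf 0x80e0106a)))) (.node 12620 (.node 12618 (.node 12617 (.leaf 0x80e10c94) (.leaf 0x80e2106e)) (.node 12619 (.leaf 0x80e3106f) (.leaf 0x80e4106d))) (.node 12622 (.node 12621 (.leaf 0x80e50e87) (.leaf 0x80e6106e)) (.node 12623 (.leaf 0x80e70ded) (.leaf 0x80e80ef7))))) (.node 12632 (.node 12628 (.node 12626 (.node 12625 (.leaf 0x80e91071) (.leaf 0x80ea0c19)) (.node 12627 (.leaf 0x80eb0f84) (.leaf 0x80ec1070))) (.node 12630 (.node 12629 (.leaf 0x80ed10db) (.leaf 0x80ee10c6)) (.node 12631 (.leaf 0x80ef1073) (.leaf 0x80f00d1a)))) (.node 12636 (.node 12634 (.node 12633 (.leaf 0x80f10fb7) (.leaf 0x80f21072)) (.node 12635 (.leaf 0x80f31051) (.leaf 0x80f41074))) (.node 12638 (.node 12637 (.leaf 0x80f51089) (.leaf 0x80f61073)) (.node 12639 (.leaf 0x80f70caf) (.leaf 0x80f81076)))))) (.node 12656 (.node 12648 (.node 12644 (.node 12642 (.node 12641 (.leaf 0x80f90df7) (.leaf 0x80fa0f63))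 (.node 12643 (.leaf 0x80fb1075) (.leaf 0x80fc1077))) (.node 12646 (.node 12645 (.leaf 0x80fd107d) (.leaf 0x80fe1078)) (.node 12647 (.leaf 0x80ff0eaf) (.leaf 0x81001076)))) (.node 12652 (.node 12650 (.node 12649 (.leaf 0x81011077) (.leaf 0x81020ce5)) (.node 12651 (.leaf 0x81031079) (.leaf 0x8104107a))) (.node 12654 (.node 12653 (.leaf 0x81051078) (.leaf 0x8106104d)) (.node 12655 (.leaf 0x81071079) (.leaf 0x81080f8b))))) (.node 12664 (.node 12660 (.node 12658 (.node 12657 (.leaf 0x81090ca4) (.leaf 0x810a1088)) (.node 12659 (.leaf 0x810b0fbf) (.leaf 0x810c0e9b))) (.node 12662 (.node 12661 (.leaf 0x810d1081) (.leaf 0x810e0fbe)) (.node 12663 (.leaf 0x810f0f62) (.leaf 0x8110107e)))) (.node 12668 (.node 12666 (.node 12665 (.leaf 0x81111076) (.leaf 0x81120ed2)) (.node 12667 (.leaf 0x8113107d) (.leaf 0x8114107f))) (.node 12670 (.node 12669 (.leaf 0x81150dfb) (.leaf 0x81161080)) (.node 12671 (.leaf 0x81170c50) (.leaf 0x8118107e))))))))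 (.node 12736 (.node 12704 (.node 12688 (.node 12680 (.node 12676 (.node 12674 (.node 12673 (.leaf 0x8119107f) (.leaf 0x811a1084)) (.node 12675 (.leaf 0x811b1083) (.leaf 0x811c107c))) (.node 12678 (.node 12677 (.leaf 0x811d1082) (.leaf 0x811e1082)) (.node 12679 (.leaf 0x811f1083) (.leaf 0x81201081)))) (.node 12684 (.node 12682 (.node 12681 (.leaf 0x81211081) (.leaf 0x81221082)) (.node 12683 (.leaf 0x81231080) (.leaf 0x81241084))) (.node 12686 (.node 12685 (.leaf 0x81251085) (.leaf 0x81261083)) (.node 12687 (.leaf 0x81271080) (.leaf 0x81281084))))) (.node 12696 (.node 12692 (.node 12690 (.node 12689 (.leaf 0x81291086) (.leaf 0x812a0ec4)) (.node 12691 (.leaf 0x812b1087) (.leaf 0x812c0e9f))) (.node 12694 (.node 12693 (.leaf 0x812d1085) (.leaf 0x812e1086)) (.node 12695 (.leaf 0x812f0c3c) (.leaf 0x81301088)))) (.node 12700 (.node 12698 (.node 12697 (.leaf 0x8131107b) (.leaf 0x81321087)) (.node 12699 (.leaf 0x81331089) (.leaf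 0x81341074))) (.node 12702 (.node 12701 (.leaf 0x81351088) (.leaf 0x81360c3a)) (.node 12703 (.leaf 0x8137108f) (.leaf 0x81380ecb)))))) (.node 12720 (.node 12712 (.node 12708 (.node 12706 (.node 12705 (.leaf 0x81390c4b) (.leaf 0x813a108c)) (.node 12707 (.leaf 0x813b0ea1) (.leaf 0x813c0ecd))) (.node 12710 (.node 12709 (.leaf 0x813d108b) (.leaf 0x813e0c6f)) (.node 12711 (.leaf 0x813f108d) (.leaf 0x8140108e)))) (.node 12716 (.node 12714 (.node 12713 (.leaf 0x8141108c) (.leaf 0x81420c6f)) (.node 12715 (.leaf 0x8143108d) (.leaf 0x81440c4d))) (.node 12718 (.node 12717 (.leaf 0x81450c6b) (.leaf 0x8146108a)) (.node 12719 (.leaf 0x81470e4f) (.leaf 0x81480e47))))) (.node 12728 (.node 12724 (.node 12722 (.node 12721 (.leaf 0x81491093) (.leaf 0x814a0fd1)) (.node 12723 (.leaf 0x814b0ef1) (.leaf 0x814c1092))) (.node 12726 (.node 12725 (.leaf 0x814d0efa) (.leaf 0x814e0fd1)) (.node 12727 (.leaf 0x814f1091) (.leaf 0x8150109f)))) (.node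 12732 (.node 12730 (.node 12729 (.leaf 0x81510fc4) (.leaf 0x81521090)) (.node 12731 (.leaf 0x81530f52) (.leaf 0x8154109a))) (.node 12734 (.node 12733 (.leaf 0x81551095) (.leaf 0x81560f91)) (.node 12735 (.leaf 0x81570f2b) (.leaf 0x81581094))))))) (.node 12768 (.node 12752 (.node 12744 (.node 12740 (.node 12738 (.node 12737 (.leaf 0x81591096) (.leaf 0x815a1097)) (.node 12739 (.leaf 0x815b1099) (.leaf 0x815c0e33))) (.node 12742 (.node 12741 (.leaf 0x815d1095) (.leaf 0x815e1098)) (.node 12743 (.leaf 0x815f1095) (.leaf 0x81600d91)))) (.node 12748 (.node 12746 (.node 12745 (.leaf 0x81611097) (.leaf 0x8162109a)) (.node 12747 (.leaf 0x81630d61) (.leaf 0x81641096))) (.node 12750 (.node 12749 (.leaf 0x81650f09) (.leaf 0x8166109f)) (.node 12751 (.leaf 0x8167109b) (.leaf 0x81681093))))) (.node 12760 (.node 12756 (.node 12754 (.node 12753 (.leaf 0x81691098) (.leaf 0x816a109a)) (.node 12755 (.leaf 0x816b0c95) (.leaf 0x816c0fb1))) (.node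 12758 (.node 12757 (.leaf 0x816d109d) (.leaf 0x816e0fb1)) (.node 12759 (.leaf 0x816f0c3f) (.leaf 0x8170109c)))) (.node 12764 (.node 12762 (.node 12761 (.leaf 0x8171100f) (.leaf 0x8172117f)) (.node 12763 (.leaf 0x8173109f) (.leaf 0x81740f7b))) (.node 12766 (.node 12765 (.leaf 0x81750e86) (.leaf 0x8176109e)) (.node 12767 (.leaf 0x81771099) (.leaf 0x81781092)))))) (.node 12784 (.node 12776 (.node 12772 (.node 12770 (.node 12769 (.leaf 0x817910a1) (.leaf 0x817a0e88)) (.node 12771 (.leaf 0x817b0f7b) (.leaf 0x817c10a0))) (.node 12774 (.node 12773 (.leaf 0x817d1182) (.leaf 0x817e1027)) (.node 12775 (.leaf 0x817f10a3) (.leaf 0x81800db3)))) (.node 12780 (.node 12778 (.node 12777 (.leaf 0x81810c80) (.leaf 0x818210a2)) (.node 12779 (.leaf 0x818310a4) (.leaf 0x818410a6))) (.node 12782 (.node 12781 (.leaf 0x818510a5) (.leaf 0x81860e47)) (.node 12783 (.leaf 0x818710a3) (.leaf 0x818810a4))))) (.node 12792 (.node 12788 (.node 12786 (.node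 12785 (.leaf 0x81890db9) (.leaf 0x818a10aa)) (.node 12787 (.leaf 0x818b10a7) (.leaf 0x818c10a3))) (.node 12790 (.node 12789 (.leaf 0x818d0e4f) (.leaf 0x818e10a6)) (.node 12791 (.leaf 0x818f10a8) (.leaf 0x81900db1)))) (.node 12796 (.node 12794 (.node 12793 (.leaf 0x819110a9) (.leaf 0x81920db1)) (.node 12795 (.leaf 0x819310a7) (.leaf 0x819410a8))) (.node 12798 (.node 12797 (.leaf 0x819510eb) (.leaf 0x81960d49)) (.node 12799 (.leaf 0x819710ab) (.leaf 0x819810a5))))))))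

/-- block of `tab` -/
def tab_50 : Tr := .node 12928 (.node 12864 (.node 12832 (.node 12816 (.node 12808 (.node 12804 (.node 12802 (.node 12801 (.leaf 0x81990db9) (.leaf 0x819a10aa)) (.node 12803 (.leaf 0x819b0eb3) (.leaf 0x819c10fd))) (.node 12806 (.node 12805 (.leaf 0x819d10ad) (.leaf 0x819e0eda)) (.node 12807 (.leaf 0x819f0d67) (.leaf 0x81a010ac)))) (.node 12812 (.node 12810 (.node 12809 (.leaf 0x81a10ef5) (.leaf 0x81a210ae)) (.node 12811 (.leaf 0x81a310af) (.leaf 0x81a410ad))) (.node 12814 (.node 12813 (.leaf 0x81a50fdb) (.leaf 0x81a610ae)) (.node 12815 (.leaf 0x81a70d7b) (.leaf 0x81a810b0))))) (.node 12824 (.node 12820 (.node 12818 (.node 12817 (.leaf 0x81a910b1) (.leaf 0x81aa10af)) (.node 12819 (.leaf 0x81ab0d35) (.leaf 0x81ac10b0))) (.node 12822 (.node 12821 (.leaf 0x81ad0fdd) (.leaf 0x81ae10b2)) (.node 12823 (.leaf 0x81af10b3) (.leaf 0x81b010b1)))) (.node 12828 (.node 12826 (.node 12825 (.leaf 0x81b10fdd) (.leaf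 0x81b210b2)) (.node 12827 (.leaf 0x81b30d6d) (.leaf 0x81b410b4))) (.node 12830 (.node 12829 (.leaf 0x81b510b5) (.leaf 0x81b610b3)) (.node 12831 (.leaf 0x81b70f1b) (.leaf 0x81b810b4)))))) (.node 12848 (.node 12840 (.node 12836 (.node 12834 (.node 12833 (.leaf 0x81b90fdb) (.leaf 0x81ba10b6)) (.node 12835 (.leaf 0x81bb10b7) (.leaf 0x81bc10b5))) (.node 12838 (.node 12837 (.leaf 0x81bd0ef5) (.leaf 0x81be10b6)) (.node 12839 (.leaf 0x81bf0efd) (.leaf 0x81c00edb)))) (.node 12844 (.node 12842 (.node 12841 (.leaf 0x81c110bb) (.leaf 0x81c210b9)) (.node 12843 (.leaf 0x81c30c1d) (.leaf 0x81c410ba))) (.node 12846 (.node 12845 (.leaf 0x81c50eb7) (.leaf 0x81c610b8)) (.node 12847 (.leaf 0x81c710b9) (.leaf 0x81c810c4))))) (.node 12856 (.node 12852 (.node 12850 (.node 12849 (.leaf 0x81c91177) (.leaf 0x81ca10b8)) (.node 12851 (.leaf 0x81cb1172) (.leaf 0x81cc10c7))) (.node 12854 (.node 12853 (.leaf 0x81cd10bf) (.leaf 0x81ce0c1d)) (.node 12855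 (.leaf 0x81cf10bd) (.leaf 0x81d010be)))) (.node 12860 (.node 12858 (.node 12857 (.leaf 0x81d110bc) (.leaf 0x81d20eb7)) (.node 12859 (.leaf 0x81d310bd) (.leaf 0x81d410c2))) (.node 12862 (.node 12861 (.leaf 0x81d50d1d) (.leaf 0x81d610bc)) (.node 12863 (.leaf 0x81d70c29) (.leaf 0x81d810c0))))))) (.node 12896 (.node 12880 (.node 12872 (.node 12868 (.node 12866 (.node 12865 (.leaf 0x81d910c1) (.leaf 0x81da10bf)) (.node 12867 (.leaf 0x81db0cf2) (.leaf 0x81dc10c0))) (.node 12870 (.node 12869 (.leaf 0x81dd10f9) (.leaf 0x81de118c)) (.node 12871 (.leaf 0x81df10d5) (.leaf 0x81e00cec)))) (.node 12876 (.node 12874 (.node 12873 (.leaf 0x81e110be) (.leaf 0x81e210c8)) (.node 12875 (.leaf 0x81e30cf3) (.leaf 0x81e40ced))) (.node 12878 (.node 12877 (.leaf 0x81e510c5) (.leaf 0x81e60fad)) (.node 12879 (.leaf 0x81e710ba) (.leaf 0x81e810c4))))) (.node 12888 (.node 12884 (.node 12882 (.node 12881 (.leaf 0x81e910c6) (.leaf 0x81ea106c)) (.node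 12883 (.leaf 0x81eb10c7) (.leaf 0x81ec1071))) (.node 12886 (.node 12885 (.leaf 0x81ed10c5) (.leaf 0x81ee10c6)) (.node 12887 (.leaf 0x81ef10bb) (.leaf 0x81f00f98)))) (.node 12892 (.node 12890 (.node 12889 (.leaf 0x81f110c3) (.leaf 0x81f210c9)) (.node 12891 (.leaf 0x81f310ca) (.leaf 0x81f410d0))) (.node 12894 (.node 12893 (.leaf 0x81f5101a) (.leaf 0x81f610c8)) (.node 12895 (.leaf 0x81f710cb) (.leaf 0x81f810c8)))))) (.node 12912 (.node 12904 (.node 12900 (.node 12898 (.node 12897 (.leaf 0x81f91025) (.leaf 0x81fa10ca)) (.node 12899 (.leaf 0x81fb10cc) (.leaf 0x81fc1031))) (.node 12902 (.node 12901 (.leaf 0x81fd10cd) (.leaf 0x81fe0e0d)) (.node 12903 (.leaf 0x81ff10cb) (.leaf 0x820010cc)))) (.node 12908 (.node 12906 (.node 12905 (.leaf 0x820110ce) (.leaf 0x82020ce7)) (.node 12907 (.leaf 0x820310cf) (.leaf 0x82040edb))) (.node 12910 (.node 12909 (.leaf 0x820510cd) (.leaf 0x820610ce)) (.node 12911 (.leaf 0x82071169) (.leaf 0x820810d4)))))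 (.node 12920 (.node 12916 (.node 12914 (.node 12913 (.leaf 0x820910c9) (.leaf 0x820a1036)) (.node 12915 (.leaf 0x820b10d1) (.leaf 0x820c10d2))) (.node 12918 (.node 12917 (.leaf 0x820d10d0) (.leaf 0x820e0d97)) (.node 12919 (.leaf 0x820f10d1) (.leaf 0x82100cef)))) (.node 12924 (.node 12922 (.node 12921 (.leaf 0x821110d3) (.leaf 0x821210d4)) (.node 12923 (.leaf 0x821310d2) (.leaf 0x82140eda))) (.node 12926 (.node 12925 (.leaf 0x821510d3) (.leaf 0x821610cf)) (.node 12927 (.leaf 0x82171168) (.leaf 0x821810c2)))))))) (.node 12992 (.node 12960 (.node 12944 (.node 12936 (.node 12932 (.node 12930 (.node 12929 (.leaf 0x82191191) (.leaf 0x821a10f6)) (.node 12931 (.leaf 0x821b10d9) (.leaf 0x821c10d7))) (.node 12934 (.node 12933 (.leaf 0x821d0c23) (.leaf 0x821e10d8)) (.node 12935 (.leaf 0x821f0c23) (.leaf 0x822010d6)))) (.node 12940 (.node 12938 (.node 12937 (.leaf 0x822110d7) (.leaf 0x8222102f)) (.node 12939 (.leaf 0x82231171) (.leaf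 0x822410d6))) (.node 12942 (.node 12941 (.leaf 0x82251158) (.leaf 0x82260f87)) (.node 12943 (.leaf 0x822710db) (.leaf 0x822810e0))))) (.node 12952 (.node 12948 (.node 12946 (.node 12945 (.leaf 0x82290c3d) (.leaf 0x822a10da)) (.node 12947 (.leaf 0x822b10dc) (.leaf 0x822c1071))) (.node 12950 (.node 12949 (.leaf 0x822d10dd) (.leaf 0x822e106c)) (.node 12951 (.leaf 0x822f10db) (.leaf 0x823010dc)))) (.node 12956 (.node 12954 (.node 12953 (.leaf 0x82310ed3) (.leaf 0x823210df)) (.node 12955 (.leaf 0x823310df) (.leaf 0x823410e1))) (.node 12958 (.node 12957 (.leaf 0x82350c4d) (.leaf 0x823610de)) (.node 12959 (.leaf 0x823710dd) (.leaf 0x823810e0)))))) (.node 12976 (.node 12968 (.node 12964 (.node 12962 (.node 12961 (.leaf 0x823910e5) (.leaf 0x823a10df)) (.node 12963 (.leaf 0x823b10da) (.leaf 0x823c10e2))) (.node 12966 (.node 12965 (.leaf 0x823d0d7d) (.leaf 0x823e10de)) (.node 12967 (.leaf 0x823f10e1) (.leaf 0x82401038)))) (.node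 12972 (.node 12970 (.node 12969 (.leaf 0x824110e3) (.leaf 0x824210e4)) (.node 12971 (.leaf 0x824310e2) (.leaf 0x82441033))) (.node 12974 (.node 12973 (.leaf 0x824510e3) (.leaf 0x824610e5)) (.node 12975 (.leaf 0x82470f19) (.leaf 0x824810e0))))) (.node 12984 (.node 12980 (.node 12978 (.node 12977 (.leaf 0x82490ecd) (.leaf 0x824a10e4)) (.node 12979 (.leaf 0x824b10ed) (.leaf 0x824c0c6a))) (.node 12982 (.node 12981 (.leaf 0x824d10e7) (.leaf 0x824e10e8)) (.node 12983 (.leaf 0x824f10e6) (.leaf 0x82501058)))) (.node 12988 (.node 12986 (.node 12985 (.leaf 0x825110e7) (.leaf 0x825210e9)) (.node 12987 (.leaf 0x82530f45) (.leaf 0x825410ea))) (.node 12990 (.node 12989 (.leaf 0x82550f1d) (.leaf 0x825610e8)) (.node 12991 (.leaf 0x825710e9) (.leaf 0x82580e3f))))))) (.node 13024 (.node 13008 (.node 13000 (.node 12996 (.node 12994 (.node 12993 (.leaf 0x825910eb) (.leaf 0x825a10ec)) (.node 12995 (.leaf 0x825b10ea) (.leaf 0x825c10a9))) (.node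 12998 (.node 12997 (.leaf 0x825d10eb) (.leaf 0x825e114e)) (.node 12999 (.leaf 0x825f0eb1) (.leaf 0x826010e6)))) (.node 13004 (.node 13002 (.node 13001 (.leaf 0x826110f5) (.leaf 0x82621190)) (.node 13003 (.leaf 0x826310ef) (.leaf 0x82641138))) (.node 13006 (.node 13005 (.leaf 0x82650c7d) (.leaf 0x826610ee)) (.node 13007 (.leaf 0x826710f0) (.leaf 0x82680c83))))) (.node 13016 (.node 13012 (.node 13010 (.node 13009 (.leaf 0x826910f1) (.leaf 0x826a0c83)) (.node 13011 (.leaf 0x826b10ef) (.leaf 0x826c10f0))) (.node 13014 (.node 13013 (.leaf 0x826d0ead) (.leaf 0x826e113d)) (.node 13015 (.leaf 0x826f10f3) (.leaf 0x82700c7d)))) (.node 13020 (.node 13018 (.node 13017 (.leaf 0x82711187) (.leaf 0x827210f2)) (.node 13019 (.leaf 0x827310f4) (.leaf 0x82740e8d))) (.node 13022 (.node 13021 (.leaf 0x827510f5) (.leaf 0x82760cd1)) (.node 13023 (.leaf 0x827710f3) (.leaf 0x827810f4)))))) (.node 13040 (.node 13032 (.node 13028 (.node 13026 (.node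 13025 (.leaf 0x827910f6) (.leaf 0x827a10ed)) (.node 13027 (.leaf 0x827b10f7) (.leaf 0x827c10d5))) (.node 13030 (.node 13029 (.leaf 0x827d10f5) (.leaf 0x827e10f6)) (.node 13031 (.leaf 0x827f10f8) (.leaf 0x82801039)))) (.node 13036 (.node 13034 (.node 13033 (.leaf 0x828110f9) (.leaf 0x82821039)) (.node 13035 (.leaf 0x828310f7) (.leaf 0x828410f8))) (.node 13038 (.node 13037 (.leaf 0x82851104) (.leaf 0x828610c1)) (.node 13039 (.leaf 0x828710fb) (.leaf 0x82881149))))) (.node 13048 (.node 13044 (.node 13042 (.node 13041 (.leaf 0x82890c7f) (.leaf 0x828a10fa)) (.node 13043 (.leaf 0x828b110d) (.leaf 0x828c0cfd))) (.node 13046 (.node 13045 (.leaf 0x828d10fd) (.leaf 0x828e0c7f)) (.node 13047 (.leaf 0x828f1135) (.leaf 0x829010fc)))) (.node 13052 (.node 13050 (.node 13049 (.leaf 0x829110ab) (.leaf 0x829210fe)) (.node 13051 (.leaf 0x829310ff) (.leaf 0x829410fd))) (.node 13054 (.node 13053 (.leaf 0x82950e3d) (.leaf 0x829610fe)) (.node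 13055 (.leaf 0x82971100) (.leaf 0x82980d39))))))))

/-- block of `tab` -/
def tab_51 : Tr := .node 13184 (.node 13120 (.node 13088 (.node 13072 (.node 13064 (.node 13060 (.node 13058 (.node 13057 (.leaf 0x82991101) (.leaf 0x829a0f79)) (.node 13059 (.leaf 0x829b10ff) (.leaf 0x829c1100))) (.node 13062 (.node 13061 (.leaf 0x829d1063) (.leaf 0x829e1102)) (.node 13063 (.leaf 0x829f1103) (.leaf 0x82a01101)))) (.node 13068 (.node 13066 (.node 13065 (.leaf 0x82a10ea0) (.leaf 0x82a21102)) (.node 13067 (.leaf 0x82a3118d) (.leaf 0x82a41104))) (.node 13070 (.node 13069 (.leaf 0x82a51105) (.leaf 0x82a61103)) (.node 13071 (.leaf 0x82a710f9) (.leaf 0x82a81104))))) (.node 13080 (.node 13076 (.node 13074 (.node 13073 (.leaf 0x82a91106) (.leaf 0x82aa0cdd)) (.node 13075 (.leaf 0x82ab1107) (.leaf 0x82ac0dff))) (.node 13078 (.node 13077 (.leaf 0x82ad1105) (.leaf 0x82ae1106)) (.node 13079 (.leaf 0x82af1186) (.leaf 0x82b00ead)))) (.node 13084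 (.node 13082 (.node 13081 (.leaf 0x82b11109) (.leaf 0x82b21137)) (.node 13083 (.leaf 0x82b30cb5) (.leaf 0x82b41108))) (.node 13086 (.node 13085 (.leaf 0x82b5110a) (.leaf 0x82b60d7f)) (.node 13087 (.leaf 0x82b7110b) (.leaf 0x82b80f11)))))) (.node 13104 (.node 13096 (.node 13092 (.node 13090 (.node 13089 (.leaf 0x82b91109) (.leaf 0x82ba110a)) (.node 13091 (.leaf 0x82bb0d09) (.leaf 0x82bc113c))) (.node 13094 (.node 13093 (.leaf 0x82bd110e) (.leaf 0x82be0cbd)) (.node 13095 (.leaf 0x82bf110d) (.leaf 0x82c0110f)))) (.node 13100 (.node 13098 (.node 13097 (.leaf 0x82c1110c) (.leaf 0x82c210fb)) (.node 13099 (.leaf 0x82c3110c) (.leaf 0x82c40eb1))) (.node 13102 (.node 13101 (.leaf 0x82c51142) (.leaf 0x82c6110d)) (.node 13103 (.leaf 0x82c7113a) (.leaf 0x82c81139))))) (.node 13112 (.node 13108 (.node 13106 (.node 13105 (.leaf 0x82c91111) (.leaf 0x82ca112e)) (.node 13107 (.leaf 0x82cb0d5b) (.leaf 0x82cc1110))) (.node 13110 (.node 13109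 (.leaf 0x82cd0f51) (.leaf 0x82ce1112)) (.node 13111 (.leaf 0x82cf1113) (.leaf 0x82d01111)))) (.node 13116 (.node 13114 (.node 13113 (.leaf 0x82d10fc3) (.leaf 0x82d21112)) (.node 13115 (.leaf 0x82d30f07) (.leaf 0x82d4112f))) (.node 13118 (.node 13117 (.leaf 0x82d51115) (.leaf 0x82d60d5b)) (.node 13119 (.leaf 0x82d71179) (.leaf 0x82d81114))))))) (.node 13152 (.node 13136 (.node 13128 (.node 13124 (.node 13122 (.node 13121 (.leaf 0x82d91004) (.leaf 0x82da1116)) (.node 13123 (.leaf 0x82db1117) (.leaf 0x82dc1115))) (.node 13126 (.node 13125 (.leaf 0x82dd1011) (.leaf 0x82de1116)) (.node 13127 (.leaf 0x82df1118) (.leaf 0x82e0101d)))) (.node 13132 (.node 13130 (.node 13129 (.leaf 0x82e11119) (.leaf 0x82e21020)) (.node 13131 (.leaf 0x82e31117) (.leaf 0x82e41118))) (.node 13134 (.node 13133 (.leaf 0x82e51013) (.leaf 0x82e6111a)) (.node 13135 (.leaf 0x82e7111b) (.leaf 0x82e81119))))) (.node 13144 (.node 13140 (.node 13138 (.node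 13137 (.leaf 0x82e91047) (.leaf 0x82ea111a)) (.node 13139 (.leaf 0x82eb117c) (.leaf 0x82ec0f07))) (.node 13142 (.node 13141 (.leaf 0x82ed111e) (.leaf 0x82ee0d5f)) (.node 13143 (.leaf 0x82ef111d) (.leaf 0x82f0111f)))) (.node 13148 (.node 13146 (.node 13145 (.leaf 0x82f1111c) (.leaf 0x82f20f89)) (.node 13147 (.leaf 0x82f3111c) (.leaf 0x82f40f98))) (.node 13150 (.node 13149 (.leaf 0x82f51173) (.leaf 0x82f6111d)) (.node 13151 (.leaf 0x82f71128) (.leaf 0x82f81120)))))) (.node 13168 (.node 13160 (.node 13156 (.node 13154 (.node 13153 (.leaf 0x82f91121) (.leaf 0x82fa111f)) (.node 13155 (.leaf 0x82fb0ed7) (.leaf 0x82fc1120))) (.node 13158 (.node 13157 (.leaf 0x82fd0fed) (.leaf 0x82fe1122)) (.node 13159 (.leaf 0x82ff1123) (.leaf 0x83001121)))) (.node 13164 (.node 13162 (.node 13161 (.leaf 0x83010f17) (.leaf 0x83021122)) (.node 13163 (.leaf 0x83031124) (.leaf 0x83040ffc))) (.node 13166 (.node 13165 (.leaf 0x83051125) (.leaf 0x83060ffd))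 (.node 13167 (.leaf 0x83071123) (.leaf 0x83081124))))) (.node 13176 (.node 13172 (.node 13170 (.node 13169 (.leaf 0x83090d77) (.leaf 0x830a1126)) (.node 13171 (.leaf 0x830b1127) (.leaf 0x830c1125))) (.node 13174 (.node 13173 (.leaf 0x830d0fef) (.leaf 0x830e1126)) (.node 13175 (.leaf 0x830f0ed6) (.leaf 0x83101128)))) (.node 13180 (.node 13178 (.node 13177 (.leaf 0x83111129) (.leaf 0x83121127)) (.node 13179 (.leaf 0x8313111f) (.leaf 0x83141128))) (.node 13182 (.node 13181 (.leaf 0x83150fb9) (.leaf 0x8316112a)) (.node 13183 (.leaf 0x8317112b) (.leaf 0x83181129)))))))) (.node 13248 (.node 13216 (.node 13200 (.node 13192 (.node 13188 (.node 13186 (.node 13185 (.leaf 0x83190f0b) (.leaf 0x831a112a)) (.node 13187 (.leaf 0x831b1176) (.leaf 0x831c0fad))) (.node 13190 (.node 13189 (.leaf 0x831d112f) (.leaf 0x831e0d7f)) (.node 13191 (.leaf 0x831f112d) (.leaf 0x8320112e)))) (.node 13196 (.node 13194 (.node 13193 (.leaf 0x8321112c)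 (.leaf 0x83220f11)) (.node 13195 (.leaf 0x8323112d) (.leaf 0x8324117a))) (.node 13198 (.node 13197 (.leaf 0x83251110) (.leaf 0x8326112c)) (.node 13199 (.leaf 0x83271113) (.leaf 0x8328117d))))) (.node 13208 (.node 13204 (.node 13202 (.node 13201 (.leaf 0x83291131) (.leaf 0x832a1133)) (.node 13203 (.leaf 0x832b0d88) (.leaf 0x832c1130))) (.node 13206 (.node 13205 (.leaf 0x832d1132) (.leaf 0x832e0f71)) (.node 13207 (.leaf 0x832f1133) (.leaf 0x83300fa1)))) (.node 13212 (.node 13210 (.node 13209 (.leaf 0x83311131) (.leaf 0x83321132)) (.node 13211 (.leaf 0x83330e38) (.leaf 0x83341130))) (.node 13214 (.node 13213 (.leaf 0x83351135) (.leaf 0x8336118e)) (.node 13215 (.leaf 0x83370d89) (.leaf 0x83381134)))))) (.node 13232 (.node 13224 (.node 13220 (.node 13218 (.node 13217 (.leaf 0x833910fc) (.leaf 0x833a114a)) (.node 13219 (.leaf 0x833b1139) (.leaf 0x833c0d8f))) (.node 13222 (.node 13221 (.leaf 0x833d1137) (.leaf 0x833e1138)) (.node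 13223 (.leaf 0x833f1136) (.leaf 0x83401108)))) (.node 13228 (.node 13226 (.node 13225 (.leaf 0x83411137) (.leaf 0x83421188)) (.node 13227 (.leaf 0x834310ee) (.leaf 0x83441136))) (.node 13230 (.node 13229 (.leaf 0x8345110f) (.leaf 0x8346113a)) (.node 13231 (.leaf 0x8347113b) (.leaf 0x83481139))))) (.node 13240 (.node 13236 (.node 13234 (.node 13233 (.leaf 0x8349110f) (.leaf 0x834a113a)) (.node 13235 (.leaf 0x834b113c) (.leaf 0x834c0e37))) (.node 13238 (.node 13237 (.leaf 0x834d113d) (.leaf 0x834e110b)) (.node 13239 (.leaf 0x834f113b) (.leaf 0x8350113c)))) (.node 13244 (.node 13242 (.node 13241 (.leaf 0x835110f1) (.leaf 0x8352118b)) (.node 13243 (.leaf 0x83531147) (.leaf 0x83540d98))) (.node 13246 (.node 13245 (.leaf 0x8355113f) (.leaf 0x83561140)) (.node 13247 (.leaf 0x8357113e) (.leaf 0x83580d9a))))))) (.node 13280 (.node 13264 (.node 13256 (.node 13252 (.node 13250 (.node 13249 (.leaf 0x8359113f) (.leaf 0x835a1141)) (.node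 13251 (.leaf 0x835b1143) (.leaf 0x835c1142))) (.node 13254 (.node 13253 (.leaf 0x835d102b) (.leaf 0x835e1140)) (.node 13255 (.leaf 0x835f1141) (.leaf 0x8360110e)))) (.node 13260 (.node 13258 (.node 13257 (.leaf 0x8361114d) (.leaf 0x83621144)) (.node 13259 (.leaf 0x83631140) (.leaf 0x83640fe9))) (.node 13262 (.node 13261 (.leaf 0x83651143) (.leaf 0x83661145)) (.node 13263 (.leaf 0x83670e7d) (.leaf 0x83681146))))) (.node 13272 (.node 13268 (.node 13266 (.node 13265 (.leaf 0x83690dd1) (.leaf 0x836a1144)) (.node 13267 (.leaf 0x836b1145) (.leaf 0x836c0fe7))) (.node 13270 (.node 13269 (.leaf 0x836d1147) (.leaf 0x836e113e)) (.node 13271 (.leaf 0x836f1146) (.leaf 0x83701148)))) (.node 13276 (.node 13274 (.node 13273 (.leaf 0x83711149) (.leaf 0x83721147)) (.node 13275 (.leaf 0x8373102e) (.leaf 0x83741148))) (.node 13278 (.node 13277 (.leaf 0x8375114a) (.leaf 0x837610fa)) (.node 13279 (.leaf 0x8377114b) (.leaf 0x83781135)))))) (.node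 13296 (.node 13288 (.node 13284 (.node 13282 (.node 13281 (.leaf 0x83791149) (.leaf 0x837a114a)) (.node 13283 (.leaf 0x837b0ffc) (.leaf 0x837c114c))) (.node 13286 (.node 13285 (.leaf 0x837d114d) (.leaf 0x837e114b)) (.node 13287 (.leaf 0x837f0ffd) (.leaf 0x8380114c)))) (.node 13292 (.node 13290 (.node 13289 (.leaf 0x83811142) (.leaf 0x8382114e)) (.node 13291 (.leaf 0x8383114f) (.leaf 0x8384114d))) (.node 13294 (.node 13293 (.leaf 0x838510ec) (.leaf 0x8386114e)) (.node 13295 (.leaf 0x83870e39) (.leaf 0x8388118f))))) (.node 13304 (.node 13300 (.node 13298 (.node 13297 (.leaf 0x83891151) (.leaf 0x838a1153)) (.node 13299 (.leaf 0x838b0dd1) (.leaf 0x838c1150))) (.node 13302 (.node 13301 (.leaf 0x838d101d) (.leaf 0x838e1152)) (.node 13303 (.leaf 0x838f1153) (.leaf 0x83901151)))) (.node 13308 (.node 13306 (.node 13305 (.leaf 0x83911020) (.leaf 0x83921152)) (.node 13307 (.leaf 0x83930e7d) (.leaf 0x83941150))) (.node 13310 (.node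 13309 (.leaf 0x83951157) (.leaf 0x83961155)) (.node 13311 (.leaf 0x83970ebd) (.leaf 0x83981156))))))))

/-- block of `tab` -/
def tab_52 : Tr := .node 13406 (.node 13359 (.node 13335 (.node 13323 (.node 13317 (.node 13314 (.node 13313 (.leaf 0x83990ebd) (.leaf 0x839a1154)) (.node 13315 (.leaf 0x839b1155) (.node 13316 (.leaf 0x839c0fb3) (.leaf 0x839d1158)))) (.node 13320 (.node 13318 (.leaf 0x839e1154) (.node 13319 (.leaf 0x839f116d) (.leaf 0x83a01029))) (.node 13321 (.leaf 0x83a11159) (.node 13322 (.leaf 0x83a21156) (.leaf 0x83a310d9))))) (.node 13329 (.node 13326 (.node 13324 (.leaf 0x83a41158) (.node 13325 (.leaf 0x83a5115a) (.leaf 0x83a6115a))) (.node 13327 (.leaf 0x83a7115b) (.node 13328 (.leaf 0x83a81159) (.leaf 0x83a91159)))) (.node 13332 (.node 13330 (.leaf 0x83aa115a) (.node 13331 (.leaf 0x83ab1174) (.leaf 0x83ac1175))) (.node 13333 (.leaf 0x83ad115f) (.node 13334 (.leaf 0x83ae115d) (.leaf 0x83af0f51)))))) (.node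 13347 (.node 13341 (.node 13338 (.node 13336 (.leaf 0x83b0115e) (.node 13337 (.leaf 0x83b10fc3) (.leaf 0x83b2115c))) (.node 13339 (.leaf 0x83b3115d) (.node 13340 (.leaf 0x83b4116f) (.leaf 0x83b51192)))) (.node 13344 (.node 13342 (.leaf 0x83b6115c) (.node 13343 (.leaf 0x83b71193) (.leaf 0x83b8116e))) (.node 13345 (.leaf 0x83b91163) (.node 13346 (.leaf 0x83ba1161) (.leaf 0x83bb0f61))))) (.node 13353 (.node 13350 (.node 13348 (.leaf 0x83bc1162) (.node 13349 (.leaf 0x83bd0fc1) (.leaf 0x83be1160))) (.node 13351 (.leaf 0x83bf1161) (.node 13352 (.leaf 0x83c01181) (.leaf 0x83c11189)))) (.node 13356 (.node 13354 (.leaf 0x83c21160) (.node 13355 (.leaf 0x83c3118a) (.leaf 0x83c41180))) (.node 13357 (.leaf 0x83c51167) (.node 13358 (.leaf 0x83c61165) (.leaf 0x83c70f76))))))) (.node 13382 (.node 13370 (.node 13364 (.node 13361 (.node 13360 (.leaf 0x83c81166) (.leaf 0x83c90fa6)) (.node 13362 (.leaf 0x83ca1164) (.node 13363 (.leaf 0x83cb1165)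 (.leaf 0x83cc1168)))) (.node 13367 (.node 13365 (.leaf 0x83cd1167) (.node 13366 (.leaf 0x83ce1164) (.leaf 0x83cf1166))) (.node 13368 (.leaf 0x83d01169) (.node 13369 (.leaf 0x83d1116b) (.leaf 0x83d210d4))))) (.node 13376 (.node 13373 (.node 13371 (.leaf 0x83d31166) (.node 13372 (.leaf 0x83d4116a) (.leaf 0x83d51167))) (.node 13374 (.leaf 0x83d610cf) (.node 13375 (.leaf 0x83d71169) (.leaf 0x83d81021)))) (.node 13379 (.node 13377 (.leaf 0x83d9116b) (.node 13378 (.leaf 0x83da1168) (.leaf 0x83db116a))) (.node 13380 (.leaf 0x83dc101e) (.node 13381 (.leaf 0x83dd116e) (.leaf 0x83de0f8f)))))) (.node 13394 (.node 13388 (.node 13385 (.node 13383 (.leaf 0x83df116d) (.node 13384 (.leaf 0x83e01177) (.leaf 0x83e1116c))) (.node 13386 (.leaf 0x83e21157) (.node 13387 (.leaf 0x83e3116c) (.leaf 0x83e4115f)))) (.node 13391 (.node 13389 (.leaf 0x83e5116f) (.node 13390 (.leaf 0x83e61170) (.leaf 0x83e7116e))) (.node 13392 (.leaf 0x83e8115e) (.node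 13393 (.leaf 0x83e9116f) (.leaf 0x83ea1171))))) (.node 13400 (.node 13397 (.node 13395 (.leaf 0x83eb0fc7) (.node 13396 (.leaf 0x83ec1172) (.leaf 0x83ed10d8))) (.node 13398 (.leaf 0x83ee1170) (.node 13399 (.leaf 0x83ef1171) (.leaf 0x83f01173)))) (.node 13403 (.node 13401 (.leaf 0x83f110bb) (.node 13402 (.leaf 0x83f21174) (.leaf 0x83f3111e))) (.node 13404 (.leaf 0x83f41172) (.node 13405 (.leaf 0x83f51173) (.leaf 0x83f61175)))))))) (.node 13453 (.node 13429 (.node 13417 (.node 13411 (.node 13408 (.node 13407 (.leaf 0x83f7115b) (.leaf 0x83f81176)) (.node 13409 (.leaf 0x83f9115b) (.node 13410 (.leaf 0x83fa1174) (.leaf 0x83fb1175)))) (.node 13414 (.node 13412 (.leaf 0x83fc1177) (.node 13413 (.leaf 0x83fd112b) (.leaf 0x83fe116d))) (.node 13415 (.leaf 0x83ff10ba) (.node 13416 (.leaf 0x84001176) (.leaf 0x84011179))))) (.node 13423 (.node 13420 (.node 13418 (.leaf 0x8402117b) (.node 13419 (.leaf 0x84030fc9) (.leaf 0x84041178)))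 (.node 13421 (.leaf 0x84051114) (.node 13422 (.leaf 0x8406117a) (.leaf 0x84071183)))) (.node 13426 (.node 13424 (.leaf 0x84081179) (.node 13425 (.leaf 0x8409112e) (.leaf 0x840a117c))) (.node 13427 (.leaf 0x840b0fc9) (.node 13428 (.leaf 0x840c1178) (.leaf 0x840d117b)))))) (.node 13441 (.node 13435 (.node 13432 (.node 13430 (.leaf 0x840e117d) (.node 13431 (.leaf 0x840f111b) (.leaf 0x8410117e))) (.node 13433 (.leaf 0x8411112f) (.node 13434 (.leaf 0x8412117c) (.leaf 0x8413117d)))) (.node 13438 (.node 13436 (.leaf 0x8414117f) (.node 13437 (.leaf 0x84151043) (.leaf 0x84161180))) (.node 13439 (.leaf 0x8417109d) (.node 13440 (.leaf 0x8418117e) (.leaf 0x8419117f))))) (.node 13447 (.node 13444 (.node 13442 (.leaf 0x841a1163) (.node 13443 (.leaf 0x841b1181) (.leaf 0x841c1182))) (.node 13445 (.leaf 0x841d1180) (.node 13446 (.leaf 0x841e1162) (.leaf 0x841f1181)))) (.node 13450 (.node 13448 (.leaf 0x84201183) (.node 13449 (.leaf 0x842110a1)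 (.leaf 0x8422117a))) (.node 13451 (.leaf 0x84231045) (.node 13452 (.leaf 0x84241182) (.leaf 0x84251187))))))) (.node 13476 (.node 13464 (.node 13458 (.node 13455 (.node 13454 (.leaf 0x8426101e) (.leaf 0x84271185)) (.node 13456 (.leaf 0x84281186) (.node 13457 (.leaf 0x84291184) (.leaf 0x842a1021)))) (.node 13461 (.node 13459 (.leaf 0x842b1185) (.node 13460 (.leaf 0x842c118b) (.leaf 0x842d1107))) (.node 13462 (.leaf 0x842e1184) (.node 13463 (.leaf 0x842f10f2) (.leaf 0x84301188))))) (.node 13470 (.node 13467 (.node 13465 (.leaf 0x84311189) (.node 13466 (.leaf 0x84321187) (.leaf 0x84331138))) (.node 13468 (.leaf 0x84341188) (.node 13469 (.leaf 0x84351162) (.leaf 0x8436118a)))) (.node 13473 (.node 13471 (.leaf 0x8437118b) (.node 13472 (.leaf 0x84381189) (.leaf 0x84391163))) (.node 13474 (.leaf 0x843a118a) (.node 13475 (.leaf 0x843b113d) (.leaf 0x843c1186)))))) (.node 13488 (.node 13482 (.node 13479 (.node 13477 (.leaf 0x843d1193)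 (.node 13478 (.leaf 0x843e10c1) (.leaf 0x843f118d))) (.node 13480 (.leaf 0x8440118e) (.node 13481 (.leaf 0x8441118c) (.leaf 0x84421103)))) (.node 13485 (.node 13483 (.leaf 0x8443118d) (.node 13484 (.leaf 0x8444118f) (.leaf 0x84451134))) (.node 13486 (.leaf 0x84461190) (.node 13487 (.leaf 0x8447114f) (.leaf 0x8448118e))))) (.node 13494 (.node 13491 (.node 13489 (.leaf 0x8449118f) (.node 13490 (.leaf 0x844a10ed) (.leaf 0x844b1191))) (.node 13492 (.leaf 0x844c1192) (.node 13493 (.leaf 0x844d1190) (.leaf 0x844e10d5)))) (.node 13497 (.node 13495 (.leaf 0x844f1191) (.node 13496 (.leaf 0x8450115e) (.leaf 0x84511193))) (.node 13498 (.leaf 0x8452118c) (.node 13499 (.leaf 0x84531192) (.leaf 0x8454115f))))))))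

/-- closed table -/
def tab : Tr := (.node 6656 (.node 3328 (.node 1536 (.node 768 (.node 256 tab_0 (.node 512 tab_1 tab_2)) (.node 1024 tab_3 (.node 1280 tab_4 tab_5))) (.node 2304 (.node 1792 tab_6 (.node 2048 tab_7 tab_8)) (.node 2816 (.node 2560 tab_9 tab_10) (.node 3072 tab_11 tab_12)))) (.node 4864 (.node 4096 (.node 3584 tab_13 (.node 3840 tab_14 tab_15)) (.node 4352 tab_16 (.node 4608 tab_17 tab_18))) (.node 5632 (.node 5120 tab_19 (.node 5376 tab_20 tab_21)) (.node 6144 (.node 5888 tab_22 tab_23) (.node 6400 tab_24 tab_25))))) (.node 9984 (.node 8192 (.node 7424 (.node 6912 tab_26 (.node 7168 tab_27 tab_28)) (.node 7680 tab_29 (.node 7936 tab_30 tab_31))) (.node 8960 (.node 8448 tab_32 (.node 8704 tab_33 tab_34)) (.node 9472 (.node 9216 tab_35 tab_36) (.node 9728 tab_37 tab_38)))) (.node 11776 (.node 10752 (.node 10240 tab_39 (.node 10496 tab_40 tab_41)) (.node 11264 (.node 11008 tab_42 tab_43) (.node 11520 tab_44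 tab_45))) (.node 12544 (.node 12032 tab_46 (.node 12288 tab_47 tab_48)) (.node 13056 (.node 12800 tab_49 tab_50) (.node 13312 tab_51 tab_52))))))

/-- the certificate -/
def cert : Cert := ⟨3, 288, W, S, nd, fct⟩

/-- the closed table -/
def fin : Fin' := ⟨4500, 33877, live, tab⟩

end Cfsg.Agent.H67.HN.T2
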