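import Cfsg.Agent.H67.HN.T3Data

/-!
Kernel check of the facts 0 to 252.
-/

set_option autoImplicit false

namespace Cfsg.Agent.H67.HN.T3


theorem facts0 : RangeOK cert 0 252 :=
  blockOK_sound (n := 252) (by decide +kernel) (by decide)

theorem part0 : RangeOK cert 0 252 := facts0

end Cfsg.Agent.H67.HN.T3
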