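import Cfsg.Agent.H67.HN.T3Facts0
import Cfsg.Agent.H67.HN.Bound

/-!
Certificate data: a, b over the cosets of ⟨a⟩.
-/

set_option autoImplicit false

namespace Cfsg.Agent.H67.HN.T3


/-- relators, rotated -/
def W : List (List ℕ) := [[0,0,0,0],
  [1,1,1,1],
  [2,2,2],
  [3,3,3],
  [0,2,0,2,0,2,0,2],
  [2,0,2,0,2,0,2,0],
  [3,1,3,1,3,1,3,1],
  [1,3,1,3,1,3,1,3],
  [0,3,0,3,0,3],
  [3,0,3,0,3,0],
  [2,1,2,1,2,1],
  [1,2,1,2,1,2],
  [0,1],
  [1,0],
  [2,3],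
  [3,2]]

/-- subgroup words -/
def S : List (List ℕ) := [[0], [1]]

/-- block of `nd` -/
def nd_0 : Tr := .node 21 (.node 10 (.node 5 (.node 2 (.node 1 (.leaf 0) (.leaf 2)) (.node 3 (.leaf 3) (.node 4 (.leaf 16) (.leaf 17)))) (.node 7 (.node 6 (.leaf 32) (.leaf 82)) (.node 8 (.leaf 48) (.node 9 (.leaf 33) (.leaf 80))))) (.node 15 (.node 12 (.node 11 (.leaf 50) (.leaf 131)) (.node 13 (.leaf 130) (.node 14 (.leaf 51) (.leaf 96)))) (.node 18 (.node 16 (.leaf 97) (.node 17 (.leaf 242) (.leaf 256))) (.node 19 (.leaf 274) (.node 20 (.leaf 147) (.leaf 305)))))) (.node 31 (.node 26 (.node 23 (.node 22 (.leaf 146) (.leaf 224)) (.node 24 (.leaf 161) (.node 25 (.leaf 288) (.leaf 386)))) (.node 28 (.node 27 (.leaf 355) (.leaf 354)) (.node 29 (.leaf 432) (.node 30 (.leaf 451) (.leaf 467))))) (.node 36 (.node 33 (.node 32 (.leaf 192) (.leaf 209)) (.node 34 (.leaf 515) (.node 35 (.leaf 528) (.leaf 547)))) (.node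 39 (.node 37 (.leaf 561) (.node 38 (.leaf 579) (.leaf 595))) (.node 40 (.leaf 608) (.node 41 (.leaf 626) (.leaf 627))))))

/-- node table -/
def nd : Tr := nd_0

/-- fact table -/
def fct : Tr := fct0

/-- block of `live` -/
def live_0 : Tr := .node 21 (.node 10 (.node 5 (.node 2 (.node 1 (.leaf 0) (.leaf 1)) (.node 3 (.leaf 2) (.node 4 (.leaf 3) (.leaf 4)))) (.node 7 (.node 6 (.leaf 5) (.leaf 6)) (.node 8 (.leaf 7) (.node 9 (.leaf 8) (.leaf 9))))) (.node 15 (.node 12 (.node 11 (.leaf 10) (.leaf 11)) (.node 13 (.leaf 12) (.node 14 (.leaf 13) (.leaf 14)))) (.node 18 (.node 16 (.leaf 15) (.node 17 (.leaf 16) (.leaf 17))) (.node 19 (.leaf 18) (.node 20 (.leaf 19) (.leaf 20)))))) (.node 31 (.node 26 (.node 23 (.node 22 (.leaf 21) (.leaf 22)) (.node 24 (.leaf 23) (.node 25 (.leaf 24) (.leaf 25)))) (.node 28 (.node 27 (.leaf 26) (.leaf 27)) (.node 29 (.leaf 28) (.node 30 (.leaf 29) (.leaf 30))))) (.node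 36 (.node 33 (.node 32 (.leaf 31) (.leaf 32)) (.node 34 (.leaf 33) (.node 35 (.leaf 34) (.leaf 35)))) (.node 39 (.node 37 (.leaf 36) (.node 38 (.leaf 37) (.leaf 38))) (.node 40 (.leaf 39) (.node 41 (.leaf 40) (.leaf 41))))))

/-- live nodes -/
def live : Tr := live_0

/-- block of `tab` -/
def tab_0 : Tr := .node 84 (.node 42 (.node 21 (.node 10 (.node 5 (.node 2 (.node 1 (.leaf 0x540000) (.leaf 0x550000)) (.node 3 (.leaf 0x560001) (.node 4 (.leaf 0x570002) (.leaf 0x580003)))) (.node 7 (.node 6 (.leaf 0x590004) (.leaf 0x5a0002)) (.node 8 (.leaf 0x5b0000) (.node 9 (.leaf 0x5c0005) (.leaf 0x5d0008))))) (.node 15 (.node 12 (.node 11 (.leaf 0x5e0000) (.leaf 0x5f0001)) (.node 13 (.leaf 0x600007) (.node 14 (.leaf 0x610001) (.leaf 0x62000a)))) (.node 18 (.node 16 (.leaf 0x63000d) (.node 17 (.leaf 0x640001) (.leaf 0x650007))) (.node 19 (.leaf 0x660005) (.node 20 (.leaf 0x670006) (.leaf 0x680009)))))) (.node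 31 (.node 26 (.node 23 (.node 22 (.leaf 0x690002) (.leaf 0x6a0006)) (.node 24 (.leaf 0x6b0004) (.node 25 (.leaf 0x6c000e) (.leaf 0x6d000f)))) (.node 28 (.node 27 (.leaf 0x6e0004) (.leaf 0x6f0005)) (.node 29 (.leaf 0x700004) (.node 30 (.leaf 0x710003) (.leaf 0x720011))))) (.node 36 (.node 33 (.node 32 (.leaf 0x730012) (.leaf 0x740002)) (.node 34 (.leaf 0x750009) (.node 35 (.leaf 0x76000c) (.leaf 0x77000b)))) (.node 39 (.node 37 (.leaf 0x780008) (.node 38 (.leaf 0x790005) (.leaf 0x7a0015))) (.node 40 (.leaf 0x7b0013) (.node 41 (.leaf 0x7c000b) (.leaf 0x7d0017))))))) (.node 63 (.node 52 (.node 47 (.node 44 (.node 43 (.leaf 0x7e000d) (.leaf 0x7f0003)) (.node 45 (.leaf 0x80001d) (.node 46 (.leaf 0x81000a) (.leaf 0x820008)))) (.node 49 (.node 48 (.leaf 0x83000c) (.leaf 0x84001f)) (.node 50 (.leaf 0x85000d) (.node 51 (.leaf 0x86000b) (.leaf 0x870008))))) (.node 57 (.node 54 (.node 53 (.leaf 0x88000c) (.leaf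 0x890020)) (.node 55 (.leaf 0x8a0003) (.node 56 (.leaf 0x8b000a) (.leaf 0x8c0016)))) (.node 60 (.node 58 (.leaf 0x8d0006) (.node 59 (.leaf 0x8e000f) (.leaf 0x8f0010))) (.node 61 (.leaf 0x900006) (.node 62 (.leaf 0x910016) (.leaf 0x920010)))))) (.node 73 (.node 68 (.node 65 (.node 64 (.leaf 0x93000e) (.leaf 0x940011)) (.node 66 (.leaf 0x950013) (.node 67 (.leaf 0x96000e) (.leaf 0x97000f)))) (.node 70 (.node 69 (.leaf 0x980014) (.leaf 0x990010)) (.node 71 (.leaf 0x9a0012) (.node 72 (.leaf 0x9b0007) (.leaf 0x9c0018))))) (.node 78 (.node 75 (.node 74 (.leaf 0x9d0025) (.leaf 0x9e0007)) (.node 76 (.leaf 0x9f0011) (.node 77 (.leaf 0xa00010) (.leaf 0xa10014)))) (.node 81 (.node 79 (.leaf 0xa20009) (.node 80 (.leaf 0xa30015) (.leaf 0xa40013))) (.node 82 (.leaf 0xa50011) (.node 83 (.leaf 0xa60023) (.leaf 0xa70022)))))))) (.node 126 (.node 105 (.node 94 (.node 89 (.node 86 (.node 85 (.leaf 0xa80026) (.leaf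 0xa9001e)) (.node 87 (.leaf 0xaa0013) (.node 88 (.leaf 0xab0009) (.leaf 0xac000f)))) (.node 91 (.node 90 (.leaf 0xad000e) (.leaf 0xae001b)) (.node 92 (.leaf 0xaf001a) (.node 93 (.leaf 0xb0000a) (.leaf 0xb1001d))))) (.node 99 (.node 96 (.node 95 (.leaf 0xb20018) (.leaf 0xb30019)) (.node 97 (.leaf 0xb40028) (.node 98 (.leaf 0xb50012) (.leaf 0xb60019)))) (.node 102 (.node 100 (.leaf 0xb70017) (.node 101 (.leaf 0xb8001a) (.leaf 0xb9001c))) (.node 103 (.leaf 0xba0017) (.node 104 (.leaf 0xbb0018) (.leaf 0xbc001b)))))) (.node 115 (.node 110 (.node 107 (.node 106 (.leaf 0xbd0019) (.leaf 0xbe0016)) (.node 108 (.leaf 0xbf001b) (.node 109 (.leaf 0xc0001c) (.leaf 0xc1001a)))) (.node 112 (.node 111 (.leaf 0xc2001a) (.leaf 0xc30016)) (.node 113 (.leaf 0xc40019) (.node 114 (.leaf 0xc5001b) (.leaf 0xc6001e))))) (.node 120 (.node 117 (.node 116 (.leaf 0xc7001d) (.leaf 0xc80017)) (.node 118 (.leaf 0xc9000b) (.node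 119 (.leaf 0xca001c) (.leaf 0xcb001e)))) (.node 123 (.node 121 (.leaf 0xcc0015) (.node 122 (.leaf 0xcd0027) (.leaf 0xce001d))) (.node 124 (.leaf 0xcf001c) (.node 125 (.leaf 0xd00020) (.leaf 0xd1000c))))))) (.node 147 (.node 136 (.node 131 (.node 128 (.node 127 (.leaf 0xd20021) (.leaf 0xd30020)) (.node 129 (.leaf 0xd4000d) (.node 130 (.leaf 0xd5001f) (.leaf 0xd6001f)))) (.node 133 (.node 132 (.leaf 0xd70021) (.leaf 0xd80022)) (.node 134 (.leaf 0xd90023) (.node 135 (.leaf 0xda0020) (.leaf 0xdb001f))))) (.node 141 (.node 138 (.node 137 (.leaf 0xdc0024) (.leaf 0xdd0021)) (.node 139 (.leaf 0xde0014) (.node 140 (.leaf 0xdf0023) (.leaf 0xe00021)))) (.node 144 (.node 142 (.leaf 0xe10024) (.node 143 (.leaf 0xe20022) (.leaf 0xe30014))) (.node 145 (.leaf 0xe40023) (.node 146 (.leaf 0xe50022) (.leaf 0xe60026)))))) (.node 157 (.node 152 (.node 149 (.node 148 (.leaf 0xe70025) (.leaf 0xe80012)) (.node 150 (.leaf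 0xe90028) (.node 151 (.leaf 0xea0024) (.leaf 0xeb0026)))) (.node 154 (.node 153 (.leaf 0xec0027) (.leaf 0xed0015)) (.node 155 (.leaf 0xee0025) (.node 156 (.leaf 0xef0024) (.leaf 0xf0001e))))) (.node 162 (.node 159 (.node 158 (.leaf 0xf10026) (.leaf 0xf20028)) (.node 160 (.leaf 0xf30029) (.node 161 (.leaf 0xf40025) (.leaf 0xf50018)))) (.node 165 (.node 163 (.leaf 0xf60029) (.node 164 (.leaf 0xf70027) (.leaf 0xf80029))) (.node 166 (.leaf 0xf90029) (.node 167 (.leaf 0xfa0027) (.leaf 0xfb0028))))))))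

/-- closed table -/
def tab : Tr := tab_0

/-- the certificate -/
def cert : Cert := ⟨4, 8961, W, S, nd, fct⟩

/-- the closed table -/
def fin : Fin' := ⟨42, 252, live, tab⟩

end Cfsg.Agent.H67.HN.T3
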